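import Cfsg.Agent.Lib.Chars.Basic
import Cfsg.Agent.Lib.Chars.Irr
import Cfsg.Prelude.Def_Blocks

/-!
# Degrees, kernels and a norm criterion for irreducibility
-/

set_option autoImplicit false

namespace CfsgLib.CharApps

open Cfsg CfsgLib.Chars Module
open scoped ComplexConjugate

universe u

variable {G : Type u} [Group G]

theorem deg_eq_of_isChar {χ : G → ℂ} (h : IsCharacter G χ) : χ 1 = (charDegree χ : ℂ) := by
  obtain ⟨n, hn⟩ := character_degree_nat h
  simp [charDegree, hn]

theorem deg_eq (χ : IrrCharacter G) : (χ : G → ℂ) 1 = (charDegree (χ : G → ℂ) : ℂ) :=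
  deg_eq_of_isChar (isCharacter_of_irr χ.2)

theorem deg_pos (χ : IrrCharacter G) : 0 < charDegree (χ : G → ℂ) := by
  rcases Nat.eq_zero_or_pos (charDegree (χ : G → ℂ)) with h | h
  · exact absurd (by rw [deg_eq, h, Nat.cast_zero]) (irr_degree_ne_zero χ.2)
  · exact h

theorem deg_ne_zero (χ : IrrCharacter G) : (χ : G → ℂ) 1 ≠ 0 := irr_degree_ne_zero χ.2

theorem conj_deg (χ : IrrCharacter G) : conj ((χ : G → ℂ) 1) = (χ : G → ℂ) 1 := by
  rw [deg_eq, map_natCast]

theorem deg_eq_one_iff (χ : IrrCharacter G) :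
    (χ : G → ℂ) 1 = 1 ↔ charDegree (χ : G → ℂ) = 1 := by
  rw [deg_eq]; exact_mod_cast Iff.rfl

/-- The constant function one is an irreducible character. -/
theorem isIrr_one : IsIrrCharacter G (fun _ : G => (1 : ℂ)) := by
  haveI : (Representation.trivial ℂ G ℂ).IsIrreducible :=
    isIrreducible_of_finrank_eq_one _ (Module.finrank_self ℂ)
  have h := isIrrCharacter_character (Representation.trivial ℂ G ℂ)
  convert h using 1
  funext g
  simp [Representation.character, Representation.trivial]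

/-- The principal character. -/
def oneIrr (G : Type u) [Group G] : IrrCharacter G := ⟨fun _ => 1, isIrr_one⟩

theorem oneIrr_apply (g : G) : (oneIrr G : G → ℂ) g = 1 := rfl

theorem char_mul_of_mem_ker [Finite G] {χ : G → ℂ} (h : IsCharacter G χ) {g : G}
    (hg : χ g = χ 1) (x : G) : χ (g * x) = χ x ∧ χ (x * g) = χ x := by
  obtain ⟨n, ρ, rfl⟩ := h
  have h1 : ρ g = LinearMap.id := by
    refine (character_eq_finrank_iff ρ g).mp ?_
    rw [hg]
    simp
  have h2 : ρ g = (1 : (Fin n → ℂ) →ₗ[ℂ] (Fin n → ℂ)) := h1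
  constructor <;> simp [Representation.character, map_mul, h2]

/-- The kernel of an irreducible character. -/
def charKer [Finite G] (χ : IrrCharacter G) : Subgroup G where
  carrier := {g | (χ : G → ℂ) g = (χ : G → ℂ) 1}
  one_mem' := rfl
  mul_mem' {a b} ha hb := by
    show (χ : G → ℂ) (a * b) = _
    rw [(char_mul_of_mem_ker (isCharacter_of_irr χ.2) ha b).1]
    exact hb
  inv_mem' {a} ha := by
    show (χ : G → ℂ) a⁻¹ = _
    have ha' : (χ : G → ℂ) a = (χ : G → ℂ) 1 := ha
    rw [irr_inv, ha', conj_deg]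

theorem mem_charKer [Finite G] {χ : IrrCharacter G} {g : G} :
    g ∈ charKer χ ↔ (χ : G → ℂ) g = (χ : G → ℂ) 1 := Iff.rfl

theorem charKer_normal [Finite G] (χ : IrrCharacter G) : (charKer χ).Normal :=
  ⟨fun n hn g => by rw [mem_charKer, isClassFunction_irr χ n g]; exact hn⟩

theorem eq_one_of_forall_ker [Finite G] {g : G}
    (h : ∀ χ : IrrCharacter G, (χ : G → ℂ) g = (χ : G → ℂ) 1) : g = 1 :=
  isConj_one_right.mp ((isConj_iff_forall_irr g 1).mpr h).symm

/-- A character of norm one is irreducible. -/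
theorem isIrr_of_inner_self [Fintype G] {χ : G → ℂ} (h : IsCharacter G χ)
    (h1 : classInner χ χ = 1) : IsIrrCharacter G χ := by
  classical
  obtain ⟨n, ρ, rfl⟩ := h
  obtain ⟨m, c, hc⟩ := exists_sum_irr ρ
  have h2 : classInner ρ.character ρ.character =
      ∑ i, (((Finset.univ.filter fun j => c i = c j).card : ℕ) : ℂ) := by
    rw [hc, inner_sum_left]
    refine Finset.sum_congr rfl fun i _ => ?_
    rw [inner_sum_right]
    simp [inner_irr]
  rw [h1] at h2
  have h3 : (1 : ℕ) = ∑ i, (Finset.univ.filter fun j => c i = c j).card := by exact_mod_cast h2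
  have h4 : m ≤ ∑ i, (Finset.univ.filter fun j => c i = c j).card := by
    have h5 : ∀ i ∈ (Finset.univ : Finset (Fin m)),
        1 ≤ (Finset.univ.filter fun j => c i = c j).card :=
      fun i _ => Finset.card_pos.mpr ⟨i, by simp⟩
    calc m = ∑ _i : Fin m, 1 := by simp
    _ ≤ ∑ i, (Finset.univ.filter fun j => c i = c j).card := Finset.sum_le_sum h5
  have hm : m = 1 := by
    rcases Nat.eq_zero_or_pos m with h0 | h0
    · subst h0; simp at h3
    · omega
  subst hm
  rw [hc, Fin.sum_univ_one]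
  exact (c 0).2

/-- The average of an irreducible character. -/
theorem sum_irr_eq [Fintype G] [DecidableEq (IrrCharacter G)] (χ : IrrCharacter G) :
    ∑ g : G, (χ : G → ℂ) g = if χ = oneIrr G then (Nat.card G : ℂ) else 0 := by
  have h := inner_irr χ (oneIrr G)
  rw [inner_def] at h
  have h2 : ∑ g : G, (χ : G → ℂ) g = ∑ g : G, (χ : G → ℂ) g * conj ((oneIrr G : G → ℂ) g) := by
    simp [oneIrr_apply]
  rw [h2, (inv_mul_eq_iff_eq_mul₀ (card_ne_zero G)).mp h]
  split_ifs <;> simp

end CfsgLib.CharApps
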