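import Cfsg.Agent.Lib.CharApps.Inflation

/-!
# Codegrees and characters of degree prime to `p`
-/

set_option autoImplicit false
set_option linter.style.haveILetI false

namespace CfsgLib.CharApps

open Cfsg CfsgLib.Chars Module

universe u

variable {G : Type u} [Group G]

theorem card_charKer [Finite G] (χ : IrrCharacter G) :
    Nat.card {g : G // (χ : G → ℂ) g = (χ : G → ℂ) 1} = Nat.card (charKer χ) := rfl

theorem ker_mul_deg_dvd [Finite G] (χ : IrrCharacter G) :
    Nat.card (charKer χ) * charDegree (χ : G → ℂ) ∣ Nat.card G := by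
  haveI := charKer_normal χ
  rw [← (charKer χ).card_mul_index]
  exact Nat.mul_dvd_mul_left _ (degree_dvd_index (charKer χ) χ le_rfl)

theorem codegree_dvd [Finite G] (χ : IrrCharacter G) :
    Nat.card G / (Nat.card {g : G // (χ : G → ℂ) g = (χ : G → ℂ) 1} * charDegree (χ : G → ℂ)) ∣
      Nat.card G := by
  rw [card_charKer]
  exact Nat.div_dvd_of_dvd (ker_mul_deg_dvd χ)

theorem sum_degree_sq_nat [Finite G] [Fintype (IrrCharacter G)] :
    ∑ χ : IrrCharacter G, charDegree (χ : G → ℂ) ^ 2 = Nat.card G := by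
  have h := sum_degree_sq (G := G)
  simp only [deg_eq] at h
  exact_mod_cast h

theorem sum_filter_degree_sq [Finite G] [Fintype (IrrCharacter G)] (N : Subgroup G) [N.Normal]
    [DecidablePred fun χ : IrrCharacter G => N ≤ charKer χ] :
    ∑ χ ∈ Finset.univ.filter (fun χ : IrrCharacter G => N ≤ charKer χ),
      charDegree (χ : G → ℂ) ^ 2 = N.index := by
  haveI := irrFintype (G ⧸ N)
  have h := sum_inflate N (fun χ => ((charDegree (χ : G → ℂ) ^ 2 : ℕ) : ℂ))
  simp only [inflate_charDegree] at h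
  rw [Subgroup.index_eq_card, ← sum_degree_sq_nat (G := G ⧸ N)]
  exact_mod_cast h

/-- If `p` divides the group order, some nonprincipal irreducible character has degree prime
to `p`. -/
theorem exists_ne_one_not_dvd_degree [Finite G] {p : ℕ} (hp : p.Prime) (h : p ∣ Nat.card G) :
    ∃ χ : IrrCharacter G, χ ≠ oneIrr G ∧ ¬ p ∣ charDegree (χ : G → ℂ) := by
  classical
  haveI := irrFintype G
  by_contra hcon
  push Not at hcon
  rw [← sum_degree_sq_nat, ← Finset.add_sum_erase _ _ (Finset.mem_univ (oneIrr G))] at h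
  have h1 : charDegree (oneIrr G : G → ℂ) = 1 := (deg_eq_one_iff _).mp rfl
  rw [h1, one_pow] at h
  have h2 : p ∣ ∑ χ ∈ Finset.univ.erase (oneIrr G), charDegree (χ : G → ℂ) ^ 2 :=
    Finset.dvd_sum fun χ hχ => dvd_pow (hcon χ (Finset.mem_erase.mp hχ).1) two_ne_zero
  exact hp.one_lt.ne' (Nat.dvd_one.mp ((Nat.dvd_add_left h2).mp h))

theorem charKer_eq_bot_of_simple [Finite G] [IsSimpleGroup G] (χ : IrrCharacter G)
    (h : χ ≠ oneIrr G) : charKer χ = ⊥ := by
  classical
  haveI := Fintype.ofFinite G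
  refine ((charKer_normal χ).eq_bot_or_eq_top).resolve_right fun htop => h ?_
  have hc : ∀ g : G, (χ : G → ℂ) g = (χ : G → ℂ) 1 := fun g => by
    have : g ∈ charKer χ := by rw [htop]; exact Subgroup.mem_top g
    exact this
  have h2 := sum_irr_eq χ
  by_contra hne
  rw [if_neg hne, Finset.sum_congr rfl (fun g _ => hc g), Finset.sum_const, nsmul_eq_mul,
    mul_eq_zero] at h2
  rcases h2 with h2 | h2
  · exact Finset.univ_nonempty.card_pos.ne' (Nat.cast_eq_zero.mp h2)
  · exact deg_ne_zero χ h2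

/-- A prime divides the order iff it divides some codegree. -/
theorem prime_dvd_card_iff_codegree [Finite G] {p : ℕ} (hp : p.Prime) :
    p ∣ Nat.card G ↔ ∃ χ : IrrCharacter G, p ∣ Nat.card G /
      (Nat.card {g : G // (χ : G → ℂ) g = (χ : G → ℂ) 1} * charDegree (χ : G → ℂ)) := by
  classical
  refine ⟨fun hpG => ?_, fun ⟨χ, hχ⟩ => hχ.trans (codegree_dvd χ)⟩
  haveI := irrFintype G
  haveI := Fact.mk hp
  by_contra hcon
  push Not at hcon
  let R : Subgroup G :=
    ⨅ χ : {χ : IrrCharacter G // ¬ p ∣ charDegree (χ : G → ℂ)}, charKer χ.1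
  haveI hR : R.Normal := Subgroup.normal_iInf_normal fun χ => charKer_normal χ.1
  have hker : ∀ χ : IrrCharacter G, ¬ p ∣ charDegree (χ : G → ℂ) →
      ¬ p ∣ (charKer χ).index := by
    intro χ hχ hdvd
    haveI := charKer_normal χ
    refine hcon χ ?_
    obtain ⟨e, he⟩ := degree_dvd_index (charKer χ) χ le_rfl
    have hpe : p ∣ e := (hp.dvd_mul.mp (he ▸ hdvd)).resolve_left hχ
    rw [card_charKer, ← (charKer χ).card_mul_index, he, ← mul_assoc,
      Nat.mul_div_cancel_left _ (Nat.mul_pos Nat.card_pos (deg_pos χ))]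
    exact hpe
  obtain ⟨P⟩ : Nonempty (Sylow p G) := inferInstance
  have hPR : (P : Subgroup G) ≤ R := le_iInf fun χ => by
    haveI := charKer_normal χ.1
    intro x hx
    obtain ⟨k, hk⟩ := IsPGroup.iff_orderOf.mp P.isPGroup' ⟨x, hx⟩
    rw [Subgroup.orderOf_mk] at hk
    rw [← QuotientGroup.eq_one_iff (N := charKer χ.1), ← orderOf_eq_one_iff]
    have h1 : orderOf (x : G ⧸ charKer χ.1) ∣ p ^ k :=
      hk ▸ orderOf_map_dvd (QuotientGroup.mk' (charKer χ.1)) x
    have h2 : orderOf (x : G ⧸ charKer χ.1) ∣ (charKer χ.1).index := by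
      rw [Subgroup.index_eq_card]; exact orderOf_dvd_natCard _
    exact Nat.eq_one_of_dvd_coprimes
      (Nat.Coprime.pow_left k ((hp.coprime_iff_not_dvd).mpr (hker χ.1 χ.2))) h1 h2
  have hidx : ¬ p ∣ R.index := fun h =>
    P.not_dvd_index (h.trans (Subgroup.index_dvd_of_le hPR))
  refine hidx ?_
  have h3 := sum_degree_sq_nat (G := G)
  rw [← Finset.sum_filter_add_sum_filter_not Finset.univ (fun χ => R ≤ charKer χ),
    sum_filter_degree_sq] at h3
  rw [← h3] at hpG
  refine (Nat.dvd_add_left ?_).mp hpG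
  refine Finset.dvd_sum fun χ hχ => dvd_pow ?_ two_ne_zero
  by_contra h
  exact (Finset.mem_filter.mp hχ).2 (iInf_le (fun χ : {χ : IrrCharacter G //
    ¬ p ∣ charDegree (χ : G → ℂ)} => charKer χ.1) ⟨χ, h⟩)

end CfsgLib.CharApps
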