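import Cfsg.Agent.Lib.CharApps.Basic
import Cfsg.Agent.Lib.Chars.Char
import Cfsg.Agent.Lib.Chars.Integral

/-!
# Characters of quotient groups
-/

set_option autoImplicit false
set_option linter.style.haveILetI false

namespace CfsgLib.CharApps

open Cfsg CfsgLib.Chars Module
open scoped ComplexConjugate

universe u

variable {G : Type u} [Group G] (N : Subgroup G) [N.Normal]

/-- Inflation from a quotient. -/
def inflate (ψ : IrrCharacter (G ⧸ N)) : IrrCharacter G :=
  ⟨fun g => (ψ : G ⧸ N → ℂ) (g : G ⧸ N),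
    isIrrCharacter_comp (QuotientGroup.mk' N) (QuotientGroup.mk'_surjective N) ψ.2⟩

theorem inflate_apply (ψ : IrrCharacter (G ⧸ N)) (g : G) :
    (inflate N ψ : G → ℂ) g = (ψ : G ⧸ N → ℂ) (g : G ⧸ N) := rfl

theorem inflate_injective : Function.Injective (inflate N) := by
  intro a b h
  refine Subtype.ext (funext fun q => ?_)
  obtain ⟨g, rfl⟩ := QuotientGroup.mk_surjective q
  exact congrFun (congrArg Subtype.val h) g

theorem inflate_charDegree (ψ : IrrCharacter (G ⧸ N)) :
    charDegree (inflate N ψ : G → ℂ) = charDegree (ψ : G ⧸ N → ℂ) := by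
  simp [charDegree, inflate_apply]

theorem le_charKer_inflate [Finite G] (ψ : IrrCharacter (G ⧸ N)) : N ≤ charKer (inflate N ψ) := by
  intro n hn
  rw [mem_charKer, inflate_apply, inflate_apply, (QuotientGroup.eq_one_iff n).mpr hn,
    QuotientGroup.mk_one]

theorem exists_inflate [Finite G] (χ : IrrCharacter G) (h : N ≤ charKer χ) :
    ∃ ψ : IrrCharacter (G ⧸ N), inflate N ψ = χ := by
  obtain ⟨χ, n, ρ, hρ, rfl⟩ := χ
  have hker : N ≤ MonoidHom.ker ρ := by
    intro g hg
    have h2 := h hg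
    rw [mem_charKer] at h2
    rw [MonoidHom.mem_ker]
    refine (character_eq_finrank_iff ρ g).mp ?_
    have h3 : ρ.character g = ρ.character 1 := h2
    rw [h3]
    simp
  let σ : Representation ℂ (G ⧸ N) (Fin n → ℂ) := QuotientGroup.lift N ρ hker
  have hσ : ∀ g : G, σ (g : G ⧸ N) = ρ g := fun g => QuotientGroup.lift_mk N hker g
  have hσi : σ.IsIrreducible := by
    rw [isIrreducible_iff] at hρ ⊢
    exact ⟨hρ.1, fun U hU => hρ.2 U fun g x hx => by rw [← hσ]; exact hU _ x hx⟩
  refine ⟨⟨σ.character, n, σ, hσi, rfl⟩, Subtype.ext (funext fun g => ?_)⟩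
  show σ.character (g : G ⧸ N) = ρ.character g
  simp [Representation.character, hσ]

/-- The irreducible characters with `N` in the kernel are those of the quotient. -/
noncomputable def inflateEquiv [Finite G] :
    IrrCharacter (G ⧸ N) ≃ {χ : IrrCharacter G // N ≤ charKer χ} :=
  Equiv.ofBijective (fun ψ => ⟨inflate N ψ, le_charKer_inflate N ψ⟩)
    ⟨fun _ _ h => inflate_injective N (congrArg Subtype.val h), fun χ =>
      (exists_inflate N χ.1 χ.2).imp fun _ h => Subtype.ext h⟩

theorem sum_inflate [Finite G] [Fintype (IrrCharacter G)] [Fintype (IrrCharacter (G ⧸ N))]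
    [DecidablePred fun χ : IrrCharacter G => N ≤ charKer χ]
    (f : IrrCharacter G → ℂ) :
    ∑ χ ∈ Finset.univ.filter (fun χ : IrrCharacter G => N ≤ charKer χ), f χ =
      ∑ ψ : IrrCharacter (G ⧸ N), f (inflate N ψ) := by
  rw [Finset.sum_subtype (p := fun χ => N ≤ charKer χ) _ (fun χ => by simp) f]
  exact (Fintype.sum_equiv (inflateEquiv N) (fun ψ => f (inflate N ψ)) (fun χ => f χ.1)
    fun _ => rfl).symm

theorem degree_dvd_index [Finite G] (χ : IrrCharacter G) (h : N ≤ charKer χ) :
    charDegree (χ : G → ℂ) ∣ N.index := by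
  obtain ⟨ψ, rfl⟩ := exists_inflate N χ h
  obtain ⟨n, -, hn, hd⟩ := irr_degree_dvd_card ψ.2
  rw [inflate_charDegree, Subgroup.index_eq_card]
  rw [deg_eq] at hn
  rwa [Nat.cast_inj.mp hn]

end CfsgLib.CharApps
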