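import Cfsg.Agent.Lib.CharApps.Basic
import Cfsg.Agent.Lib.Chars.Char
import Cfsg.Agent.Lib.Chars.Integral

/-!
# Counting solutions of equations in conjugates and commutators
-/

set_option autoImplicit false
set_option linter.style.haveILetI false

namespace CfsgLib.CharApps

open Cfsg CfsgLib.Chars
open scoped ComplexConjugate

universe u

variable {G : Type u} [Group G]

/-- Elements conjugating `y` to a given conjugate correspond to the centralizer of `y`. -/
theorem card_conj_fiber (y : G) {z : G} (h : IsConj y z) :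
    Nat.card {b : G // b * y * b⁻¹ = z} = Nat.card (Subgroup.centralizer ({y} : Set G)) := by
  obtain ⟨c, rfl⟩ := isConj_iff.mp h
  refine (Nat.card_congr ((Equiv.mulLeft c).subtypeEquiv fun b => ?_)).symm
  rw [Subgroup.mem_centralizer_singleton_iff, Equiv.coe_mulLeft]
  constructor
  · intro hb
    rw [mul_inv_rev, show c * b * y * (b⁻¹ * c⁻¹) = c * (b * y) * b⁻¹ * c⁻¹ by group, hb]
    group
  · intro hb
    have h1 := congrArg (fun t => c⁻¹ * t * (c * b)) hb
    simpa [mul_assoc] using h1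

variable [Fintype G]

/-- Summing a character over a translate of all conjugates of `y`. -/
theorem sum_conj_translate (χ : IrrCharacter G) (x y : G) :
    ∑ b : G, (χ : G → ℂ) (x * (b * y * b⁻¹)) =
      (Nat.card G : ℂ) * (χ : G → ℂ) x * (χ : G → ℂ) y / (χ : G → ℂ) 1 := by
  classical
  rw [← Finset.sum_fiberwise Finset.univ (fun b : G => b * y * b⁻¹)
    (fun b => (χ : G → ℂ) (x * (b * y * b⁻¹)))]
  have hfib : ∀ z : G, (∑ b ∈ Finset.univ.filter (fun b : G => b * y * b⁻¹ = z),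
      (χ : G → ℂ) (x * (b * y * b⁻¹))) = (Nat.card (Subgroup.centralizer ({y} : Set G)) : ℂ) *
        (if IsConj y z then (χ : G → ℂ) (x * z) else 0) := by
    intro z
    rw [Finset.sum_congr rfl (g := fun _ => (χ : G → ℂ) (x * z))
      (fun b hb => by rw [(Finset.mem_filter.mp hb).2]), Finset.sum_const, nsmul_eq_mul,
      ← Fintype.card_subtype, ← Nat.card_eq_fintype_card]
    by_cases hc : IsConj y z
    · rw [if_pos hc, card_conj_fiber y hc]
    · haveI : IsEmpty {b : G // b * y * b⁻¹ = z} :=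
        ⟨fun b => hc (isConj_iff.mpr ⟨b.1, b.2⟩)⟩
      rw [Nat.card_of_isEmpty, if_neg hc]
      simp
  rw [Finset.sum_congr rfl (fun z _ => hfib z), ← Finset.mul_sum, sum_translate_class χ.2 x y]
  have h2 : (Nat.card {z : G // IsConj y z} : ℂ) *
      (Nat.card (Subgroup.centralizer ({y} : Set G)) : ℂ) = (Nat.card G : ℂ) := by
    exact_mod_cast card_isConj_mul_card_centralizer y
  rw [← h2]
  ring

theorem sum_translate_mul_inv (χ : IrrCharacter G) (u : G) :
    ∑ x : G, (χ : G → ℂ) (u * x) * (χ : G → ℂ) x⁻¹ =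
      (Nat.card G : ℂ) * (χ : G → ℂ) u / (χ : G → ℂ) 1 := by
  classical
  have hinner : ∑ x : G, (χ : G → ℂ) x * conj ((χ : G → ℂ) x) = (Nat.card G : ℂ) := by
    have h := inner_irr_self χ
    rw [inner_def, inv_mul_eq_iff_eq_mul₀ (card_ne_zero G), mul_one] at h
    exact h
  have h1 : ∀ g : G, ∑ x : G, (χ : G → ℂ) (u * x) * (χ : G → ℂ) x⁻¹ =
      ∑ x : G, (χ : G → ℂ) (u * (g * x * g⁻¹)) * conj ((χ : G → ℂ) x) := by
    intro g
    refine (Fintype.sum_equiv (MulAut.conj g).toEquiv _ _ fun x => ?_).symm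
    show _ = (χ : G → ℂ) (u * (g * x * g⁻¹)) * (χ : G → ℂ) (g * x * g⁻¹)⁻¹
    rw [irr_inv, isClassFunction_irr χ x g]
  have h2 : (Nat.card G : ℂ) * ∑ x : G, (χ : G → ℂ) (u * x) * (χ : G → ℂ) x⁻¹ =
      (Nat.card G : ℂ) * ((Nat.card G : ℂ) * (χ : G → ℂ) u / (χ : G → ℂ) 1) := by
    conv_lhs => rw [Nat.card_eq_fintype_card, ← nsmul_eq_mul, ← Finset.card_univ,
      ← Finset.sum_const, Finset.sum_congr rfl (fun g _ => h1 g), Finset.sum_comm]
    rw [Finset.sum_congr rfl (g := fun x => (Nat.card G : ℂ) * (χ : G → ℂ) u / (χ : G → ℂ) 1 *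
      ((χ : G → ℂ) x * conj ((χ : G → ℂ) x))) (fun x _ => ?_), ← Finset.mul_sum, hinner]
    · ring
    · rw [← Finset.sum_mul, sum_conj_translate]
      ring
  exact mul_left_cancel₀ (card_ne_zero G) h2

/-- Summing a character over a translate of all commutators. -/
theorem sum_commutator (χ : IrrCharacter G) (u : G) :
    ∑ x : G, ∑ y : G, (χ : G → ℂ) (u * (x * y * x⁻¹ * y⁻¹)) =
      (Nat.card G : ℂ) ^ 2 * (χ : G → ℂ) u / (χ : G → ℂ) 1 ^ 2 := by
  classical
  have h1 : ∀ x : G, ∑ y : G, (χ : G → ℂ) (u * (x * y * x⁻¹ * y⁻¹)) =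
      (Nat.card G : ℂ) / (χ : G → ℂ) 1 * ((χ : G → ℂ) (u * x) * (χ : G → ℂ) x⁻¹) := by
    intro x
    rw [Finset.sum_congr rfl (g := fun y => (χ : G → ℂ) ((u * x) * (y * x⁻¹ * y⁻¹)))
      (fun y _ => by congr 1; group), sum_conj_translate]
    ring
  rw [Finset.sum_congr rfl (fun x _ => h1 x), ← Finset.mul_sum, sum_translate_mul_inv]
  ring

/-- The number of preimages of `z` in terms of character sums. -/
theorem card_fiber_mul_card {ι : Type*} [Fintype ι] [Fintype (IrrCharacter G)] (f : ι → G) (z : G) :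
    (Nat.card {i : ι // f i = z} : ℂ) * (Nat.card G : ℂ) =
      ∑ χ : IrrCharacter G, (χ : G → ℂ) 1 * ∑ i : ι, (χ : G → ℂ) (z⁻¹ * f i) := by
  classical
  simp_rw [Finset.mul_sum]
  rw [Finset.sum_comm, Nat.card_eq_fintype_card, Fintype.card_subtype, Finset.card_filter,
    Nat.cast_sum, Finset.sum_mul]
  refine Finset.sum_congr rfl fun i _ => ?_
  rw [sum_degree_mul (z⁻¹ * f i)]
  by_cases hi : f i = z
  · simp [hi]
  · rw [if_neg hi, if_neg (fun h => hi (inv_mul_eq_one.mp h).symm)]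
    simp

/-- The number of ways of writing `z` as a product of a conjugate of `x` and one of `y`. -/
theorem card_conj_mul_conj [Fintype (IrrCharacter G)] (x y z : G) :
    (Nat.card {ab : G × G // (ab.1 * x * ab.1⁻¹) * (ab.2 * y * ab.2⁻¹) = z} : ℂ) =
      (Nat.card G : ℂ) * ∑ χ : IrrCharacter G,
        (χ : G → ℂ) x * (χ : G → ℂ) y * (χ : G → ℂ) z⁻¹ / (χ : G → ℂ) 1 := by
  classical
  have h := card_fiber_mul_card
    (fun ab : G × G => (ab.1 * x * ab.1⁻¹) * (ab.2 * y * ab.2⁻¹)) z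
  refine mul_right_cancel₀ (card_ne_zero G) (h.trans ?_)
  rw [Finset.mul_sum, Finset.sum_mul]
  refine Finset.sum_congr rfl fun χ _ => ?_
  rw [Fintype.sum_prod_type]
  have h1 : ∀ a : G, ∑ b : G, (χ : G → ℂ) (z⁻¹ * ((a * x * a⁻¹) * (b * y * b⁻¹))) =
      (Nat.card G : ℂ) * (χ : G → ℂ) y / (χ : G → ℂ) 1 *
        (χ : G → ℂ) (z⁻¹ * (a * x * a⁻¹)) := by
    intro a
    simp only [← mul_assoc z⁻¹ (a * x * a⁻¹)]
    rw [sum_conj_translate]
    ring
  rw [Finset.sum_congr rfl (fun a _ => h1 a), ← Finset.mul_sum, sum_conj_translate]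
  field_simp [deg_ne_zero χ]

/-- Frobenius' formula for the number of ways of writing `z` as a commutator. -/
theorem card_commutator [Fintype (IrrCharacter G)] (z : G) :
    (Nat.card {xy : G × G // xy.1 * xy.2 * xy.1⁻¹ * xy.2⁻¹ = z} : ℂ) =
      (Nat.card G : ℂ) * ∑ χ : IrrCharacter G, (χ : G → ℂ) z / (χ : G → ℂ) 1 := by
  classical
  have hswap : Nat.card {xy : G × G // xy.1 * xy.2 * xy.1⁻¹ * xy.2⁻¹ = z} =
      Nat.card {xy : G × G // xy.1 * xy.2 * xy.1⁻¹ * xy.2⁻¹ = z⁻¹} := by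
    refine Nat.card_congr ((Equiv.prodComm G G).subtypeEquiv fun xy => ?_)
    simp only [Equiv.prodComm_apply, Prod.fst_swap, Prod.snd_swap]
    constructor
    · rintro rfl
      group
    · intro h
      rw [← inv_inv z, ← h]
      group
  rw [hswap]
  have h := card_fiber_mul_card
    (fun xy : G × G => xy.1 * xy.2 * xy.1⁻¹ * xy.2⁻¹) z⁻¹
  refine mul_right_cancel₀ (card_ne_zero G) (h.trans ?_)
  rw [Finset.mul_sum, Finset.sum_mul]
  refine Finset.sum_congr rfl fun χ _ => ?_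
  rw [Fintype.sum_prod_type, inv_inv, sum_commutator]
  field_simp [deg_ne_zero χ]

/-- The number of ways of writing `z` as a product of two commutators, times `|G|`. -/
theorem card_two_commutators [Fintype (IrrCharacter G)] (z : G) :
    (Nat.card {q : (G × G) × (G × G) // (q.1.1 * q.1.2 * q.1.1⁻¹ * q.1.2⁻¹) *
        (q.2.1 * q.2.2 * q.2.1⁻¹ * q.2.2⁻¹) = z} : ℂ) * (Nat.card G : ℂ) =
      (Nat.card G : ℂ) ^ 4 * ∑ χ : IrrCharacter G, (χ : G → ℂ) z⁻¹ / (χ : G → ℂ) 1 ^ 3 := by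
  classical
  refine (card_fiber_mul_card
    (fun q : (G × G) × (G × G) => (q.1.1 * q.1.2 * q.1.1⁻¹ * q.1.2⁻¹) *
        (q.2.1 * q.2.2 * q.2.1⁻¹ * q.2.2⁻¹)) z).trans ?_
  rw [Finset.mul_sum]
  refine Finset.sum_congr rfl fun χ _ => ?_
  simp only [Fintype.sum_prod_type, ← mul_assoc z⁻¹]
  have h1 : ∀ a b : G, ∑ c : G, ∑ d : G,
      (χ : G → ℂ) ((z⁻¹ * (a * b * a⁻¹ * b⁻¹)) * (c * d * c⁻¹ * d⁻¹)) =
      (Nat.card G : ℂ) ^ 2 / (χ : G → ℂ) 1 ^ 2 * (χ : G → ℂ) (z⁻¹ * (a * b * a⁻¹ * b⁻¹)) := by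
    intro a b
    rw [sum_commutator]
    ring
  simp only [← mul_assoc z⁻¹] at h1
  simp only [h1, ← Finset.mul_sum]
  have h2 := sum_commutator χ z⁻¹
  simp only [← mul_assoc z⁻¹] at h2
  rw [h2]
  field_simp [deg_ne_zero χ]

/-- If no nontrivial element of a `p`-subgroup `P` is a quotient of two conjugates of `x`,
then some character degree is divisible by `|P| / |C(x)|_p`. -/
theorem exists_pow_dvd_degree {p : ℕ} (hp : p.Prime) (x : G) (P : Subgroup G) (c a : ℕ)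
    (hP : Nat.card P = p ^ c)
    (ha : (Nat.card (Subgroup.centralizer ({x} : Set G))).factorization p = a)
    (h : ∀ g k : G, IsConj x g → IsConj x k → g * k⁻¹ ∈ P → g * k⁻¹ = 1) :
    ∃ χ : IrrCharacter G, p ^ (c - a) ∣ charDegree (χ : G → ℂ) := by
  classical
  haveI := irrFintype G
  by_contra hcon
  simp only [not_exists] at hcon
  have hca : a < c := by
    by_contra hle
    exact hcon (principal G) (by rw [Nat.sub_eq_zero_of_le (not_lt.mp hle)]; simp)
  set C := Nat.card (Subgroup.centralizer ({x} : Set G)) with hC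
  set D := p ^ (c - a - 1) * (Nat.card G / p ^ (Nat.card G).factorization p) with hD
  have hdvd : ∀ χ : IrrCharacter G, charDegree (χ : G → ℂ) ∣ D := by
    intro χ
    obtain ⟨n, hn0, hn, hnG⟩ := irr_degree_dvd_card χ.2
    have hnd : charDegree (χ : G → ℂ) = n := by simp [charDegree, hn]
    rw [hnd]
    calc n = p ^ n.factorization p * (n / p ^ n.factorization p) :=
          (Nat.ordProj_mul_ordCompl_eq_self n p).symm
      _ ∣ D := Nat.mul_dvd_mul (pow_dvd_pow p (by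
          by_contra hlt
          refine hcon χ ?_
          rw [hnd]
          exact (pow_dvd_pow p (by omega)).trans (Nat.ordProj_dvd n p)))
        (Nat.ordCompl_dvd_ordCompl_of_dvd hnG p)
  -- multiplicities of the trivial character of `P`
  have hm : ∀ χ : IrrCharacter G, ∃ m : ℕ,
      ∑ z : P, (χ : G → ℂ) (z : G)⁻¹ = (p ^ c : ℕ) * (m : ℂ) := by
    intro χ
    obtain ⟨m, hm⟩ := inner_char_nat (isCharacter_restrict P (isCharacter_of_irr χ.2))
      (isCharacter_one (G := P))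
    refine ⟨m, ?_⟩
    rw [inner_def, inv_mul_eq_iff_eq_mul₀ (card_ne_zero P), hP] at hm
    rw [← hm]
    refine Fintype.sum_equiv (Equiv.inv P) _ _ fun z => ?_
    simp
  choose m hm using hm
  have hN : ∀ z : G, z ∈ P → z ≠ 1 →
      Nat.card {ab : G × G // (ab.1 * x * ab.1⁻¹) * (ab.2 * x⁻¹ * ab.2⁻¹) = z} = 0 := by
    intro z hz hz1
    haveI : IsEmpty {ab : G × G // (ab.1 * x * ab.1⁻¹) * (ab.2 * x⁻¹ * ab.2⁻¹) = z} := by
      refine ⟨fun ab => hz1 ?_⟩
      obtain ⟨⟨u, v⟩, huv⟩ := ab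
      have he : (u * x * u⁻¹) * (v * x * v⁻¹)⁻¹ = z := by
        rw [← huv]; simp [mul_assoc]
      rw [← he] at hz ⊢
      exact h _ _ (isConj_iff.mpr ⟨u, rfl⟩) (isConj_iff.mpr ⟨v, rfl⟩) hz
    exact Nat.card_of_isEmpty
  have hN1 : Nat.card {ab : G × G // (ab.1 * x * ab.1⁻¹) * (ab.2 * x⁻¹ * ab.2⁻¹) = 1} =
      Nat.card G * C := by
    have e : {ab : G × G // (ab.1 * x * ab.1⁻¹) * (ab.2 * x⁻¹ * ab.2⁻¹) = 1} ≃
        Σ u : G, {v : G // v * x * v⁻¹ = u * x * u⁻¹} :=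
      { toFun := fun ab => ⟨ab.1.1, ab.1.2, by
          have := ab.2
          rw [show ab.1.2 * x⁻¹ * ab.1.2⁻¹ = (ab.1.2 * x * ab.1.2⁻¹)⁻¹ by group,
            mul_inv_eq_one] at this
          exact this.symm⟩
        invFun := fun w => ⟨(w.1, w.2.1), by
          show w.1 * x * w.1⁻¹ * (w.2.1 * x⁻¹ * w.2.1⁻¹) = 1
          rw [show w.2.1 * x⁻¹ * w.2.1⁻¹ = (w.2.1 * x * w.2.1⁻¹)⁻¹ by group, w.2.2,
            mul_inv_cancel]⟩
        left_inv := fun ab => rfl
        right_inv := fun w => rfl }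
    rw [Nat.card_congr e, Nat.card_sigma,
      Finset.sum_congr rfl (fun u _ => card_conj_fiber x (isConj_iff.mpr ⟨u, rfl⟩)),
      Finset.sum_const, Finset.card_univ, smul_eq_mul, Nat.card_eq_fintype_card (α := G)]
  have hsum : (C : ℂ) = ∑ χ : IrrCharacter G,
      (p ^ c : ℕ) * ((m χ : ℂ) * ((χ : G → ℂ) x * (χ : G → ℂ) x⁻¹)) / (χ : G → ℂ) 1 := by
    refine mul_left_cancel₀ (card_ne_zero G) ?_
    have h1 : ((Nat.card G * C : ℕ) : ℂ) = ∑ z : P,
        (Nat.card {ab : G × G //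
          (ab.1 * x * ab.1⁻¹) * (ab.2 * x⁻¹ * ab.2⁻¹) = (z : G)} : ℂ) := by
      rw [Finset.sum_eq_single (1 : P)]
      · rw [← hN1]; rfl
      · intro z _ hz
        rw [hN z z.2 (fun hh => hz (Subtype.ext hh)), Nat.cast_zero]
      · simp
    rw [← Nat.cast_mul, h1]
    simp only [card_conj_mul_conj]
    rw [← Finset.mul_sum, Finset.sum_comm]
    congr 1
    refine Finset.sum_congr rfl fun χ _ => ?_
    rw [← Finset.sum_div, ← Finset.mul_sum, hm χ]
    ring
  have hint : IsIntegral ℤ (((C * D : ℕ) : ℂ) / ((p ^ c : ℕ) : ℂ)) := by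
    have hpc : ((p ^ c : ℕ) : ℂ) ≠ 0 := Nat.cast_ne_zero.mpr (pow_ne_zero _ hp.ne_zero)
    rw [Nat.cast_mul, hsum, Finset.sum_mul, Finset.sum_div]
    refine IsIntegral.sum _ fun χ _ => ?_
    obtain ⟨q, hq⟩ := hdvd χ
    have hval : (p ^ c : ℕ) * ((m χ : ℂ) * ((χ : G → ℂ) x * (χ : G → ℂ) x⁻¹)) / (χ : G → ℂ) 1 *
        (D : ℂ) / ((p ^ c : ℕ) : ℂ) =
        ((m χ * q : ℕ) : ℂ) * ((χ : G → ℂ) x * (χ : G → ℂ) x⁻¹) := by
      rw [hq, Nat.cast_mul, Nat.cast_mul, ← deg_eq χ]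
      field_simp [deg_ne_zero χ]
    rw [hval]
    exact (isIntegral_algebraMap (R := ℤ) (A := ℂ) (x := ((m χ * q : ℕ) : ℤ))).mul
      ((char_isIntegral (isCharacter_of_irr χ.2) x).mul
        (char_isIntegral (isCharacter_of_irr χ.2) x⁻¹))
  have hdiv := dvd_of_isIntegral_div (pow_ne_zero _ hp.ne_zero) hint
  have hCdiv : C = p ^ a * (C / p ^ a) := by
    rw [← ha]; exact (Nat.ordProj_mul_ordCompl_eq_self C p).symm
  rw [hD, hCdiv, show p ^ a * (C / p ^ a) *
      (p ^ (c - a - 1) * (Nat.card G / p ^ (Nat.card G).factorization p)) =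
      p ^ (c - 1) * (C / p ^ a * (Nat.card G / p ^ (Nat.card G).factorization p)) by
        rw [show c - 1 = a + (c - a - 1) by omega, pow_add]; ring,
    show c = c - 1 + 1 by omega, pow_succ,
    show c - 1 + 1 - 1 = c - 1 by omega] at hdiv
  rcases hp.dvd_mul.mp (Nat.dvd_of_mul_dvd_mul_left (pow_pos hp.pos _) hdiv) with h1 | h1
  · refine Nat.not_dvd_ordCompl hp Nat.card_pos.ne' (n := C) ?_
    rwa [ha]
  · exact Nat.not_dvd_ordCompl hp Nat.card_pos.ne' h1

end CfsgLib.CharApps
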