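import Cfsg.Agent.Lib.CharApps.PrincipalColumns
import Cfsg.Agent.Lib.CharApps.ClassCount
import Cfsg.Agent.Lib.Blocks.PrincipalBlock

/-!
# Principal block relations from an involution inverting nothing in a set
-/

set_option autoImplicit false
set_option linter.style.haveILetI false

namespace CfsgLib.CharApps

open Cfsg CfsgLib.Chars CfsgLib.Blocks
open scoped ComplexConjugate

universe u

variable {G : Type u} [Group G] [Fintype G]

/-- If two conjugates of the involution `t` multiply to `(y c)⁻¹`, the first inverts `y`. -/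
theorem conj_eq_inv_of_product {p : ℕ} [Fact p.Prime] {t y : G} (ht : t * t = 1)
    (hy : ∃ k, orderOf y = p ^ k) (c : Subgroup.centralizer ({y} : Set G))
    (hc : ¬ p ∣ orderOf c) {u v : G}
    (huv : u * t * u⁻¹ * (v * t * v⁻¹) = (y * (c : G))⁻¹) :
    (u * t * u⁻¹) * y * (u * t * u⁻¹)⁻¹ = y⁻¹ := by
  have hsq : ∀ g : G, g * t * g⁻¹ * (g * t * g⁻¹) = 1 := fun g => by
    rw [show g * t * g⁻¹ * (g * t * g⁻¹) = g * (t * t) * g⁻¹ by group, ht]; group
  have hA := hsq u
  have hB := hsq v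
  generalize u * t * u⁻¹ = a at hA huv ⊢
  generalize v * t * v⁻¹ = b at hB huv
  have hai : a⁻¹ = a := inv_eq_of_mul_eq_one_right hA
  have hbi : b⁻¹ = b := inv_eq_of_mul_eq_one_right hB
  have hyc : y * (c : G) = b * a := by
    rw [← inv_inv (y * (c : G)), ← huv, mul_inv_rev, hai, hbi]
  have hflip : a * (y * (c : G)) * a⁻¹ = (y * (c : G))⁻¹ := by
    rw [hyc, mul_inv_rev, hai, hbi, mul_assoc a, mul_assoc b, hA, mul_one]
  have hcomm : Commute y (c : G) :=
    (Subgroup.mem_centralizer_singleton_iff.1 c.2 : _ = _).symm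
  have hP : BlockOrth.IsPPrimePart p (y * c) (c : G) :=
    ⟨y, rfl, hcomm, hy, by rwa [Subgroup.orderOf_coe]⟩
  have hP' : BlockOrth.IsPPrimePart p (y * c)⁻¹ (c : G)⁻¹ := by
    refine ⟨y⁻¹, ?_, hcomm.inv_inv, by rwa [orderOf_inv],
      by rwa [orderOf_inv, Subgroup.orderOf_coe]⟩
    rw [mul_inv_rev, hcomm.inv_inv.eq]
  have h1 := hP.conj a
  rw [hflip] at h1
  have h2 : a * (c : G) * a⁻¹ = (c : G)⁻¹ := h1.unique hP'
  have h3 : a * y * a⁻¹ * (a * (c : G) * a⁻¹) = (y * (c : G))⁻¹ := by rw [← hflip]; group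
  rw [h2, mul_inv_rev, ← hcomm.inv_inv.eq] at h3
  exact mul_right_cancel h3

variable {M : Ideal AlgInt} [M.IsPrime] {p : ℕ} [Fact p.Prime]

/-- If `(y c)⁻¹` is never a product of two conjugates of `t`, then `∑ χ(t)² χ(y) / χ(1) = 0`
over the principal block. -/
theorem sum_principal_sq_eq_zero_of_no_product (hM : IsPModular p M) {t y : G}
    (hy : ∃ k, orderOf y = p ^ k)
    (hno : ∀ c : Subgroup.centralizer ({y} : Set G), ¬ p ∣ orderOf c → ∀ u v : G,
      u * t * u⁻¹ * (v * t * v⁻¹) ≠ (y * (c : G))⁻¹) :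
    ∑ᶠ χ ∈ principalBlock M G, (χ : G → ℂ) t ^ 2 / (χ : G → ℂ) 1 * (χ : G → ℂ) y = 0 := by
  classical
  haveI := irrFintype G
  haveI := Fintype.ofFinite (Subgroup.centralizer ({y} : Set G))
  set F : G → ℂ := ∑ χ : IrrCharacter G, ((χ : G → ℂ) t ^ 2 / (χ : G → ℂ) 1) • (χ : G → ℂ) with hF
  have hFcl : IsClassFunction G F :=
    isClassFunction_sum _ fun χ _ => isClassFunction_smul _ (isClassFunction_irr χ)
  have hzero : ∀ c : Subgroup.centralizer ({y} : Set G), ¬ p ∣ orderOf c → F (y * c) = 0 := by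
    intro c hc
    have h := card_conj_mul_conj t t (y * (c : G))⁻¹
    haveI : IsEmpty {ab : G × G //
        ab.1 * t * ab.1⁻¹ * (ab.2 * t * ab.2⁻¹) = (y * (c : G))⁻¹} :=
      ⟨fun ab => hno c hc ab.1.1 ab.1.2 ab.2⟩
    rw [Nat.card_of_isEmpty, Nat.cast_zero, eq_comm,
      mul_eq_zero_iff_left (card_ne_zero G), inv_inv] at h
    rw [hF, Finset.sum_apply, ← h]
    refine Finset.sum_congr rfl fun χ _ => ?_
    rw [Pi.smul_apply, smul_eq_mul]
    ring
  have h1o : ¬ p ∣ orderOf (1 : Subgroup.centralizer ({y} : Set G)) := by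
    rw [orderOf_one]; exact (Fact.out : p.Prime).not_dvd_one
  have h := blockPart_principalBlock_centralizer hM hFcl hy h1o
  rw [blockPart_eq_zero_of_regular (Fact.out : p.Prime) hM.2.2 (isPBlock_principalBlock M)
    (isClassFunction_mul_left hFcl) hzero h1o, Subgroup.coe_one, mul_one,
    blockPart_apply_eq_sum] at h
  rw [finsum_mem_eq_sum_of_inter_support_eq
    (t := Finset.univ.filter (· ∈ principalBlock M G)) _ (by ext; simp), ← h]
  refine Finset.sum_congr rfl fun χ _ => ?_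
  congr 1
  rw [hF, Chars.inner_sum_left]
  simp [Chars.inner_smul_left, inner_irr]

/-- If no conjugate of `t` inverts the `p`-element `y`, then `∑ χ(t)² χ(y) / χ(1) = 0` over the
principal block. -/
theorem sum_principal_sq_eq_zero (hM : IsPModular p M) {t y : G} (ht : t * t = 1)
    (hy : ∃ k, orderOf y = p ^ k)
    (hinv : ∀ g : G, (g * t * g⁻¹) * y * (g * t * g⁻¹)⁻¹ ≠ y⁻¹) :
    ∑ᶠ χ ∈ principalBlock M G, (χ : G → ℂ) t ^ 2 / (χ : G → ℂ) 1 * (χ : G → ℂ) y = 0 := by
  exact sum_principal_sq_eq_zero_of_no_product hM hy fun c hc u v huv =>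
    hinv u (conj_eq_inv_of_product ht hy c hc huv)

end CfsgLib.CharApps
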