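import Cfsg.Agent.Lib.CharApps.PrincipalColumns
import Cfsg.Agent.Lib.CharApps.Inflation
import Cfsg.Agent.Lib.CharApps.Codegree
import Cfsg.Agent.Lib.CharApps.InvertedColumns
import Cfsg.Agent.Lib.Transfer.Fusion
import Cfsg.Agent.Lib.Chars.Linear

/-!
# The principal block for an abelian Sylow subgroup with automizer of order three
-/

set_option autoImplicit false
set_option linter.style.haveILetI false
set_option linter.unusedSectionVars false

namespace CfsgLib.CharApps

open Cfsg CfsgLib.Chars CfsgLib.Blocks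
open scoped ComplexConjugate

universe u

variable {G : Type u} [Group G] [Fintype G] {p : ℕ} [Fact p.Prime] {P : Sylow p G}

/-- The data of a Frobenius automorphism of order three induced on `P`. -/
structure InertialAut (P : Sylow p G) where
  σ : (P : Subgroup G) ≃* (P : Subgroup G)
  cube : ∀ y, σ (σ (σ y)) = y
  fix : ∀ y, σ y = y → y = 1
  real : ∃ g : G, ∀ y : (P : Subgroup G), g * y * g⁻¹ = (σ y : G)
  all : ∀ g ∈ Subgroup.normalizer ((P : Subgroup G) : Set G),
    (∀ y : (P : Subgroup G), g * y * g⁻¹ = (y : G)) ∨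
    (∀ y : (P : Subgroup G), g * y * g⁻¹ = (σ y : G)) ∨
    (∀ y : (P : Subgroup G), g * y * g⁻¹ = (σ (σ y) : G))

theorem exists_inertialAut
    (hCN : (Subgroup.centralizer ((P : Subgroup G) : Set G)).relIndex
      (Subgroup.normalizer ((P : Subgroup G) : Set G)) = 3)
    (hfrob : ∀ y : G, y ∈ (P : Subgroup G) → y ≠ 1 →
      Subgroup.centralizer ({y} : Set G) ⊓ Subgroup.normalizer ((P : Subgroup G) : Set G) =
        Subgroup.centralizer ((P : Subgroup G) : Set G)) :
    Nonempty (InertialAut P) := by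
  set N := Subgroup.normalizer ((P : Subgroup G) : Set G) with hN
  set C := Subgroup.centralizer ((P : Subgroup G) : Set G) with hC
  haveI : (C.subgroupOf N).Normal := by
    rw [hC, hN, ← Subgroup.normalizerMonoidHom_ker]
    exact MonoidHom.normal_ker _
  have hcard : Nat.card (N ⧸ C.subgroupOf N) = 3 := hCN
  obtain ⟨g0, hg0⟩ : ∃ g : N, (g : N ⧸ C.subgroupOf N) ≠ 1 := by
    by_contra hcon
    simp only [not_exists, not_not] at hcon
    haveI : Subsingleton (N ⧸ C.subgroupOf N) := ⟨fun a b => by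
      obtain ⟨a, rfl⟩ := QuotientGroup.mk_surjective a
      obtain ⟨b, rfl⟩ := QuotientGroup.mk_surjective b
      rw [hcon a, hcon b]⟩
    rw [Nat.card_of_subsingleton (1 : N ⧸ C.subgroupOf N)] at hcard
    omega
  have hord : orderOf (g0 : N ⧸ C.subgroupOf N) = 3 := by
    rcases (Nat.dvd_prime Nat.prime_three).mp (hcard ▸ orderOf_dvd_natCard (g0 : N ⧸ C.subgroupOf N))
      with h | h
    · exact absurd (orderOf_eq_one_iff.mp h) hg0
    · exact h
  have hcomm : ∀ c ∈ C, ∀ y : (P : Subgroup G), c * (y : G) * c⁻¹ = y := fun c hc y => by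
    rw [mul_inv_eq_iff_eq_mul]
    exact (Subgroup.mem_centralizer_iff.mp hc y y.2).symm
  let σ : (P : Subgroup G) ≃* (P : Subgroup G) :=
    { toFun := fun y => ⟨g0 * y * (g0 : G)⁻¹, (Subgroup.mem_normalizer_iff.mp g0.2 y).mp y.2⟩
      invFun := fun y => ⟨(g0 : G)⁻¹ * y * g0,
        (Subgroup.mem_normalizer_iff''.mp g0.2 y).mp y.2⟩
      left_inv := fun y => Subtype.ext (by simp [mul_assoc])
      right_inv := fun y => Subtype.ext (by simp [mul_assoc])
      map_mul' := fun a b => Subtype.ext (by simp [mul_assoc]) }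
  have hpow : ∀ k : ℕ, k < 3 → ∀ y : (P : Subgroup G),
      (g0 : G) ^ k * y * ((g0 : G) ^ k)⁻¹ = ((fun z => σ z)^[k] y : G) := by
    intro k _
    induction k with
    | zero => simp
    | succ k ih =>
      intro y
      rw [Function.iterate_succ_apply', pow_succ']
      show _ = (g0 : G) * ((fun z => σ z)^[k] y : G) * (g0 : G)⁻¹
      rw [← ih (by omega) y]
      group
  refine ⟨⟨σ, fun y => ?_, fun y hy => ?_, ⟨g0, fun y => rfl⟩, fun g hg => ?_⟩⟩
  · have h3 : g0 ^ 3 ∈ C.subgroupOf N := by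
      rw [← QuotientGroup.eq_one_iff, QuotientGroup.mk_pow, ← hord, pow_orderOf_eq_one]
    have h := hcomm _ (Subgroup.mem_subgroupOf.mp h3) y
    refine Subtype.ext ?_
    rw [Subgroup.coe_pow] at h
    show (g0 : G) * ((g0 : G) * ((g0 : G) * y * (g0 : G)⁻¹) * (g0 : G)⁻¹) * (g0 : G)⁻¹ = y
    simp only [pow_succ, pow_zero, one_mul, mul_inv_rev, mul_assoc] at h ⊢
    exact h
  · by_contra hy1
    have hmem : (g0 : G) ∈ Subgroup.centralizer ({(y : G)} : Set G) ⊓ N :=
      ⟨Subgroup.mem_centralizer_singleton_iff.mpr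
        (mul_inv_eq_iff_eq_mul.mp (congrArg Subtype.val hy)), g0.2⟩
    rw [hfrob y y.2 (fun h => hy1 (Subtype.ext h))] at hmem
    exact hg0 ((QuotientGroup.eq_one_iff g0).mpr (Subgroup.mem_subgroupOf.mpr hmem))
  · have hgen : Subgroup.zpowers (g0 : N ⧸ C.subgroupOf N) = ⊤ := by
      apply Subgroup.eq_top_of_card_eq
      rw [Nat.card_zpowers, hord, hcard]
    have hmem : ((⟨g, hg⟩ : N) : N ⧸ C.subgroupOf N) ∈
        Subgroup.zpowers (g0 : N ⧸ C.subgroupOf N) := by rw [hgen]; exact Subgroup.mem_top _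
    obtain ⟨k, hk⟩ := mem_powers_iff_mem_zpowers.mpr hmem
    have hk' : (g0 : N ⧸ C.subgroupOf N) ^ (k % 3) = ((⟨g, hg⟩ : N) : N ⧸ C.subgroupOf N) := by
      rw [← hord, pow_mod_orderOf]; exact hk
    have hc : (g0 ^ (k % 3))⁻¹ * ⟨g, hg⟩ ∈ C.subgroupOf N := by
      rw [← QuotientGroup.eq, QuotientGroup.mk_pow, hk']
    have hact : ∀ y : (P : Subgroup G),
        g * y * g⁻¹ = ((fun z => σ z)^[k % 3] y : G) := by
      intro y
      have h := hcomm _ (Subgroup.mem_subgroupOf.mp hc) y
      rw [← hpow (k % 3) (Nat.mod_lt _ (by norm_num)) y]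
      simp only [Subgroup.coe_mul, Subgroup.coe_inv, Subgroup.coe_pow] at h
      conv_rhs => rw [← h]
      group
    have h3 : k % 3 = 0 ∨ k % 3 = 1 ∨ k % 3 = 2 := by omega
    rcases h3 with h | h | h
    · exact Or.inl fun y => by rw [hact y, h]; rfl
    · exact Or.inr (Or.inl fun y => by rw [hact y, h]; rfl)
    · exact Or.inr (Or.inr fun y => by rw [hact y, h]; rfl)

namespace InertialAut

variable (D : InertialAut P)

theorem mem_orbit_of_isConj (hab : IsMulCommutative P) {y x : (P : Subgroup G)}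
    (h : IsConj (y : G) x) : x = y ∨ x = D.σ y ∨ x = D.σ (D.σ y) := by
  obtain ⟨g, hg⟩ := isConj_iff.mp h
  have hc : ∀ z : (P : Subgroup G), (z : G) ∈ Subgroup.centralizer ((P : Subgroup G) : Set G) :=
    fun z => Subgroup.mem_centralizer_iff.mpr fun w hw => congrArg Subtype.val
      (hab.is_comm.comm (⟨w, hw⟩ : (P : Subgroup G)) z)
  obtain ⟨n, hn, hny⟩ := CfsgLib.Transfer.exists_mem_normalizer_conj P (hc y) (hc x) hg
  rcases D.all n hn with h' | h' | h'
  · exact Or.inl (Subtype.ext (hny.symm.trans (h' y)))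
  · exact Or.inr (Or.inl (Subtype.ext (hny.symm.trans (h' y))))
  · exact Or.inr (Or.inr (Subtype.ext (hny.symm.trans (h' y))))

theorem isConj_σ (y : (P : Subgroup G)) : IsConj (y : G) (D.σ y) := by
  obtain ⟨g, hg⟩ := D.real
  exact isConj_iff.mpr ⟨g, hg y⟩

theorem isConj_iff_orbit (hab : IsMulCommutative P) (y x : (P : Subgroup G)) :
    IsConj (y : G) x ↔ x = y ∨ x = D.σ y ∨ x = D.σ (D.σ y) := by
  refine ⟨D.mem_orbit_of_isConj hab, ?_⟩
  rintro (rfl | rfl | rfl)
  · exact IsConj.refl _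
  · exact D.isConj_σ y
  · exact (D.isConj_σ y).trans (D.isConj_σ _)

theorem σ_ne (y : (P : Subgroup G)) (hy : y ≠ 1) :
    D.σ y ≠ y ∧ D.σ (D.σ y) ≠ y ∧ D.σ (D.σ y) ≠ D.σ y := by
  refine ⟨fun h => hy (D.fix y h), fun h => hy (D.fix y ?_), fun h => hy (D.fix y (D.σ.injective h))⟩
  conv_lhs => rw [← h]
  exact D.cube y

end InertialAut

section Block

variable {M : Ideal AlgInt} [M.IsPrime]

/-- A centralizer of a nontrivial element of `P` has a normal `p`-complement. -/
theorem exists_complement_centralizer (hab : IsMulCommutative P)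
    (hfrob : ∀ y : G, y ∈ (P : Subgroup G) → y ≠ 1 →
      Subgroup.centralizer ({y} : Set G) ⊓ Subgroup.normalizer ((P : Subgroup G) : Set G) =
        Subgroup.centralizer ((P : Subgroup G) : Set G))
    (y : (P : Subgroup G)) (hy : y ≠ 1) :
    ∃ (S : Sylow p (Subgroup.centralizer ({(y : G)} : Set G)))
      (K : Subgroup (Subgroup.centralizer ({(y : G)} : Set G))),
      K.Normal ∧ K.IsComplement' (S : Subgroup (Subgroup.centralizer ({(y : G)} : Set G))) ∧
      (S : Subgroup (Subgroup.centralizer ({(y : G)} : Set G))) =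
        (P : Subgroup G).subgroupOf (Subgroup.centralizer ({(y : G)} : Set G)) ∧
      Nat.card S = Nat.card P := by
  set C := Subgroup.centralizer ({(y : G)} : Set G)
  have hPC : (P : Subgroup G) ≤ C := fun x hx => Subgroup.mem_centralizer_singleton_iff.mpr
    (congrArg Subtype.val (hab.is_comm.comm (⟨x, hx⟩ : (P : Subgroup G)) y))
  set S := P.subtype hPC
  have hcard : Nat.card S = Nat.card P := Nat.card_congr (Subgroup.subgroupOfEquivOfLe hPC).toEquiv
  have hS : Subgroup.normalizer ((S : Subgroup C) : Set C) ≤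
      Subgroup.centralizer ((S : Subgroup C) : Set C) := by
    intro g hg
    have hgN : (g : G) ∈ Subgroup.normalizer ((P : Subgroup G) : Set G) := by
      refine Subgroup.mem_normalizer_iff.mpr fun h => ⟨fun hh => ?_, fun hh => ?_⟩
      · exact (Subgroup.mem_normalizer_iff.mp hg ⟨h, hPC hh⟩).mp hh
      · have h' : h ∈ C := by
          have := mul_mem (mul_mem (inv_mem g.2) (hPC hh)) g.2
          simpa [mul_assoc] using this
        exact (Subgroup.mem_normalizer_iff.mp hg ⟨h, h'⟩).mpr hh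
    have hmem : (g : G) ∈ Subgroup.centralizer ((P : Subgroup G) : Set G) :=
      hfrob y y.2 (fun h => hy (Subtype.ext h)) ▸ ⟨g.2, hgN⟩
    exact Subgroup.mem_centralizer_iff.mpr fun s hs =>
      Subtype.ext (Subgroup.mem_centralizer_iff.mp hmem (s : G) hs)
  exact ⟨S, (MonoidHom.transferSylow S hS).ker, inferInstance,
    MonoidHom.ker_transferSylow_isComplement' S hS, rfl, hcard⟩

theorem isPElt (y : (P : Subgroup G)) : ∃ k, orderOf (y : G) = p ^ k := by
  obtain ⟨k, hk⟩ := P.isPGroup' y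
  obtain ⟨i, -, hi⟩ := (Nat.dvd_prime_pow (Fact.out : p.Prime)).mp (orderOf_dvd_of_pow_eq_one hk)
  exact ⟨i, by rw [Subgroup.orderOf_coe, hi]⟩

/-- The column norms are `|P|`. -/
theorem column_norm_eq_card (hM : IsPModular p M) (hab : IsMulCommutative P)
    (hfrob : ∀ y : G, y ∈ (P : Subgroup G) → y ≠ 1 →
      Subgroup.centralizer ({y} : Set G) ⊓ Subgroup.normalizer ((P : Subgroup G) : Set G) =
        Subgroup.centralizer ((P : Subgroup G) : Set G))
    (y : (P : Subgroup G)) (hy : y ≠ 1) :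
    ∑ᶠ χ ∈ principalBlock M G, (χ : G → ℂ) (y : G) * conj ((χ : G → ℂ) (y : G)) =
      (Nat.card P : ℂ) := by
  classical
  obtain ⟨S, K, hKn, hKS, -, hS⟩ := exists_complement_centralizer hab hfrob y hy
  haveI := hKn
  haveI := Fintype.ofFinite (Subgroup.centralizer ({(y : G)} : Set G))
  haveI := irrFintype (Subgroup.centralizer ({(y : G)} : Set G))
  haveI := irrFintype (Subgroup.centralizer ({(y : G)} : Set G) ⧸ K)
  rw [principal_column_norm hM (isPElt y)]
  congr 1
  have hidx : K.index = Nat.card P := by rw [hKS.symm.index_eq_card, hS]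
  obtain ⟨k, hk⟩ := P.isPGroup'.exists_card_eq
  have hK : ¬ p ∣ Nat.card K := by
    rw [← hKS.index_eq_card]
    exact S.not_dvd_index
  rw [finsum_mem_eq_sum_of_inter_support_eq
    (t := Finset.univ.filter (fun χ : IrrCharacter (Subgroup.centralizer ({(y : G)} : Set G)) =>
      K ≤ charKer χ)) _ (by
        ext χ
        simp only [Finset.coe_filter, Finset.mem_univ, true_and, Set.mem_inter_iff,
          Set.mem_setOf_eq]
        rw [mem_principalBlock_iff_of_pow_index hM.2.2 hK (hidx.trans hk) χ]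
        simp only [SetLike.le_def, mem_charKer])]
  have h := sum_inflate K (fun χ : IrrCharacter (Subgroup.centralizer ({(y : G)} : Set G)) =>
    ((charDegree (χ : Subgroup.centralizer ({(y : G)} : Set G) → ℂ) ^ 2 : ℕ) : ℂ))
  rw [← Nat.cast_sum, ← Nat.cast_sum, Nat.cast_inj] at h
  rw [h]
  simp only [inflate_charDegree]
  rw [sum_degree_sq_nat, ← Subgroup.index_eq_card, hidx]

/-- A principal block character only depends on the `p`-part. -/
theorem apply_eq_of_pPart (hM : IsPModular p M) (hab : IsMulCommutative P)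
    (hfrob : ∀ y : G, y ∈ (P : Subgroup G) → y ≠ 1 →
      Subgroup.centralizer ({y} : Set G) ⊓ Subgroup.normalizer ((P : Subgroup G) : Set G) =
        Subgroup.centralizer ((P : Subgroup G) : Set G))
    (y : (P : Subgroup G)) (hy : y ≠ 1) {z : G} (hz : IsPPart p z y)
    {χ : IrrCharacter G} (hχ : χ ∈ principalBlock M G) :
    (χ : G → ℂ) z = (χ : G → ℂ) (y : G) := by
  classical
  obtain ⟨v, rfl, hcomm, hyp, hv⟩ := hz
  obtain ⟨S, K, hKn, hKS, -, hS⟩ := exists_complement_centralizer hab hfrob y hy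
  haveI := hKn
  have hvC : v ∈ Subgroup.centralizer ({(y : G)} : Set G) :=
    Subgroup.mem_centralizer_singleton_iff.mpr hcomm.eq.symm
  have hidx : K.index = Nat.card P := by rw [hKS.symm.index_eq_card, hS]
  obtain ⟨k, hk⟩ := P.isPGroup'.exists_card_eq
  haveI := Fintype.ofFinite (Subgroup.centralizer ({(y : G)} : Set G))
  have hvK : (⟨v, hvC⟩ : Subgroup.centralizer ({(y : G)} : Set G)) ∈ K :=
    index_eq_pow_mem_of_regular (hidx.trans hk) (by rwa [Subgroup.orderOf_mk])
  have hKle : K ≤ pPrimeCore p _ :=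
    CfsgLib.Base.le_pPrimeCore_of_not_dvd (hKS.index_eq_card ▸ S.not_dvd_index)
  exact principalBlock_apply_mul_core hM (isPElt y) (hKle hvK) hχ

/-- The columns of the principal block at nontrivial elements of `P`. -/
theorem column_eq (hM : IsPModular p M) (hab : IsMulCommutative P) (D : InertialAut P)
    (hfrob : ∀ y : G, y ∈ (P : Subgroup G) → y ≠ 1 →
      Subgroup.centralizer ({y} : Set G) ⊓ Subgroup.normalizer ((P : Subgroup G) : Set G) =
        Subgroup.centralizer ((P : Subgroup G) : Set G))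
    (y x : (P : Subgroup G)) (hy : y ≠ 1) [DecidableEq (P : Subgroup G)] :
    ∑ᶠ χ ∈ principalBlock M G, (χ : G → ℂ) (y : G) * conj ((χ : G → ℂ) (x : G)) =
      (Nat.card P : ℂ) * ((if x = y then 1 else 0) + (if x = D.σ y then 1 else 0) +
        (if x = D.σ (D.σ y) then 1 else 0)) := by
  obtain ⟨n1, n2, n3⟩ := D.σ_ne y hy
  by_cases hc : IsConj (y : G) x
  · rw [finsum_mem_congr rfl (g := fun χ : IrrCharacter G =>
      (χ : G → ℂ) (y : G) * conj ((χ : G → ℂ) (y : G)))
      (fun χ _ => by rw [(isConj_iff_forall_irr _ _).mp hc χ]),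
      column_norm_eq_card hM hab hfrob y hy]
    rcases (D.isConj_iff_orbit hab y x).mp hc with rfl | rfl | rfl
    · rw [if_pos rfl, if_neg n1.symm, if_neg n2.symm]; ring
    · rw [if_neg n1, if_pos rfl, if_neg n3.symm]; ring
    · rw [if_neg n2, if_neg n3, if_pos rfl]; ring
  · rw [principal_column_orth_of_not_isConj hM (isPElt y) (isPElt x) hc]
    rw [if_neg, if_neg, if_neg]
    · ring
    all_goals (intro h; exact hc ((D.isConj_iff_orbit hab y x).mpr (by simp [h])))

end Block

end CfsgLib.CharApps
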