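import Cfsg.Agent.Lib.CharApps.InertialThreeChars

/-!
# An involution outside all proper normal subgroups, inertial index three
-/

set_option autoImplicit false
set_option linter.style.haveILetI false
set_option linter.unusedSectionVars false

namespace CfsgLib.CharApps

open Cfsg CfsgLib.Chars CfsgLib.Blocks
open scoped ComplexConjugate

universe u

theorem isSquare_of_mul_sq_eq {a : ℕ} {x z : ℤ} (hx : x ≠ 0) (h : (a : ℤ) * x ^ 2 = z ^ 2) :
    IsSquare a := by
  rw [← Rat.isSquare_natCast_iff]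
  refine ⟨(z : ℚ) / x, ?_⟩
  have hxq : (x : ℚ) ≠ 0 := Int.cast_ne_zero.mpr hx
  rw [div_mul_div_comm, eq_div_iff (mul_ne_zero hxq hxq)]
  have h' : ((a : ℤ) : ℚ) * (x : ℚ) ^ 2 = (z : ℚ) ^ 2 := by exact_mod_cast h
  rw [Int.cast_natCast] at h'
  linear_combination h'

/-- Four degrees, four values at an involution and signs `-, sa, sb, δ` satisfying the linear
relations and the weighted square relation. -/
theorem signs_and_square {sa sb δ : ℤ} {A B E : ℕ} {ta tb te : ℤ}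
    (hsa : sa = 1 ∨ sa = -1) (hsb : sb = 1 ∨ sb = -1) (hδ : δ = 1 ∨ δ = -1)
    (hA : 0 < A) (hB : 0 < B) (hE : 0 < E)
    (ha : ta ≠ A) (hb : tb ≠ B) (he : te ≠ E)
    (r0 : (-1 : ℝ) + sa * A + sb * B + δ * E = 0)
    (r1 : (-1 : ℝ) + sa * ta + sb * tb + δ * te = 0)
    (r2 : (-1 : ℝ) + sa * ((ta : ℝ) ^ 2 / A) + sb * ((tb : ℝ) ^ 2 / B) +
      δ * ((te : ℝ) ^ 2 / E) = 0) :
    (if sa = 1 then 1 else 0) + (if sb = 1 then 1 else 0) + (if δ = 1 then 1 else 0) = 2 ∧
      IsSquare (E * (A * B)) := by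
  have hAR : (0 : ℝ) < A := by exact_mod_cast hA
  have hBR : (0 : ℝ) < B := by exact_mod_cast hB
  have hER : (0 : ℝ) < E := by exact_mod_cast hE
  have haR : ((ta : ℝ) - A) ≠ 0 := sub_ne_zero.mpr (by exact_mod_cast ha)
  have hbR : ((tb : ℝ) - B) ≠ 0 := sub_ne_zero.mpr (by exact_mod_cast hb)
  have heR : ((te : ℝ) - E) ≠ 0 := sub_ne_zero.mpr (by exact_mod_cast he)
  have q : sa * (((ta : ℝ) - A) ^ 2 / A) + sb * (((tb : ℝ) - B) ^ 2 / B) +
      δ * (((te : ℝ) - E) ^ 2 / E) = 0 := by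
    have e : ∀ t d : ℝ, d ≠ 0 → (t - d) ^ 2 / d = t ^ 2 / d - 2 * t + d := fun t d hd => by
      field_simp; ring
    rw [e _ _ hAR.ne', e _ _ hBR.ne', e _ _ hER.ne']
    linear_combination r2 - 2 * r1 + r0
  have pA : 0 < ((ta : ℝ) - A) ^ 2 / A := by positivity
  have pB : 0 < ((tb : ℝ) - B) ^ 2 / B := by positivity
  have pE : 0 < ((te : ℝ) - E) ^ 2 / E := by positivity
  -- signs
  rcases hsa with rfl | rfl <;> rcases hsb with rfl | rfl <;> rcases hδ with rfl | rfl <;>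
    push_cast at r0 r1 r2 q
  case inl.inl.inl => linarith
  case inr.inr.inr => linarith
  case inr.inr.inl =>
    exfalso
    -- only one positive coefficient: all ratios agree
    have e : ((te : ℝ) - E) * 1 + 0 = ((te : ℝ) - E) := by ring
    have hx : (1 : ℝ) * ((te : ℝ) / E - 1) ^ 2 + (A : ℝ) * ((ta : ℝ) / A - te / E) ^ 2 +
        (B : ℝ) * ((tb : ℝ) / B - te / E) ^ 2 = 0 := by
      field_simp at r2 ⊢
      ring_nf at r2 ⊢
      linear_combination
        -(E : ℝ) * r2 + 2 * (A : ℝ) * B * te * E * r1 - (A : ℝ) * B * te ^ 2 * r0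
    have hz : ((te : ℝ) / E - 1) ^ 2 ≤ 0 := by
      nlinarith [mul_nonneg hAR.le (sq_nonneg ((ta : ℝ) / A - te / E)),
        mul_nonneg hBR.le (sq_nonneg ((tb : ℝ) / B - te / E))]
    have := le_antisymm hz (sq_nonneg _)
    rw [pow_eq_zero_iff two_ne_zero, sub_eq_zero, div_eq_one_iff_eq hER.ne'] at this
    exact heR (sub_eq_zero.mpr this)
  case inr.inl.inr =>
    exfalso
    have hx : (1 : ℝ) * ((tb : ℝ) / B - 1) ^ 2 + (A : ℝ) * ((ta : ℝ) / A - tb / B) ^ 2 +
        (E : ℝ) * ((te : ℝ) / E - tb / B) ^ 2 = 0 := by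
      field_simp at r2 ⊢
      ring_nf at r2 ⊢
      linear_combination
        -(B : ℝ) * r2 + 2 * (A : ℝ) * E * tb * B * r1 - (A : ℝ) * E * tb ^ 2 * r0
    have hz : ((tb : ℝ) / B - 1) ^ 2 ≤ 0 := by
      nlinarith [mul_nonneg hAR.le (sq_nonneg ((ta : ℝ) / A - tb / B)),
        mul_nonneg hER.le (sq_nonneg ((te : ℝ) / E - tb / B))]
    have := le_antisymm hz (sq_nonneg _)
    rw [pow_eq_zero_iff two_ne_zero, sub_eq_zero, div_eq_one_iff_eq hBR.ne'] at this
    exact hbR (sub_eq_zero.mpr this)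
  case inl.inr.inr =>
    exfalso
    have hx : (1 : ℝ) * ((ta : ℝ) / A - 1) ^ 2 + (B : ℝ) * ((tb : ℝ) / B - ta / A) ^ 2 +
        (E : ℝ) * ((te : ℝ) / E - ta / A) ^ 2 = 0 := by
      field_simp at r2 ⊢
      ring_nf at r2 ⊢
      linear_combination
        -(A : ℝ) * r2 + 2 * (B : ℝ) * E * ta * A * r1 - (B : ℝ) * E * ta ^ 2 * r0
    have hz : ((ta : ℝ) / A - 1) ^ 2 ≤ 0 := by
      nlinarith [mul_nonneg hBR.le (sq_nonneg ((tb : ℝ) / B - ta / A)),
        mul_nonneg hER.le (sq_nonneg ((te : ℝ) / E - ta / A))]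
    have := le_antisymm hz (sq_nonneg _)
    rw [pow_eq_zero_iff two_ne_zero, sub_eq_zero, div_eq_one_iff_eq hAR.ne'] at this
    exact haR (sub_eq_zero.mpr this)
  case inl.inl.inr =>
    refine ⟨by norm_num, isSquare_of_mul_sq_eq (x := te - E) (z := (E : ℤ) * (ta * B - tb * A))
      (sub_ne_zero.mpr he) ?_⟩
    have h : ((E * (A * B) : ℕ) : ℝ) * (((te - E : ℤ)) : ℝ) ^ 2 =
        (((E : ℤ) * (ta * B - tb * A) : ℤ) : ℝ) ^ 2 := by
      push_cast
      field_simp at r2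
      have h0 : (E : ℝ) = A + B - 1 := by linarith
      have h1 : (te : ℝ) = ta + tb - 1 := by linarith
      rw [h0, h1] at r2 ⊢
      ring_nf at r2 ⊢
      linear_combination (-((A : ℝ) + B) * (A + B - 1)) * r2
    exact_mod_cast h
  case inl.inr.inl =>
    refine ⟨by norm_num, isSquare_of_mul_sq_eq (x := tb - B) (z := (B : ℤ) * (ta * E - te * A))
      (sub_ne_zero.mpr hb) ?_⟩
    have h : ((E * (A * B) : ℕ) : ℝ) * (((tb - B : ℤ)) : ℝ) ^ 2 =
        (((B : ℤ) * (ta * E - te * A) : ℤ) : ℝ) ^ 2 := by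
      push_cast
      field_simp at r2
      have h0 : (B : ℝ) = A + E - 1 := by linarith
      have h1 : (tb : ℝ) = ta + te - 1 := by linarith
      rw [h0, h1] at r2 ⊢
      ring_nf at r2 ⊢
      linear_combination (-((A : ℝ) + E) * (A + E - 1)) * r2
    exact_mod_cast h
  case inr.inl.inl =>
    refine ⟨by norm_num, isSquare_of_mul_sq_eq (x := ta - A) (z := (A : ℤ) * (tb * E - te * B))
      (sub_ne_zero.mpr ha) ?_⟩
    have h : ((E * (A * B) : ℕ) : ℝ) * (((ta - A : ℤ)) : ℝ) ^ 2 =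
        (((A : ℤ) * (tb * E - te * B) : ℤ) : ℝ) ^ 2 := by
      push_cast
      field_simp at r2
      have h0 : (A : ℝ) = B + E - 1 := by linarith
      have h1 : (ta : ℝ) = tb + te - 1 := by linarith
      rw [h0, h1] at r2 ⊢
      ring_nf at r2 ⊢
      linear_combination (-((B : ℝ) + E) * (B + E - 1)) * r2
    exact_mod_cast h

variable {G : Type u} [Group G] [Fintype G] {p : ℕ} [Fact p.Prime] {P : Sylow p G}
  {M : Ideal AlgInt} [M.IsPrime]

theorem exists_int_apply_involution {t : G} (ht : t * t = 1) (χ : IrrCharacter G) :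
    ∃ m : ℤ, (m : ℂ) = (χ : G → ℂ) t := by
  have htp : t ^ 2 = 1 := by rw [sq, ht]
  refine exists_int_of_rat (char_isIntegral (isCharacter_of_irr χ.2) t)
    (exists_rat_of_fixed (N := 2) (char_mem_cyclo (isCharacter_of_irr χ.2) t htp) fun k σ hk hσ => ?_)
  rw [galois_apply σ hσ (isCharacter_of_irr χ.2) t htp]
  obtain ⟨j, rfl⟩ : Odd k := Nat.coprime_two_right.mp hk
  rw [pow_succ, pow_mul, htp, one_pow, one_mul]

theorem apply_ne_degree {t : G} (hK : ∀ K : Subgroup G, K.Normal → t ∈ K → K = ⊤) (χ : IrrCharacter G)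
    (hne : χ ≠ principal G) : (χ : G → ℂ) t ≠ (χ : G → ℂ) 1 := by
  intro h
  have htop := hK (charKer χ) (charKer_normal χ) (mem_charKer.mpr h)
  have hall : ∀ g : G, (χ : G → ℂ) g = (χ : G → ℂ) 1 := fun g =>
    mem_charKer.mp (htop ▸ Subgroup.mem_top g)
  have h0 := inner_irr_ne hne
  rw [inner_def, Finset.sum_congr rfl (g := fun _ => (χ : G → ℂ) 1)
    (fun g _ => by rw [hall g, principal_apply]; simp), Finset.sum_const, Finset.card_univ,
    nsmul_eq_mul, ← Nat.card_eq_fintype_card, ← mul_assoc, inv_mul_cancel₀ (card_ne_zero G),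
    one_mul] at h0
  exact deg_ne_zero χ h0

end CfsgLib.CharApps
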