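import Cfsg.Agent.Lib.CharApps.Galois
import Cfsg.Agent.Lib.CharApps.Inflation
import Cfsg.Agent.Lib.BlockOrth.BrauerFeit
import Cfsg.Agent.Lib.Blocks.Degree
import Cfsg.Agent.Lib.Base.Cores

/-!
# The principal block is rational and insensitive to normal `p'`-subgroups
-/

set_option autoImplicit false
set_option linter.style.haveILetI false

namespace CfsgLib.CharApps

open Cfsg CfsgLib.Chars CfsgLib.Blocks CfsgLib.BlockOrth
open scoped ComplexConjugate

universe u

variable {G : Type u} [Group G] [Fintype G] {M : Ideal AlgInt} [M.IsPrime] {p : ℕ} [Fact p.Prime]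

/-- The principal block consists of the characters whose sum over the `p`-regular elements is
nonzero. -/
theorem mem_principalBlock_iff_regularSum (hpM : (p : AlgInt) ∈ M) (χ : IrrCharacter G)
    [DecidablePred fun g : G => ¬ p ∣ orderOf g] :
    χ ∈ principalBlock M G ↔
      ∑ g ∈ Finset.univ.filter (fun g : G => ¬ p ∣ orderOf g), (χ : G → ℂ) g ≠ 0 := by
  classical
  have hB := isPBlock_principalBlock (G := G) M
  have hone := principal_mem_principalBlock (G := G) M
  have hd1 : charDegree (principal G : G → ℂ) = 1 :=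
    (deg_eq_one_iff (principal G)).mp (principal_apply 1)
  have h0 : blockHeight p (principalBlock M G) (principal G : G → ℂ) = 0 := by
    rw [blockHeight, hd1]
    simp
  have hspec := dInt_spec (p := p) hpM hone χ
  have hinner : classInner (pRegularPart p (principal G : G → ℂ)) (χ : G → ℂ) =
      (Nat.card G : ℂ)⁻¹ *
        conj (∑ g ∈ Finset.univ.filter (fun g : G => ¬ p ∣ orderOf g), (χ : G → ℂ) g) := by
    rw [inner_def, map_sum, Finset.sum_filter]
    congr 1
    refine Finset.sum_congr rfl fun g _ => ?_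
    rw [pRegularPart_apply, principal_apply]
    split_ifs <;> simp
  rw [hinner] at hspec
  constructor
  · intro hχ hz
    refine dInt_ne_zero hpM hB hone hχ h0 ?_
    rw [hz, map_zero, mul_zero, mul_zero] at hspec
    exact_mod_cast hspec
  · intro hne
    by_contra hχ
    rw [dInt_eq_zero hpM hB hone hχ, Int.cast_zero, eq_comm,
      mul_eq_zero_iff_left (Nat.cast_ne_zero.mpr (pow_ne_zero _ (Fact.out : p.Prime).ne_zero)),
      mul_eq_zero_iff_left (inv_ne_zero (card_ne_zero G)), map_eq_zero] at hspec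
    exact hne hspec

theorem galoisIrr_mem_principalBlock (hpM : (p : AlgInt) ∈ M) (σ : ℂ ≃+* ℂ)
    (χ : IrrCharacter G) :
    galoisIrr σ χ ∈ principalBlock M G ↔ χ ∈ principalBlock M G := by
  classical
  rw [mem_principalBlock_iff_regularSum hpM, mem_principalBlock_iff_regularSum hpM,
    Finset.sum_congr rfl (g := fun g => σ ((χ : G → ℂ) g)) (fun g _ => galoisIrr_apply σ χ g),
    ← map_sum, ne_eq, map_eq_zero_iff σ σ.injective]

/-- The squared norms of a column of the principal block add up to an integer. -/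
theorem exists_int_principal_normSq (hpM : (p : AlgInt) ∈ M) (x : G)
    [Fintype (IrrCharacter G)] [DecidablePred (· ∈ principalBlock M G)] :
    ∃ m : ℤ, (m : ℂ) = ∑ χ ∈ Finset.univ.filter (· ∈ principalBlock M G),
      (χ : G → ℂ) x * conj ((χ : G → ℂ) x) := by
  classical
  haveI : NeZero (Nat.card G) := ⟨Nat.card_pos.ne'⟩
  have e : ∀ χ : IrrCharacter G, (χ : G → ℂ) x * conj ((χ : G → ℂ) x) =
      (χ : G → ℂ) x * (χ : G → ℂ) x⁻¹ := fun χ => by rw [irr_inv]
  simp only [e]
  refine exists_int_of_rat (IsIntegral.sum _ fun χ _ =>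
    (char_isIntegral (isCharacter_of_irr χ.2) _).mul (char_isIntegral (isCharacter_of_irr χ.2) _))
    (exists_rat_of_fixed (N := Nat.card G) (sum_mem fun χ _ =>
      mul_mem (char_mem_cyclo (isCharacter_of_irr χ.2) _ pow_card_eq_one')
        (char_mem_cyclo (isCharacter_of_irr χ.2) _ pow_card_eq_one')) fun k σ _ _ => ?_)
  rw [map_sum]
  refine Finset.sum_nbij (galoisIrr σ) (fun χ hχ => ?_) (fun a _ b _ h => (galoisIrr σ).injective h)
    (fun χ hχ => ⟨(galoisIrr σ).symm χ, ?_, (galoisIrr σ).apply_symm_apply χ⟩) (fun χ _ => ?_)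
  · simpa [galoisIrr_mem_principalBlock hpM] using hχ
  · simp only [Finset.coe_filter, Finset.mem_univ, true_and, Set.mem_setOf_eq] at hχ ⊢
    rwa [← galoisIrr_mem_principalBlock hpM σ, Equiv.apply_symm_apply]
  · rw [map_mul, galoisIrr_apply, galoisIrr_apply]

/-- A character of a quotient by a normal `p'`-subgroup is in the principal block iff its
inflation is. -/
theorem inflate_mem_principalBlock_iff (hpM : (p : AlgInt) ∈ M) (N : Subgroup G) [N.Normal]
    (hN : ¬ p ∣ Nat.card N) (ψ : IrrCharacter (G ⧸ N)) :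
    inflate N ψ ∈ principalBlock M G ↔ ψ ∈ principalBlock M (G ⧸ N) := by
  classical
  haveI := Fintype.ofFinite (G ⧸ N)
  haveI : Fintype N := Fintype.ofFinite _
  have hreg : ∀ g : G, ¬ p ∣ orderOf g ↔ ¬ p ∣ orderOf (g : G ⧸ N) := by
    intro g
    refine not_congr ⟨fun h => ?_, fun h => h.trans (orderOf_map_dvd (QuotientGroup.mk' N) g)⟩
    have h1 : orderOf g ∣ orderOf (g : G ⧸ N) * Nat.card N := by
      refine orderOf_dvd_of_pow_eq_one ?_
      have hmem : g ^ orderOf (g : G ⧸ N) ∈ N := by
        rw [← QuotientGroup.eq_one_iff, QuotientGroup.mk_pow, pow_orderOf_eq_one]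
      rw [pow_mul]
      exact congrArg Subtype.val (pow_card_eq_one' (x := (⟨_, hmem⟩ : N)))
    exact ((Fact.out : p.Prime).dvd_mul.mp (h.trans h1)).resolve_right hN
  rw [mem_principalBlock_iff_regularSum hpM, mem_principalBlock_iff_regularSum hpM]
  refine not_congr ?_
  have e : ∑ g ∈ Finset.univ.filter (fun g : G => ¬ p ∣ orderOf g), (inflate N ψ : G → ℂ) g =
      (Nat.card N : ℂ) *
        ∑ q ∈ Finset.univ.filter (fun q : G ⧸ N => ¬ p ∣ orderOf q), (ψ : G ⧸ N → ℂ) q := by
    rw [Finset.sum_filter, Finset.sum_filter, Finset.mul_sum,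
      ← Finset.sum_fiberwise Finset.univ (fun g : G => (g : G ⧸ N))]
    refine Finset.sum_congr rfl fun q _ => ?_
    rw [Finset.sum_congr rfl (g := fun _ => if ¬ p ∣ orderOf q then (ψ : G ⧸ N → ℂ) q else 0)
      (fun g hg => by simp only [inflate_apply, hreg, (Finset.mem_filter.mp hg).2]),
      Finset.sum_const, nsmul_eq_mul, ← Fintype.card_subtype, ← Nat.card_eq_fintype_card]
    congr 2
    obtain ⟨g, rfl⟩ := QuotientGroup.mk_surjective q
    refine Nat.card_congr
      { toFun := fun a => ⟨g⁻¹ * a.1, QuotientGroup.eq.mp a.2.symm⟩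
        invFun := fun n => ⟨g * n.1, by
          refine QuotientGroup.eq.mpr ?_
          simp [inv_mem_iff]⟩
        left_inv := fun a => by simp
        right_inv := fun n => by simp }
  rw [e, mul_eq_zero_iff_left (Nat.cast_ne_zero.mpr Nat.card_pos.ne')]

end CfsgLib.CharApps
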