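import Cfsg.Agent.Lib.CharApps.Galois
import Cfsg.Agent.Lib.Blocks.LocalRing
import Cfsg.Agent.Lib.CharsMore.ItoDegree
import Cfsg.Agent.Lib.Chars.Quotient

/-!
# Class number of a group with an abelian normal Sylow subgroup
-/

set_option autoImplicit false
set_option linter.style.haveILetI false
set_option linter.unusedSectionVars false

namespace CfsgLib.CharApps

open Cfsg CfsgLib.Chars
open scoped ComplexConjugate

universe u

variable {G : Type u} [Group G] [Finite G]

theorem exists_pModular (p : ℕ) [hp : Fact p.Prime] : ∃ M : Ideal AlgInt, IsPModular p M := by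
  have hne : Ideal.span {(p : AlgInt)} ≠ ⊤ := by
    rw [Ne, Ideal.span_singleton_eq_top]
    intro hu
    obtain ⟨w, hw⟩ := hu.exists_right_inv
    have h1 : ((w : AlgInt) : ℂ) = ((1 / p : ℚ) : ℂ) := by
      have h2 := congrArg (fun z : AlgInt => (z : ℂ)) hw
      push_cast at h2 ⊢
      rw [eq_div_iff (Nat.cast_ne_zero.mpr hp.out.ne_zero), mul_comm]
      exact h2
    obtain ⟨m, hm⟩ := exists_int_of_rat w.2 ⟨_, h1.symm⟩
    have h3 := congrArg (fun z : AlgInt => (z : ℂ)) hw
    push_cast at h3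
    rw [← hm] at h3
    have h4 : (p : ℤ) * m = 1 := by exact_mod_cast h3
    have := Int.eq_one_of_mul_eq_one_right (by positivity) h4
    exact hp.out.one_lt.ne' (by exact_mod_cast this)
  obtain ⟨M, hM, hle⟩ := Ideal.exists_le_maximal _ hne
  exact ⟨M, hp.out, hM, hle (Ideal.mem_span_singleton_self _)⟩

/-- A character of degree prime to `p` vanishes at no `p`-element. -/
theorem char_ne_zero_of_pElement (p : ℕ) [hp : Fact p.Prime] {χ : G → ℂ} (hχ : IsCharacter G χ)
    {d : ℕ} (hd : χ 1 = d) (hpd : ¬ p ∣ d) {v : G} {k : ℕ} (hv : v ^ p ^ k = 1) : χ v ≠ 0 := by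
  classical
  obtain ⟨M, hM⟩ := exists_pModular p
  haveI : M.IsMaximal := hM.2.1
  obtain ⟨n, ρ, rfl⟩ := hχ
  obtain ⟨b, μ, hμ, -, -, -, h1, -⟩ := exists_eigenbasis_rep ρ v
  have hμk : ∀ i, μ i ^ p ^ k = 1 := fun i => by
    obtain ⟨c, hc⟩ := orderOf_dvd_of_pow_eq_one hv
    rw [hc, pow_mul, hμ i, one_pow]
  let a : Fin (Module.finrank ℂ (Fin n → ℂ)) → AlgInt := fun i =>
    ⟨μ i, IsIntegral.of_pow (pow_pos hp.out.pos k) (by rw [hμk]; exact isIntegral_one)⟩
  let q := Ideal.Quotient.mk M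
  haveI : CharP (AlgInt ⧸ M) p := by
    refine ⟨fun m => ?_⟩
    haveI : M.IsPrime := Ideal.IsMaximal.isPrime ‹_›
    rw [← map_natCast q, Ideal.Quotient.eq_zero_iff_mem]
    exact Blocks.natCast_mem_iff hp.out hM.2.2 m
  haveI : IsDomain (AlgInt ⧸ M) := Ideal.Quotient.isDomain M
  have ha : ∀ i, q (a i) = 1 := by
    intro i
    have h2 : q (a i) ^ p ^ k = 1 := by
      rw [← map_pow, show a i ^ p ^ k = 1 from Subtype.ext (by simpa [a] using hμk i), map_one]
    have h3 : (q (a i) - 1) ^ p ^ k = 0 := by rw [sub_pow_char_pow, h2, one_pow, sub_self]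
    exact sub_eq_zero.mp (pow_eq_zero_iff (pow_pos hp.out.pos k).ne' |>.mp h3)
  intro h0
  rw [h1] at h0
  have h4 : ∑ i, a i = 0 := Subtype.ext (by simpa [a] using h0)
  have h5 := congrArg q h4
  rw [map_sum, map_zero, Finset.sum_congr rfl fun i _ => ha i, Finset.sum_const, Finset.card_univ,
    nsmul_eq_mul, mul_one, CharP.cast_eq_zero_iff (AlgInt ⧸ M) p] at h5
  refine hpd ?_
  have h6 : (d : ℂ) = (n : ℂ) := by rw [← hd]; simp
  rw [Nat.cast_inj] at h6
  simpa [h6] using h5

/-- Knörr's bound. -/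
theorem card_classes_le {p : ℕ} [hp : Fact p.Prime] (V : Subgroup G) [V.Normal] (hVp : IsPGroup p V)
    (hidx : ¬ p ∣ V.index) (hab : ∀ a ∈ V, ∀ b ∈ V, a * b = b * a) {v : G} (hv : v ∈ V) :
    Nat.card (ConjClasses G) + Nat.card (G ⧸ V) ≤
      Nat.card (Subgroup.centralizer ({v} : Set G)) + Nat.card (ConjClasses (G ⧸ V)) := by
  classical
  haveI := Fintype.ofFinite G
  haveI := irrFintype G
  haveI := irrFintype (G ⧸ V)
  obtain ⟨k, hk⟩ := hVp ⟨v, hv⟩
  have hvk : v ^ p ^ k = 1 := congrArg Subtype.val hk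
  let P : IrrCharacter G → Prop := fun χ => ∀ x ∈ V, (χ : G → ℂ) x = (χ : G → ℂ) 1
  set S := Finset.univ.filter fun χ : IrrCharacter G => ¬ P χ with hS
  have hne : ∀ χ ∈ S, (χ : G → ℂ) v ≠ 0 := fun χ _ => by
    obtain ⟨d, hd, hdvd⟩ := CharsMore.ito_degree_dvd V hab χ.2
    exact char_ne_zero_of_pElement p (isCharacter_of_irr χ.2) hd (fun h => hidx (h.trans hdvd)) hvk
  have hb := card_le_sum_normSq S (fun χ => (χ : G → ℂ)) (fun _ => v)
    (fun χ _ => isCharacter_of_irr χ.2) hne (fun k σ hk hσ => by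
      refine ⟨fun χ => galoisIrr σ χ, fun χ hχ => ?_, fun a _ b _ e => (galoisIrr σ).injective e,
        fun χ _ => rfl⟩
      refine Finset.mem_filter.mpr ⟨Finset.mem_univ _, fun hP => (Finset.mem_filter.mp hχ).2 fun x hx => ?_⟩
      have := hP x hx
      simp only [galoisIrr_apply] at this
      exact σ.injective this)
  have hcount : Fintype.card (IrrCharacter G) = S.card + Fintype.card (IrrCharacter (G ⧸ V)) := by
    rw [show Fintype.card (IrrCharacter (G ⧸ V)) =
        (Finset.univ.filter fun χ : IrrCharacter G => P χ).card from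
        (Fintype.card_congr (quotientIrrEquiv V)).trans (Fintype.card_subtype P), hS, add_comm]
    exact (Finset.card_filter_add_card_filter_not (s := Finset.univ) (p := P)).symm
  have hsum : (Nat.card (Subgroup.centralizer ({v} : Set G)) : ℝ) =
      (Nat.card (G ⧸ V) : ℝ) + ∑ χ ∈ S, ‖(χ : G → ℂ) v‖ ^ 2 := by
    have h1 := second_orthogonality v v
    rw [if_pos (IsConj.refl _)] at h1
    have h2 := sum_degree_mul (G := G ⧸ V) 1
    rw [if_pos rfl] at h2
    have h3 : ∑ χ ∈ Finset.univ.filter P, (χ : G → ℂ) v * conj ((χ : G → ℂ) v) =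
        (Nat.card (G ⧸ V) : ℂ) := by
      rw [Finset.sum_subtype (Finset.univ.filter P) (p := P) (by simp), ← h2]
      refine (Fintype.sum_equiv (quotientIrrEquiv V) _ _ fun ψ => ?_).symm
      show (ψ : G ⧸ V → ℂ) 1 * (ψ : G ⧸ V → ℂ) 1 =
        (ψ : G ⧸ V → ℂ) (v : G ⧸ V) * conj ((ψ : G ⧸ V → ℂ) (v : G ⧸ V))
      rw [(QuotientGroup.eq_one_iff v).mpr hv, conj_deg]
    rw [← Finset.sum_filter_add_sum_filter_not Finset.univ P, h3] at h1
    simp only [Complex.mul_conj, Complex.normSq_eq_norm_sq] at h1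
    exact_mod_cast h1.symm
  have hk1 : Nat.card (ConjClasses G) = Fintype.card (IrrCharacter G) := by
    rw [← Nat.card_eq_fintype_card]; exact card_irr_eq_card_classes.symm
  have hk2 : Nat.card (ConjClasses (G ⧸ V)) = Fintype.card (IrrCharacter (G ⧸ V)) := by
    rw [← Nat.card_eq_fintype_card]; exact card_irr_eq_card_classes.symm
  rw [hk1, hk2, hcount]
  have : (S.card : ℝ) + (Nat.card (G ⧸ V) : ℝ) ≤ (Nat.card (Subgroup.centralizer ({v} : Set G)) : ℝ) := by
    linarith
  have h' : S.card + Nat.card (G ⧸ V) ≤ Nat.card (Subgroup.centralizer ({v} : Set G)) := by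
    exact_mod_cast this
  omega

end CfsgLib.CharApps
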