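import Cfsg.Agent.Lib.CharApps.Basic
import Cfsg.Agent.Lib.Chars.Char
import Cfsg.Agent.Lib.Chars.Integral

/-!
# Products of two conjugacy classes
-/

set_option autoImplicit false
set_option linter.style.haveILetI false

namespace CfsgLib.CharApps

open Cfsg CfsgLib.Chars
open scoped ComplexConjugate

universe u

variable {G : Type u} [Group G]

/-- If `x ^ G * y ^ G` is a single class then irreducible characters are multiplicative on it. -/
theorem char_mul_of_classProd [Finite G] (x y : G)
    (h : ∀ b : G, IsConj (x * y) (x * (b * y * b⁻¹))) (χ : IrrCharacter G) :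
    (χ : G → ℂ) 1 * (χ : G → ℂ) (x * y) = (χ : G → ℂ) x * (χ : G → ℂ) y := by
  classical
  haveI := Fintype.ofFinite G
  have hs := sum_translate_class χ.2 x y
  have hz : ∀ z : G, IsConj y z → (χ : G → ℂ) (x * z) = (χ : G → ℂ) (x * y) := fun z hzc => by
    obtain ⟨b, rfl⟩ := isConj_iff.mp hzc
    exact ((isConj_iff_forall_irr _ _).mp (h b) χ).symm
  rw [Finset.sum_congr rfl (g := fun z => if IsConj y z then (χ : G → ℂ) (x * y) else 0)
    (fun z _ => by split_ifs with hc <;> [exact hz z hc; rfl]),
    ← Finset.sum_filter, Finset.sum_const, nsmul_eq_mul, ← Fintype.card_subtype,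
    ← Nat.card_eq_fintype_card] at hs
  haveI : Nonempty {z : G // IsConj y z} := ⟨⟨y, IsConj.refl y⟩⟩
  have hk : (Nat.card {z : G // IsConj y z} : ℂ) ≠ 0 := Nat.cast_ne_zero.mpr Nat.card_pos.ne'
  rw [eq_div_iff (deg_ne_zero χ)] at hs
  exact mul_left_cancel₀ hk (by linear_combination hs)

/-- Two elements with the same value of every linear character and at one of which every
nonlinear irreducible character vanishes are conjugate. -/
theorem isConj_of_nonlinear_vanish [Finite G] (g h : G)
    (hlin : ∀ χ : IrrCharacter G, (χ : G → ℂ) 1 = 1 → (χ : G → ℂ) g = (χ : G → ℂ) h)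
    (hv : ∀ χ : IrrCharacter G, (χ : G → ℂ) 1 ≠ 1 → (χ : G → ℂ) g = 0) : IsConj g h := by
  classical
  haveI := irrFintype G
  by_contra hcon
  have h1 := second_orthogonality g g
  have h2 := second_orthogonality g h
  rw [if_pos (IsConj.refl g)] at h1
  rw [if_neg (fun hh => hcon hh.symm)] at h2
  rw [Finset.sum_congr rfl (g := fun χ : IrrCharacter G =>
    (χ : G → ℂ) g * conj ((χ : G → ℂ) g)) (fun χ _ => ?_)] at h2
  · exact Nat.cast_ne_zero.mpr Nat.card_pos.ne' (h1.symm.trans h2)
  · by_cases hχ : (χ : G → ℂ) 1 = 1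
    · rw [hlin χ hχ]
    · rw [hv χ hχ, zero_mul, zero_mul]

/-- Linear characters only depend on the coset of the derived subgroup. -/
theorem linear_eq_of_commutator (χ : IrrCharacter G) (h1 : (χ : G → ℂ) 1 = 1) {g h : G}
    (hgh : g⁻¹ * h ∈ commutator G) : (χ : G → ℂ) g = (χ : G → ℂ) h := by
  obtain ⟨lam, hlam⟩ := exists_hom_of_degree_one (isCharacter_of_irr χ.2) h1
  have h2 : lam (g⁻¹ * h) = 1 := Abelianization.commutator_subset_ker lam hgh
  rw [map_mul, map_inv, inv_mul_eq_one] at h2
  rw [hlam]
  exact congrArg Units.val h2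

theorem commutator_of_isConj {g h : G} (hc : IsConj g h) : g⁻¹ * h ∈ commutator G := by
  obtain ⟨c, rfl⟩ := isConj_iff.mp hc
  rw [commutator_def]
  have := Subgroup.commutator_mem_commutator (Subgroup.mem_top g⁻¹) (Subgroup.mem_top c)
  simpa [commutatorElement_def, mul_assoc] using this

end CfsgLib.CharApps
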