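import Cfsg.Agent.Lib.CharApps.FrobeniusSchur
import Mathlib.LinearAlgebra.Matrix.Determinant.Basic
import Mathlib.LinearAlgebra.Matrix.ToLinearEquiv

/-!
# A real irreducible character of odd degree has indicator one
-/

set_option autoImplicit false
set_option linter.style.haveILetI false

namespace CfsgLib.CharApps

open Cfsg CfsgLib.Chars Module
open scoped ComplexConjugate Matrix

universe u

variable {G : Type u} [Group G] [Fintype G]

theorem fsInd_eq_one_of_odd (χ : IrrCharacter G)
    (h : ∀ g : G, conj ((χ : G → ℂ) g) = (χ : G → ℂ) g)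
    (hodd : ∀ n : ℕ, (χ : G → ℂ) 1 = (n : ℂ) → Odd n) : fsInd (χ : G → ℂ) = 1 := by
  obtain ⟨n, ρ, hρ, hχ⟩ := χ.2
  rw [← hχ] at h hodd ⊢
  haveI := hρ
  have hn : Odd n := hodd n (by rw [Representation.char_one, Module.finrank_fin_fun])
  have hce : (contraRep ρ).character = ρ.character :=
    funext fun g => (character_contraRep ρ g).trans (h g)
  haveI : (contraRep ρ).IsIrreducible :=
    (isIrreducible_iff_inner_self _).mpr (by rw [hce, inner_self_irr])
  have hanti : ∀ Y, (symAvg ρ Y)ᵀ = symAvg ρ Y := by
    intro Y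
    by_contra hne
    set A := symAvg ρ (Y - Yᵀ) with hA
    have hsub : A = symAvg ρ Y - (symAvg ρ Y)ᵀ := by
      rw [hA, symAvg_transpose]
      simp [symAvg, Matrix.mul_sub, Matrix.sub_mul, Finset.sum_sub_distrib]
    have hA0 : A ≠ 0 := fun h0 => hne (sub_eq_zero.mp (hsub ▸ h0)).symm
    have hAT : Aᵀ = -A := by
      rw [hsub, Matrix.transpose_sub, Matrix.transpose_transpose, neg_sub]
    have hinj : Function.Injective (symAvgMap ρ (Y - Yᵀ)) := by
      refine (Representation.IsIrreducible.injective_or_eq_zero _).resolve_right fun h0 => hA0 ?_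
      have h1 := congrArg Representation.IntertwiningMap.toLinearMap h0
      rw [symAvgMap_toLinearMap] at h1
      exact Matrix.toLin'.injective (h1.trans (map_zero Matrix.toLin').symm)
    have hdet : A.det ≠ 0 := by
      intro h0
      obtain ⟨v, hv0, hv⟩ := Matrix.exists_mulVec_eq_zero_iff.mpr h0
      refine hv0 (hinj ?_)
      rw [map_zero]
      exact hv
    have h2 : A.det = -A.det := by
      conv_lhs => rw [← Matrix.det_transpose, hAT, Matrix.det_neg, Fintype.card_fin, hn.neg_one_pow,
        neg_one_mul]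
    exact hdet (by linear_combination h2 / 2)
  rw [fsInd, sum_char_sq_elem]
  have h3 : ∑ i, ∑ j, symAvg ρ (Matrix.single j i (1 : ℂ)) i j =
      ∑ i, ∑ j, symAvg ρ (Matrix.single i j (1 : ℂ)) i j := by
    refine Finset.sum_congr rfl fun i _ => Finset.sum_congr rfl fun j _ => ?_
    conv_lhs => rw [← hanti, symAvg_transpose, Matrix.transpose_single]
  rw [h3, ← sum_char_char, ← inner_conj_self_eq, funext h, inner_self_irr]

end CfsgLib.CharApps
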