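import Cfsg.Agent.Lib.CharApps.KleinFour
import Cfsg.Agent.Lib.CharApps.IndicatorOdd
import Cfsg.Agent.Lib.CharApps.PrincipalRational

/-!
# The order formula for a principal `2`-block with four characters
-/

set_option autoImplicit false
set_option linter.style.haveILetI false
set_option linter.unusedSectionVars false

namespace CfsgLib.CharApps

open Cfsg CfsgLib.Chars CfsgLib.Blocks
open scoped ComplexConjugate

universe u

variable {G : Type u} [Group G] [Fintype G]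

/-- The principal block `{1, χ₁, χ₂, χ₃}` with signs at the involution. -/
structure KleinBlock (M : Ideal AlgInt) (P : Sylow 2 G) (J : G) where
  χ₁ : IrrCharacter G
  χ₂ : IrrCharacter G
  χ₃ : IrrCharacter G
  ε₁ : ℤ
  ε₂ : ℤ
  ε₃ : ℤ
  setup : KleinSetup P
  mem : J ∈ (P : Subgroup G)
  two : orderOf J = 2
  block : ∀ χ : IrrCharacter G, χ ∈ principalBlock M G ↔
    χ = principal G ∨ χ = χ₁ ∨ χ = χ₂ ∨ χ = χ₃
  ne₁ : χ₁ ≠ principal G
  ne₂ : χ₂ ≠ principal G
  ne₃ : χ₃ ≠ principal G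
  ne₁₂ : χ₁ ≠ χ₂
  ne₁₃ : χ₁ ≠ χ₃
  ne₂₃ : χ₂ ≠ χ₃
  pm₁ : ε₁ = 1 ∨ ε₁ = -1
  pm₂ : ε₂ = 1 ∨ ε₂ = -1
  pm₃ : ε₃ = 1 ∨ ε₃ = -1
  val₁ : (χ₁ : G → ℂ) J = ε₁
  val₂ : (χ₂ : G → ℂ) J = ε₂
  val₃ : (χ₃ : G → ℂ) J = ε₃

namespace KleinBlock

variable {M : Ideal AlgInt} [M.IsPrime] [Fact (Nat.Prime 2)] {P : Sylow 2 G} {J : G}
  (T : KleinBlock M P J)

include T

theorem sum_block (f : IrrCharacter G → ℂ) :
    ∑ᶠ χ ∈ principalBlock M G, f χ = f (principal G) + (f T.χ₁ + (f T.χ₂ + f T.χ₃)) := by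
  classical
  rw [show principalBlock M G = ↑({principal G, T.χ₁, T.χ₂, T.χ₃} : Finset (IrrCharacter G)) from
    Set.ext fun χ => by simp [T.block χ], finsum_mem_coe_finset,
    Finset.sum_insert (by simp [T.ne₁.symm, T.ne₂.symm, T.ne₃.symm]),
    Finset.sum_insert (by simp [T.ne₁₂, T.ne₁₃]), Finset.sum_pair T.ne₂₃]

theorem orth (hM : IsPModular 2 M) :
    (1 : ℤ) + (T.ε₁ * charDegree (T.χ₁ : G → ℂ) + (T.ε₂ * charDegree (T.χ₂ : G → ℂ) +
      T.ε₃ * charDegree (T.χ₃ : G → ℂ))) = 0 := by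
  have h := weak_orthogonality (Fact.out : Nat.Prime 2) hM.2.2 (isPBlock_principalBlock (G := G) M)
    (x := (1 : G)) (y := J) (by simp) (by rw [T.two])
  rw [T.sum_block] at h
  simp only [principal_apply, map_one, mul_one, T.val₁, T.val₂, T.val₃, map_intCast, deg_eq] at h
  apply Int.cast_injective (α := ℂ)
  push_cast
  linear_combination h

theorem order_identity (hM : IsPModular 2 M) : ∃ s : ℕ, 0 < s ∧
    s * Nat.card (Subgroup.centralizer ((P : Subgroup G) : Set G)) =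
      Nat.card (Subgroup.centralizer ({J} : Set G)) ∧
    (Nat.card G : ℤ) * (((charDegree (T.χ₁ : G → ℂ) : ℤ) + T.ε₁) *
      ((charDegree (T.χ₂ : G → ℂ) : ℤ) + T.ε₂) * ((charDegree (T.χ₃ : G → ℂ) : ℤ) + T.ε₃)) =
      8 * (s : ℤ) ^ 2 * Nat.card (Subgroup.centralizer ({J} : Set G)) *
        ((charDegree (T.χ₁ : G → ℂ) : ℤ) * charDegree (T.χ₂ : G → ℂ) *
          charDegree (T.χ₃ : G → ℂ)) := by
  obtain ⟨s, hs, h⟩ := card_mul_sum_cube hM T.setup T.mem T.two
  refine ⟨s, Nat.pos_of_ne_zero fun h0 => ?_, hs, ?_⟩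
  · rw [h0, zero_mul] at hs
    exact Nat.card_pos.ne' hs.symm
  rw [T.sum_block] at h
  simp only [principal_apply, one_pow, div_one, mul_one, T.val₁, T.val₂, T.val₃, deg_eq] at h
  have ho := congrArg (fun z : ℤ => (z : ℂ)) (T.orth hM)
  simp only [Int.cast_add, Int.cast_mul, Int.cast_one, Int.cast_natCast, Int.cast_zero] at ho
  have h1 : (charDegree (T.χ₁ : G → ℂ) : ℂ) ≠ 0 := Nat.cast_ne_zero.mpr (deg_pos _).ne'
  have h2 : (charDegree (T.χ₂ : G → ℂ) : ℂ) ≠ 0 := Nat.cast_ne_zero.mpr (deg_pos _).ne'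
  have h3 : (charDegree (T.χ₃ : G → ℂ) : ℂ) ≠ 0 := Nat.cast_ne_zero.mpr (deg_pos _).ne'
  have e : ∀ ε : ℤ, (ε = 1 ∨ ε = -1) → ((ε : ℂ)) * ε = 1 := fun ε hε => by
    rcases hε with rfl | rfl <;> norm_num
  apply Int.cast_injective (α := ℂ)
  push_cast
  field_simp at h
  rcases T.pm₁ with a1 | a1 <;> rcases T.pm₂ with a2 | a2 <;> rcases T.pm₃ with a3 | a3 <;>
    rw [a1, a2, a3] at h ho ⊢ <;> push_cast at h ho ⊢
  · linear_combination h + (Nat.card G : ℂ) * ho
  · linear_combination h - (Nat.card G : ℂ) * ho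
  · linear_combination h - (Nat.card G : ℂ) * ho
  · linear_combination h + (Nat.card G : ℂ) * ho
  · linear_combination h - (Nat.card G : ℂ) * ho
  · linear_combination h + (Nat.card G : ℂ) * ho
  · linear_combination h + (Nat.card G : ℂ) * ho
  · linear_combination h - (Nat.card G : ℂ) * ho

/-- The degree modulo four. -/
theorem degree_mod (χ : IrrCharacter G) {ε : ℤ} (hval : (χ : G → ℂ) J = ε) :
    ∃ m : ℕ, (charDegree (χ : G → ℂ) : ℤ) + 3 * ε = 4 * (m : ℤ) := by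
  classical
  haveI := Fintype.ofFinite (P : Subgroup G)
  obtain ⟨m, hm⟩ := inner_irr_right_nat
    (isCharacter_restrict (P : Subgroup G) (isCharacter_of_irr χ.2)) (principal (P : Subgroup G))
  refine ⟨m, ?_⟩
  have hJ1 : (⟨J, T.mem⟩ : (P : Subgroup G)) ≠ 1 := fun e => by
    have h2 := T.two
    rw [show J = 1 from congrArg Subtype.val e, orderOf_one] at h2
    norm_num at h2
  rw [inner_def, ← Finset.add_sum_erase _ _ (Finset.mem_univ (1 : (P : Subgroup G))),
    Finset.sum_congr rfl (g := fun _ => (ε : ℂ)) (fun y hy => by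
      rw [principal_apply, map_one, mul_one, ← hval]
      exact ((isConj_iff_forall_irr _ _).mp
        (T.setup.isConj ⟨J, T.mem⟩ y hJ1 (Finset.ne_of_mem_erase hy)) χ).symm),
    Finset.sum_const, Finset.card_erase_of_mem (Finset.mem_univ _), Finset.card_univ,
    ← Nat.card_eq_fintype_card, T.setup.card, principal_apply, map_one, mul_one, Subgroup.coe_one,
    deg_eq] at hm
  apply Int.cast_injective (α := ℂ)
  push_cast
  rw [← hm]
  norm_num
  ring

/-- The indicators at the involution. -/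
theorem indicator_sum (hM : IsPModular 2 M) :
    1 + (fsInd (T.χ₁ : G → ℂ) * T.ε₁ + (fsInd (T.χ₂ : G → ℂ) * T.ε₂ +
      fsInd (T.χ₃ : G → ℂ) * T.ε₃)) = 0 := by
  classical
  haveI := irrFintype G
  have hJ1 : J ≠ 1 := fun e => by
    have h2 := T.two
    rw [e, orderOf_one] at h2
    norm_num at h2
  set C := Subgroup.centralizer ({J} : Set G) with hC
  obtain ⟨S, K, hKn, hKodd, hKidx, hSP, hKS⟩ :
      ∃ (S : Sylow 2 C) (K : Subgroup C), K.Normal ∧ ¬ 2 ∣ Nat.card K ∧ K.index = 4 ∧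
        (S : Subgroup C) = (P : Subgroup G).subgroupOf C ∧ K.IsComplement' (S : Subgroup C) :=
    T.setup.exists_complement T.mem hJ1
  haveI : K.Normal := hKn
  haveI := Fintype.ofFinite (Subgroup.centralizer ({J} : Set G))
  haveI := Fintype.ofFinite K
  set F : G → ℂ := ∑ χ : IrrCharacter G, fsInd (χ : G → ℂ) • (χ : G → ℂ) with hF
  have hFcl : IsClassFunction G F :=
    isClassFunction_sum _ fun χ _ => isClassFunction_smul _ (isClassFunction_irr χ)
  have hFz : ∀ k : K, F (J * ((k : Subgroup.centralizer ({J} : Set G)) : G)) = 0 := by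
    intro k
    rw [show F (J * ((k : Subgroup.centralizer ({J} : Set G)) : G)) =
      (Nat.card {u : G // u * u = J * ((k : Subgroup.centralizer ({J} : Set G)) : G)} : ℂ) by
        rw [card_sqrt_eq, hF, Finset.sum_apply]; rfl, Nat.cast_eq_zero]
    haveI : IsEmpty {u : G // u * u = J * ((k : Subgroup.centralizer ({J} : Set G)) : G)} := by
      refine ⟨fun ⟨u, hu⟩ => ?_⟩
      have hJsq : J * J = 1 := by
        rw [← sq]
        exact orderOf_dvd_iff_pow_eq_one.mp T.two.dvd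
      have hpow : (u * u) ^ Nat.card K = J := by
        have hcm : Commute J ((k : Subgroup.centralizer ({J} : Set G)) : G) :=
          (Subgroup.mem_centralizer_singleton_iff.mp (k : Subgroup.centralizer ({J} : Set G)).2).symm
        obtain ⟨j, hj⟩ := Nat.odd_iff.mpr (Nat.two_dvd_ne_zero.mp hKodd)
        have hk : ((k : Subgroup.centralizer ({J} : Set G)) : G) ^ Nat.card K = 1 := by
          rw [← Subgroup.coe_pow, ← Subgroup.coe_pow, pow_card_eq_one', Subgroup.coe_one,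
            Subgroup.coe_one]
        rw [hu, hcm.mul_pow, hk, mul_one, hj, pow_succ, pow_mul, sq, hJsq, one_pow, one_mul]
      have huC : u ∈ Subgroup.centralizer ({J} : Set G) := by
        rw [Subgroup.mem_centralizer_singleton_iff, ← hpow]
        exact (((Commute.refl u).mul_right (Commute.refl u)).pow_right _).eq
      -- squares lie in `K`
      set w : C := ⟨u, huC⟩
      have hJK : (⟨J, Subgroup.mem_centralizer_singleton_iff.mpr rfl⟩ : C) ∈ K := by
        obtain ⟨⟨a, b⟩, hab⟩ := hKS.2 w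
        have hbP : ((b : C) : G) ∈ (P : Subgroup G) := by
          have : (b : C) ∈ (P : Subgroup G).subgroupOf C := hSP ▸ b.2
          exact this
        have hbb : (b : C) * (b : C) = 1 := Subtype.ext
          (congrArg Subtype.val (T.setup.mul_self T.mem T.two ⟨_, hbP⟩) :)
        have h1 : (w : C ⧸ K) = ((b : C) : C ⧸ K) := by
          rw [← hab, QuotientGroup.mk_mul, (QuotientGroup.eq_one_iff (a : C)).mpr a.2, one_mul]
        have h2 : w * w ∈ K := by
          rw [← QuotientGroup.eq_one_iff, QuotientGroup.mk_mul, h1, ← QuotientGroup.mk_mul, hbb,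
            QuotientGroup.mk_one]
        have h3 : (⟨J, Subgroup.mem_centralizer_singleton_iff.mpr rfl⟩ : C) = w * w * (k : C)⁻¹ :=
          Subtype.ext (by
            show J = u * u * ((k : C) : G)⁻¹
            rw [hu, mul_inv_cancel_right])
        rw [h3]
        exact mul_mem h2 (inv_mem k.2)
      have hd := Subgroup.orderOf_dvd_natCard K hJK
      rw [Subgroup.orderOf_mk, T.two] at hd
      exact hKodd hd
    exact Nat.card_of_isEmpty
  have h1o : ¬ 2 ∣ orderOf (1 : Subgroup.centralizer ({J} : Set G)) := by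
    rw [orderOf_one]; norm_num
  have hbp := blockPart_principalBlock_centralizer hM hFcl ⟨1, by rw [T.two, pow_one]⟩ h1o
  have hk4 : K.index = 2 ^ 2 := hKidx.trans (by norm_num)
  rw [Subgroup.coe_one, mul_one, blockPart_apply_eq_sum,
    blockPart_principal_one_of_complement hM.2.2 hKodd hk4
      (isClassFunction_mul_left (z := J) hFcl), Finset.sum_eq_zero (s := (Finset.univ : Finset K))
      (fun k _ => hFz k), mul_zero] at hbp
  have hc : ∀ χ : IrrCharacter G, classInner F (χ : G → ℂ) = fsInd (χ : G → ℂ) := fun χ => by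
    rw [hF, Chars.inner_sum_left]
    simp [Chars.inner_smul_left, inner_irr]
  have h := T.sum_block fun χ => fsInd (χ : G → ℂ) * (χ : G → ℂ) J
  rw [finsum_mem_eq_sum_of_inter_support_eq
    (t := Finset.univ.filter (· ∈ principalBlock M G)) _ (by ext; simp)] at h
  simp only [hc] at hbp
  rw [hbp, principal_apply, mul_one, T.val₁, T.val₂, T.val₃] at h
  have e : fsInd ((principal G : IrrCharacter G) : G → ℂ) = 1 := by
    rw [show ((principal G : IrrCharacter G) : G → ℂ) = fun _ => 1 from funext fun g => principal_apply g]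
    exact fsInd_one
  rw [e] at h
  exact h.symm

/-- When `ε₁ = ε₂ = 1` and `ε₃ = -1`, the characters `χ₁`, `χ₂` have the same degree. -/
theorem degree_eq (hM : IsPModular 2 M) (h1 : T.ε₁ = 1) (h2 : T.ε₂ = 1) (h3 : T.ε₃ = -1) :
    charDegree (T.χ₁ : G → ℂ) = charDegree (T.χ₂ : G → ℂ) := by
  classical
  set c : IrrCharacter G → IrrCharacter G := (galoisIrr (G := G) Complex.conjAe.toRingEquiv : IrrCharacter G → IrrCharacter G) with hc
  have hcv : ∀ χ g, (c χ : G → ℂ) g = conj ((χ : G → ℂ) g) := fun χ g => galoisIrr_apply _ χ g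
  have hinj : Function.Injective c := (galoisIrr (G := G) _).injective
  have hc1 : c (principal G) = principal G :=
    Subtype.ext (funext fun g => by rw [hcv, principal_apply, map_one])
  have hmem : ∀ χ, χ ∈ principalBlock M G → χ ≠ principal G →
      c χ = T.χ₁ ∨ c χ = T.χ₂ ∨ c χ = T.χ₃ := by
    intro χ hχ hne
    have hm := (galoisIrr_mem_principalBlock (p := 2) hM.2.2 Complex.conjAe.toRingEquiv χ).mpr hχ
    rcases (T.block _).mp hm with e | e | e | e
    · exact absurd (hinj (e.trans hc1.symm)) hne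
    · exact Or.inl e
    · exact Or.inr (Or.inl e)
    · exact Or.inr (Or.inr e)
  have hval : ∀ χ, (c χ : G → ℂ) J = conj ((χ : G → ℂ) J) := fun χ => hcv χ J
  have h31 : ((-1 : ℤ) : ℂ) ≠ ((1 : ℤ) : ℂ) := by norm_num
  have hreal3 : c T.χ₃ = T.χ₃ := by
    rcases hmem _ ((T.block _).mpr (Or.inr (Or.inr (Or.inr rfl)))) T.ne₃ with e | e | e
    · have := hval T.χ₃
      rw [e, T.val₁, T.val₃, map_intCast, h1, h3] at this
      exact absurd this.symm h31
    · have := hval T.χ₃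
      rw [e, T.val₂, T.val₃, map_intCast, h2, h3] at this
      exact absurd this.symm h31
    · exact e
  rcases hmem _ ((T.block _).mpr (Or.inr (Or.inl rfl))) T.ne₁ with e | e | e
  · -- both real: impossible
    exfalso
    have hreal2 : c T.χ₂ = T.χ₂ := by
      rcases hmem _ ((T.block _).mpr (Or.inr (Or.inr (Or.inl rfl)))) T.ne₂ with e' | e' | e'
      · exact absurd (hinj (e'.trans e.symm)) T.ne₁₂.symm
      · exact e'
      · exact absurd (hinj (e'.trans hreal3.symm)) T.ne₂₃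
    have hind : ∀ (χ : IrrCharacter G) (ε : ℤ), (ε = 1 ∨ ε = -1) → (χ : G → ℂ) J = ε → c χ = χ →
        fsInd (χ : G → ℂ) = 1 := by
      intro χ ε hε hv hr
      refine fsInd_eq_one_of_odd χ (fun g => by rw [← hcv, hr]) fun k hk => ?_
      obtain ⟨m, hm⟩ := T.degree_mod χ hv
      rw [deg_eq, Nat.cast_inj] at hk
      rw [Nat.odd_iff]
      rcases hε with rfl | rfl <;> omega
    have hs := T.indicator_sum hM
    rw [hind _ _ T.pm₁ T.val₁ e, hind _ _ T.pm₂ T.val₂ hreal2, hind _ _ T.pm₃ T.val₃ hreal3,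
      h1, h2, h3] at hs
    norm_num at hs
  · have := hcv T.χ₁ 1
    rw [e, deg_eq, deg_eq, map_natCast, Nat.cast_inj] at this
    exact this.symm
  · have := hval T.χ₁
    rw [e, T.val₁, T.val₃, map_intCast, h1, h3] at this
    exact absurd this h31

/-- The second form of the order formula. -/
theorem order_q (hM : IsPModular 2 M) (hprod : T.ε₁ * T.ε₂ * T.ε₃ = -1) (h3 : T.ε₃ = -1) :
    ∃ m : ℕ, 4 * Nat.card (Subgroup.centralizer ({J} : Set G)) =
        m * Nat.card (Subgroup.centralizer ((P : Subgroup G) : Set G)) *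
          (charDegree (T.χ₃ : G → ℂ) + 1) ∧
      8 * Nat.card G = m ^ 3 * Nat.card (Subgroup.centralizer ((P : Subgroup G) : Set G)) *
        (charDegree (T.χ₃ : G → ℂ) ^ 3 - charDegree (T.χ₃ : G → ℂ)) := by
  set x₁ := charDegree (T.χ₁ : G → ℂ) with hx₁
  set x₂ := charDegree (T.χ₂ : G → ℂ) with hx₂
  set q := charDegree (T.χ₃ : G → ℂ) with hq
  have p1 : 0 < x₁ := deg_pos _
  have p2 : 0 < x₂ := deg_pos _
  have p3 : 0 < q := deg_pos _
  have ho := T.orth hM
  rw [← hx₁, ← hx₂, ← hq] at ho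
  have hε : T.ε₁ = 1 ∧ T.ε₂ = 1 := by
    rcases T.pm₁ with a1 | a1 <;> rcases T.pm₂ with a2 | a2 <;>
      rw [a1, a2, h3] at hprod ho <;> norm_num at hprod
    · exact ⟨a1, a2⟩
    · omega
  rw [hε.1, hε.2, h3] at ho
  have heq : x₁ = x₂ := T.degree_eq hM hε.1 hε.2 h3
  have hq2 : q = 2 * x₁ + 1 := by omega
  obtain ⟨s, hs0, hs, hord⟩ := T.order_identity hM
  rw [← hx₁, ← hx₂, ← hq, hε.1, hε.2, h3, ← heq] at hord
  -- `x₁` divides the class size of `J`
  set cJ := Nat.card (Subgroup.centralizer ({J} : Set G)) with hcJ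
  have hidx := (Subgroup.centralizer ({J} : Set G)).index_mul_card
  rw [← hcJ] at hidx
  obtain ⟨j, hj⟩ : (x₁ : ℤ) ∣ ((Subgroup.centralizer ({J} : Set G)).index : ℤ) := by
    have hint := CfsgLib.Blocks.isIntegral_centralChar T.χ₁ J
    rw [centralChar, T.val₁, hε.1, Int.cast_one, mul_one, deg_eq, ← hx₁] at hint
    obtain ⟨j, hj⟩ := exists_int_of_rat hint
      ⟨((Subgroup.centralizer ({J} : Set G)).index : ℚ) / (x₁ : ℚ), by push_cast; rfl⟩
    refine ⟨j, ?_⟩
    apply Int.cast_injective (α := ℂ)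
    push_cast
    rw [hj, mul_div_cancel₀ _ (Nat.cast_ne_zero.mpr p1.ne')]
  have hcard : (Nat.card G : ℤ) = (x₁ : ℤ) * j * cJ := by rw [← hj]; exact_mod_cast hidx.symm
  have hkey : j * ((x₁ : ℤ) + 1) ^ 2 * 2 = 8 * (s : ℤ) ^ 2 * q := by
    have hne : (x₁ : ℤ) * cJ * x₁ ≠ 0 := by
      have : (0 : ℤ) < x₁ := by exact_mod_cast p1
      have : (0 : ℤ) < cJ := by exact_mod_cast (Nat.card_pos : 0 < cJ)
      positivity
    refine mul_left_cancel₀ hne ?_
    rw [hcard] at hord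
    have e : ((q : ℤ) + -1) = 2 * x₁ := by omega
    rw [e] at hord
    linear_combination hord
  have hdvd : ((x₁ + 1) ^ 2 : ℕ) ∣ 4 * s ^ 2 := by
    have hd : ((x₁ : ℤ) + 1) ^ 2 ∣ 4 * (s : ℤ) ^ 2 * q := ⟨j, by linarith⟩
    have hd' : (x₁ + 1) ^ 2 ∣ 4 * s ^ 2 * q := by exact_mod_cast hd
    refine (Nat.Coprime.pow_left 2 ?_).dvd_of_dvd_mul_right hd'
    rw [hq2, show 2 * x₁ + 1 = x₁ + (x₁ + 1) by omega, Nat.coprime_add_self_right]
    simp
  have hdvd2 : x₁ + 1 ∣ 2 * s := (Nat.pow_dvd_pow_iff two_ne_zero).mp (by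
    rw [mul_pow]; exact hdvd)
  obtain ⟨m, hm⟩ := hdvd2
  refine ⟨m, ?_, ?_⟩
  · rw [← hs, hq2]
    calc 4 * (s * _) = 2 * (2 * s) * Nat.card (Subgroup.centralizer ((P : Subgroup G) : Set G)) := by
          ring
      _ = _ := by rw [hm]; ring
  · have hle : q ≤ q ^ 3 := Nat.le_self_pow (by norm_num) q
    apply Nat.cast_injective (R := ℤ)
    push_cast [Nat.cast_sub hle]
    have hm' : 2 * (s : ℤ) = ((x₁ : ℤ) + 1) * m := by exact_mod_cast hm
    have hs' : (cJ : ℤ) = s * (Nat.card (Subgroup.centralizer ((P : Subgroup G) : Set G)) : ℤ) := by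
      exact_mod_cast hs.symm
    have hq' : (q : ℤ) = 2 * x₁ + 1 := by omega
    refine mul_left_cancel₀ (show ((x₁ : ℤ) + 1) ^ 2 ≠ 0 by positivity) ?_
    rw [hcard, hs', hq']
    rw [hq'] at hkey
    set cP := (Nat.card (Subgroup.centralizer ((P : Subgroup G) : Set G)) : ℤ)
    linear_combination (4 * (x₁ : ℤ) * s * cP) * hkey +
      (4 * (x₁ : ℤ) * cP * (2 * x₁ + 1) * ((2 * s) ^ 2 + 2 * s * ((x₁ + 1) * m) + ((x₁ + 1) * m) ^ 2)) * hm'

end KleinBlock

omit [Fintype G] in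
/-- The setting of the order formula. -/
theorem kleinSetup_of_card [Finite G] [Fact (Nat.Prime 2)] {g₀ : ℕ} (hg₀ : Odd g₀)
    (hG : Nat.card G = 4 * g₀) (hnc : ¬ ∃ N : Subgroup G, N.Normal ∧ Nat.card N = g₀)
    (P : Sylow 2 G) : KleinSetup P := by
  refine ⟨?_, fun N hN hidx => hnc ⟨N, hN, ?_⟩⟩
  · rw [P.card_eq_multiplicity, hG, Nat.factorization_mul (by norm_num) hg₀.pos.ne',
      show (4 : ℕ) = 2 ^ 2 by norm_num, Nat.Prime.factorization_pow Nat.prime_two]
    rw [Finsupp.add_apply, Finsupp.single_eq_same,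
      Nat.factorization_eq_zero_of_not_dvd (Nat.two_dvd_ne_zero.mpr (Nat.odd_iff.mp hg₀))]
  · have h := N.index_mul_card
    rw [hidx, hG] at h
    exact Nat.eq_of_mul_eq_mul_left (by norm_num) h

/-- The block data from the hypotheses of the statements. -/
def KleinBlock.ofSetEq {M : Ideal AlgInt} {P : Sylow 2 G} {J : G} (h : KleinSetup P)
    (hJ : J ∈ (P : Subgroup G)) (hJ2 : orderOf J = 2) {χ₁ χ₂ χ₃ : IrrCharacter G} {ε₁ ε₂ ε₃ : ℤ}
    (hB : principalBlock M G =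
      {χ : IrrCharacter G | (χ : G → ℂ) = (fun _ => 1) ∨ χ = χ₁ ∨ χ = χ₂ ∨ χ = χ₃})
    (hdist : (χ₁ : G → ℂ) ≠ (fun _ => 1) ∧ (χ₂ : G → ℂ) ≠ (fun _ => 1) ∧
      (χ₃ : G → ℂ) ≠ (fun _ => 1) ∧ χ₁ ≠ χ₂ ∧ χ₁ ≠ χ₃ ∧ χ₂ ≠ χ₃)
    (hε : (ε₁ = 1 ∨ ε₁ = -1) ∧ (ε₂ = 1 ∨ ε₂ = -1) ∧ (ε₃ = 1 ∨ ε₃ = -1))
    (hval : (χ₁ : G → ℂ) J = ε₁ ∧ (χ₂ : G → ℂ) J = ε₂ ∧ (χ₃ : G → ℂ) J = ε₃) :
    KleinBlock M P J where
  χ₁ := χ₁
  χ₂ := χ₂
  χ₃ := χ₃
  ε₁ := ε₁
  ε₂ := ε₂
  ε₃ := ε₃
  setup := h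
  mem := hJ
  two := hJ2
  block χ := by
    rw [hB, Set.mem_ofPred_eq]
    exact or_congr ⟨fun e => Subtype.ext e, fun e => congrArg Subtype.val e⟩ Iff.rfl
  ne₁ e := hdist.1 (congrArg Subtype.val e)
  ne₂ e := hdist.2.1 (congrArg Subtype.val e)
  ne₃ e := hdist.2.2.1 (congrArg Subtype.val e)
  ne₁₂ := hdist.2.2.2.1
  ne₁₃ := hdist.2.2.2.2.1
  ne₂₃ := hdist.2.2.2.2.2
  pm₁ := hε.1
  pm₂ := hε.2.1
  pm₃ := hε.2.2
  val₁ := hval.1
  val₂ := hval.2.1
  val₃ := hval.2.2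

end CfsgLib.CharApps
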