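import Cfsg.Agent.Lib.BlockOrth.ClassDefect
import Cfsg.Agent.Lib.BlockOrth.Dimension
import Cfsg.Agent.Lib.Blocks.NormalBlocks
import Cfsg.Agent.Lib.Blocks.Correspondence

/-!
# Counting the blocks with a given normal defect group as the rank of a matrix
-/

set_option autoImplicit false
set_option linter.style.haveILetI false
set_option linter.unusedSectionVars false

namespace CfsgLib.CharApps

open Cfsg CfsgLib.Chars CfsgLib.Blocks CfsgLib.BlockOrth Matrix Finset
open scoped ComplexConjugate

universe u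

/-- The rank of a square matrix does not change under extension of the field. -/
theorem rank_map_field {F K m : Type*} [Field F] [Field K] [Fintype m] [DecidableEq m]
    (f : F →+* K) (A : Matrix m m F) : (A.map f).rank = A.rank := by
  classical
  obtain ⟨V, U, e, hV, hU, h⟩ := A.exists_rank_normal_form
  have h' := congrArg f.mapMatrix h
  rw [map_mul, map_mul] at h'
  have hV' := (Matrix.isUnit_iff_isUnit_det _).mp (hV.map f.mapMatrix)
  have hU' := (Matrix.isUnit_iff_isUnit_det _).mp (hU.map f.mapMatrix)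
  rw [← RingHom.mapMatrix_apply, ← rank_mul_eq_right_of_isUnit_det _ _ hV',
    ← rank_mul_eq_left_of_isUnit_det _ _ hU', h', RingHom.mapMatrix_apply,
    ← Matrix.submatrix_map, Matrix.rank_submatrix, Matrix.fromBlocks_map]
  simp only [Matrix.map_one f (map_zero f) (map_one f), Matrix.map_zero f (map_zero f)]
  rw [← diagonal_one, ← diagonal_zero, fromBlocks_diagonal, rank_diagonal]
  refine (Fintype.card_congr (Equiv.ofBijective
    (fun k => (⟨Sum.inl k, one_ne_zero⟩ : {i // Sum.elim (fun _ : Fin A.rank => (1 : K))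
      (fun _ : Fin (Fintype.card m - A.rank) => 0) i ≠ 0})) ⟨fun k l e => ?_, ?_⟩)).symm.trans
    (Fintype.card_fin _)
  · exact Sum.inl_injective (congrArg Subtype.val e)
  · rintro ⟨k | k, hk⟩
    · exact ⟨k, rfl⟩
    · exact absurd rfl hk

variable {G : Type u} [Group G] [Fintype G] {p : ℕ} [Fact p.Prime] {M : Ideal AlgInt} [M.IsPrime]

theorem red_eq_of_sub_mem {x y : loc M} (h : MemLocalIdeal M ((x : ℂ) - (y : ℂ))) :
    red x = red y := by
  rw [← sub_eq_zero, ← map_sub, red_eq_zero_iff]
  push_cast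
  exact h

omit [Fintype G] in
theorem centralizer_singleton_inv (g : G) :
    Subgroup.centralizer ({g⁻¹} : Set G) = Subgroup.centralizer ({g} : Set G) := by
  ext c
  simp only [Subgroup.mem_centralizer_singleton_iff]
  exact (Commute.inv_right_iff (a := c) (b := g))

theorem card_centralizer_of_isConj {g h : G} (hc : IsConj g h) :
    Nat.card (Subgroup.centralizer ({g} : Set G)) =
      Nat.card (Subgroup.centralizer ({h} : Set G)) := by
  have hn : (Subgroup.centralizer ({g} : Set G)).index =
      (Subgroup.centralizer ({h} : Set G)).index := by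
    rw [index_centralizer_eq, index_centralizer_eq]
    exact Nat.card_congr (Equiv.subtypeEquivRight fun x =>
      ⟨fun h' => hc.symm.trans h', fun h' => hc.trans h'⟩)
  have e1 := (Subgroup.centralizer ({g} : Set G)).card_mul_index
  have e2 := (Subgroup.centralizer ({h} : Set G)).card_mul_index
  rw [hn, ← e2] at e1
  exact Nat.eq_of_mul_eq_mul_right (Nat.pos_of_ne_zero Subgroup.index_ne_zero_of_finite) e1

/-- The number of pairs from two classes with quotient in a subgroup, by characters. -/
theorem card_pairs_eq_sum [Fintype (IrrCharacter G)] (H : Subgroup G) [Fintype H] (g h : G) :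
    (Nat.card {yz : G × G // IsConj g yz.1 ∧ IsConj h yz.2 ∧ yz.2 * yz.1⁻¹ ∈ H} : ℂ) =
      ∑ χ : IrrCharacter G, centralChar (χ : G → ℂ) g⁻¹ * centralChar (χ : G → ℂ) h *
        ((Nat.card G : ℂ)⁻¹ * ((χ : G → ℂ) 1 * ∑ s : H, conj ((χ : G → ℂ) s))) := by
  classical
  have e : {yz : G × G // IsConj g yz.1 ∧ IsConj h yz.2 ∧ yz.2 * yz.1⁻¹ ∈ H} ≃
      Σ s : H, {y : G // IsConj g y ∧ IsConj h ((s : G) * y)} :=
    { toFun := fun yz => ⟨⟨yz.1.2 * yz.1.1⁻¹, yz.2.2.2⟩,
        ⟨yz.1.1, yz.2.1, by simpa using yz.2.2.1⟩⟩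
      invFun := fun sy => ⟨(sy.2.1, (sy.1 : G) * sy.2.1), sy.2.2.1, sy.2.2.2, by simp⟩
      left_inv := fun ⟨⟨y, z⟩, hh⟩ => by simp
      right_inv := fun ⟨⟨s, hs⟩, ⟨y, hy⟩⟩ =>
        Sigma.subtype_ext (Subtype.ext (mul_inv_cancel_right s y)) rfl }
  have hs : ∀ s : H, (Nat.card {y : G // IsConj g y ∧ IsConj h ((s : G) * y)} : ℂ) =
      ∑ χ : IrrCharacter G, centralChar (χ : G → ℂ) g⁻¹ * centralChar (χ : G → ℂ) h *
        ((Nat.card G : ℂ)⁻¹ * ((χ : G → ℂ) 1 * conj ((χ : G → ℂ) s))) := by
    intro s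
    have h1 : (Nat.card {y : G // IsConj g y ∧ IsConj h ((s : G) * y)} : ℂ) =
        conv (classInd g⁻¹) (classInd h) s := by
      rw [conv, Nat.card_eq_fintype_card, Fintype.card_subtype, Finset.card_filter, Nat.cast_sum,
        ← Equiv.sum_comp (Equiv.inv G) (fun y => classInd g⁻¹ y * classInd h (y⁻¹ * (s : G)))]
      refine Finset.sum_congr rfl fun y _ => ?_
      rw [Equiv.inv_apply, inv_inv, classFun_mul_comm (isClassFunction_classInd h) y]
      have hi : IsConj g⁻¹ y⁻¹ ↔ IsConj g y := by
        simp only [isConj_iff]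
        exact exists_congr fun c => by rw [← conj_inv, _root_.inv_inj]
      simp only [classInd_apply, hi]
      by_cases a : IsConj g y <;> by_cases b : IsConj h ((s : G) * y) <;>
        simp only [a, b, and_self, and_false, false_and, and_true, true_and, if_true, if_false,
          mul_one, mul_zero, Nat.cast_one, Nat.cast_zero]
    rw [h1, classFun_eq_sum_omega
      (isClassFunction_conv (isClassFunction_classInd _) (isClassFunction_classInd _))]
    refine Finset.sum_congr rfl fun χ _ => ?_
    rw [omega_conv χ (isClassFunction_classInd _), omega_classInd, omega_classInd]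
    rfl
  rw [Nat.card_congr e, Nat.card_sigma, Nat.cast_sum, Finset.sum_congr rfl fun s _ => hs s,
    Finset.sum_comm]
  exact Finset.sum_congr rfl fun χ _ => by simp only [Finset.mul_sum]

variable {D : Subgroup G} [D.Normal]

omit [Fintype G] in
theorem mem_centralizer_of_isConj {g h : G} (hg : g ∈ Subgroup.centralizer (D : Set G))
    (hc : IsConj g h) : h ∈ Subgroup.centralizer (D : Set G) := by
  obtain ⟨c, rfl⟩ := isConj_iff.mp hc
  exact (inferInstance : (Subgroup.centralizer (D : Set G)).Normal).conj_mem g hg c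

theorem blockDefect_of_isDefectGroup (hpM : (p : AlgInt) ∈ M) {B : Set (IrrCharacter G)}
    (hB : IsPBlock M B) (hBD : IsDefectGroup p M B D) :
    blockDefect p B = (Nat.card D).factorization p := by
  rw [card_defectGroup hpM hB hBD, Nat.Prime.factorization_pow Fact.out, Finsupp.single_eq_same]

/-- Classes of defect group `D` are killed by blocks of other defect groups. -/
theorem centralChar_mem_of_not_defectGroup (hpM : (p : AlgInt) ∈ M) (hD : IsPGroup p D)
    {χ : IrrCharacter G} (hχ : ¬ IsDefectGroup p M (blockOf M (χ : G → ℂ)) D) {g : G}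
    (hg : (Nat.card (Subgroup.centralizer ({g} : Set G))).factorization p =
      (Nat.card D).factorization p) :
    MemLocalIdeal M (centralChar (χ : G → ℂ) g) := by
  by_contra hne
  have hB := isPBlock_blockOf (M := M) χ
  obtain ⟨E, hE⟩ := exists_isDefectGroup (p := p) hB
  have hDE := IsDefectGroup.normal_le hpM hB hE hD
  obtain ⟨g', hgg', hg'⟩ := IsDefectGroup.exists_conj_mem_centralizer hpM hB hE (mem_blockOf_self χ) hne
  have hEC := le_centralizer_singleton hg'
  obtain ⟨i, hi⟩ := (IsDefectGroup.isPGroup hE).exists_card_eq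
  obtain ⟨j, hj⟩ := hD.exists_card_eq
  have hd : p ^ i ∣ Nat.card (Subgroup.centralizer ({g} : Set G)) := by
    rw [← hi, card_centralizer_of_isConj hgg']
    exact Subgroup.card_dvd_of_le hEC
  rw [(Fact.out : p.Prime).pow_dvd_iff_le_factorization Nat.card_pos.ne', hg, hj,
    Nat.Prime.factorization_pow Fact.out, Finsupp.single_eq_same] at hd
  have := Subgroup.eq_of_le_of_card_ge hDE
    (by rw [hi, hj]; exact Nat.pow_le_pow_right (Fact.out : p.Prime).pos hd)
  exact hχ (this ▸ hE)

/-- The classes with defect group `D`. -/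
theorem class_iff {ι : Type*} {K : ι → ConjClasses G}
    (hK : ∀ C : ConjClasses G, (∃ i, K i = C) ↔ ∃ x ∈ C.carrier, ¬ p ∣ orderOf x ∧
      ∃ Q : Sylow p (Subgroup.centralizer ({x} : Set G)),
        (Q : Subgroup (Subgroup.centralizer ({x} : Set G))).map
          (Subgroup.centralizer ({x} : Set G)).subtype = D)
    (hD : IsPGroup p D) (C : ConjClasses G) :
    (∃ i, K i = C) ↔ IsRegClass p ((Nat.card D).factorization p) C ∧
      classRep C ∈ Subgroup.centralizer (D : Set G) := by
  rw [hK C]
  constructor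
  · rintro ⟨x, hx, hreg, Q, hQ⟩
    have hxm := ConjClasses.mem_carrier_iff_mk_eq.mp hx
    have hxD : x ∈ Subgroup.centralizer (D : Set G) := hQ ▸ mem_centralizer_sylow x Q
    refine ⟨⟨x, hxm, hreg, ?_⟩, mem_centralizer_of_isConj hxD
      (ConjClasses.mk_eq_mk_iff_isConj.mp (hxm.trans (mk_classRep C).symm))⟩
    have h1 : Nat.card D = p ^ (Nat.card (Subgroup.centralizer ({x} : Set G))).factorization p := by
      rw [← Q.card_eq_multiplicity, ← hQ]
      exact (Nat.card_congr (Subgroup.equivMapOfInjective _ _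
        (Subgroup.centralizer ({x} : Set G)).subtype_injective).toEquiv).symm
    rw [h1, Nat.Prime.factorization_pow Fact.out, Finsupp.single_eq_same]
  · rintro ⟨hC, hCD⟩
    obtain ⟨hreg, hfac⟩ := isRegClass_rep hC
    have hle : D ≤ Subgroup.centralizer ({classRep C} : Set G) := le_centralizer_singleton hCD
    obtain ⟨j, hj⟩ := hD.exists_card_eq
    refine ⟨classRep C, ConjClasses.mem_carrier_iff_mk_eq.mpr (mk_classRep C), hreg,
      Sylow.ofCard (D.subgroupOf _) ?_, ?_⟩
    · rw [hfac, Nat.card_congr (Subgroup.subgroupOfEquivOfLe hle).toEquiv, hj,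
        Nat.Prime.factorization_pow Fact.out, Finsupp.single_eq_same]
    · rw [Sylow.coe_ofCard, Subgroup.map_subgroupOf_eq_of_le hle]

theorem rank_eq_of_factor {F : Type*} [Field F] {m n : Type*} [Fintype m] [DecidableEq m]
    [Fintype n] [DecidableEq n] {c : n → F} (hc : ∀ b, c b ≠ 0) {L L' : Matrix n m F}
    {E E' : Matrix m n F} (hE : L * E = 1) (hE' : L' * E' = 1) :
    (L'ᵀ * diagonal c * L).rank = Fintype.card n := by
  refine le_antisymm (((rank_mul_le_left _ _).trans (rank_mul_le_right _ _)).trans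
    (rank_le_card_width _)) ?_
  have h : E'ᵀ * (L'ᵀ * diagonal c * L) * E = diagonal c := by
    calc E'ᵀ * (L'ᵀ * diagonal c * L) * E = (E'ᵀ * L'ᵀ) * diagonal c * (L * E) := by
          simp only [Matrix.mul_assoc]
      _ = diagonal c := by rw [hE, ← transpose_mul, hE', transpose_one, one_mul, mul_one]
  have h2 := (rank_mul_le_left (E'ᵀ * (L'ᵀ * diagonal c * L)) E).trans
    (rank_mul_le_right E'ᵀ (L'ᵀ * diagonal c * L))
  rw [h] at h2
  refine le_trans (le_of_eq ?_) h2
  classical
  rw [rank_diagonal, Fintype.card_congr (Equiv.subtypeUnivEquiv hc)]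

/-- **Counting blocks with normal defect group `D` by the rank of the class matrix.** -/
theorem card_blocks_normal_defect (hpM : (p : AlgInt) ∈ M) (hD : IsPGroup p D) (S : Sylow p G)
    {ι : Type*} [Fintype ι] [DecidableEq ι] (K : ι → ConjClasses G) (hKinj : Function.Injective K)
    (hK : ∀ C : ConjClasses G, (∃ i, K i = C) ↔ ∃ x ∈ C.carrier, ¬ p ∣ orderOf x ∧
      ∃ Q : Sylow p (Subgroup.centralizer ({x} : Set G)),
        (Q : Subgroup (Subgroup.centralizer ({x} : Set G))).map
          (Subgroup.centralizer ({x} : Set G)).subtype = D) :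
    Nat.card {B : Set (IrrCharacter G) // IsPBlock M B ∧ IsDefectGroup p M B D} =
      (Matrix.of fun i j : ι => ((Nat.card {yz : G × G // yz.1 ∈ (K i).carrier ∧
        yz.2 ∈ (K j).carrier ∧ yz.2 * yz.1⁻¹ ∈ (S : Subgroup G)} /
          p ^ ((Nat.card G).factorization p - (Nat.card D).factorization p) : ℕ) : ZMod p)).rank := by
  classical
  haveI := irrFintype G
  haveI := Fintype.ofFinite (ConjClasses G)
  haveI := Fintype.ofFinite (S : Subgroup G)
  set a := (Nat.card G).factorization p with ha
  set d := (Nat.card D).factorization p with hd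
  set ℬ := {B : Set (IrrCharacter G) // IsPBlock M B ∧ IsDefectGroup p M B D}
  haveI : Fintype ℬ := Fintype.ofFinite _
  have hp : p.Prime := Fact.out
  haveI := charP_resField (M := M) hp hpM
  choose rep hrep using fun B : ℬ => IsPBlock.nonempty B.2.1
  set x : ι → G := fun i => classRep (K i) with hxdef
  have hKm : ∀ i, IsRegClass p d (K i) ∧ x i ∈ Subgroup.centralizer (D : Set G) :=
    fun i => (class_iff hK hD (K i)).mp ⟨i, rfl⟩
  have hx : ∀ i, ¬ p ∣ orderOf (x i) ∧
      (Nat.card (Subgroup.centralizer ({x i} : Set G))).factorization p = d :=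
    fun i => isRegClass_rep (hKm i).1
  let L : Matrix ℬ ι (ResField M) := Matrix.of fun B i =>
    red (M := M) ⟨centralChar (rep B : G → ℂ) (x i), centralChar_mem_loc _ _⟩
  let E : Matrix ι ℬ (ResField M) := Matrix.of fun i B =>
    red (M := M) ⟨blockCoeff B.1 (x i), blockCoeff_mem_loc B.2.1 _⟩
  -- the idempotents separate the blocks
  have hLE : L * E = 1 := by
    ext B' B
    have hdef := fun B : ℬ => blockDefect_of_isDefectGroup hpM B.2.1 B.2.2
    have h := omega_blockCoeff_sub_sum_mem (σ := d) hpM B.2.1 B'.2.1 (hdef B) (hdef B') (hrep B')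
    have hiff : rep B' ∈ B.1 ↔ B = B' := ⟨fun hm => Subtype.ext
      (IsPBlock.eq_of_mem B.2.1 B'.2.1 hm (hrep B')), fun e => e ▸ hrep B'⟩
    rw [omega_blockCoeff] at h
    have hsub : MemLocalIdeal M
        (∑ C ∈ univ.filter (fun C : ConjClasses G => IsRegClass p d C),
          blockCoeff B.1 (classRep C) * centralChar (rep B' : G → ℂ) (classRep C) -
        ∑ i, blockCoeff B.1 (x i) * centralChar (rep B' : G → ℂ) (x i)) := by
      rw [← Finset.sum_image (f := fun C => blockCoeff B.1 (classRep C) *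
          centralChar (rep B' : G → ℂ) (classRep C)) (g := K) (fun i _ j _ e => hKinj e),
        ← Finset.sum_sdiff (s₁ := Finset.univ.image K)
          (s₂ := univ.filter (fun C : ConjClasses G => IsRegClass p d C)) (fun C hC => by
            obtain ⟨i, -, rfl⟩ := Finset.mem_image.mp hC
            exact Finset.mem_filter.mpr ⟨Finset.mem_univ _, (hKm i).1⟩), add_sub_cancel_right]
      refine MemLocalIdeal.sum' fun C hC => MemLocalIdeal.mul_left' (blockCoeff_mem_loc B.2.1 _) ?_
      obtain ⟨hC1, hC2⟩ := Finset.mem_sdiff.mp hC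
      refine centralChar_mem_of_not_meet hpM hD (fun y hy hyD => hC2 ?_) _
      obtain ⟨i, hi⟩ := (class_iff hK hD C).mpr
        ⟨(Finset.mem_filter.mp hC1).2, mem_centralizer_of_isConj hyD hy.symm⟩
      exact Finset.mem_image.mpr ⟨i, Finset.mem_univ _, hi⟩
    let t : loc M := ∑ i, (⟨centralChar (rep B' : G → ℂ) (x i), centralChar_mem_loc _ _⟩ : loc M) *
      ⟨blockCoeff B.1 (x i), blockCoeff_mem_loc B.2.1 _⟩
    have ht : red (M := M) t = (L * E) B' B := by
      simp only [t, map_sum, map_mul, Matrix.mul_apply, L, E, Matrix.of_apply]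
    rw [← ht, Matrix.one_apply, show (if B' = B then (1 : ResField M) else 0) =
      red (M := M) (if rep B' ∈ B.1 then 1 else 0) by
        by_cases e : B' = B
        · rw [if_pos e, if_pos (hiff.mpr e.symm), map_one]
        · rw [if_neg e, if_neg fun hh => e (hiff.mp hh).symm, map_zero]]
    refine (red_eq_of_sub_mem ?_).symm
    convert MemLocalIdeal.add' h hsub using 1
    simp only [t, apply_ite Subtype.val, OneMemClass.coe_one, ZeroMemClass.coe_zero,
      AddSubmonoidClass.coe_finset_sum, MulMemClass.coe_mul]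
    rw [Finset.sum_congr rfl fun i _ => mul_comm (centralChar (rep B' : G → ℂ) (x i)) _]
    ring
  -- inverse classes
  have hinv : ∀ i, ∃ j, K j = ConjClasses.mk (x i)⁻¹ := fun i => by
    refine (class_iff hK hD _).mpr ⟨⟨(x i)⁻¹, rfl, by rw [orderOf_inv]; exact (hx i).1, ?_⟩, ?_⟩
    · rw [centralizer_singleton_inv]
      exact (hx i).2
    · exact mem_centralizer_of_isConj (inv_mem (hKm i).2)
        (ConjClasses.mk_eq_mk_iff_isConj.mp (mk_classRep _).symm)
  choose σ hσ using hinv
  have hσx : ∀ i, IsConj (x (σ i)) (x i)⁻¹ := fun i =>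
    ConjClasses.mk_eq_mk_iff_isConj.mp ((mk_classRep _).trans (hσ i))
  have hσinj : Function.Injective σ := fun i j e => hKinj (by
    have h1 := (hσ i).symm.trans ((congrArg K e).trans (hσ j))
    obtain ⟨c, hc⟩ := isConj_iff.mp (ConjClasses.mk_eq_mk_iff_isConj.mp h1)
    rw [← conj_inv, _root_.inv_inj] at hc
    rw [← mk_classRep (K i), ← mk_classRep (K j)]
    exact ConjClasses.mk_eq_mk_iff_isConj.mpr (isConj_iff.mpr ⟨c, hc⟩))
  let σ' : ι ≃ ι := Equiv.ofBijective σ (Finite.injective_iff_bijective.mp hσinj)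
  have hLE' : L.submatrix id σ' * E.submatrix σ' id = 1 := by
    rw [Matrix.submatrix_mul_equiv, hLE, Matrix.submatrix_id_id]
  -- multiplicities and degrees
  have hm : ∀ χ : IrrCharacter G, ∃ m : ℕ,
      ∑ s : (S : Subgroup G), conj ((χ : G → ℂ) s) = ((p ^ a : ℕ) : ℂ) * m := by
    intro χ
    obtain ⟨m, hm⟩ := inner_irr_right_nat
      (isCharacter_restrict (S : Subgroup G) (isCharacter_of_irr χ.2)) (principal (S : Subgroup G))
    refine ⟨m, ?_⟩
    rw [inner_def] at hm
    simp only [principal_apply, map_one, mul_one] at hm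
    have h2 := congrArg conj hm
    rw [map_mul, map_inv₀, Complex.conj_natCast, Complex.conj_natCast, map_sum,
      inv_mul_eq_iff_eq_mul₀ (card_ne_zero _), S.card_eq_multiplicity] at h2
    exact h2
  choose m hm using hm
  set t : IrrCharacter G → ℕ := fun χ => charDegree (χ : G → ℂ) / p ^ (a - d) with htdef
  have ht : ∀ (B : ℬ) (χ : IrrCharacter G), χ ∈ B.1 →
      charDegree (χ : G → ℂ) = p ^ (a - d) * t χ := by
    intro B χ hχ
    refine (Nat.mul_div_cancel' ?_).symm
    rw [hp.pow_dvd_iff_le_factorization (irr_charDegree_ne_zero χ)]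
    have h1 := blockMin_le (p := p) hχ
    have h2 := blockMin_add_blockDefect (p := p) (IsPBlock.nonempty B.2.1)
    rw [blockDefect_of_isDefectGroup hpM B.2.1 B.2.2, ← ha, ← hd] at h2
    rw [degVal] at h1
    omega
  have hinvC : invCompl G p ∈ loc M := invCompl_mem_loc hpM
  -- the coefficient of a block
  let cN : ℬ → ℕ := fun B => ∑ χ ∈ univ.filter (· ∈ B.1), m χ * t χ
  have hcN : ∀ B : ℬ, ¬ p ∣ cN B := by
    intro B hdvd
    have h1 : p ^ (a + (a - d)) * cN B = ∑ᶠ χ ∈ B.1, charDegree (χ : G → ℂ) ^ 2 := by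
      apply Nat.cast_injective (R := ℂ)
      rw [finsum_mem_eq_sum_of_inter_support_eq (t := univ.filter (· ∈ B.1)) _ (by ext; simp)]
      have horth : ∑ χ ∈ univ.filter (· ∈ B.1),
          (χ : G → ℂ) 1 * ∑ s : (S : Subgroup G), conj ((χ : G → ℂ) s) =
          ∑ χ ∈ univ.filter (· ∈ B.1), (χ : G → ℂ) 1 ^ 2 := by
        simp only [Finset.mul_sum]
        rw [Finset.sum_comm, Finset.sum_eq_single (1 : (S : Subgroup G))]
        · refine Finset.sum_congr rfl fun χ _ => ?_
          rw [Subgroup.coe_one, irr_apply_one, Complex.conj_natCast, sq]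
        · intro s _ hs
          have hw := weak_orthogonality hp hpM B.2.1 (x := (1 : G)) (y := (s : G))
            (by simpa using hp.one_lt.ne') (by
              obtain ⟨k, hk⟩ := IsPGroup.iff_orderOf.mp S.isPGroup' s
              rw [Subgroup.orderOf_coe, hk]
              refine dvd_pow_self _ fun h0 => hs ?_
              rw [h0, pow_zero, orderOf_eq_one_iff] at hk
              exact hk)
          rw [finsum_mem_eq_sum_of_inter_support_eq (t := univ.filter (· ∈ B.1)) _ (by ext; simp)]
            at hw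
          exact hw
        · simp
      push_cast [cN, Finset.mul_sum]
      refine Eq.trans ?_ (horth.trans (Finset.sum_congr rfl fun χ _ => by rw [irr_apply_one]))
      refine Finset.sum_congr rfl fun χ hχ => ?_
      rw [hm, irr_apply_one, ht B χ (Finset.mem_filter.mp hχ).2, pow_add]
      push_cast
      ring
    have h2 := sum_degree_sq_factorization hpM B.2.1
    have h3 := blockMin_add_blockDefect (p := p) (IsPBlock.nonempty B.2.1)
    rw [blockDefect_of_isDefectGroup hpM B.2.1 B.2.2, ← hd, ← ha] at h3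
    obtain ⟨q, hq⟩ := hdvd
    rw [← h1, hq, ← mul_assoc, ← pow_succ, ← ha] at h2
    rcases Nat.eq_zero_or_pos q with rfl | hq0
    · rw [mul_zero] at hq
      obtain ⟨χ, hχ⟩ := IsPBlock.nonempty B.2.1
      have h0 : charDegree (χ : G → ℂ) ^ 2 ≤ ∑ᶠ χ ∈ B.1, charDegree (χ : G → ℂ) ^ 2 := by
        rw [finsum_mem_eq_sum_of_inter_support_eq (t := univ.filter (· ∈ B.1)) _ (by ext; simp)]
        exact Finset.single_le_sum (f := fun χ : IrrCharacter G => charDegree (χ : G → ℂ) ^ 2)
          (fun _ _ => Nat.zero_le _) (Finset.mem_filter.mpr ⟨Finset.mem_univ _, hχ⟩)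
      rw [← h1, hq, mul_zero, Nat.le_zero] at h0
      exact irr_charDegree_ne_zero χ (pow_eq_zero_iff two_ne_zero |>.mp h0)
    · rw [Nat.factorization_mul (pow_ne_zero _ hp.ne_zero) hq0.ne',
        Nat.Prime.factorization_pow hp, Finsupp.add_apply, Finsupp.single_eq_same] at h2
      omega
  let c : ℬ → ResField M := fun B =>
    red (M := M) ⟨invCompl G p * cN B, mul_mem hinvC (natCast_mem_loc _)⟩
  have hc : ∀ B, c B ≠ 0 := fun B h0 => by
    have hz : red (M := M) ⟨invCompl G p, hinvC⟩ ≠ 0 :=
      fun hh => not_memLocalIdeal_invCompl hpM (red_eq_zero_iff.mp hh)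
    rw [show c B = red (M := M) ⟨invCompl G p, hinvC⟩ * (cN B : ResField M) by
      rw [← map_natCast (red (M := M)) (cN B), ← map_mul]
      exact congrArg _ (Subtype.ext (by simp))] at h0
    exact hcN B ((CharP.cast_eq_zero_iff (ResField M) p _).mp
      ((mul_eq_zero.mp h0).resolve_left hz))
  -- the matrix modulo the ideal
  let f : ZMod p →+* ResField M := ZMod.castHom (dvd_refl p) _
  set A : Matrix ι ι (ZMod p) := Matrix.of fun i j : ι => ((Nat.card {yz : G × G //
    yz.1 ∈ (K i).carrier ∧ yz.2 ∈ (K j).carrier ∧ yz.2 * yz.1⁻¹ ∈ (S : Subgroup G)} /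
      p ^ (a - d) : ℕ) : ZMod p)
  have hA : A.map f = (L.submatrix id σ')ᵀ * diagonal c * L := by
    ext i j
    rw [Matrix.mul_assoc, Matrix.mul_apply]
    simp only [Matrix.map_apply, A, Matrix.of_apply, map_natCast, Matrix.diagonal_mul,
      Matrix.transpose_apply, Matrix.submatrix_apply, id]
    set N := Nat.card {yz : G × G //
      yz.1 ∈ (K i).carrier ∧ yz.2 ∈ (K j).carrier ∧ yz.2 * yz.1⁻¹ ∈ (S : Subgroup G)}
    have hN : (N : ℂ) = ∑ χ : IrrCharacter G,
        centralChar (χ : G → ℂ) (x i)⁻¹ * centralChar (χ : G → ℂ) (x j) *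
          ((Nat.card G : ℂ)⁻¹ * ((χ : G → ℂ) 1 * ∑ s : (S : Subgroup G), conj ((χ : G → ℂ) s))) := by
      rw [← card_pairs_eq_sum]
      refine congrArg Nat.cast (Nat.card_congr (Equiv.subtypeEquivRight fun yz => ?_))
      simp only [ConjClasses.mem_carrier_iff_mk_eq]
      rw [← mk_classRep (K i), ← mk_classRep (K j)]
      simp only [ConjClasses.mk_eq_mk_iff_isConj, isConj_comm (g := yz.1), isConj_comm (g := yz.2),
        hxdef]
    set n := (Subgroup.centralizer ({(x i)⁻¹} : Set G)).index with hn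
    have hnd : p ^ (a - d) ∣ n := by
      rw [hp.pow_dvd_iff_le_factorization Subgroup.index_ne_zero_of_finite,
        centralizer_singleton_inv]
      have := factorization_centralizer_add (p := p) (x i)
      rw [(hx i).2, ← ha] at this
      omega
    set u := n / p ^ (a - d) with hu
    have hun : n = p ^ (a - d) * u := (Nat.mul_div_cancel' hnd).symm
    have hdeg : ∀ χ : IrrCharacter G, centralChar (χ : G → ℂ) (x i)⁻¹ * (χ : G → ℂ) 1 =
        ((p ^ (a - d) : ℕ) : ℂ) * ((u : ℂ) * (χ : G → ℂ) (x i)⁻¹) := fun χ => by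
      rw [centralChar, ← hn, div_mul_cancel₀ _ (irr_degree_ne_zero χ.2), hun]
      push_cast
      ring
    let z : IrrCharacter G → loc M := fun χ => ⟨invCompl G p * (m χ : ℂ) *
      ((u : ℂ) * (χ : G → ℂ) (x i)⁻¹) * centralChar (χ : G → ℂ) (x j),
      mul_mem (mul_mem (mul_mem hinvC (natCast_mem_loc _))
        (mul_mem (natCast_mem_loc _) (irr_mem_loc χ _))) (centralChar_mem_loc χ _)⟩
    have hNz : (N : ℂ) = ((p ^ (a - d) : ℕ) : ℂ) * ((∑ χ, z χ : loc M) : ℂ) := by
      rw [hN, AddSubmonoidClass.coe_finset_sum, Finset.mul_sum]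
      refine Finset.sum_congr rfl fun χ _ => ?_
      rw [hm χ]
      show _ = _ * (_ * _ * _ * _)
      rw [← pow_mul_inv_card (G := G) (p := p), ← ha]
      linear_combination (centralChar (χ : G → ℂ) (x j) * ((p ^ a : ℕ) : ℂ) *
        (Nat.card G : ℂ)⁻¹ * m χ) * hdeg χ
    have hpd : ((p ^ (a - d) : ℕ) : ℂ) ≠ 0 := Nat.cast_ne_zero.mpr (pow_ne_zero _ hp.ne_zero)
    have hdiv : p ^ (a - d) ∣ N := by
      have := int_div_mem_loc (n := (N : ℤ)) hpM (pow_ne_zero (a - d) hp.ne_zero) (by
        rw [Int.cast_natCast, hNz, mul_div_cancel_left₀ _ hpd]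
        exact (∑ χ, z χ : loc M).2)
      rw [Nat.Prime.factorization_pow hp, Finsupp.single_eq_same] at this
      exact_mod_cast this
    rw [← map_natCast (red (M := M)), show ((N / p ^ (a - d) : ℕ) : loc M) = ∑ χ, z χ from
      Subtype.ext (by
        rw [show (((N / p ^ (a - d) : ℕ) : loc M) : ℂ) = ((N / p ^ (a - d) : ℕ) : ℂ) from
          map_natCast (loc M).subtype _, Nat.cast_div hdiv hpd, hNz, mul_div_cancel_left₀ _ hpd]),
      map_sum]
    -- the blocks
    have key : ∀ χ : IrrCharacter G, red (M := M) (z χ) = ∑ B : ℬ, if χ ∈ B.1 then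
        L B (σ' i) * (red (M := M) ⟨invCompl G p * (m χ * t χ : ℕ),
          mul_mem hinvC (natCast_mem_loc _)⟩ * L B j) else 0 := by
      intro χ
      by_cases hχ : IsDefectGroup p M (blockOf M (χ : G → ℂ)) D
      · let B₀ : ℬ := ⟨_, isPBlock_blockOf χ, hχ⟩
        rw [Finset.sum_eq_single B₀ (fun B _ hB => if_neg fun hm' => hB (Subtype.ext
          (IsPBlock.eq_of_mem B.2.1 B₀.2.1 hm' (mem_blockOf_self χ)))) (by simp),
          if_pos (mem_blockOf_self χ)]
        simp only [L, Matrix.of_apply, ← map_mul]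
        refine red_eq_of_sub_mem ?_
        have hsame : SameBlock M (χ : G → ℂ) (rep B₀ : G → ℂ) :=
          IsPBlock.sameBlock B₀.2.1 (mem_blockOf_self χ) (hrep B₀)
        have h1 : (u : ℂ) * (χ : G → ℂ) (x i)⁻¹ =
            (t χ : ℂ) * centralChar (χ : G → ℂ) (x (σ' i)) := by
          apply mul_left_cancel₀ hpd
          rw [← hdeg, irr_apply_one, ht B₀ χ (mem_blockOf_self χ),
            centralChar_of_isConj χ (show IsConj (x (σ' i)) (x i)⁻¹ from hσx i)]
          push_cast
          ring
        show MemLocalIdeal M (invCompl G p * (m χ : ℂ) * ((u : ℂ) * (χ : G → ℂ) (x i)⁻¹) *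
          centralChar (χ : G → ℂ) (x j) - centralChar (rep B₀ : G → ℂ) (x (σ' i)) *
            (invCompl G p * ((m χ * t χ : ℕ) : ℂ) * centralChar (rep B₀ : G → ℂ) (x j)))
        rw [h1]
        convert MemLocalIdeal.mul_left' (mul_mem hinvC (natCast_mem_loc (m χ * t χ)))
          (MemLocalIdeal.add'
            (MemLocalIdeal.mul_right' (hsame (x (σ' i))) (centralChar_mem_loc χ (x j)))
            (MemLocalIdeal.mul_left' (centralChar_mem_loc (rep B₀) (x (σ' i))) (hsame (x j))))
          using 1
        push_cast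
        ring
      · rw [Finset.sum_eq_zero fun (B : ℬ) _ => if_neg fun hm' => hχ
          (IsPBlock.eq_blockOf B.2.1 hm' ▸ B.2.2)]
        refine red_eq_zero_iff.mpr (MemLocalIdeal.mul_left'
          (mul_mem (mul_mem hinvC (natCast_mem_loc _))
            (mul_mem (natCast_mem_loc _) (irr_mem_loc χ _)))
          (centralChar_mem_of_not_defectGroup hpM hD hχ ((hx j).2)))
    rw [Finset.sum_congr rfl fun χ _ => key χ, Finset.sum_comm]
    refine Finset.sum_congr rfl fun B _ => ?_
    rw [← Finset.sum_filter, ← Finset.mul_sum, ← Finset.sum_mul, ← map_sum]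
    congr 3
    refine Subtype.ext ?_
    simp [cN, Finset.mul_sum]
  have hrank := rank_eq_of_factor hc hLE hLE'
  rw [← hA, rank_map_field] at hrank
  rw [Nat.card_eq_fintype_card, hrank]

end CfsgLib.CharApps
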