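import Cfsg.Agent.Lib.CharApps.Basic

/-!
# Galois conjugation of characters, and the averaging bound for nonzero values
-/

set_option autoImplicit false
set_option linter.style.haveILetI false

namespace CfsgLib.CharApps

open Cfsg CfsgLib.Chars Module
open scoped ComplexConjugate IntermediateField

universe u

/-- A primitive `N`-th root of unity. -/
noncomputable def rootN (N : ℕ) : ℂ := Complex.exp (2 * Real.pi * Complex.I / N)

theorem rootN_prim (N : ℕ) [NeZero N] : IsPrimitiveRoot (rootN N) N :=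
  Complex.isPrimitiveRoot_exp N (NeZero.ne N)

/-- Every automorphism of a subfield of `ℂ` extends to `ℂ`. -/
theorem exists_extend {K : IntermediateField ℚ ℂ} (τ : K ≃ₐ[ℚ] K) :
    ∃ σ : ℂ ≃+* ℂ, ∀ x : K, σ x = (τ x : ℂ) := by
  obtain ⟨s, hs⟩ := exists_isTranscendenceBasis K ℂ
  haveI := IsAlgClosed.isAlgClosure_of_transcendence_basis (Subtype.val : s → ℂ) hs
  have hi : AlgebraicIndependent K (Subtype.val : s → ℂ) := hs.1
  let e : Algebra.adjoin K (Set.range (Subtype.val : s → ℂ)) ≃+*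
      Algebra.adjoin K (Set.range (Subtype.val : s → ℂ)) :=
    (hi.aevalEquiv.symm.toRingEquiv.trans
      (MvPolynomial.mapEquiv s τ.toRingEquiv)).trans hi.aevalEquiv.toRingEquiv
  refine ⟨IsAlgClosure.equivOfEquiv ℂ ℂ e, fun x => ?_⟩
  have h1 : e (algebraMap K _ x) = algebraMap K _ (τ x) := by
    show hi.aevalEquiv (MvPolynomial.mapEquiv s τ.toRingEquiv
      (hi.aevalEquiv.symm (algebraMap K _ x))) = _
    rw [AlgEquiv.commutes, MvPolynomial.algebraMap_eq, MvPolynomial.mapEquiv_apply,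
      MvPolynomial.map_C]
    exact hi.aevalEquiv.commutes (τ x)
  have h2 := IsAlgClosure.equivOfEquiv_algebraMap ℂ ℂ e (algebraMap K _ x)
  rw [h1] at h2
  exact h2

/-- For `k` prime to `N`, some automorphism of `ℂ` raises `N`-th roots of unity to the `k`-th
power. -/
theorem exists_galois_pow (N : ℕ) [NeZero N] {k : ℕ} (hk : k.Coprime N) :
    ∃ σ : ℂ ≃+* ℂ, ∀ z : ℂ, z ^ N = 1 → σ z = z ^ k := by
  haveI hcyc : IsCyclotomicExtension {N} ℚ ℚ⟮rootN N⟯ :=
    (IntermediateField.isCyclotomicExtension_singleton_iff_eq_adjoin N _ _ _ (rootN_prim N)).mpr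
      rfl
  have hgen : rootN N ∈ ℚ⟮rootN N⟯ := IntermediateField.mem_adjoin_simple_self ℚ _
  have hζ : IsPrimitiveRoot (⟨rootN N, hgen⟩ : ℚ⟮rootN N⟯) N :=
    IsPrimitiveRoot.of_map_of_injective (f := algebraMap ℚ⟮rootN N⟯ ℂ) (rootN_prim N)
      (RingHom.injective _)
  have hirr : Irreducible (Polynomial.cyclotomic N ℚ) :=
    Polynomial.cyclotomic.irreducible_rat (NeZero.pos N)
  let τ := (IsCyclotomicExtension.autEquivPow ℚ⟮rootN N⟯ hirr).symm (ZMod.unitOfCoprime k hk)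
  have hτ : τ ⟨rootN N, hgen⟩ = (⟨rootN N, hgen⟩ : ℚ⟮rootN N⟯) ^ k := by
    have hz := IsCyclotomicExtension.zeta_spec N ℚ ℚ⟮rootN N⟯
    have h1 : hz.autToPow ℚ τ = ZMod.unitOfCoprime k hk :=
      (IsCyclotomicExtension.autEquivPow ℚ⟮rootN N⟯ hirr).apply_symm_apply _
    have h2 := hz.autToPow_spec ℚ τ
    rw [h1, ZMod.coe_unitOfCoprime, ZMod.val_natCast] at h2
    obtain ⟨i, -, hi⟩ := hz.eq_pow_of_pow_eq_one hζ.pow_eq_one
    rw [← hi, map_pow, ← h2, ← pow_mul, ← pow_mul, mul_comm i k]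
    rw [pow_eq_pow_mod (k * i) hz.pow_eq_one, pow_eq_pow_mod _ hz.pow_eq_one, Nat.mod_mul_mod]
  obtain ⟨σ, hσ⟩ := exists_extend τ
  refine ⟨σ, fun z hz => ?_⟩
  obtain ⟨i, -, rfl⟩ := (rootN_prim N).eq_pow_of_pow_eq_one hz
  have h3 := hσ ((⟨rootN N, hgen⟩ : ℚ⟮rootN N⟯) ^ i)
  rw [map_pow, hτ] at h3
  simp only [SubmonoidClass.coe_pow] at h3
  rw [h3, ← pow_mul, ← pow_mul, mul_comm]

variable {G : Type u} [Group G]

/-- The value of a character at `g ^ k` is the Galois conjugate of the value at `g`. -/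
theorem galois_apply [Finite G] {N : ℕ} (σ : ℂ ≃+* ℂ) {k : ℕ}
    (hσ : ∀ z : ℂ, z ^ N = 1 → σ z = z ^ k) {χ : G → ℂ} (hχ : IsCharacter G χ) (g : G)
    (hg : g ^ N = 1) : σ (χ g) = χ (g ^ k) := by
  obtain ⟨n, ρ, rfl⟩ := hχ
  obtain ⟨b, μ, hμ, -, hb, -, h1, -⟩ := exists_eigenbasis_rep ρ g
  have hbk : ∀ i, ρ (g ^ k) (b i) = μ i ^ k • b i := by
    intro i
    induction k with
    | zero => simp
    | succ k ih => exact (by
        rw [pow_succ, map_mul, Module.End.mul_apply, hb, map_smul]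
        have : ∀ j : ℕ, (ρ g ^ j) (b i) = μ i ^ j • b i := by
          intro j
          induction j with
          | zero => simp
          | succ j ihj =>
            rw [pow_succ, Module.End.mul_apply, hb, map_smul, ihj, smul_smul, pow_succ,
              mul_comm]
        rw [map_pow, this, smul_smul, pow_succ, mul_comm])
  rw [h1, map_sum, Representation.character, trace_eq_sum_of_eigenbasis _ b _ hbk]
  refine Finset.sum_congr rfl fun i _ => hσ _ ?_
  obtain ⟨d, hd⟩ := orderOf_dvd_of_pow_eq_one hg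
  rw [hd, pow_mul, hμ i, one_pow]

/-- A Galois conjugate of a character is a character. -/
theorem isCharacter_galois {χ : G → ℂ} (h : IsCharacter G χ) (σ : ℂ ≃+* ℂ) :
    IsCharacter G (fun g => σ (χ g)) := by
  classical
  obtain ⟨n, ρ, rfl⟩ := h
  refine ⟨n,
    { toFun := fun g => Matrix.toLin' ((LinearMap.toMatrix' (ρ g)).map σ)
      map_one' := by
        simp [Module.End.one_eq_id]
      map_mul' := fun a b => by
        rw [map_mul, Module.End.mul_eq_comp, LinearMap.toMatrix'_comp,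
          Matrix.map_mul, Matrix.toLin'_mul, Module.End.mul_eq_comp] }, ?_⟩
  funext g
  show LinearMap.trace ℂ (Fin n → ℂ) (Matrix.toLin' ((LinearMap.toMatrix' (ρ g)).map σ)) = _
  rw [Matrix.trace_toLin'_eq, Representation.character,
    LinearMap.trace_eq_matrix_trace ℂ (Pi.basisFun ℂ (Fin n)), LinearMap.toMatrix_eq_toMatrix',
    Matrix.trace, Matrix.trace, map_sum]
  rfl

/-- A Galois conjugate of an irreducible character is irreducible. -/
theorem isIrr_galois [Finite G] (χ : IrrCharacter G) (σ : ℂ ≃+* ℂ) :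
    IsIrrCharacter G (fun g => σ ((χ : G → ℂ) g)) := by
  haveI := Fintype.ofFinite G
  have hc := isCharacter_galois (isCharacter_of_irr χ.2) σ
  refine isIrr_of_inner_self hc ?_
  have h := congrArg σ (inner_irr_self χ)
  rw [map_one, inner_def, map_mul, map_inv₀, map_natCast, map_sum] at h
  rw [inner_def, ← h]
  refine congrArg _ (Finset.sum_congr rfl fun g _ => ?_)
  rw [map_mul, ← char_inv hc g, irr_inv]

/-- The Galois conjugate as an element of the set of irreducible characters. -/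
noncomputable def galoisIrr [Finite G] (σ : ℂ ≃+* ℂ) : IrrCharacter G ≃ IrrCharacter G where
  toFun χ := ⟨fun g => σ ((χ : G → ℂ) g), isIrr_galois χ σ⟩
  invFun χ := ⟨fun g => σ.symm ((χ : G → ℂ) g), isIrr_galois χ σ.symm⟩
  left_inv χ := Subtype.ext (funext fun g => σ.symm_apply_apply _)
  right_inv χ := Subtype.ext (funext fun g => σ.apply_symm_apply _)

theorem galoisIrr_apply [Finite G] (σ : ℂ ≃+* ℂ) (χ : IrrCharacter G) (g : G) :
    (galoisIrr σ χ : G → ℂ) g = σ ((χ : G → ℂ) g) := rfl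

/-- A sum of roots of unity fixed by every Galois automorphism is rational. -/
theorem exists_rat_of_fixed {N : ℕ} [NeZero N] {x : ℂ} (hx : x ∈ ℚ⟮rootN N⟯)
    (h : ∀ (k : ℕ) (σ : ℂ ≃+* ℂ), k.Coprime N → (∀ z : ℂ, z ^ N = 1 → σ z = z ^ k) → σ x = x) :
    ∃ q : ℚ, (q : ℂ) = x := by
  haveI hcyc : IsCyclotomicExtension {N} ℚ ℚ⟮rootN N⟯ :=
    (IntermediateField.isCyclotomicExtension_singleton_iff_eq_adjoin N _ _ _ (rootN_prim N)).mpr
      rfl
  haveI := IsCyclotomicExtension.isGalois {N} ℚ ℚ⟮rootN N⟯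
  haveI := IsCyclotomicExtension.finiteDimensional {N} ℚ ℚ⟮rootN N⟯
  have hgen : rootN N ∈ ℚ⟮rootN N⟯ := IntermediateField.mem_adjoin_simple_self ℚ _
  have hmem : (⟨x, hx⟩ : ℚ⟮rootN N⟯) ∈ (⊥ : IntermediateField ℚ ℚ⟮rootN N⟯) := by
    rw [IsGalois.mem_bot_iff_fixed]
    intro τ
    obtain ⟨σ, hσ⟩ := exists_extend τ
    have hprim : IsPrimitiveRoot (σ (rootN N)) N :=
      (rootN_prim N).map_of_injective σ.injective
    obtain ⟨k, -, hk⟩ := (rootN_prim N).eq_pow_of_pow_eq_one hprim.pow_eq_one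
    have hcop : k.Coprime N := by
      rw [← hk] at hprim
      exact ((rootN_prim N).pow_iff_coprime (NeZero.pos N) k).mp hprim
    refine Subtype.ext ?_
    have h2 := hσ ⟨x, hx⟩
    rw [h k σ hcop] at h2
    · exact h2.symm
    · intro z hz
      obtain ⟨i, -, rfl⟩ := (rootN_prim N).eq_pow_of_pow_eq_one hz
      rw [map_pow, ← hk, ← pow_mul, ← pow_mul, mul_comm]
  obtain ⟨q, hq⟩ := IntermediateField.mem_bot.mp hmem
  exact ⟨q, congrArg Subtype.val hq⟩

theorem char_mem_cyclo [Finite G] {N : ℕ} [NeZero N] {χ : G → ℂ} (hχ : IsCharacter G χ) (g : G)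
    (hg : g ^ N = 1) : χ g ∈ ℚ⟮rootN N⟯ := by
  obtain ⟨n, ρ, rfl⟩ := hχ
  obtain ⟨b, μ, hμ, -, hb, -, h1, -⟩ := exists_eigenbasis_rep ρ g
  rw [h1]
  refine sum_mem fun i _ => ?_
  obtain ⟨d, hd⟩ := orderOf_dvd_of_pow_eq_one hg
  have : μ i ^ N = 1 := by rw [hd, pow_mul, hμ i, one_pow]
  obtain ⟨j, -, hj⟩ := (rootN_prim N).eq_pow_of_pow_eq_one this
  rw [← hj]
  exact pow_mem (IntermediateField.mem_adjoin_simple_self ℚ _) j

/-- A rational algebraic integer is an integer. -/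
theorem exists_int_of_rat {x : ℂ} (hi : IsIntegral ℤ x) (hq : ∃ q : ℚ, (q : ℂ) = x) :
    ∃ m : ℤ, (m : ℂ) = x := by
  obtain ⟨q, rfl⟩ := hq
  have h1 : IsIntegral ℤ q := by
    rw [← isIntegral_algebraMap_iff (B := ℂ) (algebraMap ℚ ℂ).injective]
    simpa using hi
  obtain ⟨m, hm⟩ := IsIntegrallyClosed.isIntegral_iff.mp h1
  exact ⟨m, by rw [← hm]; simp⟩

/-- The mean value inequality. -/
theorem card_le_sum_of_one_le_prod {ι : Type*} (S : Finset ι) {f : ι → ℝ}
    (h0 : ∀ i ∈ S, 0 ≤ f i) (h1 : 1 ≤ ∏ i ∈ S, f i) : (S.card : ℝ) ≤ ∑ i ∈ S, f i := by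
  rcases S.eq_empty_or_nonempty with rfl | hS
  · simp
  have hpos : 0 < S.card := Finset.card_pos.mpr hS
  have h := Real.geom_mean_le_arith_mean_weighted S (fun _ => (S.card : ℝ)⁻¹) f
    (fun i _ => by positivity)
    (by rw [Finset.sum_const, nsmul_eq_mul, mul_inv_cancel₀ (by positivity)]) h0
  rw [Real.finsetProd_rpow S f h0, ← Finset.mul_sum] at h
  have h2 : (1 : ℝ) ≤ (S.card : ℝ)⁻¹ * ∑ i ∈ S, f i :=
    le_trans (Real.one_le_rpow h1 (by positivity)) h
  rwa [inv_mul_eq_div, le_div_iff₀ (by positivity), one_mul] at h2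

/-- If a family of character values is permuted by the Galois group and none of them is zero,
then on average their squared norms are at least one. -/
theorem card_le_sum_normSq [Finite G] {ι : Type*} (S : Finset ι) (χ : ι → G → ℂ) (g : ι → G)
    (hχ : ∀ i ∈ S, IsCharacter G (χ i)) (hne : ∀ i ∈ S, χ i (g i) ≠ 0)
    (hgal : ∀ (k : ℕ) (σ : ℂ ≃+* ℂ), k.Coprime (Nat.card G) →
      (∀ z : ℂ, z ^ Nat.card G = 1 → σ z = z ^ k) →
      ∃ π : ι → ι, (∀ i ∈ S, π i ∈ S) ∧ (∀ i ∈ S, ∀ j ∈ S, π i = π j → i = j) ∧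
        ∀ i ∈ S, σ (χ i (g i)) = χ (π i) (g (π i))) :
    (S.card : ℝ) ≤ ∑ i ∈ S, ‖χ i (g i)‖ ^ 2 := by
  classical
  haveI : NeZero (Nat.card G) := ⟨Nat.card_pos.ne'⟩
  set P : ℂ := ∏ i ∈ S, χ i (g i) with hP
  have hmem : P ∈ ℚ⟮rootN (Nat.card G)⟯ :=
    prod_mem fun i hi => char_mem_cyclo (hχ i hi) _ pow_card_eq_one'
  have hint : IsIntegral ℤ P := IsIntegral.prod _ fun i hi => char_isIntegral (hχ i hi) _
  have hfix : ∀ (k : ℕ) (σ : ℂ ≃+* ℂ), k.Coprime (Nat.card G) →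
      (∀ z : ℂ, z ^ Nat.card G = 1 → σ z = z ^ k) → σ P = P := by
    intro k σ hk hσ
    obtain ⟨π, h1, h2, h3⟩ := hgal k σ hk hσ
    rw [hP, map_prod, Finset.prod_congr rfl h3]
    have himage : S.image π = S :=
      Finset.eq_of_subset_of_card_le (Finset.image_subset_iff.mpr h1)
        (le_of_eq (Finset.card_image_of_injOn h2).symm)
    conv_rhs => rw [← himage]
    rw [Finset.prod_image h2]
  obtain ⟨m, hm⟩ := exists_int_of_rat hint (exists_rat_of_fixed hmem hfix)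
  have hm0 : m ≠ 0 := by
    rintro rfl
    rw [Int.cast_zero] at hm
    exact Finset.prod_ne_zero_iff.mpr hne hm.symm
  refine card_le_sum_of_one_le_prod S (fun i _ => by positivity) ?_
  rw [Finset.prod_pow, ← norm_prod, ← hP, ← hm, Complex.norm_intCast]
  have h5 : (1 : ℝ) ≤ |(m : ℝ)| := by
    rw [← Int.cast_abs]
    exact_mod_cast Int.one_le_abs hm0
  nlinarith

end CfsgLib.CharApps
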