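import Cfsg.Agent.Lib.BlockOrth.CharSpan
import Cfsg.Agent.Lib.BlockOrth.PPart
import Cfsg.Agent.Lib.CharApps.Galois
import Cfsg.Agent.Lib.CharApps.AbelianSylow
import Cfsg.Agent.Lib.Chars.Char

/-!
# Schur's bound for `p`-groups with a faithful rational-valued character
-/

set_option autoImplicit false
set_option linter.unusedSectionVars false
set_option linter.style.haveILetI false

namespace CfsgLib.CharApps.SchurBound

open Cfsg
open scoped ComplexConjugate Nat

universe u

variable {P : Type u} [Group P] [Fintype P] {p : ℕ} [hp : Fact p.Prime]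

/-- The sum of the values on a cyclic subgroup. -/
theorem exists_sum_pow {χ : P → ℂ} (hχ : IsCharacter P χ) {n : ℕ} (hn : χ 1 = n) (g : P) :
    ∃ a : ℕ, a ≤ n ∧ ∑ t ∈ Finset.range (orderOf g), χ (g ^ t) = (orderOf g : ℂ) * a := by
  classical
  letI := Fintype.ofFinite (Subgroup.zpowers g)
  have hres := Chars.isCharacter_restrict (Subgroup.zpowers g) hχ
  obtain ⟨a, ha⟩ := Chars.inner_char_nat hres (Chars.isCharacter_one (G := Subgroup.zpowers g))
  have h1 : ∑ h : Subgroup.zpowers g, χ (h : P) = ∑ t ∈ Finset.range (orderOf g), χ (g ^ t) := by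
    rw [← Fin.sum_univ_eq_sum_range (fun t => χ (g ^ t))]
    exact (Fintype.sum_equiv (finEquivZPowers (isOfFinOrder_of_finite g)) _ _ fun i => by
      rw [finEquivZPowers_apply]).symm
  have hsum : ∑ t ∈ Finset.range (orderOf g), χ (g ^ t) = (orderOf g : ℂ) * a := by
    have h0 : (Nat.card (Subgroup.zpowers g) : ℂ) ≠ 0 := Nat.cast_ne_zero.2 Nat.card_pos.ne'
    rw [Chars.inner_def, inv_mul_eq_iff_eq_mul₀ h0] at ha
    simp only [map_one, mul_one] at ha
    rw [← h1, ha, Nat.card_zpowers]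
  refine ⟨a, ?_, hsum⟩
  have h2 : ((orderOf g : ℝ) * a) ≤ (orderOf g : ℝ) * n := by
    have h3 := congrArg Complex.re hsum
    simp only [Complex.re_sum, Complex.mul_re, Complex.natCast_re, Complex.natCast_im, mul_zero,
      sub_zero] at h3
    rw [← h3]
    calc ∑ t ∈ Finset.range (orderOf g), (χ (g ^ t)).re
        ≤ ∑ _t ∈ Finset.range (orderOf g), (n : ℝ) := Finset.sum_le_sum fun t _ => by
          have := Chars.char_norm_le hχ (g ^ t)
          rw [hn, Complex.natCast_re] at this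
          exact (Complex.re_le_norm _).trans this
      _ = _ := by rw [Finset.sum_const, Finset.card_range, nsmul_eq_mul]
  exact_mod_cast le_of_mul_le_mul_left h2 (by exact_mod_cast orderOf_pos g)

/-- The values of a rational-valued character of a `p`-group. -/
theorem exists_nat_value (hP : IsPGroup p P) {χ : P → ℂ} (hχ : IsCharacter P χ) {n : ℕ}
    (hn : χ 1 = n) (hgal : ∀ (g : P) (t : ℕ), ¬ p ∣ t → χ (g ^ t) = χ g) (g : P) :
    ∃ j : ℕ, j * (p - 1) ≤ n ∧ χ g = (n : ℂ) - (p : ℂ) * j := by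
  classical
  obtain ⟨e, he⟩ := IsPGroup.iff_orderOf.1 hP g
  rcases Nat.eq_zero_or_pos e with he0 | he0
  · rw [he0, pow_zero, orderOf_eq_one_iff] at he
    exact ⟨0, by simp, by rw [he, hn]; simp⟩
  obtain ⟨k, rfl⟩ : ∃ k, e = k + 1 := ⟨e - 1, by omega⟩
  have hp0 := hp.out.pos
  have hgp : orderOf (g ^ p) = p ^ k := by
    rw [orderOf_pow' _ hp.out.ne_zero, he, Nat.gcd_eq_right (dvd_pow_self p (by omega)),
      pow_succ, Nat.mul_div_cancel _ hp0]
  obtain ⟨a, -, ha⟩ := exists_sum_pow hχ hn g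
  obtain ⟨b, hb, hbs⟩ := exists_sum_pow hχ hn (g ^ p)
  rw [he] at ha
  rw [hgp] at hbs
  have hsplit : ∑ t ∈ Finset.range (p ^ (k + 1)), χ (g ^ t) =
      ∑ t ∈ Finset.range (p ^ k), χ ((g ^ p) ^ t) + ((p ^ (k + 1) - p ^ k : ℕ) : ℂ) * χ g := by
    rw [← Finset.sum_filter_add_sum_filter_not (Finset.range (p ^ (k + 1))) (fun t => p ∣ t)]
    have hfil : (Finset.range (p ^ (k + 1))).filter (fun t => p ∣ t) =
        (Finset.range (p ^ k)).image (fun t => p * t) := by
      ext t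
      simp only [Finset.mem_filter, Finset.mem_range, Finset.mem_image]
      constructor
      · rintro ⟨ht, c, rfl⟩
        rw [pow_succ'] at ht
        exact ⟨c, Nat.lt_of_mul_lt_mul_left ht, rfl⟩
      · rintro ⟨c, hc, rfl⟩
        exact ⟨by rw [pow_succ']; exact Nat.mul_lt_mul_of_pos_left hc hp0, dvd_mul_right _ _⟩
    have hinj : Set.InjOn (fun t => p * t) (Finset.range (p ^ k) : Set ℕ) :=
      fun x _ y _ h => Nat.eq_of_mul_eq_mul_left hp0 h
    have hcard : ((Finset.range (p ^ (k + 1))).filter (fun t => ¬ p ∣ t)).card =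
        p ^ (k + 1) - p ^ k := by
      rw [Finset.filter_not, Finset.card_sdiff_of_subset (Finset.filter_subset _ _), hfil,
        Finset.card_image_of_injOn hinj, Finset.card_range, Finset.card_range]
    congr 1
    · rw [hfil, Finset.sum_image hinj]
      exact Finset.sum_congr rfl fun t _ => by rw [pow_mul]
    · rw [Finset.sum_congr rfl (g := fun _ => χ g) (fun t ht => hgal g t (Finset.mem_filter.1 ht).2),
        Finset.sum_const, nsmul_eq_mul, hcard]
  have hkey : ((p : ℂ) - 1) * χ g = (p : ℂ) * a - b := by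
    rw [hsplit, hbs, Nat.cast_sub (Nat.pow_le_pow_right hp0 (Nat.le_succ k)), pow_succ] at ha
    push_cast at ha
    have h0 : (p : ℂ) ^ k ≠ 0 := pow_ne_zero _ (Nat.cast_ne_zero.2 hp.out.ne_zero)
    apply mul_left_cancel₀ h0
    linear_combination ha
  -- the value is an integer
  have hint : IsIntegral ℤ (χ g) := Chars.char_isIntegral hχ g
  have hp1 : (p : ℂ) - 1 ≠ 0 := sub_ne_zero.2 (by exact_mod_cast hp.out.ne_one)
  have hrat : χ g = (((((p : ℤ) * a - b : ℤ) : ℚ) / ((p : ℚ) - 1) : ℚ) : ℂ) := by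
    push_cast
    rw [eq_div_iff hp1, mul_comm, hkey]
  obtain ⟨z, hz⟩ : ∃ z : ℤ, χ g = (z : ℂ) := by
    set q : ℚ := (((p : ℤ) * a - b : ℤ) : ℚ) / ((p : ℚ) - 1) with hq
    rw [hrat] at hint ⊢
    have h1 : IsIntegral ℤ q :=
      (isIntegral_algebraMap_iff (R := ℤ) (B := ℂ) (algebraMap ℚ ℂ).injective).1 hint
    obtain ⟨z, hz⟩ := IsIntegrallyClosed.isIntegral_iff.1 h1
    exact ⟨z, by rw [← hz]; simp⟩
  -- congruence to the degree
  have hdvd : (p : ℤ) ∣ (n : ℤ) - z := by
    obtain ⟨M, hM⟩ := CharApps.exists_pModular p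
    haveI := hM.2.1.isPrime
    have h1 := BlockOrth.memLocalIdeal_char_sub (p := p) hM.2.2 hχ g
    have h2 : BlockOrth.pPrimePart p g = 1 := by
      refine BlockOrth.IsPPrimePart.eq_pPrimePart ⟨g, mul_one g, Commute.one_right g, ⟨_, he⟩, ?_⟩
      rw [orderOf_one]; exact hp.out.not_dvd_one
    rw [h2, hz, hn] at h1
    have h3 := Blocks.MemLocalIdeal.neg' h1
    rw [neg_sub] at h3
    have h4 : ((((n : ℤ) - z : ℤ) : AlgInt) : ℂ) = (n : ℂ) - (z : ℂ) := by push_cast; rfl
    rw [← h4] at h3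
    exact (Blocks.intCast_mem_iff hp.out hM.2.2 _).1 ((Blocks.memLocalIdeal_algInt_iff _).1 h3)
  obtain ⟨j, hj⟩ := hdvd
  have hzn : z ≤ (n : ℤ) := by
    have h1 := Chars.char_norm_le hχ g
    rw [hn, hz, Complex.natCast_re] at h1
    have h2 := (Complex.re_le_norm ((z : ℂ))).trans h1
    rw [Complex.intCast_re] at h2
    exact_mod_cast h2
  have hj0 : 0 ≤ j := by
    by_contra hlt
    have : (p : ℤ) * j < 0 := mul_neg_of_pos_of_neg (by exact_mod_cast hp0) (not_le.1 hlt)
    omega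
  lift j to ℕ using hj0
  have hkey' : ((p : ℤ) - 1) * z = (p : ℤ) * a - b := by
    rw [hz] at hkey
    exact_mod_cast hkey
  refine ⟨j, ?_, ?_⟩
  · have h1 : ((p : ℤ) - 1) * ((p : ℤ) * j) ≤ (p : ℤ) * n := by
      rw [← hj, mul_sub, hkey']
      have : (b : ℤ) ≤ n := by exact_mod_cast hb
      have h2 : 0 ≤ (p : ℤ) * (a : ℤ) := by positivity
      nlinarith
    have h2 : ((p : ℤ) - 1) * (j : ℤ) ≤ n :=
      le_of_mul_le_mul_left (by linarith [h1] : (p : ℤ) * (((p : ℤ) - 1) * j) ≤ p * n)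
        (by exact_mod_cast hp0)
    have h3 : ((j * (p - 1) : ℕ) : ℤ) ≤ (n : ℤ) := by
      rw [Nat.cast_mul, Nat.cast_sub hp.out.one_lt.le, Nat.cast_one, mul_comm]
      exact h2
    exact_mod_cast h3
  · rw [hz]
    have h1 := congrArg (fun x : ℤ => (x : ℂ)) hj
    push_cast at h1
    linear_combination -h1

/-- **Schur's bound.** -/
theorem card_dvd (hP : IsPGroup p P) {χ : P → ℂ} (hχ : IsCharacter P χ) {n : ℕ}
    (hn : χ 1 = n) (hfaith : ∀ g : P, χ g = χ 1 → g = 1)
    (hgal : ∀ (g : P) (t : ℕ), ¬ p ∣ t → χ (g ^ t) = χ g) :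
    Nat.card P ∣ p ^ (n / (p - 1)) * (n / (p - 1))! := by
  classical
  set m := n / (p - 1) with hm
  let F : ℕ → P → ℂ := fun i => χ - ((n : ℂ) - (p : ℂ) * ((i + 1 : ℕ) : ℂ)) • (1 : P → ℂ)
  have hmem : BlockOrth.InCharSpan (⊥ : Subring ℂ) (∏ i ∈ Finset.range m, F i) := by
    refine BlockOrth.InCharSpan.prod fun i _ => ?_
    refine BlockOrth.InCharSpan.sub (BlockOrth.InCharSpan.of_isCharacter hχ)
      (BlockOrth.InCharSpan.smul BlockOrth.InCharSpan.one ?_)
    exact sub_mem (natCast_mem _ _) (mul_mem (natCast_mem _ _) (natCast_mem _ _))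
  obtain ⟨z, hz⟩ := Subring.mem_bot.1 (hmem.2 (Chars.principal P))
  have h1 : (∏ i ∈ Finset.range m, F i) 1 = ((p ^ m * m ! : ℕ) : ℂ) := by
    rw [Finset.prod_apply]
    simp only [F, Pi.sub_apply, Pi.smul_apply, Pi.one_apply, hn, smul_eq_mul, mul_one, sub_sub_cancel]
    rw [Finset.prod_mul_distrib, Finset.prod_const, Finset.card_range, ← Nat.cast_prod,
      Finset.prod_range_add_one_eq_factorial]
    push_cast
    rfl
  rw [Chars.inner_def, Finset.sum_eq_single 1] at hz
  · rw [Chars.principal_apply, map_one, mul_one, h1, eq_comm,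
      inv_mul_eq_iff_eq_mul₀ (Nat.cast_ne_zero.2 Nat.card_pos.ne')] at hz
    have h2 : ((p ^ m * m ! : ℕ) : ℤ) = (Nat.card P : ℤ) * z := by exact_mod_cast hz
    exact Int.natCast_dvd_natCast.1 ⟨z, h2⟩
  · intro g _ hg
    obtain ⟨j, hj, hval⟩ := exists_nat_value hP hχ hn hgal g
    have hj0 : j ≠ 0 := by
      rintro rfl
      exact hg (hfaith g (by rw [hval, hn]; simp))
    have hjm : j ≤ m := by
      rw [hm, Nat.le_div_iff_mul_le (by have := hp.out.two_le; omega)]
      exact hj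
    rw [Finset.prod_apply, Finset.prod_eq_zero (i := j - 1) (Finset.mem_range.2 (by omega)), zero_mul]
    simp only [F, Pi.sub_apply, Pi.smul_apply, Pi.one_apply, smul_eq_mul, mul_one]
    rw [hval, show j - 1 + 1 = j by omega, sub_self]
  · exact fun h => absurd (Finset.mem_univ _) h

/-- The bound on the exponent. -/
theorem factorization_le (hP : IsPGroup p P) {χ : P → ℂ} (hχ : IsCharacter P χ) {n : ℕ}
    (hn : χ 1 = n) (hfaith : ∀ g : P, χ g = χ 1 → g = 1)
    (hgal : ∀ (g : P) (t : ℕ), ¬ p ∣ t → χ (g ^ t) = χ g) :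
    (Nat.card P).factorization p ≤ ∑ i ∈ Finset.range (n + 1), n / ((p - 1) * p ^ i) := by
  have h := card_dvd hP hχ hn hfaith hgal
  set m := n / (p - 1) with hm
  have h1 : (Nat.card P).factorization p ≤ (p ^ m * m !).factorization p :=
    (Nat.factorization_le_iff_dvd Nat.card_pos.ne'
      (Nat.mul_ne_zero (pow_ne_zero _ hp.out.ne_zero) (Nat.factorial_ne_zero m))).2 h p
  refine h1.trans (le_of_eq ?_)
  have hlog : Nat.log p m < n + 1 :=
    Nat.lt_succ_of_le ((Nat.log_le_self p m).trans (Nat.div_le_self _ _))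
  rw [Nat.factorization_mul (pow_ne_zero _ hp.out.ne_zero) (Nat.factorial_ne_zero m),
    Finsupp.coe_add, Pi.add_apply, hp.out.factorization_pow, Finsupp.single_eq_same,
    Nat.factorization_factorial hp.out hlog, Finset.range_eq_Ico,
    Finset.sum_eq_sum_Ico_succ_bot (Nat.succ_pos n)]
  simp [hm, Nat.div_div_eq_div_mul]

end CfsgLib.CharApps.SchurBound
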