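import Cfsg.Agent.Lib.CharApps.Basic

/-!
# Sums of an irreducible character over cosets of a normal subgroup
-/

set_option autoImplicit false
set_option linter.style.haveILetI false

namespace CfsgLib.CharApps

open Cfsg CfsgLib.Chars Module
open scoped ComplexConjugate

universe u

variable {G : Type u} [Group G]

/-- If the normal subgroup `N` is not in the kernel of the irreducible character `χ`, then `χ`
sums to zero over every coset of `N`. -/
theorem sum_coset_eq_zero [Finite G] (N : Subgroup G) [N.Normal] [Fintype N] (χ : IrrCharacter G)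
    (hN : ¬ N ≤ charKer χ) (x : G) : ∑ n : N, (χ : G → ℂ) ((n : G) * x) = 0 := by
  classical
  haveI := Fintype.ofFinite G
  obtain ⟨χ, d, ρ, hρ, rfl⟩ := χ
  let f : G → ℂ := fun g => if g ∈ N then 1 else 0
  have hf : IsClassFunction G f := by
    intro g h
    have h1 : h * g * h⁻¹ ∈ N ↔ g ∈ N := by
      refine ⟨fun hh => ?_, fun hh => (inferInstance : N.Normal).conj_mem g hh h⟩
      simpa [mul_assoc] using (inferInstance : N.Normal).conj_mem _ hh h⁻¹
    simp only [f, h1]
  obtain ⟨c, hc, -⟩ := avgOp_eq_scalar ρ hf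
  have hE : ∑ n : N, ρ (n : G) = c • LinearMap.id := by
    rw [← hc, avgOp]
    simp only [f, ite_smul, one_smul, zero_smul]
    rw [← Finset.sum_filter, ← Equiv.sum_comp (Equiv.inv N) (fun n : N => ρ (n : G))]
    rw [Finset.sum_subtype (p := fun g => g ∈ N) (F := ‹Fintype N›) _ (fun g => by simp)
      (fun g => ρ g⁻¹)]
    simp
  have hc0 : c = 0 := by
    by_contra hc0
    refine hN fun k hk => ?_
    have h2 : ρ k * ∑ n : N, ρ (n : G) = ∑ n : N, ρ (n : G) := by
      rw [Finset.mul_sum, ← Equiv.sum_comp (Equiv.mulLeft (⟨k, hk⟩ : N)) (fun n : N => ρ (n : G))]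
      simp
    rw [hE, mul_smul_comm] at h2
    have h3 : ρ k = LinearMap.id := by
      have h4 : ρ k * LinearMap.id = ρ k := mul_one (ρ k)
      rw [h4] at h2
      exact smul_right_injective _ hc0 h2
    rw [mem_charKer]
    simp [Representation.character, h3]
  rw [hc0, zero_smul] at hE
  have h5 : ∑ n : N, ρ ((n : G) * x) = 0 := by
    simp only [map_mul]
    rw [← Finset.sum_mul, hE, zero_mul]
  have h6 := congrArg (LinearMap.trace ℂ (Fin d → ℂ)) h5
  rw [map_sum, map_zero] at h6
  exact h6

end CfsgLib.CharApps
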