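import Cfsg.Agent.Lib.CharApps.Basic
import Cfsg.Agent.Lib.Chars.Char

/-!
# The Frobenius-Schur indicator and counting square roots
-/

set_option autoImplicit false
set_option linter.style.haveILetI false

namespace CfsgLib.CharApps

open Cfsg CfsgLib.Chars Module
open scoped ComplexConjugate Matrix

universe u

variable {G : Type u} [Group G]

/-- The Frobenius-Schur indicator. -/
noncomputable def fsInd [Fintype G] (χ : G → ℂ) : ℂ := (Nat.card G : ℂ)⁻¹ * ∑ g : G, χ (g * g)

section Rep

variable {n : ℕ} (ρ : Representation ℂ G (Fin n → ℂ))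

/-- The matrix of a group element. -/
noncomputable def repMat (g : G) : Matrix (Fin n) (Fin n) ℂ := LinearMap.toMatrix' (ρ g)

theorem repMat_mul (a b : G) : repMat ρ (a * b) = repMat ρ a * repMat ρ b := by
  simp [repMat, map_mul, Module.End.mul_eq_comp, LinearMap.toMatrix'_comp]

theorem repMat_one : repMat ρ 1 = 1 := by
  simp [repMat, Module.End.one_eq_id]

theorem trace_repMat (g : G) : ρ.character g = ∑ i, repMat ρ g i i := by
  rw [Representation.character, LinearMap.trace_eq_matrix_trace ℂ (Pi.basisFun ℂ (Fin n)),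
    LinearMap.toMatrix_eq_toMatrix']
  rfl

/-- The contragredient in coordinates. -/
noncomputable def contraRep : Representation ℂ G (Fin n → ℂ) where
  toFun g := Matrix.toLin' (repMat ρ g⁻¹)ᵀ
  map_one' := by simp [repMat_one, Module.End.one_eq_id]
  map_mul' a b := by
    rw [mul_inv_rev, repMat_mul, Matrix.transpose_mul, Matrix.toLin'_mul, Module.End.mul_eq_comp]

theorem character_contraRep [Finite G] (g : G) :
    (contraRep ρ).character g = conj (ρ.character g) := by
  rw [← character_inv, trace_repMat ρ g⁻¹]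
  show LinearMap.trace ℂ (Fin n → ℂ) (Matrix.toLin' (repMat ρ g⁻¹)ᵀ) = _
  rw [Matrix.trace_toLin'_eq, Matrix.trace_transpose]
  rfl

/-- The averaged bilinear form attached to `Y`. -/
noncomputable def symAvg [Fintype G] (Y : Matrix (Fin n) (Fin n) ℂ) : Matrix (Fin n) (Fin n) ℂ :=
  ∑ g : G, repMat ρ g * Y * (repMat ρ g)ᵀ

theorem symAvg_transpose [Fintype G] (Y : Matrix (Fin n) (Fin n) ℂ) :
    (symAvg ρ Y)ᵀ = symAvg ρ Yᵀ := by
  simp [symAvg, Matrix.transpose_sum, Matrix.transpose_mul, Matrix.mul_assoc]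

theorem symAvg_single_apply [Fintype G] (j l i k : Fin n) :
    symAvg ρ (Matrix.single j l (1 : ℂ)) i k = ∑ g : G, repMat ρ g i j * repMat ρ g k l := by
  rw [symAvg, Matrix.sum_apply]
  refine Finset.sum_congr rfl fun g _ => ?_
  simp [Matrix.mul_apply, Matrix.single, Finset.sum_mul, ite_and]

theorem symAvg_comm [Fintype G] (Y : Matrix (Fin n) (Fin n) ℂ) (h : G) :
    repMat ρ h * symAvg ρ Y = symAvg ρ Y * (repMat ρ h⁻¹)ᵀ := by
  rw [symAvg, Finset.mul_sum, Finset.sum_mul]
  refine Fintype.sum_equiv (Equiv.mulLeft h) _ _ fun g => ?_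
  simp only [Equiv.coe_mulLeft, repMat_mul, Matrix.transpose_mul, Matrix.mul_assoc]
  rw [← Matrix.transpose_mul (repMat ρ h⁻¹) (repMat ρ h), ← repMat_mul, inv_mul_cancel,
    repMat_one, Matrix.transpose_one, Matrix.mul_one]

/-- `symAvg` as an intertwiner from the contragredient. -/
noncomputable def symAvgMap [Fintype G] (Y : Matrix (Fin n) (Fin n) ℂ) :
    (contraRep ρ).IntertwiningMap ρ :=
  LinearMap.intertwiningMap_of_isIntertwiningMap (contraRep ρ) ρ (Matrix.toLin' (symAvg ρ Y))
    (fun h x => by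
      have h1 : ρ h = Matrix.toLin' (repMat ρ h) := (Matrix.toLin'_toMatrix' (ρ h)).symm
      show Matrix.toLin' (symAvg ρ Y) (Matrix.toLin' (repMat ρ h⁻¹)ᵀ x) =
        ρ h (Matrix.toLin' (symAvg ρ Y) x)
      rw [h1, ← LinearMap.comp_apply, ← Matrix.toLin'_mul, ← LinearMap.comp_apply,
        ← Matrix.toLin'_mul, symAvg_comm])

theorem symAvgMap_toLinearMap [Fintype G] (Y : Matrix (Fin n) (Fin n) ℂ) :
    (symAvgMap ρ Y).toLinearMap = Matrix.toLin' (symAvg ρ Y) := rfl

theorem sum_char_sq_elem [Fintype G] :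
    ∑ g : G, ρ.character (g * g) = ∑ i, ∑ j, symAvg ρ (Matrix.single j i (1 : ℂ)) i j := by
  simp only [symAvg_single_apply]
  rw [Finset.sum_congr rfl (fun g _ => trace_repMat ρ (g * g)), Finset.sum_comm]
  refine Finset.sum_congr rfl fun i _ => ?_
  rw [Finset.sum_comm]
  refine Finset.sum_congr rfl fun g _ => ?_
  rw [repMat_mul, Matrix.mul_apply]

theorem sum_char_char [Fintype G] :
    ∑ g : G, ρ.character g * ρ.character g =
      ∑ i, ∑ k, symAvg ρ (Matrix.single i k (1 : ℂ)) i k := by
  simp only [symAvg_single_apply]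
  simp only [trace_repMat, Finset.sum_mul_sum]
  rw [Finset.sum_comm]
  refine Finset.sum_congr rfl fun i _ => ?_
  rw [Finset.sum_comm]

end Rep

variable [Fintype G]

theorem inner_conj_self_eq (χ : G → ℂ) :
    classInner χ (fun g => conj (χ g)) = (Nat.card G : ℂ)⁻¹ * ∑ g : G, χ g * χ g := by
  simp [inner_def]

/-- The indicator of a character that is not real-valued is zero. -/
theorem fsInd_eq_zero (χ : IrrCharacter G) (h : ∃ g : G, conj ((χ : G → ℂ) g) ≠ (χ : G → ℂ) g) :
    fsInd (χ : G → ℂ) = 0 := by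
  obtain ⟨g0, hg0⟩ := h
  obtain ⟨n, ρ, hρ, hχ⟩ := χ.2
  rw [← hχ] at hg0 ⊢
  haveI := hρ
  have hc : IsIrrCharacter G (contraRep ρ).character := by
    rw [show (contraRep ρ).character = fun g => conj (ρ.character g) from
      funext (character_contraRep ρ)]
    exact isIrrCharacter_conj (isIrrCharacter_character ρ)
  have h0 : classInner ρ.character (contraRep ρ).character = 0 := by
    refine inner_irr_ne (χ := ⟨ρ.character, isIrrCharacter_character ρ⟩)
      (ψ := ⟨(contraRep ρ).character, hc⟩) fun he => hg0 ?_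
    have h2 : ρ.character g0 = (contraRep ρ).character g0 := congrFun (congrArg Subtype.val he) g0
    rw [character_contraRep] at h2
    exact h2.symm
  rw [inner_character, Nat.cast_eq_zero] at h0
  haveI : Subsingleton ((contraRep ρ).IntertwiningMap ρ) :=
    (Module.finrank_zero_iff (R := ℂ)).mp h0
  have hz : ∀ Y, symAvg ρ Y = 0 := fun Y => by
    have h1 := congrArg Representation.IntertwiningMap.toLinearMap
      (Subsingleton.elim (symAvgMap ρ Y) 0)
    rw [symAvgMap_toLinearMap] at h1
    exact Matrix.toLin'.injective (h1.trans (map_zero Matrix.toLin').symm)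
  rw [fsInd, sum_char_sq_elem]
  simp [hz]

/-- The indicator of a real-valued irreducible character is a sign. -/
theorem fsInd_of_real (χ : IrrCharacter G) (h : ∀ g : G, conj ((χ : G → ℂ) g) = (χ : G → ℂ) g) :
    fsInd (χ : G → ℂ) = 1 ∨ fsInd (χ : G → ℂ) = -1 := by
  obtain ⟨n, ρ, hρ, hχ⟩ := χ.2
  rw [← hχ] at h ⊢
  haveI := hρ
  have hce : (contraRep ρ).character = ρ.character :=
    funext fun g => (character_contraRep ρ g).trans (h g)
  have h1 : finrank ℂ ((contraRep ρ).IntertwiningMap ρ) = 1 := by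
    have h1 := inner_character ρ (contraRep ρ)
    rw [hce, inner_self_irr] at h1
    exact_mod_cast h1.symm
  obtain ⟨B, hB0, hB⟩ := finrank_eq_one_iff'.mp h1
  set M : Matrix (Fin n) (Fin n) ℂ := LinearMap.toMatrix' B.toLinearMap
  have hlam : ∀ Y, ∃ c : ℂ, symAvg ρ Y = c • M := fun Y => by
    obtain ⟨c, hc⟩ := hB (symAvgMap ρ Y)
    refine ⟨c, ?_⟩
    have h2 := congrArg (fun f => LinearMap.toMatrix' (Representation.IntertwiningMap.toLinearMap f))
      hc
    simp only [symAvgMap_toLinearMap, LinearMap.toMatrix'_toLin'] at h2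
    rw [← h2]
    exact map_smul LinearMap.toMatrix' c B.toLinearMap
  choose c hc using hlam
  have hnorm : (Nat.card G : ℂ)⁻¹ * ∑ i, ∑ k, c (Matrix.single i k 1) * M i k = 1 := by
    have h2 := inner_conj_self_eq ρ.character
    rw [funext h, inner_self_irr] at h2
    rw [sum_char_char] at h2
    refine Eq.trans ?_ h2.symm
    simp [hc]
  obtain ⟨i0, k0, hik⟩ : ∃ i k, c (Matrix.single i k 1) ≠ 0 := by
    by_contra hcon
    push Not at hcon
    simp [hcon] at hnorm
  set ε : ℂ := c (Matrix.single k0 i0 1) / c (Matrix.single i0 k0 1) with hε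
  have hMT : Mᵀ = ε • M := by
    have h2 := symAvg_transpose ρ (Matrix.single i0 k0 (1 : ℂ))
    rw [Matrix.transpose_single, hc, hc, Matrix.transpose_smul] at h2
    rw [hε, div_eq_inv_mul, mul_smul, ← h2, smul_smul, inv_mul_cancel₀ hik, one_smul]
  have hM0 : M ≠ 0 := fun h0 => hB0 (Representation.IntertwiningMap.toLinearMap_injective _ _
    (LinearMap.toMatrix'.injective (h0.trans (map_zero LinearMap.toMatrix').symm)))
  have hε2 : ε = 1 ∨ ε = -1 := by
    have h2 : M = (ε * ε) • M := by
      conv_lhs => rw [← Matrix.transpose_transpose M, hMT, Matrix.transpose_smul, hMT, smul_smul]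
    have h3 : ((ε * ε) - 1) • M = 0 := by rw [sub_smul, ← h2, one_smul, sub_self]
    exact mul_self_eq_one_iff.mp (sub_eq_zero.mp ((smul_eq_zero.mp h3).resolve_right hM0))
  have hsw : ∀ i j : Fin n, c (Matrix.single j i 1) = ε * c (Matrix.single i j 1) := by
    intro i j
    have h2 := symAvg_transpose ρ (Matrix.single i j (1 : ℂ))
    rw [Matrix.transpose_single, hc, hc, Matrix.transpose_smul, hMT, smul_smul] at h2
    rw [mul_comm]
    exact (smul_left_injective ℂ hM0 h2).symm
  have hval : fsInd ρ.character = ε := by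
    rw [fsInd, sum_char_sq_elem]
    conv_rhs => rw [← mul_one ε, ← hnorm, mul_left_comm, Finset.mul_sum]
    refine congrArg _ (Finset.sum_congr rfl fun i _ => ?_)
    rw [Finset.mul_sum]
    refine Finset.sum_congr rfl fun j _ => ?_
    rw [hc, Matrix.smul_apply, smul_eq_mul, hsw, mul_assoc]
  rcases hε2 with h2 | h2 <;> simp [hval, h2]

theorem fsInd_conj {χ : G → ℂ} (h : IsCharacter G χ) : conj (fsInd χ) = fsInd χ := by
  rw [fsInd, map_mul, map_inv₀, map_natCast, map_sum]
  refine congrArg _ (Fintype.sum_equiv (Equiv.inv G) _ _ fun g => ?_)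
  rw [← char_inv h, Equiv.inv_apply, mul_inv_rev]

theorem fsInd_one : fsInd (fun _ : G => (1 : ℂ)) = 1 := by
  simp [fsInd, Nat.card_eq_fintype_card]

/-- The square root count is the combination of the irreducible characters by their indicators. -/
theorem card_sqrt_eq [Fintype (IrrCharacter G)] (z : G) :
    (Nat.card {u : G // u * u = z} : ℂ) =
      ∑ χ : IrrCharacter G, fsInd (χ : G → ℂ) * (χ : G → ℂ) z := by
  classical
  let f : G → ℂ := fun w => (Nat.card {u : G // u * u = w} : ℂ)
  have hf : IsClassFunction G f := fun g h => by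
    refine congrArg Nat.cast (Nat.card_congr ?_)
    refine ((MulAut.conj h).toEquiv.subtypeEquiv fun u => ?_).symm
    show u * u = g ↔ MulAut.conj h u * MulAut.conj h u = h * g * h⁻¹
    rw [← map_mul, MulAut.conj_apply]
    exact ⟨fun hu => by rw [hu], fun hu => mul_left_cancel (mul_right_cancel hu)⟩
  have hinner : ∀ χ : IrrCharacter G, classInner f (χ : G → ℂ) = fsInd (χ : G → ℂ) := by
    intro χ
    rw [← fsInd_conj (isCharacter_of_irr χ.2), fsInd, map_mul, map_inv₀, map_natCast, map_sum,
      inner_def, ← Finset.sum_fiberwise Finset.univ (fun u : G => u * u)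
        (fun u : G => conj ((χ : G → ℂ) (u * u)))]
    refine congrArg _ (Finset.sum_congr rfl fun w _ => ?_)
    rw [Finset.sum_congr rfl (g := fun _ => conj ((χ : G → ℂ) w))
      (fun u hu => by rw [(Finset.mem_filter.mp hu).2]), Finset.sum_const, nsmul_eq_mul]
    simp [f, Nat.card_eq_fintype_card, Fintype.card_subtype]
  have h1 := congrFun (classFun_eq_sum hf) z
  rw [Finset.sum_apply] at h1
  simp only [Pi.smul_apply, smul_eq_mul, hinner] at h1
  exact h1

end CfsgLib.CharApps
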