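import Cfsg.Agent.Lib.Chars.Permutation
import Cfsg.Agent.Lib.Chars.Induction
import Cfsg.Agent.Lib.CharApps.FrobeniusSchur
import Cfsg.Agent.Lib.CharsMore.Clifford

/-!
# Real characters and normal subgroups of odd index
-/

set_option autoImplicit false
set_option linter.style.haveILetI false
set_option linter.unusedSectionVars false

namespace CfsgLib.CharApps.RealOrbits

open Cfsg CfsgLib CfsgLib.CharsMore
open scoped ComplexConjugate

variable {G : Type*} [Group G] [Finite G] (K : Subgroup G) [K.Normal]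

section Twist

variable {X : Type*} [MulAction G X]

/-- A commuting involution composed with an odd-order symmetry fixes exactly the common fixed
points. -/
theorem fixed_of_twist (hodd : Odd K.index) (ι : X → X) (hι : ∀ x, ι (ι x) = x)
    (hc : ∀ (g : G) x, ι (g • x) = g • ι x) (htriv : ∀ k ∈ K, ∀ x : X, k • x = x) {g : G} {x : X}
    (h : g • ι x = x) : g • x = x ∧ ι x = x := by
  have h1 : g • g • x = x := by
    conv_lhs => rw [← hι x, ← hc]
    rw [h, h]
  obtain ⟨m, hm⟩ := hodd
  have h2 : g ^ (2 * m + 1) • x = x := htriv _ (hm ▸ K.pow_index_mem g) x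
  have h3 : ∀ j : ℕ, g ^ (2 * j) • x = x := by
    intro j
    induction j with
    | zero => simp
    | succ j ih => rw [Nat.mul_succ, pow_add, mul_smul, pow_two, mul_smul, h1, ih]
  have h4 : g • x = x := by rwa [pow_succ', mul_smul, h3] at h2
  refine ⟨h4, ?_⟩
  have h5 := hc g x
  rw [h4, h] at h5
  exact h5

/-- The action on the fixed points of a commuting map. -/
@[implicit_reducible]
def fixedAction (ι : X → X) (hc : ∀ (g : G) x, ι (g • x) = g • ι x) :
    MulAction G {x : X // ι x = x} where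
  smul g x := ⟨g • x.1, by rw [hc, x.2]⟩
  one_smul x := Subtype.ext (one_smul G x.1)
  mul_smul g h x := Subtype.ext (mul_smul g h x.1)

/-- The orbits on the fixed points of a commuting map. -/
abbrev Orbits (ι : X → X) (hc : ∀ (g : G) x, ι (g • x) = g • ι x) :=
  @MulAction.orbitRel.Quotient G {x : X // ι x = x} _ (fixedAction ι hc)

theorem card_orbits_eq_sum [Finite X] (hodd : Odd K.index) (ι : X → X) (hι : ∀ x, ι (ι x) = x)
    (hc : ∀ (g : G) x, ι (g • x) = g • ι x) (htriv : ∀ k ∈ K, ∀ x : X, k • x = x) [Fintype G] :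
    ∑ g : G, Nat.card {x : X // g • ι x = x} =
      Nat.card (Orbits ι hc) * Nat.card G := by
  classical
  letI := fixedAction ι hc
  haveI := Fintype.ofFinite {x : X // ι x = x}
  haveI := Fintype.ofFinite (MulAction.orbitRel.Quotient G {x : X // ι x = x})
  rw [Nat.card_eq_fintype_card, Nat.card_eq_fintype_card,
    ← MulAction.sum_card_fixedBy_eq_card_orbits_mul_card_group]
  refine Finset.sum_congr rfl fun g _ => ?_
  rw [← Nat.card_eq_fintype_card]
  refine Nat.card_congr
    { toFun := fun x => ⟨⟨x.1, (fixed_of_twist K hodd ι hι hc htriv x.2).2⟩,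
        Subtype.ext (fixed_of_twist K hodd ι hι hc htriv x.2).1⟩
      invFun := fun x => ⟨x.1.1, by rw [x.1.2]; exact congrArg Subtype.val x.2⟩
      left_inv := fun x => rfl
      right_inv := fun x => rfl }

end Twist

/-- Conjugation of irreducible characters of a normal subgroup. -/
@[implicit_reducible]
noncomputable def irrAction : MulAction G (IrrCharacter K) where
  smul g θ := ⟨conjFn K g⁻¹ (θ : K → ℂ), by
    haveI := Fintype.ofFinite G
    exact isIrr_conjFn K g⁻¹ θ.2⟩
  one_smul θ := by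
    haveI := Fintype.ofFinite G
    exact Subtype.ext (show conjFn K (1 : G)⁻¹ (θ : K → ℂ) = θ by rw [inv_one, conjFn_one])
  mul_smul g h θ := by
    haveI := Fintype.ofFinite G
    exact Subtype.ext (show conjFn K (g * h)⁻¹ (θ : K → ℂ) = conjFn K g⁻¹ (conjFn K h⁻¹ θ) by
      rw [mul_inv_rev, conjFn_mul])

attribute [local instance] irrAction

theorem smul_irr_apply (g : G) (θ : IrrCharacter K) (k : K) :
    ((g • θ : IrrCharacter K) : K → ℂ) k = (θ : K → ℂ) (conjBy K g⁻¹ k) := rfl

/-- Conjugation of the classes of a normal subgroup. -/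
@[implicit_reducible]
noncomputable def classAction : MulAction G (ConjClasses K) where
  smul g C := C.map (conjBy K g)
  one_smul C := by
    obtain ⟨k, rfl⟩ := ConjClasses.mk_surjective C
    exact congrArg ConjClasses.mk (Subtype.ext (show (1 : G) * k * 1⁻¹ = k by simp))
  mul_smul g h C := by
    obtain ⟨k, rfl⟩ := ConjClasses.mk_surjective C
    exact congrArg ConjClasses.mk (Subtype.ext
      (show (g * h) * (k : G) * (g * h)⁻¹ = g * (h * k * h⁻¹) * g⁻¹ by simp [mul_assoc]))

attribute [local instance] classAction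

theorem smul_class_mk (g : G) (k : K) :
    g • ConjClasses.mk k = ConjClasses.mk (conjBy K g k) := rfl

/-- The class of inverses. -/
def invClass {H : Type*} [Group H] : ConjClasses H → ConjClasses H :=
  Quotient.lift (fun g => ConjClasses.mk g⁻¹) (fun a b hab => by
    obtain ⟨c, rfl⟩ := isConj_iff.mp hab
    exact ConjClasses.mk_eq_mk_iff_isConj.mpr (isConj_iff.mpr ⟨c, by simp [mul_assoc]⟩))

theorem invClass_mk {H : Type*} [Group H] (a : H) :
    invClass (ConjClasses.mk a) = ConjClasses.mk a⁻¹ := rfl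

theorem invClass_invClass (C : ConjClasses K) : invClass (invClass C) = C := by
  obtain ⟨k, rfl⟩ := ConjClasses.mk_surjective C
  rw [invClass_mk, invClass_mk, inv_inv]

theorem invClass_smul (g : G) (C : ConjClasses K) : invClass (g • C) = g • invClass C := by
  obtain ⟨k, rfl⟩ := ConjClasses.mk_surjective C
  rw [invClass_mk, smul_class_mk, smul_class_mk, invClass_mk, map_inv]

theorem smul_class_mem (a : G) (ha : a ∈ K) (C : ConjClasses K) : a • C = C := by
  obtain ⟨k, rfl⟩ := ConjClasses.mk_surjective C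
  rw [smul_class_mk]
  refine ConjClasses.mk_eq_mk_iff_isConj.mpr (IsConj.symm (isConj_iff.mpr ⟨⟨a, ha⟩, ?_⟩))
  exact Subtype.ext (by simp)

theorem conjIrr_smul (g : G) (θ : IrrCharacter K) :
    Chars.conjIrr (g • θ) = g • Chars.conjIrr θ := rfl

theorem smul_irr_mem (a : G) (ha : a ∈ K) (θ : IrrCharacter K) : a • θ = θ := by
  haveI := Fintype.ofFinite G
  refine Subtype.ext (funext fun k => ?_)
  rw [smul_irr_apply]
  exact (mem_inertia K).1 (le_inertia K (Chars.isClassFunction_irr θ) (K.inv_mem ha)) k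

theorem card_twist_eq (g : G) :
    Nat.card {C : ConjClasses K // g • invClass C = C} =
      Nat.card {θ : IrrCharacter K // g • Chars.conjIrr θ = θ} := by
  let e : K ≃ K :=
    { toFun := fun k => (conjBy K g k)⁻¹
      invFun := fun k => conjBy K g⁻¹ k⁻¹
      left_inv := fun k => by ext; simp [mul_assoc]
      right_inv := fun k => by ext; simp [mul_assoc] }
  refine Chars.brauer_permutation e (fun C => g • invClass C) (fun k => ?_)
    (fun θ => g • Chars.conjIrr θ) (fun θ k => ?_)
  · rw [invClass_mk, smul_class_mk, map_inv]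
    rfl
  · rw [smul_irr_apply]
    show conj ((θ : K → ℂ) (conjBy K g⁻¹ k)) = (θ : K → ℂ) (conjBy K g⁻¹ k⁻¹)
    rw [map_inv, Chars.irr_inv]

/-- The orbit relation of the real characters in the form of conjugation. -/
def CharRel (θ η : {θ : IrrCharacter K // ∀ k : K, ((θ : K → ℂ) k).im = 0}) : Prop :=
  ∃ g : G, ∀ k k' : K, (k' : G) = g * (k : G) * g⁻¹ → (η.1 : K → ℂ) k' = (θ.1 : K → ℂ) k

/-- The orbit relation of the real elements in the form of conjugation. -/
def ElemRel (x y : {x : K // IsConj x x⁻¹}) : Prop :=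
  ∃ g : G, (y.1 : G) = g * x.1 * g⁻¹

theorem charRel_iff_smul (θ η : {θ : IrrCharacter K // ∀ k : K, ((θ : K → ℂ) k).im = 0}) :
    CharRel K θ η ↔ ∃ g : G, g • θ.1 = η.1 := by
  constructor
  · rintro ⟨g, hg⟩
    refine ⟨g, Subtype.ext (funext fun k => ?_)⟩
    rw [smul_irr_apply]
    exact (hg (conjBy K g⁻¹ k) k (by simp [mul_assoc])).symm
  · rintro ⟨g, hg⟩
    refine ⟨g, fun k k' hk => ?_⟩
    rw [← hg, smul_irr_apply]
    exact congrArg _ (Subtype.ext (by simp [hk, mul_assoc]))

theorem card_charOrbits_eq :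
    Nat.card (Quot (CharRel K)) =
      Nat.card (Orbits (G := G) (Chars.conjIrr (G := K)) (conjIrr_smul K)) := by
  letI := fixedAction (G := G) (Chars.conjIrr (G := K)) (conjIrr_smul K)
  refine Nat.card_congr (Quot.congr
    (Equiv.subtypeEquivRight fun θ => (Chars.conjIrr_eq_iff θ).symm) fun θ η => ?_)
  rw [charRel_iff_smul, MulAction.orbitRel_apply, MulAction.mem_orbit_iff]
  constructor
  · rintro ⟨g, hg⟩
    refine ⟨g⁻¹, Subtype.ext ?_⟩
    show g⁻¹ • η.1 = θ.1
    rw [← hg, inv_smul_smul]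
  · rintro ⟨g, hg⟩
    refine ⟨g⁻¹, ?_⟩
    have hg' : g • η.1 = θ.1 := congrArg Subtype.val hg
    rw [← hg', inv_smul_smul]

theorem card_elemOrbits_eq :
    Nat.card (Quot (ElemRel K)) =
      Nat.card (Orbits (G := G) (invClass (H := K)) (invClass_smul K)) := by
  letI := fixedAction (G := G) (invClass (H := K)) (invClass_smul K)
  let f : Quot (ElemRel K) →
      MulAction.orbitRel.Quotient G {C : ConjClasses K // invClass C = C} :=
    Quot.lift (fun x => Quotient.mk'' ⟨ConjClasses.mk x.1,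
      (invClass_mk x.1).trans (ConjClasses.mk_eq_mk_iff_isConj.mpr x.2.symm)⟩)
      (fun x y ⟨g, hg⟩ => Quotient.sound' (by
        rw [MulAction.orbitRel_apply, MulAction.mem_orbit_iff]
        refine ⟨g⁻¹, Subtype.ext ?_⟩
        show g⁻¹ • ConjClasses.mk y.1 = ConjClasses.mk x.1
        rw [smul_class_mk]
        exact congrArg ConjClasses.mk (Subtype.ext (by simp [hg, mul_assoc]))))
  refine Nat.card_congr (Equiv.ofBijective f ⟨?_, ?_⟩)
  · refine fun a b => Quot.induction_on a fun x => Quot.induction_on b fun y h => ?_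
    have h' := Quotient.exact' h
    rw [MulAction.orbitRel_apply, MulAction.mem_orbit_iff] at h'
    obtain ⟨g, hg⟩ := h'
    have hg' : g • ConjClasses.mk y.1 = ConjClasses.mk x.1 := congrArg Subtype.val hg
    rw [smul_class_mk] at hg'
    obtain ⟨k, hk⟩ := isConj_iff.mp (ConjClasses.mk_eq_mk_iff_isConj.mp hg')
    refine Quot.sound ⟨((k : G) * g)⁻¹, ?_⟩
    rw [← hk]
    simp [mul_assoc]
  · intro q
    obtain ⟨⟨C, hC⟩, rfl⟩ := Quotient.mk''_surjective q
    obtain ⟨x, rfl⟩ := ConjClasses.mk_surjective C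
    exact ⟨Quot.mk _ ⟨x, (ConjClasses.mk_eq_mk_iff_isConj.mp hC).symm⟩, rfl⟩

/-- Orbits on real characters and on real elements of a normal subgroup of odd index. -/
theorem card_charOrbits_eq_card_elemOrbits (hodd : Odd K.index) :
    Nat.card (Quot (CharRel K)) = Nat.card (Quot (ElemRel K)) := by
  haveI := Fintype.ofFinite G
  haveI := Chars.irrFintype K
  rw [card_charOrbits_eq, card_elemOrbits_eq]
  have h1 := card_orbits_eq_sum K hodd (Chars.conjIrr (G := K)) Chars.conjIrr_conjIrr
    (conjIrr_smul K) (smul_irr_mem K)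
  have h2 := card_orbits_eq_sum K hodd (invClass (H := K)) (invClass_invClass K)
    (invClass_smul K) (smul_class_mem K)
  have h3 : ∑ g : G, Nat.card {C : ConjClasses K // g • invClass C = C} =
      ∑ g : G, Nat.card {θ : IrrCharacter K // g • Chars.conjIrr θ = θ} :=
    Finset.sum_congr rfl fun g _ => card_twist_eq K g
  rw [h1, h2] at h3
  exact (Nat.eq_of_mul_eq_mul_right Nat.card_pos h3).symm

/-- The real elements of `G` lie in `K` and are real there. -/
theorem real_inside (hodd : Odd K.index) {x : G} (hx : IsConj x x⁻¹) :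
    ∃ h : x ∈ K, IsConj (⟨x, h⟩ : K) ⟨x, h⟩⁻¹ := by
  have hmem : x ∈ K := by
    have h1 := (QuotientGroup.mk' K).map_isConj hx
    rw [map_inv] at h1
    have h2 := Chars.eq_one_of_isConj_inv
      (by rw [← Subgroup.index_eq_card]; exact hodd) h1
    exact (QuotientGroup.eq_one_iff x).mp h2
  obtain ⟨g, hg⟩ := isConj_iff.mp hx
  refine ⟨hmem, ?_⟩
  have h := (fixed_of_twist K hodd (invClass (H := K)) (invClass_invClass K) (invClass_smul K)
    (smul_class_mem K) (g := g) (x := ConjClasses.mk (⟨x, hmem⟩ : K)) (by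
      rw [invClass_mk, smul_class_mk, map_inv]
      refine congrArg ConjClasses.mk (inv_eq_iff_eq_inv.mpr (Subtype.ext ?_))
      simp [hg])).2
  exact (ConjClasses.mk_eq_mk_iff_isConj.mp h).symm

theorem card_real_classes_eq (hodd : Odd K.index) :
    Nat.card {C : ConjClasses G // ∀ g : G, ConjClasses.mk g = C → IsConj g g⁻¹} =
      Nat.card (Quot (ElemRel K)) := by
  let f : Quot (ElemRel K) →
      {C : ConjClasses G // ∀ g : G, ConjClasses.mk g = C → IsConj g g⁻¹} :=
    Quot.lift (fun x => ⟨ConjClasses.mk (x.1 : G), fun g hg => by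
      have h1 : IsConj g (x.1 : G) := ConjClasses.mk_eq_mk_iff_isConj.mp hg
      have h2 : IsConj (x.1 : G) (x.1 : G)⁻¹ := by simpa using K.subtype.map_isConj x.2
      obtain ⟨c, hc⟩ := isConj_iff.mp h1
      exact h1.trans (h2.trans (isConj_iff.mpr ⟨c⁻¹, by rw [← hc]; simp [mul_assoc]⟩))⟩)
      (fun x y ⟨g, hg⟩ => Subtype.ext (ConjClasses.mk_eq_mk_iff_isConj.mpr
        (isConj_iff.mpr ⟨g, hg.symm⟩)))
  refine (Nat.card_congr (Equiv.ofBijective f ⟨?_, ?_⟩)).symm
  · refine fun a b => Quot.induction_on a fun x => Quot.induction_on b fun y h => ?_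
    obtain ⟨g, hg⟩ := isConj_iff.mp
      (ConjClasses.mk_eq_mk_iff_isConj.mp (congrArg Subtype.val h))
    exact Quot.sound ⟨g, hg.symm⟩
  · rintro ⟨C, hC⟩
    obtain ⟨x, rfl⟩ := ConjClasses.mk_surjective C
    obtain ⟨hm, hc⟩ := real_inside K hodd (hC x rfl)
    exact ⟨Quot.mk _ ⟨⟨x, hm⟩, hc⟩, Subtype.ext rfl⟩

theorem fsInd_indFun [Fintype G] [Fintype K] (hodd : Odd K.index) (θ : K → ℂ) :
    fsInd (indFun K θ) = fsInd θ := by
  classical
  have hsq : ∀ g : G, g ∉ K → g * g ∉ K := by
    intro g hg hgg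
    refine hg ?_
    obtain ⟨m, hm⟩ := hodd
    have h1 : g ^ (2 * m) ∈ K := by rw [pow_mul, pow_two]; exact K.pow_mem hgg m
    have h2 : g ^ (2 * m + 1) ∈ K := hm ▸ K.pow_index_mem g
    rw [pow_succ] at h2
    exact (K.mul_mem_cancel_left h1).mp h2
  have hzero : ∀ g : G, g ∉ K → indFun K θ (g * g) = 0 := by
    intro g hg
    rw [Chars.indFun_apply]
    refine mul_eq_zero_of_right _ (Finset.sum_eq_zero fun y _ => ?_)
    refine Chars.extendByZero_of_not_mem K θ fun hc => hsq g hg ?_
    have h2 := ‹K.Normal›.conj_mem _ hc y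
    simpa [mul_assoc] using h2
  have hconj : ∀ x : G, fsInd (conjFn K x θ) = fsInd θ := by
    intro x
    have hb : Function.Bijective (conjBy K x) :=
      ⟨fun a b h => Subtype.ext (by simpa using congrArg Subtype.val h), conjBy_surjective K x⟩
    simp only [fsInd]
    refine congrArg _ (Fintype.sum_bijective _ hb _ _ fun k => ?_)
    rw [← map_mul]
    rfl
  have hsum : ∑ g : G, indFun K θ (g * g) = ∑ k : K, indFun K θ ((k : G) * k) := by
    rw [← Finset.sum_subtype (Finset.univ.filter fun g : G => g ∈ K) (fun x => by simp)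
      fun g => indFun K θ (g * g), Finset.sum_filter]
    refine Finset.sum_congr rfl fun g _ => ?_
    split_ifs with hg
    · rfl
    · exact hzero g hg
  have hpt : ∀ k : K, indFun K θ ((k : G) * k) =
      (Nat.card K : ℂ)⁻¹ * ∑ x : G, conjFn K x θ (k * k) := fun k =>
    indFun_normal_apply K θ (k * k)
  conv_lhs => rw [fsInd, hsum]
  simp only [hpt]
  rw [← Finset.mul_sum, Finset.sum_comm, ← mul_assoc, mul_comm _ (Nat.card K : ℂ)⁻¹, mul_assoc,
    ← mul_left_comm, Finset.mul_sum]
  rw [Finset.sum_congr rfl (fun (x : G) _ => show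
    (Nat.card K : ℂ)⁻¹ * ∑ k : K, conjFn K x θ (k * k) = fsInd θ from hconj x)]
  rw [Finset.sum_const, Finset.card_univ, ← Nat.card_eq_fintype_card, nsmul_eq_mul,
    inv_mul_cancel_left₀ (Chars.card_ne_zero G)]

theorem fsInd_eq_sum [Fintype G] [Fintype (IrrCharacter G)] {ψ : G → ℂ}
    (hψ : IsClassFunction G ψ) :
    fsInd ψ = ∑ χ : IrrCharacter G, classInner ψ χ * fsInd (χ : G → ℂ) := by
  conv_lhs => rw [Chars.classFun_eq_sum hψ]
  simp only [fsInd, Finset.sum_apply, Pi.smul_apply, smul_eq_mul, Finset.mul_sum]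
  rw [Finset.sum_comm]
  exact Finset.sum_congr rfl fun χ _ => Finset.sum_congr rfl fun g _ => by ring

/-- Every real irreducible character of a normal subgroup of odd index lies below exactly one
real irreducible character, and it has the same indicator. -/
theorem existsUnique_real_over [Fintype G] [Fintype K] (hodd : Odd K.index) (θ : IrrCharacter K)
    (hθ : ∀ k : K, ((θ : K → ℂ) k).im = 0) :
    ∃ χ : IrrCharacter G, (∀ g : G, ((χ : G → ℂ) g).im = 0) ∧
      classInner (fun k : K => (χ : G → ℂ) k) (θ : K → ℂ) ≠ 0 ∧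
      fsInd (χ : G → ℂ) = fsInd (θ : K → ℂ) ∧
      ∀ χ' : IrrCharacter G, (∀ g : G, ((χ' : G → ℂ) g).im = 0) →
        classInner (fun k : K => (χ' : G → ℂ) k) (θ : K → ℂ) ≠ 0 → χ' = χ := by
  classical
  haveI := Chars.irrFintype G
  haveI := Chars.irrFintype K
  set R := {χ : IrrCharacter G // ∀ g : G, ((χ : G → ℂ) g).im = 0}
  set S := {θ : IrrCharacter K // ∀ k : K, ((θ : K → ℂ) k).im = 0}
  have hex : ∀ χ : R, ∃ η : S, classInner (fun k : K => (χ.1 : G → ℂ) k) (η.1 : K → ℂ) ≠ 0 := by
    intro χ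
    have hres := Chars.isCharacter_restrict K (Chars.isCharacter_of_irr χ.1.2)
    obtain ⟨η, hη⟩ := Chars.exists_constituent hres fun h0 => by
      have := congrFun h0 1
      exact Chars.irr_degree_ne_zero χ.1.2 (by simpa using this)
    refine ⟨⟨η, (Chars.conjIrr_eq_iff η).mp ?_⟩, hη⟩
    have h2 : classInner (fun k : K => (χ.1 : G → ℂ) k) (Chars.conjIrr η : K → ℂ) ≠ 0 := by
      have e : classInner (fun k : K => (χ.1 : G → ℂ) k) (Chars.conjIrr η : K → ℂ) =
          conj (classInner (fun k : K => (χ.1 : G → ℂ) k) (η : K → ℂ)) := by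
        simp only [Chars.inner_def, map_mul, map_sum, map_inv₀, map_natCast]
        refine congrArg _ (Finset.sum_congr rfl fun k _ => ?_)
        rw [Complex.conj_eq_iff_im.mpr (χ.2 k)]
        rfl
      rw [e]
      exact (map_ne_zero _).mpr hη
    obtain ⟨g, hg⟩ := restrict_constituents_conj K χ.1.2 η.2 (Chars.conjIrr η).2 hη h2
    refine (fixed_of_twist K hodd (Chars.conjIrr (G := K)) Chars.conjIrr_conjIrr
      (conjIrr_smul K) (smul_irr_mem K) (g := g) (x := η) ?_).2
    have hg' : g⁻¹ • η = Chars.conjIrr η := Subtype.ext (by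
      show conjFn K g⁻¹⁻¹ (η : K → ℂ) = _
      rw [inv_inv]
      exact hg)
    rw [← hg', smul_inv_smul]
  choose F hF using hex
  have horb : ∀ (χ : R) (η : S), classInner (fun k : K => (χ.1 : G → ℂ) k) (η.1 : K → ℂ) ≠ 0 →
      Quot.mk (CharRel K) (F χ) = Quot.mk (CharRel K) η := by
    intro χ η h
    obtain ⟨g, hg⟩ := restrict_constituents_conj K χ.1.2 (F χ).1.2 η.1.2 (hF χ) h
    refine Quot.sound ((charRel_iff_smul K _ _).mpr ⟨g⁻¹, Subtype.ext ?_⟩)
    show conjFn K g⁻¹⁻¹ _ = _
    rw [inv_inv]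
    exact hg
  have hover : ∀ η : S, ∃ χ : R,
      classInner (fun k : K => (χ.1 : G → ℂ) k) (η.1 : K → ℂ) ≠ 0 := by
    intro η
    have hne : fsInd (indFun K (η.1 : K → ℂ)) ≠ 0 := by
      rw [fsInd_indFun K hodd]
      rcases fsInd_of_real η.1 (fun k => Complex.conj_eq_iff_im.mpr (η.2 k)) with h | h <;>
        simp [h]
    rw [fsInd_eq_sum (Chars.isClassFunction_indFun K _)] at hne
    obtain ⟨χ, -, hχ⟩ := Finset.exists_ne_zero_of_sum_ne_zero hne
    obtain ⟨h1, h2⟩ := mul_ne_zero_iff.mp hχ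
    refine ⟨⟨χ, fun g => ?_⟩, ?_⟩
    · refine Complex.conj_eq_iff_im.mp (by_contra fun hc => h2 (fsInd_eq_zero χ ⟨g, hc⟩))
    · rw [Chars.inner_indFun K _ (Chars.isClassFunction_irr χ)] at h1
      intro h0
      apply h1
      rw [← Chars.inner_conj, h0, map_zero]
  have hcard : Nat.card R = Nat.card (Quot (CharRel K)) := by
    rw [card_charOrbits_eq_card_elemOrbits K hodd, ← card_real_classes_eq K hodd]
    exact Chars.card_real_irr_eq_card_real_classes
  have hsurj : Function.Surjective fun χ : R => Quot.mk (CharRel K) (F χ) := by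
    intro q
    refine Quot.induction_on q fun η => ?_
    obtain ⟨χ, hχ⟩ := hover η
    exact ⟨χ, horb χ η hχ⟩
  have hbij := (Function.Surjective.bijective_of_nat_card_le hsurj hcard.le)
  obtain ⟨χ, hχ⟩ := hover ⟨θ, hθ⟩
  have huniq : ∀ χ' : IrrCharacter G, (∀ g : G, ((χ' : G → ℂ) g).im = 0) →
      classInner (fun k : K => (χ' : G → ℂ) k) (θ : K → ℂ) ≠ 0 → χ' = χ.1 := fun χ' h1 h2 =>
    congrArg Subtype.val (hbij.injective (a₁ := (⟨χ', h1⟩ : R)) (a₂ := χ)
      ((horb ⟨χ', h1⟩ ⟨θ, hθ⟩ h2).trans (horb χ ⟨θ, hθ⟩ hχ).symm))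
  refine ⟨χ.1, χ.2, hχ, ?_, huniq⟩
  have hsum := fsInd_eq_sum (Chars.isClassFunction_indFun K (θ : K → ℂ))
  rw [fsInd_indFun K hodd, Finset.sum_eq_single χ.1 (fun b _ hb => ?_)
    (fun h => absurd (Finset.mem_univ _) h)] at hsum
  · obtain ⟨a, ha⟩ := Chars.inner_char_nat
      (Chars.isCharacter_indFun K (Chars.isCharacter_of_irr θ.2))
      (Chars.isCharacter_of_irr χ.1.2)
    rw [ha] at hsum
    rcases fsInd_of_real θ (fun k => Complex.conj_eq_iff_im.mpr (hθ k)) with h | h <;>
      rcases fsInd_of_real χ.1 (fun g => Complex.conj_eq_iff_im.mpr (χ.2 g)) with h' | h' <;>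
      rw [h, h'] at hsum ⊢
    · exfalso
      have := congrArg Complex.re hsum
      simp at this
      linarith [a.cast_nonneg (α := ℝ)]
    · exfalso
      have := congrArg Complex.re hsum
      simp at this
      linarith [a.cast_nonneg (α := ℝ)]
  · by_contra hne
    obtain ⟨h1, h2⟩ := mul_ne_zero_iff.mp hne
    refine hb (huniq b (fun g => Complex.conj_eq_iff_im.mp
      (by_contra fun hc => h2 (fsInd_eq_zero b ⟨g, hc⟩))) fun h0 => h1 ?_)
    rw [Chars.inner_indFun K _ (Chars.isClassFunction_irr b), ← Chars.inner_conj, h0, map_zero]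

end CfsgLib.CharApps.RealOrbits
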