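import Cfsg.Agent.Lib.CharApps.InertialThreeInvolution

/-!
# Signs and degrees in the inertial index three case
-/

set_option autoImplicit false
set_option linter.style.haveILetI false
set_option linter.unusedSectionVars false

namespace CfsgLib.CharApps

open Cfsg CfsgLib.Chars CfsgLib.Blocks
open scoped ComplexConjugate

universe u

variable {G : Type u} [Group G] [Fintype G] {p : ℕ} [Fact p.Prime] {P : Sylow p G}
  {M : Ideal AlgInt} [M.IsPrime] {D : InertialAut P}

theorem InertialAut.sq_eq_one_of_real (D : InertialAut P) (hab : IsMulCommutative P) (y : (P : Subgroup G))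
    (h : IsConj (y : G) ((y⁻¹ : (P : Subgroup G)) : G)) : y⁻¹ = y := by
  rcases D.mem_orbit_of_isConj hab h with h | h | h
  · exact h
  · have h' : D.σ (D.σ y) = y := by rw [← h, map_inv, ← h, inv_inv]
    have : y = 1 := D.fix y (by
      conv_lhs => rw [← h']
      exact D.cube y)
    simp [this]
  · have h' : D.σ (D.σ (D.σ (D.σ y))) = y := by rw [← h, map_inv, map_inv, ← h, inv_inv]
    rw [D.cube] at h'
    simp [D.fix y h']

/-- For odd `p`, exactly two of the signs are positive, and the degree product is a square. -/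
theorem ThreeBlock.signs_of_odd (T : ThreeBlock M D) (hM : IsPModular p M) (hp : p ≠ 2)
    (hab : IsMulCommutative P) {t : G} (ht : orderOf t = 2)
    (hK : ∀ K : Subgroup G, K.Normal → t ∈ K → K = ⊤) {ψ : (P : Subgroup G) →* ℂˣ} (hψ : ψ ≠ 1) :
    (if T.sa = 1 then 1 else 0) + (if T.sb = 1 then 1 else 0) + (if T.δ = 1 then 1 else 0) = 2 ∧
      IsSquare (charDegree (T.e ψ : G → ℂ) *
        (charDegree (T.a : G → ℂ) * charDegree (T.b : G → ℂ))) := by
  classical
  haveI := irrFintype G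
  have htt : t * t = 1 := by rw [← sq, ← ht, pow_orderOf_eq_one]
  have htinv : t⁻¹ = t := inv_eq_of_mul_eq_one_right htt
  have hnot : ∀ y : (P : Subgroup G), y ≠ 1 → ∀ c : Subgroup.centralizer ({(y : G)} : Set G),
      ¬ p ∣ orderOf c → ¬ IsConj t ((y : G) * c) := by
    intro y hy c hc hconj
    obtain ⟨g, hg⟩ := isConj_iff.mp hconj
    have hcomm : Commute (y : G) (c : G) :=
      (Subgroup.mem_centralizer_singleton_iff.1 c.2 : _ = _).symm
    obtain ⟨k, hk⟩ := isPElt y
    have hcop : (orderOf (y : G)).Coprime (orderOf (c : G)) := by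
      rw [hk, Subgroup.orderOf_coe]
      exact Nat.Coprime.pow_left k ((Fact.out : p.Prime).coprime_iff_not_dvd.mpr hc)
    have hord := hcomm.orderOf_mul_eq_mul_orderOf_of_coprime hcop
    rw [← hg, show orderOf (g * t * g⁻¹) = orderOf t from MulEquiv.orderOf_eq (MulAut.conj g) t,
      ht, hk] at hord
    rcases Nat.eq_zero_or_pos k with h0 | h0
    · exact hy (Subtype.ext (orderOf_eq_one_iff.mp (by rw [hk, h0, pow_zero])))
    · exact hp ((Nat.prime_dvd_prime_iff_eq Fact.out Nat.prime_two).mp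
        ((dvd_pow_self p h0.ne').trans (hord ▸ dvd_mul_right _ _)))
  obtain ⟨e1, e2⟩ := T.e_ne ψ hψ |>.symm.symm
  have r0 := T.rel (fun χ => (χ : G → ℂ) 1) (fun y hy => by
    rw [finsum_mem_congr rfl (g := fun χ : IrrCharacter G =>
      (χ : G → ℂ) (y : G) * conj ((χ : G → ℂ) 1)) (fun χ _ => by rw [conj_deg, mul_comm])]
    refine principal_column_orth_of_not_isConj hM (isPElt y) ⟨0, by rw [orderOf_one, pow_zero]⟩
      fun h => hy (Subtype.ext (isConj_one_left.mp h))) ψ hψ
  have r1 := T.rel (fun χ => (χ : G → ℂ) t) (fun y hy => by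
    rw [finsum_mem_congr rfl (g := fun χ : IrrCharacter G =>
      (χ : G → ℂ) (y : G) * conj ((χ : G → ℂ) t)) (fun χ _ => by
        rw [← irr_inv, htinv, mul_comm])]
    exact principal_column_orth hM (isPElt y) (hnot y hy)) ψ hψ
  have r2 := T.rel (fun χ => (χ : G → ℂ) t ^ 2 / (χ : G → ℂ) 1) (fun y hy =>
    sum_principal_sq_eq_zero hM htt (isPElt y) fun g h => hy (by
      have hr := InertialAut.sq_eq_one_of_real D hab y
        (isConj_iff.mpr ⟨g * t * g⁻¹, by rw [h]; rfl⟩)
      obtain ⟨k, hk⟩ := isPElt y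
      have hy2 : orderOf (y : G) ∣ 2 := orderOf_dvd_of_pow_eq_one (by
        have := congrArg (fun w : (P : Subgroup G) => (w : G)) hr
        simp only [Subgroup.coe_inv] at this
        rw [sq]
        nth_rewrite 1 [← this]
        rw [inv_mul_cancel])
      rw [hk] at hy2
      rcases Nat.eq_zero_or_pos k with h0 | h0
      · exact Subtype.ext (orderOf_eq_one_iff.mp (by rw [hk, h0, pow_zero]))
      · exact absurd ((Nat.prime_dvd_prime_iff_eq Fact.out Nat.prime_two).mp
          ((dvd_pow_self p h0.ne').trans hy2)) hp)) ψ hψ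
  obtain ⟨ta, hta⟩ := exists_int_apply_involution htt T.a
  obtain ⟨tb, htb⟩ := exists_int_apply_involution htt T.b
  obtain ⟨te, hte⟩ := exists_int_apply_involution htt (T.e ψ)
  simp only [principal_apply, one_pow, div_one, deg_eq T.a, deg_eq T.b, deg_eq (T.e ψ), ← hta,
    ← htb, ← hte] at r0 r1 r2
  refine signs_and_square T.sa_pm T.sb_pm T.δ_pm (deg_pos _) (deg_pos _) (deg_pos _)
    (ta := ta) (tb := tb) (te := te) ?_ ?_ ?_ ?_ ?_ ?_
  · intro h
    exact apply_ne_degree hK T.a T.a_ne (by rw [← hta, deg_eq, h, Int.cast_natCast])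
  · intro h
    exact apply_ne_degree hK T.b T.b_ne (by rw [← htb, deg_eq, h, Int.cast_natCast])
  · intro h
    exact apply_ne_degree hK _ (T.e_ne ψ hψ).1 (by rw [← hte, deg_eq, h, Int.cast_natCast])
  · apply Complex.ofReal_injective
    push_cast
    linear_combination r0
  · apply Complex.ofReal_injective
    push_cast
    linear_combination r1
  · apply Complex.ofReal_injective
    push_cast
    linear_combination r2

/-- For `p = 2` there is no such involution. -/
theorem ThreeBlock.false_of_two (T : ThreeBlock M D) (hM : IsPModular p M) (hp : p = 2)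
    (hab : IsMulCommutative P)
    (hfrob : ∀ y : G, y ∈ (P : Subgroup G) → y ≠ 1 →
      Subgroup.centralizer ({y} : Set G) ⊓ Subgroup.normalizer ((P : Subgroup G) : Set G) =
        Subgroup.centralizer ((P : Subgroup G) : Set G))
    (hn4 : 4 < Nat.card P) {t₀ : G} (ht₀ : orderOf t₀ = 2)
    (hK₀ : ∀ K : Subgroup G, K.Normal → t₀ ∈ K → K = ⊤) : False := by
  classical
  haveI := irrFintype G
  haveI : Fintype (P : Subgroup G) := Fintype.ofFinite _
  haveI : Finite ((P : Subgroup G) →* ℂˣ) := by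
    refine Nat.finite_of_card_ne_zero ?_
    rw [card_monoidHom_units]
    exact Subgroup.index_ne_zero_of_finite
  haveI : Fintype ((P : Subgroup G) →* ℂˣ) := Fintype.ofFinite _
  subst hp
  have hc := fun u v : (P : Subgroup G) => hab.is_comm.comm u v
  -- move the involution into `P`
  obtain ⟨S, hS⟩ := (IsPGroup.of_card (n := 1) (by rw [Nat.card_zpowers, ht₀, pow_one]) :
    IsPGroup 2 (Subgroup.zpowers t₀)).exists_le_sylow
  obtain ⟨d, hd⟩ := MulAction.exists_smul_eq G S P
  have hmem : d * t₀ * d⁻¹ ∈ (P : Subgroup G) := by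
    rw [← hd, Sylow.coe_subgroup_smul]
    exact ⟨t₀, hS (Subgroup.mem_zpowers t₀), rfl⟩
  obtain ⟨t, ht_def⟩ : ∃ t : (P : Subgroup G), t = ⟨d * t₀ * d⁻¹, hmem⟩ := ⟨_, rfl⟩
  have htcoe : (t : G) = d * t₀ * d⁻¹ := by rw [ht_def]
  have ht : orderOf (t : G) = 2 := htcoe ▸ ht₀ ▸ MulEquiv.orderOf_eq (MulAut.conj d) t₀
  have hK : ∀ K : Subgroup G, K.Normal → (t : G) ∈ K → K = ⊤ := fun K hKn h => hK₀ K hKn (by
    have h2 := hKn.conj_mem _ h d⁻¹
    rw [htcoe] at h2
    simpa [mul_assoc] using h2)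
  have htt : (t : G) * t = 1 := by
    rw [← sq]; exact orderOf_dvd_iff_pow_eq_one.mp ht.dvd
  have ht1 : t ≠ 1 := fun h => by simp [h] at ht
  have htP : t * t = 1 := Subtype.ext htt
  -- the order of `P`
  set n := Fintype.card (P : Subgroup G) with hn
  have hn16 : 16 ≤ n := by
    obtain ⟨k, hk⟩ := P.isPGroup'.exists_card_eq
    rw [Nat.card_eq_fintype_card] at hk hn4
    have hmod : n ≡ 1 [MOD 3] := by
      have hσ : (D.σ.toEquiv : Equiv.Perm (P : Subgroup G)) ^ 3 ^ 1 = 1 := by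
        ext y
        simp [pow_succ, D.cube]
      haveI : Fact (Nat.Prime 3) := ⟨Nat.prime_three⟩
      have h := Equiv.Perm.card_compl_support_modEq hσ
      have hsupp : (Equiv.Perm.support (α := (P : Subgroup G)) D.σ.toEquiv)ᶜ = {1} := by
        ext y
        simp only [Finset.mem_compl, Equiv.Perm.mem_support, not_not, Finset.mem_singleton]
        exact ⟨D.fix y, fun h => by subst h; exact map_one D.σ⟩
      rw [hsupp, Finset.card_singleton] at h
      exact h.symm
    rcases lt_or_ge k 4 with h | h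
    · interval_cases k <;> simp_all [Nat.ModEq]
    · rw [hn, hk]
      calc 16 = 2 ^ 4 := by norm_num
        _ ≤ 2 ^ k := Nat.pow_le_pow_right (by norm_num) h
  -- an element which is no product of two conjugates of `t` in `P`
  let O : Finset (P : Subgroup G) := {t, D.σ t, D.σ (D.σ t)}
  obtain ⟨y, hy1, hyO⟩ : ∃ y : (P : Subgroup G), y ≠ 1 ∧ ∀ a ∈ O, ∀ b ∈ O, a * b ≠ y := by
    by_contra hcon
    simp only [not_exists, not_and, not_forall, not_not] at hcon
    have hsub : (Finset.univ : Finset (P : Subgroup G)) ⊆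
        insert 1 ((O ×ˢ O).image fun ab => ab.1 * ab.2) := by
      intro z _
      by_cases hz : z = 1
      · exact Finset.mem_insert.mpr (Or.inl hz)
      · obtain ⟨a, ha, b, hb, hab'⟩ := hcon z hz
        exact Finset.mem_insert.mpr (Or.inr
          (Finset.mem_image.mpr ⟨(a, b), Finset.mem_product.mpr ⟨ha, hb⟩, hab'⟩))
    have hle := (Finset.card_le_card hsub).trans (Finset.card_insert_le _ _)
    have hle2 : ((O ×ˢ O).image fun ab => ab.1 * ab.2).card ≤ 9 := by
      refine Finset.card_image_le.trans ?_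
      rw [Finset.card_product]
      have : O.card ≤ 3 := Finset.card_le_three
      nlinarith
    rw [Finset.card_univ] at hle
    omega
  -- the quadratic relation at `y`
  have hrel := sum_principal_sq_eq_zero_of_no_product hM (t := (t : G)) (isPElt y) fun c hc' u v huv => by
    have hinv := conj_eq_inv_of_product htt (isPElt y) c hc' huv
    have hyy : y⁻¹ = y := InertialAut.sq_eq_one_of_real D hab y
      (isConj_iff.mpr ⟨u * t * u⁻¹, by rw [hinv]; rfl⟩)
    let C := Subgroup.centralizer ({(y : G)} : Set G)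
    obtain ⟨S, K, hKn, hKS, hSP, -⟩ := exists_complement_centralizer hab hfrob y hy1
    haveI := hKn
    have hyG : ((y : G))⁻¹ = (y : G) := by rw [← Subgroup.coe_inv, hyy]
    have hA : u * (t : G) * u⁻¹ ∈ C :=
      Subgroup.mem_centralizer_singleton_iff.mpr (mul_inv_eq_iff_eq_mul.mp (hinv.trans hyG))
    have hyC : (y : G) ∈ C := Subgroup.mem_centralizer_singleton_iff.mpr rfl
    have hB : v * (t : G) * v⁻¹ ∈ C := by
      have e : v * (t : G) * v⁻¹ = (u * (t : G) * u⁻¹)⁻¹ * ((y : G) * (c : G))⁻¹ := by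
        rw [← huv, inv_mul_cancel_left]
      rw [e]
      exact mul_mem (inv_mem hA) (inv_mem (mul_mem hyC c.2))
    have hsur : ∀ w : C, ∃ s : C, (s : G) ∈ (P : Subgroup G) ∧
        (s : C ⧸ K) = (w : C ⧸ K) := by
      intro w
      obtain ⟨⟨k, s⟩, hks⟩ := hKS.2 w
      refine ⟨s, ?_, ?_⟩
      · have : (s : C) ∈ (P : Subgroup G).subgroupOf C := hSP ▸ s.2
        exact this
      · rw [← hks, QuotientGroup.mk_mul, (QuotientGroup.eq_one_iff (k : C)).mpr k.2, one_mul]
    have hqcomm : ∀ a b : C ⧸ K, a * b = b * a := by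
      intro a b
      obtain ⟨a, rfl⟩ := QuotientGroup.mk_surjective a
      obtain ⟨b, rfl⟩ := QuotientGroup.mk_surjective b
      obtain ⟨a', ha', ea⟩ := hsur a
      obtain ⟨b', hb', eb⟩ := hsur b
      rw [← ea, ← eb, ← QuotientGroup.mk_mul, ← QuotientGroup.mk_mul]
      congr 1
      exact Subtype.ext (congrArg (fun z : (P : Subgroup G) => (z : G))
        (hc ⟨(a' : G), ha'⟩ ⟨(b' : G), hb'⟩))
    have hinO : ∀ g : G, ∀ hg : g * (t : G) * g⁻¹ ∈ C, ∃ a ∈ O, ∃ ha : (a : G) ∈ C,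
        ((⟨(a : G), ha⟩ : C) : C ⧸ K) = ((⟨g * (t : G) * g⁻¹, hg⟩ : C) : C ⧸ K) := by
      intro g hg
      have hord : orderOf (⟨g * (t : G) * g⁻¹, hg⟩ : C) = 2 ^ 1 := by
        rw [Subgroup.orderOf_mk, pow_one]
        exact (MulEquiv.orderOf_eq (MulAut.conj g) (t : G)).trans ht
      obtain ⟨Q, hQ⟩ := (IsPGroup.of_card (n := 1) (by rw [Nat.card_zpowers, hord]) :
        IsPGroup 2 (Subgroup.zpowers (⟨g * (t : G) * g⁻¹, hg⟩ : C))).exists_le_sylow
      obtain ⟨e, he⟩ := MulAction.exists_smul_eq C Q S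
      obtain ⟨w, hw⟩ : ∃ w : C, w = e * ⟨g * (t : G) * g⁻¹, hg⟩ * e⁻¹ := ⟨_, rfl⟩
      have hwS : w ∈ (S : Subgroup C) := by
        rw [hw, ← he, Sylow.coe_subgroup_smul]
        exact ⟨_, hQ (Subgroup.mem_zpowers _), rfl⟩
      have hwP : (w : G) ∈ (P : Subgroup G) := by
        rw [hSP] at hwS
        exact hwS
      have hwt : IsConj (t : G) (w : G) := isConj_iff.mpr ⟨(e : G) * g, by
        rw [hw]; simp [mul_assoc]⟩
      refine ⟨⟨(w : G), hwP⟩, ?_, w.2, ?_⟩
      · rcases D.mem_orbit_of_isConj hab (y := t) (x := ⟨(w : G), hwP⟩) hwt with h | h | h <;>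
          simp [O, h]
      · show (w : C ⧸ K) = _
        rw [hw, QuotientGroup.mk_mul, QuotientGroup.mk_mul, hqcomm (e : C ⧸ K),
          QuotientGroup.mk_inv, mul_inv_cancel_right]
    obtain ⟨a, ha, haC, ea⟩ := hinO u hA
    obtain ⟨b, hb, hbC, eb⟩ := hinO v hB
    have hcK : c ∈ K := by
      obtain ⟨k, hk⟩ := S.isPGroup'.exists_card_eq
      exact index_eq_pow_mem_of_regular (hKS.symm.index_eq_card.trans hk) hc'
    have hq : ((⟨(a : G), haC⟩ * ⟨(b : G), hbC⟩ * ⟨(y : G), hyC⟩ : C) : C ⧸ K) = 1 := by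
      have hprod : (⟨u * (t : G) * u⁻¹, hA⟩ * ⟨v * (t : G) * v⁻¹, hB⟩ : C) =
          (⟨(y : G), hyC⟩ * c)⁻¹ := Subtype.ext huv
      rw [QuotientGroup.mk_mul, QuotientGroup.mk_mul, ea, eb, ← QuotientGroup.mk_mul, hprod,
        QuotientGroup.mk_inv, QuotientGroup.mk_mul, (QuotientGroup.eq_one_iff c).mpr hcK, mul_one,
        inv_mul_cancel]
    rw [QuotientGroup.eq_one_iff] at hq
    have hS' : (⟨(a : G), haC⟩ * ⟨(b : G), hbC⟩ * ⟨(y : G), hyC⟩ : C) ∈ (S : Subgroup C) := by
      rw [hSP]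
      exact mul_mem (mul_mem a.2 b.2) y.2
    have h1 := Subgroup.mem_bot.mp (hKS.disjoint.le_bot ⟨hq, hS'⟩)
    refine hyO a ha b hb ?_
    have h2 : (a : G) * (b : G) * (y : G) = 1 := congrArg Subtype.val h1
    refine Subtype.ext ?_
    rw [Subgroup.coe_mul, mul_eq_one_iff_eq_inv.mp h2, hyG]
  -- evaluate it
  obtain ⟨ψ₀, hψ₀⟩ : ∃ ψ : (P : Subgroup G) →* ℂˣ, ψ ≠ 1 := by
    by_contra hcon
    simp only [not_exists, not_not] at hcon
    have h := sum_apply_linear hc y
    rw [if_neg hy1, Finset.sum_congr rfl (g := fun _ => (1 : ℂ))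
      (fun ψ _ => by rw [hcon ψ]; simp)] at h
    simp at h
  set E := charDegree (T.e ψ₀ : G → ℂ) with hE
  set A := charDegree (T.a : G → ℂ) with hA'
  set B := charDegree (T.b : G → ℂ) with hB'
  set Y := (Finset.univ.erase (1 : (P : Subgroup G) →* ℂˣ)).image T.e with hY
  have hset : Finset.univ.filter (· ∈ principalBlock M G) =
      insert (principal G) (insert T.a (insert T.b Y)) := by
    ext χ
    simp only [Finset.mem_filter, Finset.mem_univ, true_and, Finset.mem_insert]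
    constructor
    · intro h
      rcases T.exhaust χ h with h | h | h | ⟨ψ, hψ, h⟩
      · exact Or.inl h
      · exact Or.inr (Or.inl h)
      · exact Or.inr (Or.inr (Or.inl h))
      · exact Or.inr (Or.inr (Or.inr
          (Finset.mem_image.mpr ⟨ψ, Finset.mem_erase.mpr ⟨hψ, Finset.mem_univ _⟩, h.symm⟩)))
    · rintro (rfl | rfl | rfl | h)
      · exact principal_mem_principalBlock M
      · exact T.a_mem
      · exact T.b_mem
      · obtain ⟨ψ, hψ, rfl⟩ := Finset.mem_image.mp h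
        exact T.e_mem ψ (Finset.ne_of_mem_erase hψ)
  have hbY : T.b ∉ Y := fun h => by
    obtain ⟨ψ, hψ, he⟩ := Finset.mem_image.mp h
    exact (T.e_ne ψ (Finset.ne_of_mem_erase hψ)).2.2 he
  have haY : T.a ∉ insert T.b Y := by
    simp only [Finset.mem_insert, not_or]
    refine ⟨T.ab_ne, fun h => ?_⟩
    obtain ⟨ψ, hψ, he⟩ := Finset.mem_image.mp h
    exact (T.e_ne ψ (Finset.ne_of_mem_erase hψ)).2.1 he
  have h1Y : principal G ∉ insert T.a (insert T.b Y) := by
    simp only [Finset.mem_insert, not_or]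
    refine ⟨T.a_ne.symm, T.b_ne.symm, fun h => ?_⟩
    obtain ⟨ψ, hψ, he⟩ := Finset.mem_image.mp h
    exact (T.e_ne ψ (Finset.ne_of_mem_erase hψ)).1 he
  rw [finsum_mem_eq_sum_of_inter_support_eq (t := Finset.univ.filter (· ∈ principalBlock M G)) _
    (by ext; simp), hset, Finset.sum_insert h1Y, Finset.sum_insert haY, Finset.sum_insert hbY,
    principal_apply, principal_apply, principal_apply, T.a_val t ht1, T.b_val t ht1,
    T.a_val y hy1, T.b_val y hy1] at hrel
  -- the orbit sum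
  have hfib : ∀ ψ, ψ ≠ 1 → (Finset.univ.erase (1 : (P : Subgroup G) →* ℂˣ)).filter
      (fun φ => T.e φ = T.e ψ) = D.orbit ψ := by
    intro ψ hψ
    ext φ
    simp only [Finset.mem_filter, Finset.mem_erase, Finset.mem_univ, and_true]
    constructor
    · rintro ⟨hφ, he⟩
      exact (T.e_eq ψ φ hψ hφ).mp he.symm
    · intro h
      exact ⟨D.ne_one_of_mem_orbit hψ h, ((T.e_eq ψ φ hψ (D.ne_one_of_mem_orbit hψ h)).mpr h).symm⟩
  have hYsum : ∑ χ ∈ Y, (χ : G → ℂ) (t : G) ^ 2 / (χ : G → ℂ) 1 * (χ : G → ℂ) (y : G) =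
      (T.δ : ℂ) * (-9) / (E : ℂ) := by
    have e : ∀ χ ∈ Y, (χ : G → ℂ) (t : G) ^ 2 / (χ : G → ℂ) 1 * (χ : G → ℂ) (y : G) =
        ∑ φ ∈ (Finset.univ.erase (1 : (P : Subgroup G) →* ℂˣ)).filter (fun φ => T.e φ = χ),
          (T.δ : ℂ) / (E : ℂ) * ((φ y : ℂ) * (∑ μ ∈ D.orbit φ, (μ t : ℂ)) ^ 2) := by
      intro χ hχ
      obtain ⟨ψ, hψ, rfl⟩ := Finset.mem_image.mp hχ
      have hψ1 := Finset.ne_of_mem_erase hψ
      rw [hfib ψ hψ1, Finset.sum_congr rfl (g := fun φ : (P : Subgroup G) →* ℂˣ =>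
        (T.δ : ℂ) / (E : ℂ) * ((φ y : ℂ) * (∑ μ ∈ D.orbit ψ, (μ t : ℂ)) ^ 2))
        (fun φ hφ => by rw [D.orbit_eq_of_mem hφ]), ← Finset.mul_sum, ← Finset.sum_mul,
        T.e_val ψ hψ1 t ht1, T.e_val ψ hψ1 y hy1, deg_eq, T.e_deg ψ ψ₀ hψ1 hψ₀, ← hE]
      rcases T.δ_pm with hδ | hδ <;> rw [hδ] <;> push_cast <;> ring
    rw [Finset.sum_congr rfl e, Finset.sum_fiberwise_of_maps_to
      (fun φ hφ => Finset.mem_image_of_mem _ hφ), ← Finset.mul_sum]
    have hpair : ∀ a b : (P : Subgroup G), a ∈ O → b ∈ O →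
        ∑ φ ∈ Finset.univ.erase (1 : (P : Subgroup G) →* ℂˣ), (φ (y * a * b) : ℂ) = -1 := by
      intro a b ha hb
      have hne : y * a * b ≠ 1 := by
        intro h
        have hinvol : ∀ z ∈ O, z⁻¹ = z := by
          intro z hz
          refine inv_eq_of_mul_eq_one_right ?_
          simp only [O, Finset.mem_insert, Finset.mem_singleton] at hz
          rcases hz with rfl | rfl | rfl <;> simp [← map_mul, htP]
        refine hyO b hb a ha ?_
        rw [mul_assoc, mul_eq_one_iff_eq_inv, mul_inv_rev, hinvol a ha, hinvol b hb] at h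
        exact h.symm
      rw [Finset.sum_erase_eq_sub (Finset.mem_univ _), sum_apply_linear hc, if_neg hne]
      simp
    have hexp : ∀ φ ∈ Finset.univ.erase (1 : (P : Subgroup G) →* ℂˣ),
        (φ y : ℂ) * (∑ μ ∈ D.orbit φ, (μ t : ℂ)) ^ 2 = ∑ a ∈ O, ∑ b ∈ O, (φ (y * a * b) : ℂ) := by
      intro φ hφ
      have hφ1 := Finset.ne_of_mem_erase hφ
      obtain ⟨n1, n2, n3⟩ := D.orbit_distinct hab hφ1
      obtain ⟨m1, m2, m3⟩ := D.σ_ne t ht1
      have e1 : ∑ μ ∈ D.orbit φ, (μ t : ℂ) = ∑ a ∈ O, (φ a : ℂ) := by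
        simp [InertialAut.orbit, O, Finset.sum_insert, n1.symm, n2.symm, n3.symm, m1.symm, m2.symm,
          m3.symm, InertialAut.act_apply]
      rw [e1, sq, Finset.sum_mul_sum, Finset.mul_sum]
      refine Finset.sum_congr rfl fun a _ => ?_
      rw [Finset.mul_sum]
      refine Finset.sum_congr rfl fun b _ => ?_
      rw [map_mul, map_mul, Units.val_mul, Units.val_mul, mul_assoc]
    obtain ⟨m1, m2, m3⟩ := D.σ_ne t ht1
    have hOcard : O.card = 3 := by
      rw [Finset.card_insert_of_notMem (by simp [m1.symm, m2.symm]), Finset.card_pair m3.symm]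
    rw [Finset.sum_congr rfl hexp, Finset.sum_comm, Finset.sum_congr rfl (fun a ha => by
      rw [Finset.sum_comm, Finset.sum_congr rfl (fun b hb => hpair a b ha hb)]),
      Finset.sum_const, Finset.sum_const, hOcard]
    push_cast
    ring
  rw [hYsum, deg_eq, deg_eq, ← hA', ← hB'] at hrel
  have hR : (1 : ℝ) + -(T.sa : ℝ) / A + -(T.sb : ℝ) / B + (T.δ : ℝ) * (-9) / E = 0 := by
    apply Complex.ofReal_injective
    push_cast
    have ea : ((T.sa : ℂ)) ^ 2 = 1 := by rcases T.sa_pm with h | h <;> rw [h] <;> norm_num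
    have eb : ((T.sb : ℂ)) ^ 2 = 1 := by rcases T.sb_pm with h | h <;> rw [h] <;> norm_num
    rw [neg_sq, neg_sq, ea, eb] at hrel
    linear_combination hrel
  -- bounds on the degrees
  have hbig : ∀ (χ : IrrCharacter G) (s : ℤ), (s = 1 ∨ s = -1) → χ ≠ principal G →
      (χ : G → ℂ) (t : G) = -(s : ℂ) → (∃ r : ℤ, (charDegree (χ : G → ℂ) : ℤ) =
        (Nat.card P : ℤ) * r - s) → 15 ≤ charDegree (χ : G → ℂ) := by
    intro χ s hs hne hval hr
    obtain ⟨r, hr⟩ := hr
    rw [Nat.card_eq_fintype_card, ← hn] at hr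
    have hne1 : (charDegree (χ : G → ℂ) : ℤ) ≠ -s := fun h => apply_ne_degree hK χ hne (by
      rw [hval, deg_eq]
      exact_mod_cast h.symm)
    have hr0 : 1 ≤ r := by
      by_contra hlt
      have hr1 : r ≤ 0 := by omega
      have hpos : 0 < charDegree (χ : G → ℂ) := deg_pos χ
      rcases eq_or_lt_of_le hr1 with h | h
      · rw [h, mul_zero, zero_sub] at hr
        exact hne1 hr
      · have : (n : ℤ) * r ≤ -16 := by nlinarith [(by exact_mod_cast hn16 : (16 : ℤ) ≤ n)]
        rcases hs with rfl | rfl <;> omega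
    have : (16 : ℤ) ≤ (n : ℤ) * r := by nlinarith [(by exact_mod_cast hn16 : (16 : ℤ) ≤ n)]
    rcases hs with rfl | rfl <;> omega
  have hA15 : (15 : ℝ) ≤ A := by
    exact_mod_cast hbig T.a T.sa T.sa_pm T.a_ne (T.a_val t ht1) T.a_deg
  have hB15 : (15 : ℝ) ≤ B := by
    exact_mod_cast hbig T.b T.sb T.sb_pm T.b_ne (T.b_val t ht1) T.b_deg
  have hEpos : (0 : ℝ) < E := by exact_mod_cast deg_pos (T.e ψ₀)
  have hAb : |(T.sa : ℝ) / A| ≤ 1 / 15 := by
    have e : |(T.sa : ℝ)| = 1 := by rcases T.sa_pm with h | h <;> simp [h]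
    rw [abs_div, Nat.abs_cast, e]
    exact one_div_le_one_div_of_le (by norm_num) hA15
  have hBb : |(T.sb : ℝ) / B| ≤ 1 / 15 := by
    have e : |(T.sb : ℝ)| = 1 := by rcases T.sb_pm with h | h <;> simp [h]
    rw [abs_div, Nat.abs_cast, e]
    exact one_div_le_one_div_of_le (by norm_num) hB15
  rw [abs_le] at hAb hBb
  rcases T.δ_pm with hδ | hδ
  · obtain ⟨r, hr⟩ := T.deg_mod ψ₀ hψ₀
    rw [hδ, ← hE, Nat.card_eq_fintype_card, ← hn] at hr
    rw [hδ] at hR
    rcases Nat.eq_zero_or_pos r with h0 | h0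
    · rw [h0, Nat.cast_zero, mul_zero, zero_add, mul_one] at hr
      have : (E : ℝ) = 3 := by exact_mod_cast hr
      rw [this, neg_div, neg_div] at hR
      push_cast at hR
      linarith
    · have hE19 : 19 ≤ E := by
        have : (16 : ℤ) ≤ (n : ℤ) * (r : ℤ) := by
          exact_mod_cast hn16.trans (Nat.le_mul_of_pos_right n h0)
        omega
      have h9 : (9 : ℝ) / E ≤ 9 / 19 := by
        gcongr
        exact_mod_cast hE19
      rw [neg_div, neg_div, mul_neg, neg_div, Int.cast_one, one_mul] at hR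
      linarith
  · rw [hδ, neg_div, neg_div] at hR
    push_cast at hR
    have : (0 : ℝ) < 9 / E := by positivity
    rw [neg_mul, one_mul, neg_neg] at hR
    linarith

end CfsgLib.CharApps
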