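import Mathlib

/-!
# Self-dual irreducible modules of abelian groups over finite fields

The enveloping algebra of such a module is a field of degree the dimension, and self-duality says
that inversion on the group is a Galois automorphism of it.
-/

set_option autoImplicit false
set_option linter.style.haveILetI false
set_option linter.unusedSectionVars false

namespace CfsgLib.CharApps.AbelianSelfDual

open Module

variable {F : Type*} [Field F] [Fintype F] {H : Type*} [CommGroup H] [Finite H]
  {V : Type*} [AddCommGroup V] [Module F V] [FiniteDimensional F V]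
  (ρ : Representation F H V)

/-- The enveloping algebra. -/
def env : Subalgebra F (Module.End F V) := Algebra.adjoin F (Set.range ρ)

/-- Self-duality. -/
def SelfDual : Prop :=
  ∃ B : LinearMap.BilinForm F V, B.Nondegenerate ∧ ∀ h : H, ∀ x y : V, B (ρ h x) (ρ h y) = B x y

theorem main (hfaith : Function.Injective ρ)
    (hirr : ∀ U : Submodule F V, (∀ h : H, ∀ u ∈ U, ρ h u ∈ U) → U = ⊥ ∨ U = ⊤) :
    (Module.finrank F V = 1 → SelfDual ρ → Nat.card H ≤ 2) ∧
      (2 ≤ Module.finrank F V → (SelfDual ρ ↔ (Even (Module.finrank F V) ∧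
        Nat.card H ∣ Fintype.card F ^ (Module.finrank F V / 2) + 1))) := by
  classical
  rcases subsingleton_or_nontrivial V with hV | hV
  · have h0 : Module.finrank F V = 0 := Module.finrank_zero_of_subsingleton
    exact ⟨fun h => absurd h (by omega), fun h => absurd h (by omega)⟩
  obtain ⟨v₀, hv₀⟩ := exists_ne (0 : V)
  set A := env ρ with hA
  haveI : Finite V := Module.finite_of_finite F
  haveI : Finite (Module.End F V) := Module.finite_of_finite F
  letI : CommRing A :=
    { (inferInstance : Ring A) with
      mul_comm := fun a b => by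
        have h : ∀ x ∈ Set.range ρ, ∀ y ∈ Set.range ρ, x * y = y * x := by
          rintro _ ⟨g, rfl⟩ _ ⟨k, rfl⟩
          rw [← map_mul, ← map_mul, mul_comm]
        exact (Algebra.adjoinCommRingOfComm F h).mul_comm a b }
  let e : H → A := fun h => ⟨ρ h, Algebra.subset_adjoin ⟨h, rfl⟩⟩
  have hcomm : ∀ (k : A) (h : H), (k : Module.End F V) * ρ h = ρ h * k := fun k h =>
    congrArg Subtype.val (mul_comm k (e h))
  -- nonzero elements are injective
  have hinj : ∀ k : A, k ≠ 0 → Function.Injective (k : Module.End F V) := by
    intro k hk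
    have hst : ∀ h : H, ∀ u ∈ LinearMap.ker (k : Module.End F V),
        ρ h u ∈ LinearMap.ker (k : Module.End F V) := fun h u hu => by
      rw [LinearMap.mem_ker] at hu ⊢
      rw [← Module.End.mul_apply, hcomm, Module.End.mul_apply, hu, map_zero]
    rcases hirr _ hst with h | h
    · exact LinearMap.ker_eq_bot.1 h
    · exact absurd (Subtype.ext (LinearMap.ker_eq_top.1 h)) hk
  haveI : Nontrivial A := ⟨⟨0, 1, fun h => hv₀ (by
    have h1 := LinearMap.congr_fun (congrArg Subtype.val h) v₀
    simpa using h1.symm)⟩⟩
  haveI : NoZeroDivisors A := ⟨fun {a b} hab => by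
    by_contra hne
    push Not at hne
    refine hv₀ ((hinj a hne.1).comp (hinj b hne.2) ?_)
    have h1 := LinearMap.congr_fun (congrArg Subtype.val hab) v₀
    simpa using h1⟩
  haveI : IsDomain A := NoZeroDivisors.to_isDomain A
  haveI : Fintype A := Fintype.ofFinite A
  letI : Field A := Fintype.fieldOfDomain A
  -- the orbit map
  let ev : A →ₗ[F] V := (LinearMap.applyₗ v₀).comp A.val.toLinearMap
  have hev : ∀ k, ev k = (k : Module.End F V) v₀ := fun k => rfl
  have hevinj : Function.Injective ev := (injective_iff_map_eq_zero ev).2 fun k hk => by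
    by_contra hne
    rw [hev] at hk
    exact hv₀ (hinj k hne (hk.trans (map_zero _).symm))
  have hevsur : Function.Surjective ev := by
    rw [← LinearMap.range_eq_top]
    refine (hirr (LinearMap.range ev) fun h u hu => ?_).resolve_left fun h0 => hv₀ ?_
    · obtain ⟨k, rfl⟩ := hu
      exact ⟨e h * k, rfl⟩
    · rw [← Submodule.mem_bot F, ← h0]
      exact ⟨1, rfl⟩
  set n := Module.finrank F V with hn
  have hfin : Module.finrank F A = n :=
    (LinearEquiv.ofBijective ev ⟨hevinj, hevsur⟩).finrank_eq
  have hcardA : Fintype.card A = Fintype.card F ^ n := by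
    rw [Module.card_eq_pow_finrank (K := F), hfin]
  set r := Fintype.card F with hr
  -- Frobenius and the minimality of the degree
  have hgen : ∀ σ τ : A →ₐ[F] A, (∀ h, σ (e h) = τ (e h)) → σ = τ := fun σ τ hστ => by
    refine AlgHom.adjoin_ext ?_
    rintro _ ⟨h, rfl⟩
    exact hστ h
  have hfrobpow : ∀ (m : ℕ) (x : A), (FiniteField.frobeniusAlgHom F A ^ m) x = x ^ r ^ m := by
    intro m x
    rw [AlgHom.coe_pow, FiniteField.coe_frobeniusAlgHom, pow_iterate]
  have hmin : ∀ m : ℕ, (∀ h : H, e h ^ r ^ m = e h) → n ∣ m := by
    intro m hm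
    rw [← hfin, ← FiniteField.orderOf_frobeniusAlgHom, orderOf_dvd_iff_pow_eq_one]
    exact hgen _ _ fun h => by rw [hfrobpow, hm, AlgHom.one_apply]
  have he1 : e 1 = 1 := Subtype.ext (map_one ρ)
  have hemul : ∀ g h, e (g * h) = e g * e h := fun g h => Subtype.ext (map_mul ρ g h)
  let eh : H →* A := { toFun := e, map_one' := he1, map_mul' := hemul }
  have heinj : Function.Injective eh := fun g h hgh => hfaith (congrArg Subtype.val hgh)
  haveI : IsCyclic H := isCyclic_of_subgroup_isDomain eh heinj
  obtain ⟨g, hg⟩ := IsCyclic.exists_monoid_generator (α := H)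
  have hgH : orderOf g = Nat.card H := orderOf_eq_card_of_forall_mem_zpowers fun x =>
    (Submonoid.powers_le_zpowers g) (hg x)
  -- self-duality is inversion by a power of Frobenius
  have hkey : SelfDual ρ ↔ ∃ j < n, Nat.card H ∣ r ^ j + 1 ∧ ((j = 0 ∧ Nat.card H ≤ 2) ∨ 2 * j = n) := by
    constructor
    · rintro ⟨B, hB, hinv⟩
      -- adjoints
      let S : Subalgebra F A :=
        { carrier := {k | ∃ k' : A, ∀ u v, B ((k : Module.End F V) u) v = B u ((k' : Module.End F V) v)}
          mul_mem' := by
            rintro a b ⟨a', ha⟩ ⟨b', hb⟩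
            exact ⟨b' * a', fun u v => by simp [ha, hb]⟩
          one_mem' := ⟨1, fun u v => by simp⟩
          add_mem' := by
            rintro a b ⟨a', ha⟩ ⟨b', hb⟩
            exact ⟨a' + b', fun u v => by simp [ha, hb]⟩
          zero_mem' := ⟨0, fun u v => by simp⟩
          algebraMap_mem' := fun c => ⟨algebraMap F A c, fun u v => by
            simp [Algebra.algebraMap_eq_smul_one]⟩ }
      have hS : ∀ k : A, k ∈ S := by
        rintro ⟨k, hk⟩
        refine Algebra.adjoin_induction (p := fun x hx => (⟨x, hx⟩ : A) ∈ S) ?_ ?_ ?_ ?_ hk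
        · rintro _ ⟨h, rfl⟩
          refine ⟨e h⁻¹, fun u v => ?_⟩
          show B (ρ h u) v = B u (ρ h⁻¹ v)
          rw [← hinv h u (ρ h⁻¹ v)]
          simp
        · exact fun c => S.algebraMap_mem c
        · exact fun x y _ _ hx hy => S.add_mem hx hy
        · exact fun x y _ _ hx hy => S.mul_mem hx hy
      choose adj hadj using fun k => hS k
      have huniq : ∀ a b : A, (∀ u v, B u ((a : Module.End F V) v) = B u ((b : Module.End F V) v)) →
          a = b := fun a b hab => Subtype.ext (LinearMap.ext fun v => by
        refine sub_eq_zero.1 (hB.2 _ fun u => ?_)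
        rw [map_sub, hab, sub_self])
      let σ : A →ₐ[F] A :=
        { toFun := adj
          map_one' := huniq _ _ fun u v => by rw [← hadj]; simp
          map_mul' := fun a b => huniq _ _ fun u v => by
            rw [← hadj, mul_comm a b]
            simp [hadj]
          map_zero' := huniq _ _ fun u v => by rw [← hadj]; simp
          map_add' := fun a b => huniq _ _ fun u v => by
            rw [← hadj]
            simp [hadj]
          commutes' := fun c => huniq _ _ fun u v => by
            rw [← hadj]
            simp [Algebra.algebraMap_eq_smul_one] }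
      have hσe : ∀ h, σ (e h) = e h⁻¹ := fun h => huniq _ _ fun u v => by
        show B u ((adj (e h) : Module.End F V) v) = B u (ρ h⁻¹ v)
        rw [← hadj, ← hinv h u (ρ h⁻¹ v)]
        simp [e]
      obtain ⟨⟨j, hj⟩, hσ⟩ := (FiniteField.bijective_frobeniusAlgHom_pow F A).2 σ
      have hj' : j < n := hfin ▸ hj
      have hpow : ∀ h, h ^ r ^ j = h⁻¹ := fun h => heinj (by
        rw [map_pow]
        show e h ^ r ^ j = e h⁻¹
        rw [← hσe, ← hσ, hfrobpow])
      have hdvd : Nat.card H ∣ r ^ j + 1 := by
        rw [← hgH, orderOf_dvd_iff_pow_eq_one, pow_succ, hpow, inv_mul_cancel]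
      refine ⟨j, hj', hdvd, ?_⟩
      have h2 : n ∣ 2 * j := hmin (2 * j) fun h => by
        have h3 : h ^ r ^ (2 * j) = h := by
          rw [two_mul, pow_add, pow_mul, hpow, hpow, inv_inv]
        rw [show e h ^ r ^ (2 * j) = eh (h ^ r ^ (2 * j)) from (map_pow eh h _).symm, h3]
        rfl
      rcases Nat.eq_zero_or_pos j with h0 | h0
      · left
        refine ⟨h0, Nat.le_of_dvd two_pos ?_⟩
        rw [h0] at hdvd
        simpa using hdvd
      · right
        obtain ⟨c, hc⟩ := h2
        rcases Nat.lt_or_ge c 2 with hc2 | hc2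
        · interval_cases c
          · omega
          · omega
        · exact absurd hc (by nlinarith)
    · rintro ⟨j, -, hdvd, hj⟩
      -- a form from a functional
      have hinvpow : ∀ h, e h ^ r ^ j = e h⁻¹ := fun h => by
        rw [show e h ^ r ^ j = eh (h ^ r ^ j) from (map_pow eh h _).symm]
        refine congrArg eh (eq_inv_of_mul_eq_one_left ?_)
        rw [← pow_succ, ← orderOf_dvd_iff_pow_eq_one]
        exact (orderOf_dvd_natCard h).trans hdvd
      set σ := FiniteField.frobeniusAlgHom F A ^ j with hσ
      obtain ⟨lam, hlam⟩ : ∃ lam : A →ₗ[F] F, lam 1 ≠ 0 := by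
        by_contra hh
        push Not at hh
        exact one_ne_zero ((Module.forall_dual_apply_eq_zero_iff F (1 : A)).1 hh)
      let ψ := (LinearEquiv.ofBijective ev ⟨hevinj, hevsur⟩).symm
      let m : A →ₗ[F] A →ₗ[F] F :=
        LinearMap.compr₂ ((LinearMap.mul F A).compl₂ σ.toLinearMap) lam
      refine ⟨m.compl₁₂ ψ.toLinearMap ψ.toLinearMap, ?_, fun h x y => ?_⟩
      · have hσsur : Function.Surjective σ :=
          Finite.injective_iff_surjective.1 σ.toRingHom.injective
        have hl : ∀ x, (∀ y, lam (ψ x * σ (ψ y)) = 0) → x = 0 := by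
          intro x hx
          by_contra hne
          have hψ : ψ x ≠ 0 := fun h0 => hne (by simpa using congrArg ψ.symm h0)
          obtain ⟨k, hk⟩ := hσsur (ψ x)⁻¹
          have h1 := hx (ψ.symm k)
          rw [LinearEquiv.apply_symm_apply, hk, mul_inv_cancel₀ hψ] at h1
          exact hlam h1
        refine ⟨fun x hx => hl x hx, fun y hy => ?_⟩
        by_contra hne
        have hψ : σ (ψ y) ≠ 0 := fun h0 => hne (by
          have h2 := σ.toRingHom.injective (h0.trans (map_zero σ).symm)
          simpa using congrArg ψ.symm h2)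
        have h1 := hy (ψ.symm (σ (ψ y))⁻¹)
        simp only [m, LinearMap.compl₁₂_apply, LinearEquiv.coe_coe, LinearEquiv.apply_symm_apply,
          LinearMap.compr₂_apply, LinearMap.compl₂_apply, LinearMap.mul_apply',
          AlgHom.toLinearMap_apply, inv_mul_cancel₀ hψ] at h1
        exact hlam h1
      · have hψe : ∀ x, ψ (ρ h x) = e h * ψ x := fun x => by
          apply ψ.symm.injective
          rw [LinearEquiv.symm_apply_apply]
          show ρ h x = ρ h ((ψ x : Module.End F V) v₀)
          congr 1
          exact ((LinearEquiv.ofBijective ev ⟨hevinj, hevsur⟩).apply_symm_apply x).symm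
        simp only [m, LinearMap.compl₁₂_apply, LinearEquiv.coe_coe, LinearMap.compr₂_apply,
          LinearMap.compl₂_apply, LinearMap.mul_apply', AlgHom.toLinearMap_apply, hψe, map_mul]
        congr 1
        have hσe : σ (e h) = e h⁻¹ := by rw [hσ, hfrobpow, hinvpow]
        have h1 : e h * σ (e h) = 1 := by
          rw [hσe, ← hemul, mul_inv_cancel, he1]
        calc _ = e h * σ (e h) * (ψ x * σ (ψ y)) := by ring
          _ = _ := by rw [h1, one_mul]
  refine ⟨fun h1 hsd => ?_, fun h2 => ?_⟩
  · obtain ⟨j, hj, -, ⟨-, h⟩ | h⟩ := hkey.1 hsd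
    · exact h
    · omega
  · rw [hkey]
    constructor
    · rintro ⟨j, -, hdvd, ⟨-, hle⟩ | hjn⟩
      · exfalso
        have h3 : n ∣ 1 := hmin 1 fun h => by
          have hh : h ^ r = h := by
            have hr1 : (Nat.card H) ∣ r - 1 := by
              have h4 : Nat.card H ∣ r ^ n - 1 := by
                rw [← hgH, ← orderOf_injective eh heinj g, ← hcardA]
                exact orderOf_dvd_of_pow_eq_one (FiniteField.pow_card_sub_one_eq_one _
                  (fun h0 => hv₀ (by
                    have h5 := congrArg (fun k : A => (k : Module.End F V) (ρ g⁻¹ v₀)) h0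
                    simpa [eh, e] using h5)))
              rcases Nat.lt_or_ge (Nat.card H) 2 with hlt | hge
              · rw [show Nat.card H = 1 by have := Nat.card_pos (α := H); omega]
                exact one_dvd _
              · have hH2 : Nat.card H = 2 := by omega
                rw [hH2] at h4 ⊢
                have hrpos : 1 ≤ r := Fintype.card_pos
                have hodd : Odd (r ^ n) := by
                  rcases Nat.even_or_odd (r ^ n) with he | ho
                  · obtain ⟨c, hc⟩ := he
                    have := Nat.one_le_pow n r hrpos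
                    omega
                  · exact ho
                obtain ⟨c, hc⟩ := (Nat.odd_pow_iff (by omega)).1 hodd
                omega
            obtain ⟨c, hc⟩ := (orderOf_dvd_natCard h).trans hr1
            have hrpos : 1 ≤ r := Fintype.card_pos
            rw [show r = orderOf h * c + 1 by omega, pow_succ, pow_mul, pow_orderOf_eq_one,
              one_pow, one_mul]
          rw [pow_one, show e h ^ r = eh (h ^ r) from (map_pow eh h _).symm, hh]
          rfl
        have := Nat.le_of_dvd one_pos h3
        omega
      · refine ⟨⟨j, by omega⟩, ?_⟩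
        rw [← hjn, Nat.mul_div_cancel_left j two_pos]
        exact hdvd
    · rintro ⟨⟨j, hj⟩, hdvd⟩
      refine ⟨j, by omega, ?_, Or.inr (by omega)⟩
      rwa [show n / 2 = j by omega] at hdvd

end CfsgLib.CharApps.AbelianSelfDual
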