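import Cfsg.Agent.Lib.Chars.Indicator
import Cfsg.Agent.Lib.CharsMore.Extend

/-!
# Symmetric and alternating squares, and characters of degree three with trivial determinant
-/

set_option autoImplicit false
set_option linter.style.haveILetI false

namespace CfsgLib.CharApps.AltSquare

open Cfsg Chars Module
open scoped ComplexConjugate Matrix

universe u

variable {G : Type u} [Group G]

/-- The two halves of the tensor square are characters. -/
theorem isCharacter_half_square {χ : G → ℂ} (hχ : IsCharacter G χ) {s : ℂ} (hs : s = 1 ∨ s = -1) :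
    IsCharacter G (fun g => (χ g * χ g + s * χ (g * g)) / 2) := by
  classical
  obtain ⟨n, ρ, rfl⟩ := hχ
  let σ := squareRep ρ
  let t : Module.End ℂ (Matrix (Fin n) (Fin n) ℂ) :=
    (Matrix.transposeLinearEquiv (Fin n) (Fin n) ℂ ℂ).toLinearMap
  let W : Submodule ℂ (Matrix (Fin n) (Fin n) ℂ) := LinearMap.ker (t - s • LinearMap.id)
  have hW : ∀ X, X ∈ W ↔ Xᵀ = s • X := fun X => by
    simp [W, t, sub_eq_zero, Matrix.transposeLinearEquiv]
  have hinv : ∀ g, ∀ X ∈ W, σ g X ∈ W := fun g X hX => by
    rw [hW] at hX ⊢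
    simp only [σ, squareRep_apply, Matrix.transpose_mul, Matrix.transpose_transpose, hX,
      Matrix.smul_mul, Matrix.mul_smul, Matrix.mul_assoc]
  let τ : Representation ℂ G W :=
    { toFun := fun g => (σ g).restrict (hinv g)
      map_one' := LinearMap.ext fun x => Subtype.ext (by simp)
      map_mul' := fun a b => LinearMap.ext fun x => Subtype.ext (by simp) }
  suffices h : ∀ g, (ρ.character g * ρ.character g + s * ρ.character (g * g)) / 2 = τ.character g by
    rw [funext h]; exact isCharacter_character τ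
  intro g
  have hs2 : s * s = 1 := by rcases hs with rfl | rfl <;> norm_num
  let A : Module.End ℂ (Matrix (Fin n) (Fin n) ℂ) :=
    (2 : ℂ)⁻¹ • (σ g + s • (t ∘ₗ σ g))
  have hAW : ∀ X, A X ∈ W := fun X => by
    rw [hW]
    show ((2 : ℂ)⁻¹ • (σ g X + s • (σ g X)ᵀ))ᵀ = s • ((2 : ℂ)⁻¹ • (σ g X + s • (σ g X)ᵀ))
    rw [Matrix.transpose_smul, Matrix.transpose_add, Matrix.transpose_smul,
      Matrix.transpose_transpose, smul_comm, smul_add s, smul_smul s s, hs2, one_smul, add_comm]
  have heq : A.restrict (fun X _ => hAW X) = (σ g).restrict (hinv g) := by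
    refine LinearMap.ext fun x => Subtype.ext ?_
    show (2 : ℂ)⁻¹ • (σ g x + s • (σ g x)ᵀ) = σ g x
    rw [(hW _).1 (hinv g x x.2), smul_smul s s, hs2, one_smul, ← two_smul ℂ, smul_smul]
    norm_num
  show _ = LinearMap.trace ℂ W ((σ g).restrict (hinv g))
  rw [← heq, LinearMap.trace_restrict_eq_of_forall_mem W A hAW, map_smul, map_add, map_smul,
    smul_eq_mul, smul_eq_mul, trace_transpose_squareRep]
  show _ = 2⁻¹ * (σ.character g + _)
  rw [character_squareRep]
  ring

theorem det_eq_prod {V : Type*} [AddCommGroup V] [Module ℂ V] {ι : Type*} [Fintype ι]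
    (f : Module.End ℂ V) (b : Basis ι ℂ V) (μ : ι → ℂ) (h : ∀ i, f (b i) = μ i • b i) :
    LinearMap.det f = ∏ i, μ i := by
  classical
  rw [← LinearMap.det_toMatrix b, show LinearMap.toMatrix b b f = Matrix.diagonal μ from
    Matrix.ext fun i j => by
      rw [LinearMap.toMatrix_apply, h, map_smul, Module.Basis.repr_self]
      by_cases h : i = j
      · subst h; simp
      · simp [Matrix.diagonal_apply_ne _ h, Ne.symm h], Matrix.det_diagonal]

/-- A character of degree three of a group without non-trivial linear characters. -/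
theorem three_facts [Finite G] (hperf : commutator G = ⊤) {χ : G → ℂ} (hχ : IsCharacter G χ)
    (h1 : χ 1 = 3) (g : G) :
    χ (g * g) = χ g * χ g - 2 * conj (χ g) ∧
      ((χ g).im = 0 → -1 ≤ (χ g).re ∧ (χ g).re ≤ 3) := by
  obtain ⟨n, ρ, rfl⟩ := hχ
  have hn : Module.finrank ℂ (Fin n → ℂ) = 3 := by
    rw [Representation.char_one] at h1
    exact_mod_cast h1
  obtain ⟨b, μ, -, hnorm, hb, -, hsum, -⟩ := exists_eigenbasis_rep ρ g
  have hdet : LinearMap.det (ρ g) = 1 := by
    have hk : (CharsMore.detHom ρ).ker = ⊤ := top_le_iff.mp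
      (hperf ▸ Abelianization.commutator_subset_ker _)
    have h2 := MonoidHom.mem_ker.mp (hk.ge (Subgroup.mem_top g))
    have h3 := CharsMore.coe_detHom ρ g
    rw [h2, Units.val_one] at h3
    exact h3.symm
  rw [det_eq_prod _ b μ hb] at hdet
  have hsq : ρ.character (g * g) = ∑ i, μ i * μ i := by
    refine trace_eq_sum_of_eigenbasis _ b _ fun i => ?_
    rw [map_mul, Module.End.mul_apply, hb, map_smul, hb, smul_smul]
  rw [← (finCongr hn.symm).sum_comp] at hsum hsq
  rw [← (finCongr hn.symm).prod_comp] at hdet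
  rw [Fin.sum_univ_three] at hsum hsq
  rw [Fin.prod_univ_three] at hdet
  set a := μ (finCongr hn.symm 0) with ha
  set c := μ (finCongr hn.symm 1) with hc
  set d := μ (finCongr hn.symm 2) with hd
  have hinv : ∀ z : ℂ, ‖z‖ = 1 → z * conj z = 1 := fun z hz => by
    rw [Complex.mul_conj, Complex.normSq_eq_norm_sq, hz]; norm_num
  have hca := hinv a (hnorm _)
  have hcc := hinv c (hnorm _)
  have hcd := hinv d (hnorm _)
  have hconj : conj (ρ.character g) = a * c + a * d + c * d := by
    rw [hsum, map_add, map_add]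
    linear_combination (c * d) * hca + (a * d) * hcc + (a * c) * hcd -
      (conj a + conj c + conj d) * hdet
  refine ⟨by rw [hsq, hconj, hsum]; ring, fun him => ?_⟩
  have hreal : conj (ρ.character g) = ρ.character g := Complex.conj_eq_iff_im.2 him
  have h0 : (1 - a) * ((1 - c) * (1 - d)) = 0 := by
    have : a * c + a * d + c * d = a + c + d := by rw [← hconj, hreal, hsum]
    linear_combination this - hdet
  have key : ∀ y z : ℂ, y * z = 1 → ‖y‖ = 1 → ρ.character g = 1 + y + z →
      -1 ≤ (ρ.character g).re ∧ (ρ.character g).re ≤ 3 := by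
    intro y z hyz hy hx
    have hz : z = conj y := by linear_combination conj y * hyz - z * hinv y hy
    have hle := abs_le.1 ((Complex.abs_re_le_norm y).trans_eq hy)
    rw [hx, hz]
    simp only [Complex.add_re, Complex.one_re, Complex.conj_re]
    constructor <;> linarith [hle.1, hle.2]
  rcases mul_eq_zero.1 h0 with h | h
  · have e : a = 1 := (sub_eq_zero.1 h).symm
    exact key c d (by rw [e, one_mul] at hdet; exact hdet) (hnorm _) (by rw [hsum, e])
  rcases mul_eq_zero.1 h with h | h
  · have e : c = 1 := (sub_eq_zero.1 h).symm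
    exact key a d (by rw [e, mul_one] at hdet; exact hdet) (hnorm _) (by rw [hsum, e]; ring)
  · have e : d = 1 := (sub_eq_zero.1 h).symm
    exact key a c (by rw [e, mul_one] at hdet; exact hdet) (hnorm _) (by rw [hsum, e]; ring)

end CfsgLib.CharApps.AltSquare
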