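import Cfsg.Agent.Lib.Chars.PermChar
import Cfsg.Agent.Lib.Chars.Char
import Mathlib.GroupTheory.GroupAction.MultipleTransitivity
import Mathlib.GroupTheory.Perm.Fin

/-!
# Characters of symmetric groups that vanish on elements of small order
-/

set_option autoImplicit false
set_option linter.unusedSectionVars false
set_option linter.style.haveILetI false

namespace CfsgLib.CharApps.AltVanish

open Cfsg Equiv
open scoped ComplexConjugate

variable {n : ℕ}

/-- The fixed points. -/
def fixSet (g : Perm (Fin n)) : Finset (Fin n) := Finset.univ.filter fun i => g i = i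

/-- The points on transpositions. -/
def twoSet (g : Perm (Fin n)) : Finset (Fin n) :=
  Finset.univ.filter fun i => g (g i) = i ∧ g i ≠ i

theorem mem_fixSet {g : Perm (Fin n)} {i : Fin n} : i ∈ fixSet g ↔ g i = i := by simp [fixSet]

theorem mem_twoSet {g : Perm (Fin n)} {i : Fin n} : i ∈ twoSet g ↔ g (g i) = i ∧ g i ≠ i := by
  simp [twoSet]

/-- The standard character. -/
noncomputable def stdFun (g : Perm (Fin n)) : ℂ := ((fixSet g).card : ℂ) - 1

/-- The character of the partition `[n-2,2]`. -/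
noncomputable def twoFun (g : Perm (Fin n)) : ℂ :=
  (((fixSet g).card : ℂ) ^ 2 - 3 * (fixSet g).card + (twoSet g).card) / 2

/-- The character of the partition `[n-2,1,1]`. -/
noncomputable def wedgeFun (g : Perm (Fin n)) : ℂ :=
  (((fixSet g).card : ℂ) ^ 2 - 3 * (fixSet g).card + 2 - (twoSet g).card) / 2

theorem desc_succ (a k : ℕ) :
    ((a.descFactorial (k + 1) : ℕ) : ℂ) = ((a : ℂ) - k) * (a.descFactorial k : ℕ) := by
  rw [Nat.descFactorial_succ, Nat.cast_mul]
  rcases Nat.lt_or_ge a k with h | h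
  · rw [Nat.descFactorial_eq_zero_iff_lt.2 h]; simp
  · rw [Nat.cast_sub h]

section avg

variable {G : Type} [Group G] [Fintype G] (ι : G →* Perm (Fin n))
  (htr : ∀ k : ℕ, k ≤ 4 → ∀ t t' : Fin k ↪ Fin n, ∃ g : G, ∀ j, ι g (t j) = t' j)
include htr

/-- The basic count. -/
theorem sum_card_sol (k : ℕ) (hk : k ≤ 4) (hkn : k ≤ n) (σ : Perm (Fin k)) :
    ∑ g : G, Nat.card {t : Fin k ↪ Fin n // ∀ j, ι g (t j) = t (σ j)} = Nat.card G := by
  classical
  have hsym : ∀ t t' : Fin k ↪ Fin n,
      (Finset.univ.filter fun g : G => ∀ j, ι g (t j) = t' j).card * n.descFactorial k =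
        Nat.card G := by
    intro t t'
    have hsum : Nat.card G = ∑ t'' : Fin k ↪ Fin n,
        (Finset.univ.filter fun g : G => ∀ j, ι g (t j) = t'' j).card := by
      rw [Nat.card_eq_fintype_card, ← Finset.card_univ,
        ← Finset.card_biUnion]
      · congr 1
        ext g
        simp only [Finset.mem_univ, Finset.mem_biUnion, Finset.mem_filter, true_and, true_iff]
        exact ⟨t.trans (ι g).toEmbedding, fun j => rfl⟩
      · intro a _ b _ hab
        rw [Function.onFun, Finset.disjoint_left]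
        intro g ha hb
        exact hab (Function.Embedding.ext fun j =>
          ((Finset.mem_filter.1 ha).2 j).symm.trans ((Finset.mem_filter.1 hb).2 j))
    have hconst : ∀ t'' : Fin k ↪ Fin n,
        (Finset.univ.filter fun g : G => ∀ j, ι g (t j) = t'' j).card =
          (Finset.univ.filter fun g : G => ∀ j, ι g (t j) = t' j).card := by
      intro t''
      obtain ⟨h, hh⟩ := htr k hk t'' t'
      refine Finset.card_equiv (Equiv.mulLeft h) fun g => ?_
      simp only [Finset.mem_filter, Finset.mem_univ, true_and, Equiv.coe_mulLeft, map_mul,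
        Perm.mul_apply]
      refine forall_congr' fun j => ⟨fun e => by rw [e, hh], fun e => (ι h).injective ?_⟩
      rw [e, hh]
    rw [hsum, Finset.sum_congr rfl fun t'' _ => hconst t'', Finset.sum_const, Finset.card_univ,
      Fintype.card_embedding_eq, Fintype.card_fin, Fintype.card_fin, smul_eq_mul, mul_comm]
  have hpos : 0 < n.descFactorial k := Nat.descFactorial_pos.2 hkn
  refine Nat.eq_of_mul_eq_mul_right hpos ?_
  rw [Finset.sum_congr rfl fun g _ => (Nat.card_eq_fintype_card.trans (Fintype.card_subtype _) :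
    Nat.card {t : Fin k ↪ Fin n // ∀ j, ι g (t j) = t (σ j)} = _)]
  simp only [Finset.card_filter]
  rw [Finset.sum_comm]
  simp only [← Finset.card_filter]
  rw [Finset.sum_mul]
  refine Eq.trans (Finset.sum_congr rfl fun t _ => hsym t (σ.toEmbedding.trans t)) ?_
  rw [Finset.sum_const, Finset.card_univ, Fintype.card_embedding_eq, Fintype.card_fin,
    Fintype.card_fin, smul_eq_mul, mul_comm]

variable (hn : 4 ≤ n)
include hn

theorem sum_desc (k : ℕ) (hk : k ≤ 4) :
    ∑ g : G, (((fixSet (ι g)).card.descFactorial k : ℕ) : ℂ) = (Nat.card G : ℂ) := by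
  classical
  rw [← Nat.cast_sum]
  congr 1
  refine Eq.trans ?_ (sum_card_sol ι htr k hk (hk.trans hn) 1)
  refine Finset.sum_congr rfl fun g _ => ?_
  have e : {t : Fin k ↪ Fin n // ∀ j, ι g (t j) = t ((1 : Perm (Fin k)) j)} ≃
      (Fin k ↪ {i // i ∈ fixSet (ι g)}) :=
    { toFun := fun t => ⟨fun j => ⟨t.1 j, mem_fixSet.2 (t.2 j)⟩, fun a b h =>
        t.1.injective (congrArg Subtype.val h)⟩
      invFun := fun t => ⟨t.trans (Function.Embedding.subtype _), fun j => mem_fixSet.1 (t j).2⟩
      left_inv := fun t => rfl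
      right_inv := fun t => rfl }
  rw [Nat.card_congr e, Nat.card_eq_fintype_card, Fintype.card_embedding_eq, Fintype.card_fin,
    Fintype.card_coe]

theorem sum_two :
    ∑ g : G, ((twoSet (ι g)).card : ℂ) = (Nat.card G : ℂ) := by
  classical
  rw [← Nat.cast_sum]
  congr 1
  refine Eq.trans ?_ (sum_card_sol ι htr 2 (by norm_num) (by omega) (Equiv.swap 0 1))
  refine Finset.sum_congr rfl fun g _ => ?_
  rw [← Fintype.card_coe, ← Nat.card_eq_fintype_card]
  refine Nat.card_congr
    { toFun := fun i => ⟨⟨![i.1, ι g i.1], ?_⟩, ?_⟩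
      invFun := fun t => ⟨t.1 0, ?_⟩
      left_inv := fun i => rfl
      right_inv := fun t => ?_ }
  · intro a b h
    have hi := mem_twoSet.1 i.2
    fin_cases a <;> fin_cases b <;> simp at h ⊢ <;> grind
  · intro j
    show ι g (![i.1, ι g i.1] j) = ![i.1, ι g i.1] (Equiv.swap 0 1 j)
    have hi := mem_twoSet.1 i.2
    fin_cases j <;> simp [hi.1]
  · have h0 : ι g (t.1 0) = t.1 1 := by simpa using t.2 0
    have h1 : ι g (t.1 1) = t.1 0 := by simpa using t.2 1
    exact mem_twoSet.2 ⟨by rw [h0, h1], fun h => by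
      simpa using t.1.injective (h0.symm.trans h)⟩
  · refine Subtype.ext (Function.Embedding.ext fun j => ?_)
    show ![t.1 0, ι g (t.1 0)] j = t.1 j
    fin_cases j
    · rfl
    · simpa using t.2 0

theorem sum_fix_two :
    ∑ g : G, ((fixSet (ι g)).card : ℂ) * (twoSet (ι g)).card = (Nat.card G : ℂ) := by
  classical
  simp only [← Nat.cast_mul]
  rw [← Nat.cast_sum]
  congr 1
  refine Eq.trans ?_ (sum_card_sol ι htr 3 (by norm_num) (by omega) (Equiv.swap 1 2))
  refine Finset.sum_congr rfl fun g _ => ?_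
  rw [← Finset.card_product, ← Fintype.card_coe, ← Nat.card_eq_fintype_card]
  refine Nat.card_congr
    { toFun := fun i => ⟨⟨![i.1.1, i.1.2, ι g i.1.2], ?_⟩, ?_⟩
      invFun := fun t => ⟨(t.1 0, t.1 1), ?_⟩
      left_inv := fun i => rfl
      right_inv := fun t => ?_ }
  · intro a b h
    obtain ⟨⟨x, y⟩, hxy⟩ := i
    rw [Finset.mem_product, mem_fixSet, mem_twoSet] at hxy
    obtain ⟨hx, hy, hy'⟩ := hxy
    fin_cases a <;> fin_cases b <;> simp at h ⊢ <;> grind
  · intro j
    obtain ⟨⟨x, y⟩, hxy⟩ := i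
    rw [Finset.mem_product, mem_fixSet, mem_twoSet] at hxy
    obtain ⟨hx, hy, hy'⟩ := hxy
    show ι g (![x, y, ι g y] j) = ![x, y, ι g y] (Equiv.swap 1 2 j)
    fin_cases j <;> simp_all [Equiv.swap_apply_def]
  · have h0 : ι g (t.1 0) = t.1 0 := by simpa [Equiv.swap_apply_def] using t.2 0
    have h1 : ι g (t.1 1) = t.1 2 := by simpa [Equiv.swap_apply_def] using t.2 1
    have h2 : ι g (t.1 2) = t.1 1 := by simpa [Equiv.swap_apply_def] using t.2 2
    rw [Finset.mem_product, mem_fixSet, mem_twoSet]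
    exact ⟨h0, by rw [h1, h2], fun h => by simpa using t.1.injective (h1.symm.trans h)⟩
  · refine Subtype.ext (Function.Embedding.ext fun j => ?_)
    show ![t.1 0, t.1 1, ι g (t.1 1)] j = t.1 j
    fin_cases j
    · rfl
    · rfl
    · simpa [Equiv.swap_apply_def] using t.2 1

theorem sum_fix_fix_two :
    ∑ g : G, ((fixSet (ι g)).card : ℂ) * (((fixSet (ι g)).card : ℂ) - 1) * (twoSet (ι g)).card =
      (Nat.card G : ℂ) := by
  classical
  have hcast : ∀ g : G, ((fixSet (ι g)).card : ℂ) * (((fixSet (ι g)).card : ℂ) - 1) *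
      (twoSet (ι g)).card = (((fixSet (ι g)).offDiag ×ˢ twoSet (ι g)).card : ℕ) := by
    intro g
    rw [Finset.card_product, Finset.offDiag_card, Nat.cast_mul,
      Nat.cast_sub (Nat.le_mul_self _), Nat.cast_mul]
    ring
  rw [Finset.sum_congr rfl fun g _ => hcast g, ← Nat.cast_sum]
  congr 1
  refine Eq.trans ?_ (sum_card_sol ι htr 4 le_rfl hn (Equiv.swap 2 3))
  refine Finset.sum_congr rfl fun g _ => ?_
  rw [← Fintype.card_coe, ← Nat.card_eq_fintype_card]
  refine Nat.card_congr
    { toFun := fun i => ⟨⟨![i.1.1.1, i.1.1.2, i.1.2, ι g i.1.2], ?_⟩, ?_⟩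
      invFun := fun t => ⟨((t.1 0, t.1 1), t.1 2), ?_⟩
      left_inv := fun i => rfl
      right_inv := fun t => ?_ }
  · intro a b h
    obtain ⟨⟨⟨x, x'⟩, y⟩, hxy⟩ := i
    rw [Finset.mem_product, Finset.mem_offDiag, mem_fixSet, mem_fixSet, mem_twoSet] at hxy
    obtain ⟨⟨hx, hx', hne⟩, hy, hy'⟩ := hxy
    fin_cases a <;> fin_cases b <;> simp at h ⊢ <;> grind
  · intro j
    obtain ⟨⟨⟨x, x'⟩, y⟩, hxy⟩ := i
    rw [Finset.mem_product, Finset.mem_offDiag, mem_fixSet, mem_fixSet, mem_twoSet] at hxy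
    obtain ⟨⟨hx, hx', hne⟩, hy, hy'⟩ := hxy
    show ι g (![x, x', y, ι g y] j) = ![x, x', y, ι g y] (Equiv.swap 2 3 j)
    fin_cases j <;> simp_all [Equiv.swap_apply_def]
  · have h0 : ι g (t.1 0) = t.1 0 := by simpa [Equiv.swap_apply_def] using t.2 0
    have h1 : ι g (t.1 1) = t.1 1 := by simpa [Equiv.swap_apply_def] using t.2 1
    have h2 : ι g (t.1 2) = t.1 3 := by simpa [Equiv.swap_apply_def] using t.2 2
    have h3 : ι g (t.1 3) = t.1 2 := by simpa [Equiv.swap_apply_def] using t.2 3
    rw [Finset.mem_product, Finset.mem_offDiag, mem_fixSet, mem_fixSet, mem_twoSet]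
    exact ⟨⟨h0, h1, fun h => by simpa using t.1.injective h⟩, by rw [h2, h3],
      fun h => by simpa using t.1.injective (h2.symm.trans h)⟩
  · refine Subtype.ext (Function.Embedding.ext fun j => ?_)
    show ![t.1 0, t.1 1, t.1 2, ι g (t.1 2)] j = t.1 j
    fin_cases j
    · rfl
    · rfl
    · rfl
    · simpa [Equiv.swap_apply_def] using t.2 2

theorem sum_two_two :
    ∑ g : G, ((twoSet (ι g)).card : ℂ) * (((twoSet (ι g)).card : ℂ) - 2) = (Nat.card G : ℂ) := by
  classical
  set T : G → Finset (Fin n × Fin n) := fun g =>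
    ((twoSet (ι g)) ×ˢ (twoSet (ι g))).filter fun q => q.2 ≠ q.1 ∧ q.2 ≠ ι g q.1 with hT
  have hcast : ∀ g : G, ((twoSet (ι g)).card : ℂ) * (((twoSet (ι g)).card : ℂ) - 2) =
      ((T g).card : ℕ) := by
    intro g
    have hfib : ∀ i ∈ twoSet (ι g),
        ((T g).filter fun q => q.1 = i).card + 2 = (twoSet (ι g)).card := by
      intro i hi
      have hi2 : ι g i ∈ twoSet (ι g) := by
        rw [mem_twoSet] at hi ⊢
        exact ⟨by rw [hi.1], fun h => hi.2 ((ι g).injective h)⟩
      have hne : ι g i ≠ i := (mem_twoSet.1 hi).2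
      have h1 : ((T g).filter fun q => q.1 = i).card = (((twoSet (ι g)).erase i).erase (ι g i)).card := by
        refine Finset.card_bij' (fun q _ => q.2) (fun j _ => (i, j)) (fun q hq => ?_) (fun j hj => ?_)
          (fun q hq => ?_) (fun j _ => rfl)
        · simp only [hT, Finset.mem_filter, Finset.mem_product] at hq
          obtain ⟨⟨⟨-, h2⟩, h3, h4⟩, h5⟩ := hq
          subst h5
          exact Finset.mem_erase.2 ⟨h4, Finset.mem_erase.2 ⟨h3, h2⟩⟩
        · simp only [Finset.mem_erase] at hj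
          simp only [hT, Finset.mem_filter, Finset.mem_product]
          exact ⟨⟨⟨hi, hj.2.2⟩, hj.2.1, hj.1⟩, trivial⟩
        · exact Prod.ext (Finset.mem_filter.1 hq).2.symm rfl
      rw [h1, Finset.card_erase_of_mem (Finset.mem_erase.2 ⟨hne, hi2⟩), Finset.card_erase_of_mem hi]
      have : 2 ≤ (twoSet (ι g)).card := by
        rw [← Finset.card_pair hne.symm]
        exact Finset.card_le_card (by
          intro x hx
          rcases Finset.mem_insert.1 hx with rfl | hx
          · exact hi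
          · rw [Finset.mem_singleton.1 hx]; exact hi2)
      omega
    have hsum : (T g).card + 2 * (twoSet (ι g)).card =
        (twoSet (ι g)).card * (twoSet (ι g)).card := by
      rw [Finset.card_eq_sum_card_fiberwise (f := Prod.fst) (t := twoSet (ι g))
        (fun q hq => (Finset.mem_product.1 (Finset.mem_filter.1 hq).1).1), mul_comm 2,
        ← smul_eq_mul, ← Finset.sum_const, ← Finset.sum_add_distrib, Finset.sum_congr rfl hfib,
        Finset.sum_const, smul_eq_mul]
    have hsum' : ((T g).card : ℂ) + 2 * (twoSet (ι g)).card =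
        ((twoSet (ι g)).card : ℂ) * (twoSet (ι g)).card := by exact_mod_cast hsum
    linear_combination -hsum'
  rw [Finset.sum_congr rfl fun g _ => hcast g, ← Nat.cast_sum]
  congr 1
  refine Eq.trans ?_ (sum_card_sol ι htr 4 le_rfl hn (Equiv.swap 0 1 * Equiv.swap 2 3))
  refine Finset.sum_congr rfl fun g _ => ?_
  rw [← Fintype.card_coe, ← Nat.card_eq_fintype_card]
  refine Nat.card_congr
    { toFun := fun i => ⟨⟨![i.1.1, ι g i.1.1, i.1.2, ι g i.1.2], ?_⟩, ?_⟩
      invFun := fun t => ⟨(t.1 0, t.1 2), ?_⟩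
      left_inv := fun i => rfl
      right_inv := fun t => ?_ }
  · intro a b h
    obtain ⟨⟨x, y⟩, hxy⟩ := i
    simp only [hT, Finset.mem_filter, Finset.mem_product, mem_twoSet] at hxy
    obtain ⟨⟨⟨hx, hx'⟩, hy, hy'⟩, hne, hne'⟩ := hxy
    have h5 : x ≠ ι g y := fun e => hne' (by rw [e, hy])
    have h6 : ι g x ≠ ι g y := fun e => hne ((ι g).injective e).symm
    fin_cases a <;> fin_cases b <;> simp at h ⊢ <;> grind
  · intro j
    obtain ⟨⟨x, y⟩, hxy⟩ := i
    simp only [hT, Finset.mem_filter, Finset.mem_product, mem_twoSet] at hxy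
    obtain ⟨⟨⟨hx, hx'⟩, hy, hy'⟩, hne, hne'⟩ := hxy
    show ι g (![x, ι g x, y, ι g y] j) =
      ![x, ι g x, y, ι g y] ((Equiv.swap 0 1 * Equiv.swap 2 3 : Perm (Fin 4)) j)
    fin_cases j <;> simp_all [Equiv.swap_apply_def]
  · have h0 : ι g (t.1 0) = t.1 1 := by simpa [Equiv.swap_apply_def] using t.2 0
    have h1 : ι g (t.1 1) = t.1 0 := by simpa [Equiv.swap_apply_def] using t.2 1
    have h2 : ι g (t.1 2) = t.1 3 := by simpa [Equiv.swap_apply_def] using t.2 2
    have h3 : ι g (t.1 3) = t.1 2 := by simpa [Equiv.swap_apply_def] using t.2 3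
    simp only [hT, Finset.mem_filter, Finset.mem_product, mem_twoSet]
    exact ⟨⟨⟨by rw [h0, h1], fun h => by simpa using t.1.injective (h0.symm.trans h)⟩,
      by rw [h2, h3], fun h => by simpa using t.1.injective (h2.symm.trans h)⟩,
      fun h => by simpa using t.1.injective h,
      fun h => by simpa using t.1.injective (h.trans h0)⟩
  · refine Subtype.ext (Function.Embedding.ext fun j => ?_)
    show ![t.1 0, ι g (t.1 0), t.1 2, ι g (t.1 2)] j = t.1 j
    fin_cases j
    · rfl
    · simpa [Equiv.swap_apply_def] using t.2 0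
    · rfl
    · simpa [Equiv.swap_apply_def] using t.2 2

/-- The three norms. -/
theorem norms :
    classInner (fun g => stdFun (ι g)) (fun g => stdFun (ι g)) = 1 ∧
      classInner (fun g => twoFun (ι g)) (fun g => twoFun (ι g)) = 1 ∧
      classInner (fun g => wedgeFun (ι g)) (fun g => wedgeFun (ι g)) = 1 := by
  classical
  have d1 := sum_desc ι htr hn 1 (by norm_num)
  have d2 := sum_desc ι htr hn 2 (by norm_num)
  have d3 := sum_desc ι htr hn 3 (by norm_num)
  have d4 := sum_desc ι htr hn 4 le_rfl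
  simp only [desc_succ, Nat.descFactorial_zero, Nat.cast_zero, Nat.cast_one, Nat.cast_ofNat,
    sub_zero, mul_one] at d1 d2 d3 d4
  have b1 := sum_two ι htr hn
  have b2 := sum_fix_two ι htr hn
  have b3 := sum_fix_fix_two ι htr hn
  have b4 := sum_two_two ι htr hn
  set N : ℂ := (Nat.card G : ℂ) with hN
  have hN0 : N ≠ 0 := Nat.cast_ne_zero.2 Nat.card_pos.ne'
  set a : G → ℂ := fun g => ((fixSet (ι g)).card : ℂ) with ha
  set b : G → ℂ := fun g => ((twoSet (ι g)).card : ℂ) with hb
  have h0 : ∑ _g : G, (1 : ℂ) = N := by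
    rw [Finset.sum_const, Finset.card_univ, nsmul_eq_mul, mul_one, hN, Nat.card_eq_fintype_card]
  have e1 : ∑ g, a g = N := d1
  have e2 : ∑ g, a g ^ 2 = 2 * N := by
    rw [two_mul]
    nth_rewrite 1 [← d2]
    rw [← e1, ← Finset.sum_add_distrib]
    exact Finset.sum_congr rfl fun g _ => by simp only [ha]; ring
  have e3 : ∑ g, a g ^ 3 = 5 * N := by
    have : ∑ g, a g ^ 3 = ∑ g, ((fixSet (ι g)).card - (2 : ℂ)) *
        (((fixSet (ι g)).card - 1) * (fixSet (ι g)).card) + 3 * ∑ g, a g ^ 2 - 2 * ∑ g, a g := by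
      rw [Finset.mul_sum, Finset.mul_sum, ← Finset.sum_add_distrib, ← Finset.sum_sub_distrib]
      exact Finset.sum_congr rfl fun g _ => by simp only [ha]; ring
    rw [this, d3, e2, e1]; ring
  have e4 : ∑ g, a g ^ 4 = 15 * N := by
    have : ∑ g, a g ^ 4 = ∑ g, ((fixSet (ι g)).card - (3 : ℂ)) * (((fixSet (ι g)).card - (2 : ℂ)) *
        (((fixSet (ι g)).card - 1) * (fixSet (ι g)).card)) + 6 * ∑ g, a g ^ 3 -
          11 * ∑ g, a g ^ 2 + 6 * ∑ g, a g := by
      rw [Finset.mul_sum, Finset.mul_sum, Finset.mul_sum, ← Finset.sum_add_distrib,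
        ← Finset.sum_sub_distrib, ← Finset.sum_add_distrib]
      exact Finset.sum_congr rfl fun g _ => by simp only [ha]; ring
    rw [this, d4, e3, e2, e1]; ring
  have f1 : ∑ g, b g = N := b1
  have f2 : ∑ g, a g * b g = N := b2
  have f3 : ∑ g, a g ^ 2 * b g = 2 * N := by
    rw [two_mul]
    nth_rewrite 1 [← b3]
    rw [← f2, ← Finset.sum_add_distrib]
    exact Finset.sum_congr rfl fun g _ => by simp only [ha, hb]; ring
  have f4 : ∑ g, b g ^ 2 = 3 * N := by
    rw [show (3 : ℂ) * N = N + 2 * N by ring]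
    nth_rewrite 1 [← b4]
    rw [← f1, Finset.mul_sum, ← Finset.sum_add_distrib]
    exact Finset.sum_congr rfl fun g _ => by simp only [hb]; ring
  have hreal : ∀ F : G → ℂ, (∀ g, conj (F g) = F g) → ∑ g, F g ^ 2 = N →
      classInner F F = 1 := by
    intro F hF h
    rw [Chars.inner_def, ← hN, inv_mul_eq_iff_eq_mul₀ hN0, mul_one, ← h]
    exact Finset.sum_congr rfl fun g _ => by rw [hF]; ring
  refine ⟨hreal _ (fun g => by simp [stdFun]) ?_, hreal _ (fun g => by
    simp [twoFun, Complex.conj_ofNat]) ?_, hreal _ (fun g => by simp [wedgeFun, Complex.conj_ofNat]) ?_⟩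
  · calc ∑ g, stdFun (ι g) ^ 2 = ∑ g, a g ^ 2 - 2 * ∑ g, a g + ∑ _g : G, (1 : ℂ) := by
          rw [Finset.mul_sum, ← Finset.sum_sub_distrib, ← Finset.sum_add_distrib]
          exact Finset.sum_congr rfl fun g _ => by simp only [stdFun, ha]; ring
      _ = N := by rw [e2, e1, h0]; ring
  · calc ∑ g, twoFun (ι g) ^ 2 = (∑ g, a g ^ 4 - 6 * ∑ g, a g ^ 3 + 9 * ∑ g, a g ^ 2 +
          2 * ∑ g, a g ^ 2 * b g - 6 * ∑ g, a g * b g + ∑ g, b g ^ 2) / 4 := by
          rw [Finset.mul_sum, Finset.mul_sum, Finset.mul_sum, Finset.mul_sum,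
            ← Finset.sum_sub_distrib, ← Finset.sum_add_distrib, ← Finset.sum_add_distrib,
            ← Finset.sum_sub_distrib, ← Finset.sum_add_distrib, Finset.sum_div]
          exact Finset.sum_congr rfl fun g _ => by simp only [twoFun, ha, hb]; ring
      _ = N := by rw [e4, e3, e2, f3, f2, f4]; ring
  · calc ∑ g, wedgeFun (ι g) ^ 2 = (∑ g, a g ^ 4 - 6 * ∑ g, a g ^ 3 + 13 * ∑ g, a g ^ 2 -
          12 * ∑ g, a g + 4 * ∑ _g : G, (1 : ℂ) - 2 * ∑ g, a g ^ 2 * b g +
          6 * ∑ g, a g * b g - 4 * ∑ g, b g + ∑ g, b g ^ 2) / 4 := by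
          rw [Finset.mul_sum, Finset.mul_sum, Finset.mul_sum, Finset.mul_sum, Finset.mul_sum,
            Finset.mul_sum, Finset.mul_sum,
            ← Finset.sum_sub_distrib, ← Finset.sum_add_distrib, ← Finset.sum_sub_distrib,
            ← Finset.sum_add_distrib, ← Finset.sum_sub_distrib, ← Finset.sum_add_distrib,
            ← Finset.sum_sub_distrib, ← Finset.sum_add_distrib, Finset.sum_div]
          exact Finset.sum_congr rfl fun g _ => by simp only [wedgeFun, ha, hb]; ring
      _ = N := by rw [e4, e3, e2, e1, h0, f3, f2, f1, f4]; ring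

end avg

section chars

variable {G : Type} [Group G] [Fintype G] (ι : G →* Perm (Fin n))

theorem isCharacter_fix : IsCharacter G (fun g => ((fixSet (ι g)).card : ℂ)) := by
  classical
  letI : MulAction G (Fin n) := MulAction.compHom (Fin n) ι
  have h := Chars.isCharacter_fixedBy (G := G) (X := Fin n)
  have e : (fun g => ((fixSet (ι g)).card : ℂ)) =
      fun g : G => (Nat.card (MulAction.fixedBy (Fin n) g) : ℂ) := by
    funext g
    rw [← Fintype.card_coe, ← Nat.card_eq_fintype_card]
    congr 1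
    exact Nat.card_congr (Equiv.subtypeEquivRight fun i => mem_fixSet)
  rw [e]
  exact h

/-- Unordered pairs. -/
noncomputable def pairFun (g : Perm (Fin n)) : ℂ :=
  (((fixSet g).card : ℂ) ^ 2 + (fixSet g).card + (twoSet g).card) / 2

theorem isCharacter_pair : IsCharacter G (fun g => pairFun (ι g)) := by
  classical
  letI : MulAction G (Sym2 (Fin n)) :=
    { smul := fun g z => Sym2.map (ι g) z
      one_smul := fun z => by show Sym2.map (ι 1) z = z; simp
      mul_smul := fun g h z => by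
        show Sym2.map (ι (g * h)) z = Sym2.map (ι g) (Sym2.map (ι h) z)
        rw [Sym2.map_map, map_mul]; rfl }
  have h := Chars.isCharacter_fixedBy (G := G) (X := Sym2 (Fin n))
  have e : (fun g => pairFun (ι g)) =
      fun g : G => (Nat.card (MulAction.fixedBy (Sym2 (Fin n)) g) : ℂ) := by
    funext g
    set σ := ι g with hσ
    set P1 : Finset (Fin n × Fin n) :=
      Finset.univ.filter fun q => σ q.1 = q.1 ∧ σ q.2 = q.2 with hP1
    set P2 : Finset (Fin n × Fin n) :=
      Finset.univ.filter fun q => σ q.1 = q.2 ∧ σ q.2 = q.1 with hP2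
    set Z : Finset (Sym2 (Fin n)) := Finset.univ.filter fun z => Sym2.map σ z = z with hZ
    have hZc : Nat.card (MulAction.fixedBy (Sym2 (Fin n)) g) = Z.card := by
      rw [← Fintype.card_coe, ← Nat.card_eq_fintype_card]
      refine Nat.card_congr (Equiv.subtypeEquivRight fun z => ?_)
      simp only [hZ, Finset.mem_filter, Finset.mem_univ, true_and]
      exact Iff.rfl
    have hP1c : P1.card = (fixSet σ).card * (fixSet σ).card := by
      rw [← Finset.card_product]
      congr 1
      ext q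
      simp [hP1, mem_fixSet]
    have hP2c : P2.card = (fixSet σ).card + (twoSet σ).card := by
      rw [← Finset.card_union_of_disjoint]
      · refine Finset.card_bij' (fun q _ => q.1) (fun i _ => (i, σ i)) (fun q hq => ?_)
          (fun i hi => ?_) (fun q hq => ?_) (fun i _ => rfl)
        · simp only [hP2, Finset.mem_filter, Finset.mem_univ, true_and] at hq
          rw [Finset.mem_union, mem_fixSet, mem_twoSet]
          by_cases h0 : σ q.1 = q.1
          · exact Or.inl h0
          · exact Or.inr ⟨by rw [hq.1, hq.2], h0⟩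
        · rw [Finset.mem_union, mem_fixSet, mem_twoSet] at hi
          simp only [hP2, Finset.mem_filter, Finset.mem_univ, true_and]
          rcases hi with h | h
          · rw [h, h]
          · exact h.1
        · simp only [hP2, Finset.mem_filter, Finset.mem_univ, true_and] at hq
          exact Prod.ext rfl hq.1
      · rw [Finset.disjoint_left]
        intro i hi hi'
        exact (mem_twoSet.1 hi').2 (mem_fixSet.1 hi)
    have hmap1 : ∀ q ∈ P1, s(q.1, q.2) ∈ Z := fun q hq => by
      simp only [hP1, hZ, Finset.mem_filter, Finset.mem_univ, true_and] at hq ⊢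
      rw [Sym2.map_mk, hq.1, hq.2]
    have hmap2 : ∀ q ∈ P2, s(q.1, q.2) ∈ Z := fun q hq => by
      simp only [hP2, hZ, Finset.mem_filter, Finset.mem_univ, true_and] at hq ⊢
      rw [Sym2.map_mk, hq.1, hq.2, Sym2.eq_swap]
    have hfib : ∀ z ∈ Z, (P1.filter fun q => s(q.1, q.2) = z).card +
        (P2.filter fun q => s(q.1, q.2) = z).card = 2 := by
      intro z hz
      induction z using Sym2.ind with
      | h i j =>
        simp only [hZ, Finset.mem_filter, Finset.mem_univ, true_and, Sym2.map_mk,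
          Sym2.eq_iff] at hz
        have hf : ∀ P : Finset (Fin n × Fin n), (P.filter fun q => s(q.1, q.2) = s(i, j)) =
            ({(i, j), (j, i)} : Finset (Fin n × Fin n)).filter fun q => q ∈ P := by
          intro P
          ext ⟨x, y⟩
          simp only [Finset.mem_filter, Finset.mem_insert, Finset.mem_singleton, Sym2.eq_iff,
            Prod.mk.injEq]
          tauto
        rw [hf, hf]
        by_cases hij : i = j
        · subst hij
          have hi : σ i = i := hz.elim (fun h => h.1) (fun h => h.1)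
          simp [hP1, hP2, Finset.filter_singleton, hi]
        · have hji : ¬ j = i := fun h => hij h.symm
          rcases hz with ⟨h1, h2⟩ | ⟨h1, h2⟩
          · simp [hP1, hP2, Finset.filter_insert, Finset.filter_singleton, h1, h2, hij, hji]
          · simp [hP1, hP2, Finset.filter_insert, Finset.filter_singleton, h1, h2, hij, hji]
    have hsum : P1.card + P2.card = 2 * Z.card := by
      rw [Finset.card_eq_sum_card_fiberwise (fun q hq => hmap1 q hq),
        Finset.card_eq_sum_card_fiberwise (fun q hq => hmap2 q hq), ← Finset.sum_add_distrib,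
        Finset.sum_congr rfl hfib, Finset.sum_const, smul_eq_mul, mul_comm]
    rw [hP1c, hP2c] at hsum
    rw [hZc, pairFun]
    have hsum' : ((fixSet σ).card : ℂ) * (fixSet σ).card +
        ((fixSet σ).card + (twoSet σ).card) = 2 * (Z.card : ℂ) := by exact_mod_cast hsum
    linear_combination (1 / 2 : ℂ) * hsum'
  rw [e]
  exact h

theorem isGeneralized_std : IsGeneralizedCharacter G (fun g => stdFun (ι g)) :=
  ⟨_, _, isCharacter_fix ι, Chars.isCharacter_one, rfl⟩

theorem isGeneralized_two : IsGeneralizedCharacter G (fun g => twoFun (ι g)) := by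
  refine ⟨_, _, isCharacter_pair ι, Chars.isCharacter_add (isCharacter_fix ι) (isCharacter_fix ι),
    funext fun g => ?_⟩
  simp only [Pi.sub_apply, Pi.add_apply, twoFun, pairFun]
  ring

theorem isGeneralized_wedge : IsGeneralizedCharacter G (fun g => wedgeFun (ι g)) := by
  refine ⟨_, _, Chars.isCharacter_add (Chars.isCharacter_mul (isCharacter_fix ι) (isCharacter_fix ι))
    Chars.isCharacter_one, Chars.isCharacter_add (isCharacter_pair ι) (isCharacter_fix ι),
    funext fun g => ?_⟩
  simp only [Pi.sub_apply, Pi.add_apply, Pi.mul_apply, wedgeFun, pairFun]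
  ring

/-- The three characters are irreducible. -/
theorem isIrr (hn : 4 ≤ n)
    (htr : ∀ k : ℕ, k ≤ 4 → ∀ t t' : Fin k ↪ Fin n, ∃ g : G, ∀ j, ι g (t j) = t' j) :
    IsIrrCharacter G (fun g => stdFun (ι g)) ∧ IsIrrCharacter G (fun g => twoFun (ι g)) ∧
      IsIrrCharacter G (fun g => wedgeFun (ι g)) := by
  classical
  obtain ⟨h1, h2, h3⟩ := norms ι htr hn
  have hf : fixSet (1 : Perm (Fin n)) = Finset.univ := by ext; simp [fixSet]
  have ht : twoSet (1 : Perm (Fin n)) = ∅ := by ext; simp [twoSet]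
  have h4 : (4 : ℝ) ≤ n := by exact_mod_cast hn
  have hre : ∀ r : ℝ, ∀ z : ℂ, z = (r : ℂ) → 0 ≤ r → 0 ≤ z.re := fun r z h hr => by
    rw [h, Complex.ofReal_re]; exact hr
  refine ⟨Chars.irr_of_norm_one (isGeneralized_std ι) h1 ?_,
    Chars.irr_of_norm_one (isGeneralized_two ι) h2 ?_,
    Chars.irr_of_norm_one (isGeneralized_wedge ι) h3 ?_⟩
  · refine hre ((n : ℝ) - 1) _ ?_ (by linarith)
    simp [map_one, stdFun, hf]
  · refine hre (((n : ℝ) ^ 2 - 3 * n) / 2) _ ?_ (by nlinarith)
    simp [map_one, twoFun, hf, ht]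
  · refine hre (((n : ℝ) ^ 2 - 3 * n + 2) / 2) _ ?_ (by nlinarith)
    simp [map_one, wedgeFun, hf, ht]

end chars

/-- The alternating group is four times transitive. -/
theorem alt_transitive (hn : 6 ≤ n) (k : ℕ) (hk : k ≤ 4) (t t' : Fin k ↪ Fin n) :
    ∃ g : alternatingGroup (Fin n), ∀ j, (g : Perm (Fin n)) (t j) = t' j := by
  classical
  obtain ⟨σ, hσ⟩ := Equiv.Perm.exists_extending_pair t t' t.injective t'.injective
  rcases Int.units_eq_one_or (Perm.sign σ) with h | h
  · exact ⟨⟨σ, Perm.mem_alternatingGroup.2 h⟩, hσ⟩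
  · have hc : 1 < (Finset.univ \ Finset.univ.image t').card := by
      rw [Finset.card_univ_diff, Finset.card_image_of_injective _ t'.injective, Finset.card_univ,
        Fintype.card_fin, Fintype.card_fin]
      omega
    obtain ⟨u, hu, v, hv, huv⟩ := Finset.one_lt_card.1 hc
    refine ⟨⟨Equiv.swap u v * σ, Perm.mem_alternatingGroup.2 ?_⟩, fun j => ?_⟩
    · rw [map_mul, Perm.sign_swap huv, h]; decide
    · show Equiv.swap u v (σ (t j)) = t' j
      rw [hσ]
      simp only [Finset.mem_sdiff, Finset.mem_univ, true_and, Finset.mem_image, not_exists] at hu hv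
      exact Equiv.swap_apply_of_ne_of_ne (hu j) (hv j)

/-- An element with prescribed cycles of lengths `8`, `4`, `2`. -/
theorem exists_two_element (u v w z : ℕ) (hn : n = (8 * u + 4 * v) + (2 * w + z))
    (heven : Even (u + v + w)) :
    ∃ x : alternatingGroup (Fin n), (∃ j : ℕ, orderOf x = 2 ^ j) ∧
      (fixSet (x : Perm (Fin n))).card = z ∧ (twoSet (x : Perm (Fin n))).card = 2 * w := by
  classical
  have hcard : Fintype.card ((Fin u × Fin 8 ⊕ Fin v × Fin 4) ⊕ (Fin w × Fin 2 ⊕ Fin z)) = n := by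
    simp only [Fintype.card_sum, Fintype.card_prod, Fintype.card_fin]
    omega
  let e : ((Fin u × Fin 8 ⊕ Fin v × Fin 4) ⊕ (Fin w × Fin 2 ⊕ Fin z)) ≃ Fin n := Fintype.equivFinOfCardEq hcard
  let pS : Perm ((Fin u × Fin 8 ⊕ Fin v × Fin 4) ⊕ (Fin w × Fin 2 ⊕ Fin z)) := Perm.sumCongr
    (Perm.sumCongr (prodCongrRight fun _ => finRotate 8) (prodCongrRight fun _ => finRotate 4))
    (Perm.sumCongr (prodCongrRight fun _ => finRotate 2) (Equiv.refl _))
  let p : Perm (Fin n) := e.permCongr pS
  have hp : ∀ s, p (e s) = e (pS s) := fun s => by simp [p, Equiv.permCongr_apply]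
  have hsign : Perm.sign p = 1 := by
    rw [Perm.sign_permCongr, Perm.sign_sumCongr, Perm.sign_sumCongr, Perm.sign_sumCongr,
      Perm.sign_prodCongrRight, Perm.sign_prodCongrRight, Perm.sign_prodCongrRight,
      Perm.sign_refl, sign_finRotate, sign_finRotate, sign_finRotate]
    simp only [Finset.prod_const, Finset.card_univ, Fintype.card_fin, mul_one, ← pow_mul,
      ← pow_add]
    obtain ⟨m, hm⟩ := heven
    refine Even.neg_one_pow ⟨3 * u + v + m, ?_⟩
    omega
  have h8 : ∀ s : ((Fin u × Fin 8 ⊕ Fin v × Fin 4) ⊕ (Fin w × Fin 2 ⊕ Fin z)), pS^[8] s = s := by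
    have a8 : ∀ j : Fin 8, (finRotate 8)^[8] j = j := by decide
    have a4 : ∀ j : Fin 4, (finRotate 4)^[8] j = j := by decide
    have a2 : ∀ j : Fin 2, (finRotate 2)^[8] j = j := by decide
    rintro ((⟨i, j⟩ | ⟨i, j⟩) | ⟨i, j⟩ | i)
    · simpa [pS, Function.iterate_succ_apply, Perm.sumCongr_apply] using a8 j
    · simpa [pS, Function.iterate_succ_apply, Perm.sumCongr_apply] using a4 j
    · simpa [pS, Function.iterate_succ_apply, Perm.sumCongr_apply] using a2 j
    · simp [pS, Perm.sumCongr_apply]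
  have hp8 : p ^ 8 = 1 := by
    refine Equiv.ext fun i => ?_
    obtain ⟨s, rfl⟩ := e.surjective i
    have hit : ∀ k : ℕ, (p ^ k) (e s) = e (pS^[k] s) := by
      intro k
      induction k with
      | zero => simp
      | succ k ih => rw [pow_succ', Perm.mul_apply, ih, hp, Function.iterate_succ_apply']
    rw [hit, h8, Perm.one_apply]
  refine ⟨⟨p, Perm.mem_alternatingGroup.2 hsign⟩, ?_, ?_, ?_⟩
  · have hd : orderOf (⟨p, Perm.mem_alternatingGroup.2 hsign⟩ : alternatingGroup (Fin n)) ∣ 2 ^ 3 :=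
      orderOf_dvd_of_pow_eq_one (Subtype.ext (by simpa using hp8))
    obtain ⟨j, -, hj⟩ := (Nat.dvd_prime_pow Nat.prime_two).1 hd
    exact ⟨j, hj⟩
  · have hf : fixSet p = (Finset.univ : Finset (Fin z)).image fun i => e (Sum.inr (Sum.inr i)) := by
      ext i
      obtain ⟨s, rfl⟩ := e.surjective i
      rw [mem_fixSet, hp, e.apply_eq_iff_eq]
      have a8 : ∀ j : Fin 8, finRotate 8 j ≠ j := by decide
      have a4 : ∀ j : Fin 4, finRotate 4 j ≠ j := by decide
      have a2 : ∀ j : Fin 2, finRotate 2 j ≠ j := by decide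
      rcases s with ((⟨i, j⟩ | ⟨i, j⟩) | ⟨i, j⟩ | i)
      · simpa [pS, Perm.sumCongr_apply] using a8 j
      · simpa [pS, Perm.sumCongr_apply] using a4 j
      · simpa [pS, Perm.sumCongr_apply] using a2 j
      · simp [pS, Perm.sumCongr_apply]
    show (fixSet p).card = z
    rw [hf, Finset.card_image_of_injective _
      (fun a b h => Sum.inr_injective (Sum.inr_injective (e.injective h))), Finset.card_univ,
      Fintype.card_fin]
  · have hf : twoSet p = (Finset.univ : Finset (Fin w × Fin 2)).image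
        fun i => e (Sum.inr (Sum.inl i)) := by
      ext i
      obtain ⟨s, rfl⟩ := e.surjective i
      rw [mem_twoSet, hp, hp, Ne, e.apply_eq_iff_eq, e.apply_eq_iff_eq]
      have a8 : ∀ j : Fin 8, finRotate 8 (finRotate 8 j) ≠ j := by decide
      have a4 : ∀ j : Fin 4, finRotate 4 (finRotate 4 j) ≠ j := by decide
      have a2 : ∀ j : Fin 2, finRotate 2 (finRotate 2 j) = j ∧ finRotate 2 j ≠ j := by decide
      rcases s with ((⟨i, j⟩ | ⟨i, j⟩) | ⟨i, j⟩ | i)
      · simpa [pS, Perm.sumCongr_apply] using a8 j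
      · simpa [pS, Perm.sumCongr_apply] using a4 j
      · simpa [pS, Perm.sumCongr_apply] using a2 j
      · simp [pS, Perm.sumCongr_apply]
    show (twoSet p).card = 2 * w
    rw [hf, Finset.card_image_of_injective _
      (fun a b h => Sum.inl_injective (Sum.inr_injective (e.injective h))), Finset.card_univ,
      Fintype.card_prod, Fintype.card_fin, Fintype.card_fin, mul_comm]

/-- An element of order three with prescribed fixed points. -/
theorem exists_three_element (c z : ℕ) (hn : n = 3 * c + z) (hc : 0 < c) :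
    ∃ y : alternatingGroup (Fin n), orderOf y = 3 ∧ (fixSet (y : Perm (Fin n))).card = z ∧
      (twoSet (y : Perm (Fin n))).card = 0 := by
  classical
  have hcard : Fintype.card (Fin c × Fin 3 ⊕ Fin z) = n := by
    simp only [Fintype.card_sum, Fintype.card_prod, Fintype.card_fin]
    omega
  let e : (Fin c × Fin 3 ⊕ Fin z) ≃ Fin n := Fintype.equivFinOfCardEq hcard
  let pS : Perm (Fin c × Fin 3 ⊕ Fin z) := Perm.sumCongr (prodCongrRight fun _ => finRotate 3) (Equiv.refl _)
  let p : Perm (Fin n) := e.permCongr pS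
  have hp : ∀ s, p (e s) = e (pS s) := fun s => by simp [p, Equiv.permCongr_apply]
  have hsign : Perm.sign p = 1 := by
    rw [Perm.sign_permCongr, Perm.sign_sumCongr, Perm.sign_prodCongrRight, Perm.sign_refl,
      sign_finRotate]
    simp
  have a1 : ∀ j : Fin 3, finRotate 3 j ≠ j := by decide
  have a2 : ∀ j : Fin 3, finRotate 3 (finRotate 3 j) ≠ j := by decide
  have a3 : ∀ j : Fin 3, finRotate 3 (finRotate 3 (finRotate 3 j)) = j := by decide
  have hp3 : p ^ 3 = 1 := by
    refine Equiv.ext fun i => ?_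
    obtain ⟨s, rfl⟩ := e.surjective i
    rw [pow_succ, pow_succ, pow_one, Perm.mul_apply, Perm.mul_apply, hp, hp, hp, Perm.one_apply]
    rcases s with ⟨i, j⟩ | i
    · simpa [pS, Perm.sumCongr_apply] using a3 j
    · simp [pS, Perm.sumCongr_apply]
  refine ⟨⟨p, Perm.mem_alternatingGroup.2 hsign⟩, ?_, ?_, ?_⟩
  · haveI : Fact (Nat.Prime 3) := ⟨Nat.prime_three⟩
    refine orderOf_eq_prime (Subtype.ext (by simpa using hp3)) fun h => ?_
    have h1 : p (e (Sum.inl (⟨0, hc⟩, 0))) = e (Sum.inl (⟨0, hc⟩, 0)) := by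
      rw [show p = 1 from congrArg Subtype.val h]; rfl
    rw [hp, e.apply_eq_iff_eq] at h1
    exact a1 0 (by simpa [pS, Perm.sumCongr_apply] using h1)
  · have hf : fixSet p = (Finset.univ : Finset (Fin z)).image fun i => e (Sum.inr i) := by
      ext i
      obtain ⟨s, rfl⟩ := e.surjective i
      rw [mem_fixSet, hp, e.apply_eq_iff_eq]
      rcases s with ⟨i, j⟩ | i
      · simpa [pS, Perm.sumCongr_apply] using a1 j
      · simp [pS, Perm.sumCongr_apply]
    show (fixSet p).card = z
    rw [hf, Finset.card_image_of_injective _ (fun a b h => Sum.inr_injective (e.injective h)),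
      Finset.card_univ, Fintype.card_fin]
  · show (twoSet p).card = 0
    rw [Finset.card_eq_zero, Finset.eq_empty_iff_forall_notMem]
    intro i
    obtain ⟨s, rfl⟩ := e.surjective i
    rw [mem_twoSet, hp, hp, Ne, e.apply_eq_iff_eq, e.apply_eq_iff_eq]
    rcases s with ⟨i, j⟩ | i
    · simpa [pS, Perm.sumCongr_apply] using a2 j
    · simp [pS, Perm.sumCongr_apply]

/-- **The statement.** -/
theorem vanishing (hn : 7 ≤ n) :
    (∃ F : Perm (Fin n) → ℂ, IsIrrCharacter (Perm (Fin n)) F ∧
      IsIrrCharacter (alternatingGroup (Fin n)) (fun x => F x) ∧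
      ∃ x : alternatingGroup (Fin n), (∃ j : ℕ, orderOf x = 2 ^ j) ∧ F x = 0) ∧
    (∃ F : Perm (Fin n) → ℂ, IsIrrCharacter (Perm (Fin n)) F ∧
      IsIrrCharacter (alternatingGroup (Fin n)) (fun x => F x) ∧
      ∃ y : alternatingGroup (Fin n), orderOf y = 3 ∧ F y = 0) := by
  classical
  obtain ⟨s1, s2, s3⟩ := isIrr (MonoidHom.id (Perm (Fin n))) (by omega) fun k _ t t' =>
    Equiv.Perm.exists_extending_pair t t' t.injective t'.injective
  obtain ⟨a1, a2, a3⟩ := isIrr (alternatingGroup (Fin n)).subtype (by omega)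
    (alt_transitive (by omega))
  refine ⟨?_, ?_⟩
  · rcases Nat.even_or_odd n with ⟨m, hm⟩ | ⟨m, hm⟩
    · rcases Nat.even_or_odd m with ⟨l, hl⟩ | ⟨l, hl⟩
      · obtain ⟨u, v, huv, he⟩ : ∃ u v : ℕ, n = (8 * u + 4 * v) + (2 * 0 + 0) ∧ Even (u + v + 0) := by
          rcases Nat.even_or_odd l with h | ⟨i, hi⟩
          · exact ⟨0, l, by omega, by simpa using h⟩
          · exact ⟨1, l - 2, by omega, ⟨i, by omega⟩⟩
        obtain ⟨x, hx, hf, hb⟩ := exists_two_element u v 0 0 huv he
        exact ⟨twoFun, s2, a2, x, hx, by simp [twoFun, hf, hb]⟩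
      · obtain ⟨u, v, huv, he⟩ : ∃ u v : ℕ, n = (8 * u + 4 * v) + (2 * 1 + 0) ∧ Even (u + v + 1) := by
          rcases Nat.even_or_odd l with ⟨i, hi⟩ | ⟨i, hi⟩
          · exact ⟨1, l - 2, by omega, ⟨i, by omega⟩⟩
          · exact ⟨0, l, by omega, ⟨i + 1, by omega⟩⟩
        obtain ⟨x, hx, hf, hb⟩ := exists_two_element u v 1 0 huv he
        exact ⟨wedgeFun, s3, a3, x, hx, by simp [wedgeFun, hf, hb]⟩
    · obtain ⟨v, w, huv, he⟩ : ∃ v w : ℕ, n = (8 * 0 + 4 * v) + (2 * w + 1) ∧ Even (0 + v + w) := by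
        rcases Nat.even_or_odd m with h | ⟨i, hi⟩
        · exact ⟨0, m, by omega, by simpa using h⟩
        · exact ⟨1, m - 2, by omega, ⟨i, by omega⟩⟩
      obtain ⟨x, hx, hf, hb⟩ := exists_two_element 0 v w 1 huv he
      exact ⟨stdFun, s1, a1, x, hx, by simp [stdFun, hf]⟩
  · have h3 := Nat.div_add_mod n 3
    rcases (show n % 3 = 0 ∨ n % 3 = 1 ∨ n % 3 = 2 by omega) with h | h | h
    · obtain ⟨y, hy, hf, hb⟩ := exists_three_element (n := n) (n / 3) 0 (by omega) (by omega)
      exact ⟨twoFun, s2, a2, y, hy, by simp [twoFun, hf, hb]⟩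
    · obtain ⟨y, hy, hf, hb⟩ := exists_three_element (n := n) (n / 3) 1 (by omega) (by omega)
      exact ⟨stdFun, s1, a1, y, hy, by simp [stdFun, hf]⟩
    · obtain ⟨y, hy, hf, hb⟩ := exists_three_element (n := n) (n / 3) 2 (by omega) (by omega)
      exact ⟨wedgeFun, s3, a3, y, hy, by simp [wedgeFun, hf, hb]; norm_num⟩

end CfsgLib.CharApps.AltVanish
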