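import Cfsg.Agent.Lib.Chars.Irr
import Mathlib

/-!
# Landau's theorem: boundedly many classes bound the order
-/

set_option autoImplicit false
set_option linter.style.haveILetI false

namespace CfsgLib.CharApps

open CfsgLib.Chars

universe u

theorem exists_bound_egyptian : ∀ k B : ℕ, ∃ N : ℕ, ∀ (s : Multiset ℕ), s.card = k →
    (∀ n ∈ s, 0 < n) → ∀ a b : ℕ, 0 < a → 0 < b → b ≤ B →
    (s.map fun n : ℕ => (1 : ℚ) / n).sum = (a : ℚ) / b → ∀ n ∈ s, n ≤ N := by
  intro k
  induction k with
  | zero =>
    exact fun B => ⟨0, fun s hs _ _ _ _ _ _ _ n hn => by simp [Multiset.card_eq_zero.mp hs] at hn⟩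
  | succ k ih =>
    intro B
    obtain ⟨N, hN⟩ := ih (B * ((k + 1) * B))
    refine ⟨max ((k + 1) * B) N, fun s hs hpos a b ha hb hbB hsum n hn => ?_⟩
    obtain ⟨m, hm, hmB⟩ : ∃ m ∈ s, m ≤ (k + 1) * B := by
      by_contra hcon
      simp only [not_exists, not_and, not_le] at hcon
      have hB : (0 : ℚ) < B := by exact_mod_cast hb.trans_le hbB
      have hbound : ∀ x ∈ s.map (fun n : ℕ => (1 : ℚ) / n), x ≤ 1 / (((k + 1) * B + 1 : ℕ) : ℚ) := by
        intro x hx
        obtain ⟨m, hm, rfl⟩ := Multiset.mem_map.mp hx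
        exact one_div_le_one_div_of_le (by positivity) (by exact_mod_cast hcon m hm)
      have h1 := Multiset.sum_le_card_nsmul _ _ hbound
      rw [Multiset.card_map, hs, nsmul_eq_mul, hsum] at h1
      have h2 : (1 : ℚ) / B ≤ (a : ℚ) / b := by
        rw [div_le_div_iff₀ hB (by exact_mod_cast hb), one_mul]
        exact_mod_cast hbB.trans (Nat.le_mul_of_pos_left B ha)
      have h3 := h2.trans h1
      rw [mul_one_div, div_le_div_iff₀ hB (by positivity)] at h3
      push_cast at h3
      linarith
    by_cases hnm : n = m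
    · exact le_max_of_le_left (hnm ▸ hmB)
    refine le_max_of_le_right ?_
    have hm0 : 0 < m := hpos m hm
    have hne : n ∈ s.erase m := (Multiset.mem_erase_of_ne hnm).mpr hn
    have hrest : ((s.erase m).map fun n : ℕ => (1 : ℚ) / n).sum = (a : ℚ) / b - 1 / m := by
      rw [← hsum]
      conv_rhs => rw [← Multiset.cons_erase hm]
      rw [Multiset.map_cons, Multiset.sum_cons]
      ring
    have hrpos : 0 < (a : ℚ) / b - 1 / m := by
      rw [← hrest]
      have hn0 : (0 : ℚ) < 1 / n := one_div_pos.mpr (by exact_mod_cast hpos n hn)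
      refine hn0.trans_le (Multiset.single_le_sum (fun x hx => ?_) _
        (Multiset.mem_map_of_mem _ hne))
      obtain ⟨j, -, rfl⟩ := Multiset.mem_map.mp hx
      positivity
    have hmb : (b : ℚ) < a * m := by
      rw [sub_pos, div_lt_div_iff₀ (by exact_mod_cast hm0) (by exact_mod_cast hb), one_mul] at hrpos
      exact hrpos
    have hmb' : b < a * m := by exact_mod_cast hmb
    refine hN (s.erase m) (by rw [Multiset.card_erase_of_mem hm, hs]; rfl)
      (fun j hj => hpos j (Multiset.mem_of_mem_erase hj)) (a * m - b) (b * m)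
      (Nat.sub_pos_of_lt hmb') (Nat.mul_pos hb hm0) (Nat.mul_le_mul hbB hmB) ?_ n hne
    rw [hrest, Nat.cast_sub hmb'.le, div_sub_div _ _ (by exact_mod_cast hb.ne')
      (by exact_mod_cast hm0.ne')]
    push_cast
    ring

/-- The class equation in reciprocal form. -/
theorem sum_one_div_centralizer (G : Type u) [Group G] [Finite G] [Fintype (ConjClasses G)] :
    ∑ c : ConjClasses G,
      (1 : ℚ) / (Nat.card (Subgroup.centralizer ({Quotient.out c} : Set G)) : ℕ) = 1 := by
  classical
  haveI := Fintype.ofFinite G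
  have h : ∀ c : ConjClasses G,
      (1 : ℚ) / (Nat.card (Subgroup.centralizer ({Quotient.out c} : Set G)) : ℕ) =
        (Nat.card {g : G // ConjClasses.mk g = c} : ℚ) / (Nat.card G : ℚ) := by
    intro c
    have e : Nat.card {g : G // ConjClasses.mk g = c} =
        Nat.card {g : G // IsConj (Quotient.out c) g} := by
      refine Nat.card_congr (Equiv.subtypeEquivRight fun g => ?_)
      rw [← ConjClasses.mk_eq_mk_iff_isConj, eq_comm,
        show ConjClasses.mk (Quotient.out c) = c from Quotient.out_eq c]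
    rw [e, div_eq_div_iff (Nat.cast_ne_zero.mpr Nat.card_pos.ne')
      (Nat.cast_ne_zero.mpr Nat.card_pos.ne'), one_mul]
    exact_mod_cast (card_isConj_mul_card_centralizer (Quotient.out c)).symm
  rw [Finset.sum_congr rfl (fun c _ => h c), ← Finset.sum_div]
  have e : (∑ c : ConjClasses G, (Nat.card {g : G // ConjClasses.mk g = c} : ℚ)) =
      (Nat.card G : ℚ) := by
    rw [← Nat.cast_sum, ← Nat.card_sigma]
    exact_mod_cast Nat.card_congr (Equiv.sigmaFiberEquiv (ConjClasses.mk : G → ConjClasses G))
  rw [e, div_self (Nat.cast_ne_zero.mpr Nat.card_pos.ne')]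

/-- Landau. -/
theorem exists_bound_card_of_card_classes (K : ℕ) : ∃ N : ℕ, ∀ (G : Type u) [Group G] [Finite G],
    Nat.card (ConjClasses G) ≤ K → Nat.card G ≤ N := by
  choose f hf using exists_bound_egyptian
  refine ⟨∑ k ∈ Finset.range (K + 1), f k 1, fun G _ _ hK => ?_⟩
  classical
  haveI := Fintype.ofFinite (ConjClasses G)
  set s := Finset.univ.val.map fun c : ConjClasses G =>
    Nat.card (Subgroup.centralizer ({Quotient.out c} : Set G)) with hs
  have hcard : s.card = Nat.card (ConjClasses G) := by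
    rw [hs, Multiset.card_map, Nat.card_eq_fintype_card]
    rfl
  have h1 : Nat.card (Subgroup.centralizer ({Quotient.out (ConjClasses.mk (1 : G))} : Set G)) =
      Nat.card G := by
    have : Quotient.out (ConjClasses.mk (1 : G)) = 1 :=
      isConj_one_left.mp (ConjClasses.mk_eq_mk_iff_isConj.mp (Quotient.out_eq _)) |> id
    rw [this, show Subgroup.centralizer ({1} : Set G) = ⊤ from by
      ext x; simp [Subgroup.mem_centralizer_iff], Subgroup.card_top]
  rw [← h1]
  refine (hf _ 1 s hcard (fun n hn => ?_) 1 1 one_pos one_pos le_rfl ?_ _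
    (Multiset.mem_map_of_mem _ (Finset.mem_univ _))).trans ?_
  · obtain ⟨c, -, rfl⟩ := Multiset.mem_map.mp hn
    exact Nat.card_pos
  · rw [hs, Multiset.map_map, Nat.cast_one, div_one]
    exact sum_one_div_centralizer G
  · exact Finset.single_le_sum (f := fun k => f k 1) (fun _ _ => Nat.zero_le _)
      (Finset.mem_range.mpr (Nat.lt_succ_of_le hK))

end CfsgLib.CharApps
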