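import Cfsg.Agent.Lib.CharApps.FourGroupBound
import Cfsg.Agent.Lib.CharApps.Landau
import Cfsg.Agent.Lib.CharApps.Inflation
import Cfsg.Agent.Lib.CharApps.PrincipalRational
import Cfsg.Agent.Lib.BlockOrth.DefectOrder
import Cfsg.Agent.Lib.Blocks.PrincipalBlock
import Cfsg.Agent.Lib.Blocks.Correspondence

/-!
# Bounding a group by the defects of its non-principal `2`-blocks
-/

set_option autoImplicit false
set_option linter.style.haveILetI false
set_option linter.unusedSectionVars false

namespace CfsgLib.CharApps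

open Cfsg CfsgLib.Chars CfsgLib.Blocks CfsgLib.BlockOrth
open scoped ComplexConjugate

universe u

variable {G : Type u} [Group G] [Fintype G] {M : Ideal AlgInt} [M.IsPrime]

/-- No non-principal `2`-block has defect `r` or more. -/
def NoBigBlock (M : Ideal AlgInt) (G : Type u) [Group G] (r : ℕ) : Prop :=
  ∀ B : Set (IrrCharacter G), IsPBlock M B → B ≠ principalBlock M G → blockDefect 2 B < r

/-- Summing an inflated character over the regular elements, the kernel being of order two in
the centre. -/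
theorem regularSum_inflate_two {H : Type u} [Group H] [Fintype H] (Z : Subgroup H) [Z.Normal]
    [Fintype (H ⧸ Z)] (hZ : Z ≤ Subgroup.center H) (hZ2 : Nat.card Z = 2)
    (ψ : IrrCharacter (H ⧸ Z)) [DecidablePred fun g : H => ¬ 2 ∣ orderOf g]
    [DecidablePred fun q : H ⧸ Z => ¬ 2 ∣ orderOf q] :
    ∑ g ∈ Finset.univ.filter (fun g : H => ¬ 2 ∣ orderOf g), (inflate Z ψ : H → ℂ) g =
      ∑ q ∈ Finset.univ.filter (fun q : H ⧸ Z => ¬ 2 ∣ orderOf q), (ψ : H ⧸ Z → ℂ) q := by
  have hpow : ∀ z ∈ Z, z ^ 2 = 1 := fun z hz => by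
    have h := congrArg Subtype.val (pow_card_eq_one' (x := (⟨z, hz⟩ : Z)))
    rwa [hZ2] at h
  refine Finset.sum_bij (fun g _ => (g : H ⧸ Z)) (fun g hg => ?_) (fun g hg k hk e => ?_)
    (fun q hq => ?_) (fun g _ => inflate_apply Z ψ g)
  · exact Finset.mem_filter.mpr ⟨Finset.mem_univ _, fun h =>
      (Finset.mem_filter.mp hg).2 (h.trans (orderOf_map_dvd (QuotientGroup.mk' Z) g))⟩
  · have hz : g⁻¹ * k ∈ Z := QuotientGroup.eq.mp e
    have h2 : (g⁻¹ * k) ^ 2 = 1 := hpow _ hz
    have hc : Commute g (g⁻¹ * k) := Subgroup.mem_center_iff.mp (hZ hz) g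
    have hk' : k = g * (g⁻¹ * k) := by group
    by_contra hne
    have hz1 : g⁻¹ * k ≠ 1 := fun h => hne (inv_mul_eq_one.mp h)
    have ho : orderOf (g⁻¹ * k) = 2 := orderOf_eq_prime h2 hz1
    have hcop : (orderOf g).Coprime (orderOf (g⁻¹ * k)) := by
      rw [ho]
      exact (Nat.prime_two.coprime_iff_not_dvd.mpr (Finset.mem_filter.mp hg).2).symm
    have h3 := hc.orderOf_mul_eq_mul_orderOf_of_coprime hcop
    rw [← hk', ho] at h3
    exact (Finset.mem_filter.mp hk).2 (h3 ▸ dvd_mul_left 2 _)
  · obtain ⟨x, rfl⟩ := QuotientGroup.mk_surjective q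
    have hm : ¬ 2 ∣ orderOf (x : H ⧸ Z) := (Finset.mem_filter.mp hq).2
    have hz : x ^ orderOf (x : H ⧸ Z) ∈ Z := by
      rw [← QuotientGroup.eq_one_iff, QuotientGroup.mk_pow, pow_orderOf_eq_one]
    refine ⟨x * x ^ orderOf (x : H ⧸ Z), Finset.mem_filter.mpr ⟨Finset.mem_univ _, fun h => ?_⟩, ?_⟩
    · apply hm
      refine h.trans (orderOf_dvd_of_pow_eq_one ?_)
      obtain ⟨k, hk⟩ := Nat.odd_iff.mpr (Nat.two_dvd_ne_zero.mp hm)
      rw [(Commute.self_pow x _).mul_pow]
      have h2 := hpow _ hz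
      set y := x ^ orderOf (x : H ⧸ Z) with hy
      rw [show y ^ orderOf (x : H ⧸ Z) = (y ^ 2) ^ k * y by rw [hk, pow_succ, pow_mul],
        h2, one_pow, one_mul, ← sq, h2]
    · rw [QuotientGroup.mk_mul, (QuotientGroup.eq_one_iff _).mpr hz, mul_one]

/-- The hypothesis passes to the centralizer of an involution modulo the involution. -/
theorem noBigBlock_centralizer (hM : IsPModular 2 M) {r : ℕ} (hr : NoBigBlock M G (r + 1))
    {t : G} (ht : orderOf t = 2) (Z : Subgroup (Subgroup.centralizer ({t} : Set G))) [Z.Normal]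
    (hZ : Z ≤ Subgroup.center _) (hZ2 : Nat.card Z = 2) :
    NoBigBlock M (Subgroup.centralizer ({t} : Set G) ⧸ Z) r := by
  classical
  haveI : Fact (Nat.Prime 2) := ⟨Nat.prime_two⟩
  haveI := Fintype.ofFinite (Subgroup.centralizer ({t} : Set G))
  haveI := Fintype.ofFinite (Subgroup.centralizer ({t} : Set G) ⧸ Z)
  intro b' hb' hne
  by_contra hd
  rw [not_lt] at hd
  obtain ⟨ψ, hψ, hψ0⟩ := exists_degVal_eq_blockMin (p := 2) (CfsgLib.Blocks.IsPBlock.nonempty hb')
  set ξ := inflate Z ψ with hξ
  set b := blockOf M (ξ : Subgroup.centralizer ({t} : Set G) → ℂ) with hbdef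
  have hb : IsPBlock M b := isPBlock_blockOf ξ
  have hz : ∃ k, orderOf t = 2 ^ k := ⟨1, by rw [ht, pow_one]⟩
  obtain ⟨B, hind⟩ := exists_isInducedBlock_centralizer hM.2.2 hz hb
  have hdb : r + 1 ≤ blockDefect 2 b := by
    have h1 := blockMin_le (p := 2) (B := b) (mem_blockOf_self ξ)
    rw [show degVal 2 ξ = degVal 2 ψ by rw [degVal, degVal, hξ, inflate_charDegree], hψ0] at h1
    have h2 : (Nat.card (Subgroup.centralizer ({t} : Set G))).factorization 2 =
        (Nat.card (Subgroup.centralizer ({t} : Set G) ⧸ Z)).factorization 2 + 1 := by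
      rw [Subgroup.card_eq_card_quotient_mul_card_subgroup Z, hZ2,
        Nat.factorization_mul Nat.card_pos.ne' two_ne_zero, Finsupp.add_apply,
        Nat.prime_two.factorization_self]
    have h3 := blockMin_add_blockDefect (p := 2) (CfsgLib.Blocks.IsPBlock.nonempty hb)
    have h4 := blockMin_add_blockDefect (p := 2) (CfsgLib.Blocks.IsPBlock.nonempty hb')
    omega
  obtain ⟨D, hD⟩ := exists_isDefectGroup (p := 2) hb
  obtain ⟨E, hE, hDE⟩ := CfsgLib.Blocks.IsInducedBlock.exists_defect_le hM.2.2 hind hD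
  have hBp : B = principalBlock M G := by
    by_contra hBne
    have h1 := hr B hind.2.1 hBne
    have h2 := Nat.le_of_dvd Nat.card_pos (Subgroup.card_dvd_of_le hDE)
    rw [Subgroup.card_map_of_injective (Subgroup.subtype_injective _),
      card_defectGroup hM.2.2 hb hD, card_defectGroup hM.2.2 hind.2.1 hE,
      Nat.pow_le_pow_iff_right one_lt_two] at h2
    omega
  have hmem : ξ ∈ principalBlock M (Subgroup.centralizer ({t} : Set G)) := by
    rw [← setOf_inducing_principalBlock hM hz]
    exact hBp ▸ hind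
  apply hne
  refine CfsgLib.Blocks.IsPBlock.eq_of_mem hb' (isPBlock_principalBlock M) hψ ?_
  rw [mem_principalBlock_iff_regularSum hM.2.2] at hmem ⊢
  rwa [hξ, regularSum_inflate_two Z hZ hZ2 ψ] at hmem

/-- A group with a single block has boundedly many classes. -/
theorem exists_bound_single_block (a : ℕ) : ∃ N : ℕ, ∀ (G : Type u) [Group G] [Finite G]
    (M : Ideal AlgInt), IsPModular 2 M → (Nat.card G).factorization 2 ≤ a →
      NoBigBlock M G 0 → Nat.card G ≤ N := by
  obtain ⟨N, hN⟩ := exists_bound_card_of_card_classes.{u} (2 ^ (2 * a) + 4)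
  refine ⟨N, fun G _ _ M hM ha hno => hN G ?_⟩
  classical
  haveI : Fact (Nat.Prime 2) := ⟨Nat.prime_two⟩
  haveI : M.IsPrime := hM.2.1.isPrime
  haveI := Fintype.ofFinite G
  haveI := irrFintype G
  have hall : principalBlock M G = Set.univ := Set.eq_univ_of_forall fun χ => by
    by_contra hχ
    exact absurd (hno _ (isPBlock_blockOf χ) fun e => hχ (e ▸ mem_blockOf_self χ)) (Nat.not_lt_zero _)
  have h := four_mul_card_le (p := 2) (M := M) hM.2.2 (isPBlock_principalBlock (G := G) M)
  rw [hall, Nat.card_univ, card_irr_eq_card_classes] at h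
  have h1 : 2 ^ (2 * blockDefect 2 (Set.univ : Set (IrrCharacter G))) ≤ 2 ^ (2 * a) :=
    Nat.pow_le_pow_right two_pos (by unfold blockDefect; omega)
  omega

/-- The bound. -/
theorem exists_bound_noBigBlock (a : ℕ) : ∃ N : ℕ, ∀ (G : Type u) [Group G] [Finite G]
    (M : Ideal AlgInt) (r : ℕ), IsPModular 2 M → (Nat.card G).factorization 2 ≤ a →
      NoBigBlock M G r →
      (∃ E : Subgroup G, IsMulCommutative E ∧ (∀ x ∈ E, x * x = 1) ∧ Nat.card E = 2 ^ (r + 1)) →
      Nat.card G ≤ N := by
  induction a with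
  | zero =>
    refine ⟨0, fun G _ _ M r _ ha _ hE => ?_⟩
    obtain ⟨E, -, -, hE⟩ := hE
    have h := (dvd_pow_self 2 (Nat.succ_ne_zero r)).trans (hE ▸ Subgroup.card_subgroup_dvd_card E)
    have := Nat.prime_two.factorization_pos_of_dvd Nat.card_pos.ne' h
    omega
  | succ a ih =>
    obtain ⟨N, hN⟩ := ih
    obtain ⟨N₀, hN₀⟩ := exists_bound_single_block.{u} (a + 1)
    obtain ⟨N₁, hN₁⟩ := exists_bound_fourAct.{u} (2 * N) (a + 1)
    refine ⟨N₀ + N₁, fun G _ _ M r hM ha hno hE => ?_⟩
    classical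
    rcases r with _ | r
    · exact (hN₀ G M hM ha hno).trans (Nat.le_add_right _ _)
    refine le_trans ?_ (Nat.le_add_left _ _)
    haveI : Fact (Nat.Prime 2) := ⟨Nat.prime_two⟩
    haveI : M.IsPrime := hM.2.1.isPrime
    haveI := Fintype.ofFinite G
    obtain ⟨E, hcomm, hexp, hcard⟩ := hE
    haveI := hcomm
    have hc : ∀ x ∈ E, ∀ y ∈ E, x * y = y * x := fun x hx y hy =>
      congrArg Subtype.val (hcomm.is_comm.comm (⟨x, hx⟩ : E) ⟨y, hy⟩)
    have hinv : ∀ x ∈ E, x⁻¹ = x := fun x hx => inv_eq_of_mul_eq_one_right (hexp x hx)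
    have key : ∀ t ∈ E, t ≠ 1 → Nat.card (Subgroup.centralizer ({t} : Set G)) ≤ 2 * N := by
      intro t htE ht1
      have ht : orderOf t = 2 := orderOf_eq_prime (by rw [sq]; exact hexp t htE) ht1
      set H := Subgroup.centralizer ({t} : Set G) with hH
      have htH : t ∈ H := Subgroup.mem_centralizer_singleton_iff.mpr rfl
      set Z : Subgroup H := Subgroup.zpowers ⟨t, htH⟩ with hZdef
      have hZc : Z ≤ Subgroup.center H := by
        rw [hZdef, Subgroup.zpowers_le, Subgroup.mem_center_iff]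
        exact fun g => Subtype.ext (Subgroup.mem_centralizer_singleton_iff.mp g.2)
      haveI : Z.Normal := ⟨fun n hn g => by
        rw [Subgroup.mem_center_iff.mp (hZc hn) g, mul_inv_cancel_right]; exact hn⟩
      have hZ2 : Nat.card Z = 2 := by rw [Nat.card_zpowers, Subgroup.orderOf_mk, ht]
      have hEH : E ≤ H := fun x hx => Subgroup.mem_centralizer_singleton_iff.mpr (hc x hx t htE)
      have hq : Nat.card (H ⧸ Z) ≤ N := by
        refine hN (H ⧸ Z) M r hM ?_ (noBigBlock_centralizer hM hno ht Z hZc hZ2) ?_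
        · have h1 : (Nat.card H).factorization 2 ≤ (Nat.card G).factorization 2 :=
            (Nat.factorization_le_iff_dvd Nat.card_pos.ne' Nat.card_pos.ne').mpr
              (Subgroup.card_subgroup_dvd_card H) 2
          rw [Subgroup.card_eq_card_quotient_mul_card_subgroup Z, hZ2,
            Nat.factorization_mul Nat.card_pos.ne' two_ne_zero, Finsupp.add_apply,
            Nat.prime_two.factorization_self] at h1
          omega
        · refine ⟨(E.subgroupOf H).map (QuotientGroup.mk' Z), ⟨⟨?_⟩⟩, ?_, ?_⟩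
          · rintro ⟨_, x, hx, rfl⟩ ⟨_, y, hy, rfl⟩
            exact Subtype.ext (by
              show QuotientGroup.mk' Z x * QuotientGroup.mk' Z y =
                QuotientGroup.mk' Z y * QuotientGroup.mk' Z x
              rw [← map_mul, ← map_mul, Subtype.ext (hc _ hx _ hy) (a1 := x * y) (a2 := y * x)])
          · rintro _ ⟨x, hx, rfl⟩
            rw [← map_mul, Subtype.ext (hexp _ hx) (a1 := x * x) (a2 := (1 : H)), map_one]
          · have h1 : Nat.card (E.subgroupOf H) = 2 ^ (r + 1 + 1) :=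
              (Nat.card_congr (Subgroup.subgroupOfEquivOfLe hEH).toEquiv).trans hcard
            have h2 := Subgroup.index_mul_card ((QuotientGroup.mk' Z).comp (E.subgroupOf H).subtype).ker
            rw [Subgroup.index_ker, MonoidHom.range_comp, Subgroup.range_subtype, h1] at h2
            have h3 : Nat.card ((QuotientGroup.mk' Z).comp (E.subgroupOf H).subtype).ker = 2 := by
              rw [← MonoidHom.comap_ker, QuotientGroup.ker_mk']
              refine (Nat.card_congr (Subgroup.subgroupOfEquivOfLe ?_).toEquiv).trans hZ2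
              rw [hZdef, Subgroup.zpowers_le]
              exact htE
            rw [h3, pow_succ] at h2
            exact Nat.eq_of_mul_eq_mul_right two_pos h2
      rw [Subgroup.card_eq_card_quotient_mul_card_subgroup Z, hZ2, mul_comm]
      exact Nat.mul_le_mul_left 2 hq
    -- a four group
    obtain ⟨t, htE, ht1⟩ : ∃ t ∈ E, t ≠ 1 := by
      by_contra hcon
      push Not at hcon
      rw [(Subgroup.eq_bot_iff_forall E).mpr hcon, Subgroup.card_bot] at hcard
      exact absurd hcard.symm (Nat.one_lt_two_pow (Nat.succ_ne_zero _)).ne'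
    obtain ⟨s, hsE, hs1, hst⟩ : ∃ s ∈ E, s ≠ 1 ∧ s ≠ t := by
      by_contra hcon
      push Not at hcon
      have h : (E : Set G) ⊆ {1, t} := fun x hx => by
        by_cases h1 : x = 1
        · exact Or.inl h1
        · exact Or.inr (hcon x hx h1)
      have h2 := (Set.ncard_le_ncard h (Set.toFinite _)).trans (Set.ncard_insert_le _ _)
      rw [Set.ncard_singleton, ← Nat.card_coe_set_eq] at h2
      change Nat.card E ≤ 2 at h2
      rw [hcard, pow_succ, pow_succ] at h2
      have := Nat.one_le_two_pow (n := r)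
      omega
    have hfix : ∀ x ∈ E, x ≠ 1 → fixCard (MulAut.conj x) ≤ 2 * N := fun x hx hx1 => by
      refine le_trans ?_ (key x hx hx1)
      refine (Nat.card_congr (Equiv.subtypeEquivRight fun g => ?_)).le
      rw [MulAut.conj_apply, mul_inv_eq_iff_eq_mul, Subgroup.mem_centralizer_singleton_iff]
      exact eq_comm
    refine hN₁ G ⟨MulAut.conj s, MulAut.conj t, fun x => ?_, fun x => ?_, fun x => ?_,
      hfix s hsE hs1, hfix t htE ht1, ?_⟩ ha
    · rw [← MulAut.mul_apply, ← map_mul, hexp s hsE, map_one, MulAut.one_apply]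
    · rw [← MulAut.mul_apply, ← map_mul, hexp t htE, map_one, MulAut.one_apply]
    · rw [← MulAut.mul_apply, ← map_mul, hc s hsE t htE, map_mul, MulAut.mul_apply]
    · have e : (MulAut.conj t).trans (MulAut.conj s) = MulAut.conj (s * t) := by
        refine MulEquiv.ext fun x => ?_
        rw [MulEquiv.trans_apply, map_mul, MulAut.mul_apply]
      rw [e]
      exact hfix _ (mul_mem hsE htE) fun h => hst (by rw [mul_eq_one_iff_eq_inv, hinv t htE] at h; exact h)

end CfsgLib.CharApps
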