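import Cfsg.Agent.Lib.CharApps.Basic
import Cfsg.Agent.Lib.BlockOrth.Height
import Cfsg.Agent.Lib.Chars.Char

/-!
# Blocks for two primes
-/

set_option autoImplicit false
set_option linter.style.haveILetI false

namespace CfsgLib.CharApps

open Cfsg CfsgLib.Chars CfsgLib.Blocks CfsgLib.BlockOrth
open scoped ComplexConjugate

universe u

variable {G : Type u} [Group G] [Fintype G]

theorem pow_dvd_sum_two_blocks {p q : ℕ} [Fact p.Prime] [Fact q.Prime] (hpq : p ≠ q)
    {Mp Mq : Ideal AlgInt} [Mp.IsPrime] [Mq.IsPrime] (hMp : (p : AlgInt) ∈ Mp)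
    (hMq : (q : AlgInt) ∈ Mq) (hno : ∀ g : G, orderOf g ≠ p * q)
    {Bp : Set (IrrCharacter G)} (hBp : IsPBlock Mp Bp) {Bq : Set (IrrCharacter G)}
    (hBq : IsPBlock Mq Bq) {y : G} (hy : p ∣ orderOf y) :
    ∃ ω : AlgInt, ∑ᶠ χ ∈ Bp ∩ Bq, (charDegree (χ : G → ℂ) : ℂ) * (χ : G → ℂ) y =
      (q : ℂ) ^ (Nat.card G).factorization q * (ω : ℂ) := by
  classical
  haveI := irrFintype G
  set c : IrrCharacter G → ℂ := fun χ => conj ((χ : G → ℂ) y) with hc
  set θ : G → ℂ := ∑ χ ∈ Finset.univ.filter (· ∈ Bp), c χ • (χ : G → ℂ) with hθdef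
  set φ : G → ℂ := ∑ χ ∈ (Finset.univ.filter (· ∈ Bp)).filter (· ∈ Bq), c χ • (χ : G → ℂ) with hφdef
  have hθsing : ∀ x : G, q ∣ orderOf x → θ x = 0 := by
    intro x hx
    have hxp : ¬ p ∣ orderOf x := fun hpx =>
      hno (x ^ (orderOf x / (p * q))) (orderOf_pow_orderOf_div (orderOf_pos x).ne'
        (((Nat.coprime_primes Fact.out Fact.out).mpr hpq).mul_dvd_of_dvd_of_dvd hpx hx))
    have h := weak_orthogonality Fact.out hMp hBp hxp hy
    rw [finsum_mem_eq_sum_of_inter_support_eq (t := Finset.univ.filter (· ∈ Bp)) _ (by ext; simp)] at h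
    rw [hθdef, Finset.sum_apply, ← h]
    exact Finset.sum_congr rfl fun χ _ => by simp only [hc, Pi.smul_apply, smul_eq_mul]; ring
  have horth : ∀ χ ξ : IrrCharacter G, χ ∈ Bq → ξ ∉ Bq →
      classInner (pRegularPart q (χ : G → ℂ)) (ξ : G → ℂ) = 0 := by
    intro χ ξ hχ hξ
    have h := pInt_spec (p := q) χ ξ
    rw [pInt_eq_zero hMq hBq hχ hξ, pInner, Int.cast_zero] at h
    exact (mul_eq_zero.mp h).resolve_left (by simp [(Fact.out : q.Prime).ne_zero])
  have horth' : ∀ χ ξ : IrrCharacter G, χ ∉ Bq → ξ ∈ Bq →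
      classInner (pRegularPart q (χ : G → ℂ)) (ξ : G → ℂ) = 0 := by
    intro χ ξ hχ hξ
    have h := pInt_spec (p := q) χ ξ
    rw [pInt_symm, pInt_eq_zero hMq hBq hξ hχ, pInner, Int.cast_zero] at h
    exact (mul_eq_zero.mp h).resolve_left (by simp [(Fact.out : q.Prime).ne_zero])
  have hcl : ∀ s : Finset (IrrCharacter G), IsClassFunction G (∑ χ ∈ s, c χ • (χ : G → ℂ)) :=
    fun s => isClassFunction_sum _ fun χ _ => isClassFunction_smul _ (isClassFunction_irr χ)
  have hreg : pRegularPart q θ = θ := by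
    funext x
    rw [pRegularPart_apply]
    split_ifs with h
    · exact (hθsing x h).symm
    · rfl
  have hcoef : ∀ (s : Finset (IrrCharacter G)) (ξ : IrrCharacter G),
      classInner (pRegularPart q (∑ χ ∈ s, c χ • (χ : G → ℂ))) (ξ : G → ℂ) =
        ∑ χ ∈ s, c χ * classInner (pRegularPart q (χ : G → ℂ)) (ξ : G → ℂ) := by
    intro s ξ
    rw [pRegularPart_sum, Chars.inner_sum_left]
    refine Finset.sum_congr rfl fun χ _ => ?_
    rw [pRegularPart_smul, Chars.inner_smul_left]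
  have hid : ∀ (s : Finset (IrrCharacter G)) (ξ : IrrCharacter G),
      classInner (∑ χ ∈ s, c χ • (χ : G → ℂ)) (ξ : G → ℂ) = if ξ ∈ s then c ξ else 0 := by
    intro s ξ
    rw [Chars.inner_sum_left]
    simp [Chars.inner_smul_left, inner_irr]
  have hφreg : pRegularPart q φ = φ := by
    refine ext_inner_irr (isClassFunction_pRegularPart (hcl _)) (hcl _) fun ξ => ?_
    rw [hφdef, hcoef, hid]
    by_cases hξ : ξ ∈ Bq
    · have h := hcoef (Finset.univ.filter (· ∈ Bp)) ξ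
      rw [← hθdef, hreg, hθdef, hid] at h
      rw [Finset.sum_filter_of_ne, ← h]
      · simp [Finset.mem_filter, hξ]
      · intro χ _ hne
        by_contra hχ
        exact hne (by rw [horth' χ ξ hχ hξ, mul_zero])
    · rw [if_neg (fun h => hξ (Finset.mem_filter.mp h).2)]
      exact Finset.sum_eq_zero fun χ hχ => by rw [horth χ ξ (Finset.mem_filter.mp hχ).2 hξ, mul_zero]
  have hφsing : ∀ x : G, q ∣ orderOf x → φ x = 0 := by
    intro x hx
    rw [← hφreg, pRegularPart_apply, if_neg (not_not.mpr hx)]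
  obtain ⟨Q⟩ : Nonempty (Sylow q G) := inferInstance
  haveI : Fintype (Q : Subgroup G) := Fintype.ofFinite _
  have hm : ∀ χ : IrrCharacter G, ∃ m : ℕ, ∑ h : (Q : Subgroup G), (χ : G → ℂ) h =
      ((q ^ (Nat.card G).factorization q : ℕ) : ℂ) * (m : ℂ) := by
    intro χ
    obtain ⟨m, hm⟩ := inner_char_nat (isCharacter_restrict (Q : Subgroup G) (isCharacter_of_irr χ.2))
      (isCharacter_one (G := (Q : Subgroup G)))
    refine ⟨m, ?_⟩
    rw [inner_def, inv_mul_eq_iff_eq_mul₀ (card_ne_zero (Q : Subgroup G)), Q.card_eq_multiplicity] at hm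
    rw [← hm]
    simp
  choose m hm using hm
  have hone : φ 1 = ∑ h : (Q : Subgroup G), φ h := by
    rw [Finset.sum_eq_single (1 : (Q : Subgroup G))]
    · rfl
    · intro h _ hne
      refine hφsing _ ?_
      obtain ⟨k, hk⟩ := Q.isPGroup' h
      obtain ⟨i, -, hi⟩ := (Nat.dvd_prime_pow (Fact.out : q.Prime)).mp (orderOf_dvd_of_pow_eq_one hk)
      rw [Subgroup.orderOf_coe, hi]
      exact dvd_pow_self q (by rintro rfl; exact hne (orderOf_eq_one_iff.mp (by simpa using hi)))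
    · simp
  set S := (Finset.univ.filter (· ∈ Bp)).filter (· ∈ Bq) with hS
  have hint : IsIntegral ℤ (∑ χ ∈ S, (m χ : ℂ) * (χ : G → ℂ) y) :=
    IsIntegral.sum _ fun χ _ => (isIntegral_algebraMap (R := ℤ) (A := ℂ) (x := (m χ : ℤ))).mul
      (char_isIntegral (isCharacter_of_irr χ.2) y)
  refine ⟨⟨_, hint⟩, ?_⟩
  have hconj : conj (φ 1) = ∑ χ ∈ S, (charDegree (χ : G → ℂ) : ℂ) * (χ : G → ℂ) y := by
    rw [hφdef, Finset.sum_apply, map_sum]
    refine Finset.sum_congr rfl fun χ _ => ?_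
    simp only [hc, Pi.smul_apply, smul_eq_mul, map_mul, Complex.conj_conj]
    rw [deg_eq, map_natCast, mul_comm]
  rw [finsum_mem_eq_sum_of_inter_support_eq (t := S) _ (by ext; simp [hS]), ← hconj, hone, hφdef]
  simp only [Finset.sum_apply, Pi.smul_apply, smul_eq_mul]
  rw [Finset.sum_comm, map_sum, ← Nat.cast_pow]
  show _ = _ * ∑ χ ∈ S, (m χ : ℂ) * (χ : G → ℂ) y
  rw [Finset.mul_sum]
  refine Finset.sum_congr rfl fun χ _ => ?_
  rw [← Finset.mul_sum, hm χ, map_mul, map_mul, map_natCast, map_natCast, hc, Complex.conj_conj]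
  ring

end CfsgLib.CharApps
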