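import Cfsg.Agent.Lib.CharApps.InertialThreeChars
import Cfsg.Agent.Lib.Chars.Induction
import Cfsg.Agent.Lib.Chars.Virtual

/-!
# Sylow subgroups all of whose non-identity elements have the same centralizer

Inner products of functions induced from `C(P) = P × K`.
-/

set_option autoImplicit false
set_option linter.style.haveILetI false
set_option linter.unusedSectionVars false

namespace CfsgLib.CharApps

open Cfsg CfsgLib.Chars
open scoped ComplexConjugate

universe u

variable {G : Type u} [Group G] [Fintype G] {p : ℕ} [Fact p.Prime] {P : Sylow p G}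

/-- All non-identity elements of `P` have the centralizer of `P`. -/
def IsStarSylow (P : Sylow p G) : Prop :=
  ∀ x ∈ (P : Subgroup G), x ≠ 1 →
    Subgroup.centralizer ({x} : Set G) = Subgroup.centralizer ((P : Subgroup G) : Set G)

theorem IsStarSylow.le_centralizer (h : IsStarSylow P) :
    (P : Subgroup G) ≤ Subgroup.centralizer ((P : Subgroup G) : Set G) := by
  intro x hx
  by_cases h1 : x = 1
  · rw [h1]; exact one_mem _
  · rw [← h x hx h1]; exact Subgroup.mem_centralizer_singleton_iff.mpr rfl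

theorem IsStarSylow.comm (h : IsStarSylow P) (a b : (P : Subgroup G)) : a * b = b * a :=
  Subtype.ext (Subgroup.mem_centralizer_iff.mp (h.le_centralizer b.2) a a.2)

theorem IsStarSylow.mem_normalizer (h : IsStarSylow P) {y g : G} (hy : y ∈ (P : Subgroup G))
    (hy1 : y ≠ 1) (hgy : g * y * g⁻¹ ∈ (P : Subgroup G)) :
    g ∈ Subgroup.normalizer ((P : Subgroup G) : Set G) := by
  have hz1 : g * y * g⁻¹ ≠ 1 := fun e => hy1 (conj_eq_one_iff.mp e)
  have hle : (P : Subgroup G).map (MulAut.conj g).toMonoidHom ≤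
      Subgroup.centralizer ((P : Subgroup G) : Set G) := by
    rw [← h _ hgy hz1]
    rintro _ ⟨u, hu, rfl⟩
    rw [Subgroup.mem_centralizer_singleton_iff]
    have e : u * y = y * u := (congrArg Subtype.val (h.comm ⟨u, hu⟩ ⟨y, hy⟩) : _)
    simp only [MulEquiv.coe_toMonoidHom, MulAut.conj_apply]
    calc g * u * g⁻¹ * (g * y * g⁻¹) = g * (u * y) * g⁻¹ := by group
      _ = g * (y * u) * g⁻¹ := by rw [e]
      _ = g * y * g⁻¹ * (g * u * g⁻¹) := by group
  have hsup : IsPGroup p ((P : Subgroup G) ⊔ (P : Subgroup G).map (MulAut.conj g).toMonoidHom :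
      Subgroup G) :=
    P.isPGroup'.to_sup_of_normal_left' (P.isPGroup'.map _)
      (hle.trans (Subgroup.centralizer_le_normalizer _))
  have hmax : (P : Subgroup G).map (MulAut.conj g).toMonoidHom ≤ (P : Subgroup G) :=
    le_sup_right.trans (P.is_maximal' hsup le_sup_left).le
  rw [Subgroup.mem_normalizer_iff]
  intro u
  refine ⟨fun hu => hmax ⟨u, hu, rfl⟩, fun hu => ?_⟩
  have heq : (P : Subgroup G).map (MulAut.conj g).toMonoidHom = (P : Subgroup G) :=
    Subgroup.eq_of_le_of_card_ge hmax
      (Subgroup.card_map_of_injective (MulEquiv.injective _)).ge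
  rw [← heq] at hu
  obtain ⟨v, hv, hv'⟩ := hu
  simp only [MulEquiv.coe_toMonoidHom, MulAut.conj_apply] at hv'
  rw [← mul_left_cancel (mul_right_cancel hv')]
  exact hv

/-- The decomposition `C(P) = P × K`. -/
structure CentralSplit (P : Sylow p G) where
  K : Subgroup G
  e : (↥(P : Subgroup G) × ↥K) ≃* Subgroup.centralizer ((P : Subgroup G) : Set G)
  coe_e : ∀ y k, (e (y, k) : G) = (y : G) * (k : G)
  not_dvd : ¬ p ∣ Nat.card K
  conj_mem : ∀ n ∈ Subgroup.normalizer ((P : Subgroup G) : Set G), ∀ k ∈ K, n * k * n⁻¹ ∈ K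

theorem IsStarSylow.exists_split (h : IsStarSylow P) : Nonempty (CentralSplit P) := by
  set C := Subgroup.centralizer ((P : Subgroup G) : Set G)
  have hPC : (P : Subgroup G) ≤ C := h.le_centralizer
  set S := P.subtype hPC
  have hS : Subgroup.normalizer ((S : Subgroup C) : Set C) ≤
      Subgroup.centralizer ((S : Subgroup C) : Set C) := fun c _ =>
    Subgroup.mem_centralizer_iff.mpr fun s hs =>
      Subtype.ext (Subgroup.mem_centralizer_iff.mp c.2 (s : G) hs)
  set K' := (MonoidHom.transferSylow S hS).ker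
  have hK' : K'.IsComplement' (S : Subgroup C) :=
    MonoidHom.ker_transferSylow_isComplement' S hS
  have hnd : ¬ p ∣ Nat.card K' := by
    rw [← hK'.index_eq_card]
    exact S.not_dvd_index
  have hidx : ∃ k, K'.index = p ^ k := by
    obtain ⟨k, hk⟩ := S.isPGroup'.exists_card_eq
    exact ⟨k, hK'.symm.index_eq_card.trans hk⟩
  obtain ⟨kk, hkk⟩ := hidx
  have hcm : ∀ (y : (P : Subgroup G)) (k : K'.map C.subtype),
      Commute (y : G) (k : G) := fun y k => by
    obtain ⟨k', -, hk'⟩ := k.2
    rw [← hk']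
    exact Subgroup.mem_centralizer_iff.mp k'.2 y y.2
  let f : (↥(P : Subgroup G) × ↥(K'.map C.subtype)) →* C := MonoidHom.mk'
    (fun z => ⟨(z.1 : G) * (z.2 : G), mul_mem (hPC z.1.2) (Subgroup.map_subtype_le _ z.2.2)⟩)
    (fun a b => Subtype.ext (by
      simp only [Prod.fst_mul, Prod.snd_mul, Subgroup.coe_mul]
      exact (hcm b.1 a.2).mul_mul_mul_comm _ _))
  have hinj : Function.Injective f := by
    rw [injective_iff_map_eq_one]
    rintro ⟨y, k⟩ hyk
    have e : (y : G) * (k : G) = 1 := congrArg Subtype.val hyk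
    obtain ⟨k', hk', hk''⟩ := k.2
    have hkP : k' ∈ (S : Subgroup C) := by
      show (k' : G) ∈ (P : Subgroup G)
      rw [show (k' : G) = (y : G)⁻¹ from hk''.trans (eq_inv_of_mul_eq_one_right e)]
      exact inv_mem y.2
    have hk1 : k' = 1 := Subgroup.mem_bot.mp (hK'.disjoint.le_bot ⟨hk', hkP⟩)
    have hk0 : (k : G) = 1 := by rw [← hk'', hk1]; rfl
    rw [hk0, mul_one] at e
    exact Prod.ext (Subtype.ext e) (Subtype.ext hk0)
  have hsurj : Function.Surjective f := by
    intro c
    obtain ⟨⟨k, s⟩, hks⟩ := hK'.2 c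
    refine ⟨(⟨(s : C), s.2⟩, ⟨(k : C), Subgroup.mem_map_of_mem _ k.2⟩), Subtype.ext ?_⟩
    rw [← hks]
    exact Subgroup.mem_centralizer_iff.mp (k : C).2 ((s : C) : G) s.2
  refine ⟨⟨K'.map C.subtype, MulEquiv.ofBijective f ⟨hinj, hsurj⟩, fun y k => rfl, ?_, ?_⟩⟩
  · rwa [Subgroup.card_map_of_injective (Subgroup.subtype_injective _)]
  · rintro n hn _ ⟨k, hk, rfl⟩
    have hC : n * (k : G) * n⁻¹ ∈ C := by
      refine Subgroup.mem_centralizer_iff.mpr fun z hz => ?_
      have hz' : n⁻¹ * z * n ∈ (P : Subgroup G) :=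
        (Subgroup.mem_normalizer_iff''.mp hn z).mp hz
      have e := Subgroup.mem_centralizer_iff.mp k.2 _ hz'
      calc z * (n * (k : G) * n⁻¹) = n * ((n⁻¹ * z * n) * (k : G)) * n⁻¹ := by group
        _ = n * ((k : G) * (n⁻¹ * z * n)) * n⁻¹ := by rw [e]
        _ = n * (k : G) * n⁻¹ * z := by group
    refine ⟨⟨_, hC⟩, ?_, rfl⟩
    haveI := Fintype.ofFinite C
    refine CfsgLib.Blocks.index_eq_pow_mem_of_regular hkk fun hd => hnd (hd.trans ?_)
    rw [← Subgroup.orderOf_coe]
    show orderOf (n * (k : G) * n⁻¹) ∣ Nat.card K'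
    rw [show orderOf (n * (k : G) * n⁻¹) = orderOf (k : G) from
      MulEquiv.orderOf_eq (MulAut.conj n) (k : G), Subgroup.orderOf_coe]
    exact Subgroup.orderOf_dvd_natCard _ hk

namespace CentralSplit

variable (D : CentralSplit P)

local notation "C(" P ")" => Subgroup.centralizer ((P : Subgroup _) : Set _)

/-- The projection to `P`. -/
noncomputable def fstHom : Subgroup.centralizer ((P : Subgroup G) : Set G) →* (P : Subgroup G) :=
  (MonoidHom.fst _ _).comp D.e.symm.toMonoidHom

/-- The projection to `K`. -/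
noncomputable def sndHom : Subgroup.centralizer ((P : Subgroup G) : Set G) →* D.K :=
  (MonoidHom.snd _ _).comp D.e.symm.toMonoidHom

theorem fstHom_e (y : (P : Subgroup G)) (k : D.K) : D.fstHom (D.e (y, k)) = y := by simp [fstHom]

theorem sndHom_e (y : (P : Subgroup G)) (k : D.K) : D.sndHom (D.e (y, k)) = k := by simp [sndHom]

/-- The character `λ ⊗ θ` of `C(P)`. -/
noncomputable def tensor (lam : (P : Subgroup G) →* ℂˣ) (θ : D.K → ℂ) :
    Subgroup.centralizer ((P : Subgroup G) : Set G) → ℂ :=
  fun c => (lam (D.fstHom c) : ℂ) * θ (D.sndHom c)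

theorem tensor_e (lam : (P : Subgroup G) →* ℂˣ) (θ : D.K → ℂ) (y : (P : Subgroup G)) (k : D.K) :
    D.tensor lam θ (D.e (y, k)) = (lam y : ℂ) * θ k := by
  simp [tensor, D.fstHom_e, D.sndHom_e]

theorem isCharacter_tensor (lam : (P : Subgroup G) →* ℂˣ) {θ : D.K → ℂ}
    (hθ : IsCharacter D.K θ) : IsCharacter _ (D.tensor lam θ) :=
  isCharacter_mul (isCharacter_comp D.fstHom (isCharacter_of_irr (isIrrCharacter_linear lam)))
    (isCharacter_comp D.sndHom hθ)

section Sums

variable [Fintype (P : Subgroup G)] [Fintype D.K]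
  [Fintype (Subgroup.centralizer ((P : Subgroup G) : Set G))]

theorem sum_e (f : Subgroup.centralizer ((P : Subgroup G) : Set G) → ℂ) :
    ∑ c, f c = ∑ y : (P : Subgroup G), ∑ k : D.K, f (D.e (y, k)) := by
  rw [← Fintype.sum_prod_type']
  exact (Fintype.sum_equiv D.e.toEquiv _ _ fun _ => rfl).symm

theorem card_eq : (Nat.card (Subgroup.centralizer ((P : Subgroup G) : Set G)) : ℂ) =
    (Nat.card (P : Subgroup G) : ℂ) * (Nat.card D.K : ℂ) := by
  rw [← Nat.cast_mul, ← Nat.card_prod, Nat.card_congr D.e.toEquiv]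

theorem inner_tensor (lam μ : (P : Subgroup G) →* ℂˣ) [Decidable (lam = μ)] (θ η : D.K → ℂ) :
    classInner (D.tensor lam θ) (D.tensor μ η) =
      (if lam = μ then 1 else 0) * classInner θ η := by
  classical
  have h : classInner (fun y => (lam y : ℂ)) (fun y => (μ y : ℂ)) =
      if lam = μ then (1 : ℂ) else 0 := by
    rw [inner_irr_of_isIrr (isIrrCharacter_linear lam) (isIrrCharacter_linear μ)]
    exact if_congr ⟨fun h => MonoidHom.ext fun y => Units.ext (congrFun h y), fun h => by rw [h]⟩
      rfl rfl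
  rw [← h, inner_def, inner_def, inner_def, D.sum_e, D.card_eq, mul_inv, mul_mul_mul_comm,
    Finset.sum_mul_sum]
  congr 1
  refine Finset.sum_congr rfl fun y _ => Finset.sum_congr rfl fun k _ => ?_
  rw [D.tensor_e, D.tensor_e, map_mul]
  ring

end Sums

/-- Conjugation by the normalizer on `P`. -/
def conjP (n : Subgroup.normalizer ((P : Subgroup G) : Set G)) (y : (P : Subgroup G)) :
    (P : Subgroup G) :=
  ⟨n * y * (n : G)⁻¹, (Subgroup.mem_normalizer_iff.mp n.2 y).mp y.2⟩

/-- Conjugation by the normalizer on linear characters of `P`. -/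
def conjLin (n : Subgroup.normalizer ((P : Subgroup G) : Set G))
    (lam : (P : Subgroup G) →* ℂˣ) : (P : Subgroup G) →* ℂˣ :=
  MonoidHom.mk' (fun y => lam (conjP n y)) fun a b => by
    rw [← map_mul]
    exact congrArg lam (Subtype.ext (by simp [conjP, mul_assoc]))

theorem conjLin_apply (n : Subgroup.normalizer ((P : Subgroup G) : Set G))
    (lam : (P : Subgroup G) →* ℂˣ) (y : (P : Subgroup G)) :
    conjLin n lam y = lam (conjP n y) := rfl

theorem conjLin_mul (n m : Subgroup.normalizer ((P : Subgroup G) : Set G))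
    (lam : (P : Subgroup G) →* ℂˣ) : conjLin (n * m) lam = conjLin m (conjLin n lam) :=
  MonoidHom.ext fun y => congrArg lam (Subtype.ext (by simp [conjP, mul_assoc]))

theorem conjLin_one (lam : (P : Subgroup G) →* ℂˣ) : conjLin 1 lam = lam :=
  MonoidHom.ext fun y => congrArg lam (Subtype.ext (by simp [conjP]))

theorem conjLin_trivial (n : Subgroup.normalizer ((P : Subgroup G) : Set G)) :
    conjLin n (1 : (P : Subgroup G) →* ℂˣ) = 1 := rfl

theorem conjLin_injective (n : Subgroup.normalizer ((P : Subgroup G) : Set G)) :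
    Function.Injective (conjLin (P := P) n) := fun a b h => by
  have h2 := congrArg (conjLin n⁻¹) h
  rwa [← conjLin_mul, ← conjLin_mul, mul_inv_cancel, conjLin_one, conjLin_one] at h2

/-- Conjugation by the normalizer on functions of `K`. -/
def conjK (n : Subgroup.normalizer ((P : Subgroup G) : Set G)) (θ : D.K → ℂ) : D.K → ℂ :=
  fun k => θ ⟨n * k * (n : G)⁻¹, D.conj_mem n n.2 k k.2⟩

theorem conjK_one (n : Subgroup.normalizer ((P : Subgroup G) : Set G)) :
    D.conjK n (fun _ => (1 : ℂ)) = fun _ => 1 := rfl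

end CentralSplit

theorem IsStarSylow.mem_centralizer_of_fix (h : IsStarSylow P)
    (n : Subgroup.normalizer ((P : Subgroup G) : Set G)) {lam : (P : Subgroup G) →* ℂˣ}
    (hlam : lam ≠ 1) (hfix : CentralSplit.conjLin n lam = lam) :
    (n : G) ∈ Subgroup.centralizer ((P : Subgroup G) : Set G) := by
  by_contra hn
  let f : (P : Subgroup G) →* (P : Subgroup G) :=
    MonoidHom.mk' (fun y => CentralSplit.conjP n y * y⁻¹) fun a b => by
      have e : CentralSplit.conjP n (a * b) = CentralSplit.conjP n a * CentralSplit.conjP n b :=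
        Subtype.ext (by simp [CentralSplit.conjP, mul_assoc])
      rw [e, mul_inv_rev, h.comm b⁻¹ a⁻¹, mul_assoc, mul_assoc]
      congr 1
      rw [← mul_assoc, h.comm (CentralSplit.conjP n b) a⁻¹, mul_assoc]
  have hinj : Function.Injective f := by
    rw [injective_iff_map_eq_one]
    intro y hy
    by_contra hy1
    apply hn
    rw [← h (y : G) y.2 (fun hh => hy1 (Subtype.ext hh)), Subgroup.mem_centralizer_singleton_iff,
      ← mul_inv_eq_iff_eq_mul]
    exact congrArg Subtype.val (mul_inv_eq_one.mp (hy : CentralSplit.conjP n y * y⁻¹ = 1))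
  have hsurj : Function.Surjective f := Finite.surjective_of_injective hinj
  refine hlam (MonoidHom.ext fun y => ?_)
  obtain ⟨z, rfl⟩ := hsurj y
  show lam (CentralSplit.conjP n z * z⁻¹) = 1
  rw [map_mul, map_inv, ← CentralSplit.conjLin_apply, hfix, mul_inv_cancel]

namespace CentralSplit

variable (D : CentralSplit P) [Fintype (P : Subgroup G)] [Fintype D.K]
  [Fintype (Subgroup.centralizer ((P : Subgroup G) : Set G))]
  [Fintype (Subgroup.normalizer ((P : Subgroup G) : Set G))]

/-- Inner products of functions induced from `C(P)` supported off `K`. -/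
theorem inner_indFun_tensor (h : IsStarSylow P) {α : Type*} [Fintype α] {β : Type*} [Fintype β]
    (a : α → ℂ) (l : α → (P : Subgroup G) →* ℂˣ) (θ : D.K → ℂ) (hθ : IsClassFunction D.K θ)
    (b : β → ℂ) (m : β → (P : Subgroup G) →* ℂˣ) (η : D.K → ℂ)
    (ha : ∑ i, a i = 0) (hη : IsClassFunction D.K η) :
    classInner (indFun _ (∑ i, a i • D.tensor (l i) θ)) (indFun _ (∑ j, b j • D.tensor (m j) η)) =
      (Nat.card (Subgroup.centralizer ((P : Subgroup G) : Set G)) : ℂ)⁻¹ *
        ∑ n : Subgroup.normalizer ((P : Subgroup G) : Set G),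
          classInner (∑ i, a i • D.tensor (l i) θ)
            (∑ j, b j • D.tensor (conjLin n (m j)) (D.conjK n η)) := by
  classical
  set f := ∑ i, a i • D.tensor (l i) θ with hf
  set g := ∑ j, b j • D.tensor (m j) η with hg
  set gn : (Subgroup.normalizer ((P : Subgroup G) : Set G)) → (Subgroup.centralizer ((P : Subgroup G) : Set G)) → ℂ := fun n => ∑ j, b j • D.tensor (conjLin n (m j)) (D.conjK n η) with hgn
  have hzero : ∀ k : D.K, f (D.e (1, k)) = 0 := by
    intro k
    simp only [hf, Finset.sum_apply, Pi.smul_apply, smul_eq_mul, D.tensor_e, map_one, Units.val_one,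
      one_mul, ← Finset.sum_mul, ha, zero_mul]
  have hconj : ∀ (n : (Subgroup.normalizer ((P : Subgroup G) : Set G))) (c : (Subgroup.centralizer ((P : Subgroup G) : Set G))), extendByZero (Subgroup.centralizer ((P : Subgroup G) : Set G)) g ((n : G) * c * (n : G)⁻¹) = gn n c := by
    intro n c
    obtain ⟨⟨y, k⟩, rfl⟩ := D.e.surjective c
    have hmem : (n : G) * (D.e (y, k) : G) * (n : G)⁻¹ =
        (D.e (conjP n y, ⟨n * k * (n : G)⁻¹, D.conj_mem n n.2 k k.2⟩) : G) := by
      rw [D.coe_e, D.coe_e]; simp [conjP, mul_assoc]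
    rw [hmem, extendByZero_coe]
    simp only [hg, hgn, Finset.sum_apply, Pi.smul_apply, D.tensor_e, conjLin_apply, conjK]
  rw [inner_indFun (Subgroup.centralizer ((P : Subgroup G) : Set G)) f (isClassFunction_indFun (Subgroup.centralizer ((P : Subgroup G) : Set G)) g), inner_def]
  have e : ∀ c : (Subgroup.centralizer ((P : Subgroup G) : Set G)), f c * conj (indFun (Subgroup.centralizer ((P : Subgroup G) : Set G)) g (c : G)) =
      (Nat.card (Subgroup.centralizer ((P : Subgroup G) : Set G)) : ℂ)⁻¹ * ∑ n : (Subgroup.normalizer ((P : Subgroup G) : Set G)), f c * conj (gn n c) := by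
    intro c
    obtain ⟨⟨y, k⟩, rfl⟩ := D.e.surjective c
    by_cases hy : y = 1
    · subst hy; simp [hzero]
    rw [indFun_apply, map_mul, map_inv₀, map_natCast, map_sum, mul_left_comm, Finset.mul_sum]
    congr 1
    rw [← Finset.sum_filter_add_sum_filter_not Finset.univ (fun x : G => x ∈ (Subgroup.normalizer ((P : Subgroup G) : Set G))),
      Finset.sum_eq_zero (s := Finset.univ.filter fun x : G => ¬ x ∈ (Subgroup.normalizer ((P : Subgroup G) : Set G))) fun x hx => ?_, add_zero,
      Finset.sum_subtype (p := fun x => x ∈ (Subgroup.normalizer ((P : Subgroup G) : Set G))) _ (by simp)]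
    · refine Fintype.sum_equiv (Equiv.inv (Subgroup.normalizer ((P : Subgroup G) : Set G))) _ _ fun n => ?_
      rw [Equiv.inv_apply, ← hconj, Subgroup.coe_inv, inv_inv]
    · have hxN := (Finset.mem_filter.mp hx).2
      rw [extendByZero_of_not_mem, map_zero, mul_zero]
      intro hmem
      apply hxN
      obtain ⟨⟨y', k'⟩, hyk'⟩ := D.e.surjective ⟨_, hmem⟩
      have hyk := congrArg Subtype.val hyk'
      rw [D.coe_e] at hyk
      have hpow : ∀ (u : (P : Subgroup G)) (v : D.K),
          ((u : G) * (v : G)) ^ Nat.card D.K = (u : G) ^ Nat.card D.K := by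
        intro u v
        have hcm : Commute (u : G) (v : G) := by
          have := congrArg Subtype.val ((show Commute ((u, 1) : ↥(P : Subgroup G) × ↥D.K) (1, v) by
            simp [Commute, SemiconjBy]).map D.e.toMonoidHom).eq
          simp only [MulEquiv.coe_toMonoidHom, Subgroup.coe_mul, D.coe_e, Subgroup.coe_one, mul_one, one_mul] at this
          exact this
        rw [hcm.mul_pow, ← Subgroup.coe_pow D.K, pow_card_eq_one', Subgroup.coe_one, mul_one]
      have hz : x⁻¹ * (y : G) ^ Nat.card D.K * x = (y' : G) ^ Nat.card D.K := by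
        rw [← hpow y k, ← hpow y' k', hyk, ← D.coe_e]
        have := (conj_pow (i := Nat.card D.K) (a := x⁻¹) (b := (D.e (y, k) : G))).symm
        simpa using this
      have hy0 : (y : G) ^ Nat.card D.K ≠ 1 := by
        intro h0
        have h1 : orderOf (y : G) ∣ Nat.card D.K := orderOf_dvd_of_pow_eq_one h0
        obtain ⟨i, hi⟩ := P.isPGroup' y
        obtain ⟨j, -, hj⟩ := (Nat.dvd_prime_pow (Fact.out : p.Prime)).mp
          (orderOf_dvd_of_pow_eq_one hi)
        rw [Subgroup.orderOf_coe, hj] at h1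
        rcases Nat.eq_zero_or_pos j with hj0 | hj0
        · exact hy (orderOf_eq_one_iff.mp (by rw [hj, hj0, pow_zero]))
        · exact D.not_dvd ((dvd_pow_self p hj0.ne').trans h1)
      have hxi := h.mem_normalizer (g := x⁻¹) (pow_mem y.2 _) hy0 (by
        rw [inv_inv, hz]; exact pow_mem y'.2 _)
      have := inv_mem hxi
      rw [inv_inv] at this
      exact this
  rw [Finset.sum_congr rfl fun c _ => e c, ← Finset.mul_sum, Finset.sum_comm]
  conv_rhs => rw [Finset.mul_sum]
  rw [Finset.mul_sum, Finset.mul_sum]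
  exact Finset.sum_congr rfl fun n _ => by rw [inner_def]

end CentralSplit

end CfsgLib.CharApps
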