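import Cfsg.Agent.Lib.CharApps.CentralTIDegree

/-!
# Consequences for small faithful characters
-/

set_option autoImplicit false
set_option linter.style.haveILetI false
set_option linter.unusedSectionVars false

namespace CfsgLib.CharApps

open Cfsg CfsgLib.Chars
open scoped ComplexConjugate

universe u

theorem eq_principal_of_charKer_eq_top {G : Type u} [Group G] [Fintype G] {X : IrrCharacter G}
    (h : charKer X = ⊤) : X = principal G := by
  by_contra hne
  have h0 := inner_irr_ne hne
  have e : ∀ g, (X : G → ℂ) g = (X : G → ℂ) 1 := fun g => mem_charKer.mp (h ▸ Subgroup.mem_top g)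
  rw [inner_def, Finset.sum_congr rfl (g := fun _ => (X : G → ℂ) 1) fun g _ => by
    rw [e g, principal_apply, map_one, mul_one]] at h0
  simp [deg_ne_zero X] at h0

variable {G : Type u} [Group G] [Fintype G] {p : ℕ} [Fact p.Prime] {P : Sylow p G}

theorem degree_eq_one_of_no_normal (h : IsStarSylow P)
    (hno : ¬ ∃ K : Subgroup G, K.Normal ∧ K ≠ ⊤ ∧ (P : Subgroup G) ≤ K)
    {χ : IrrCharacter G} (hχ : χ ≠ principal G)
    (hdeg : charDegree (χ : G → ℂ) ^ 2 + 1 < Nat.card P) : charDegree (χ : G → ℂ) = 1 :=
  degree_eq_one_of_small h (fun X hX hle =>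
    hno ⟨_, charKer_normal X, fun htop => hX (eq_principal_of_charKer_eq_top htop), hle⟩) hχ hdeg

theorem exists_complement_of_linear (h : IsStarSylow P)
    (hno : ¬ ∃ K : Subgroup G, K.Normal ∧ K ≠ ⊤ ∧ (P : Subgroup G) ≤ K)
    {χ : IrrCharacter G} (hχ : χ ≠ principal G) (h1 : charDegree (χ : G → ℂ) = 1) :
    ∃ N : Subgroup G, N.Normal ∧ N.index = Nat.card P := by
  obtain ⟨lam, hlam⟩ := exists_hom_of_degree_one (isCharacter_of_irr χ.2)
    (by rw [deg_eq, h1, Nat.cast_one])
  have hres : lam.comp (P : Subgroup G).subtype ≠ 1 := by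
    intro h0
    refine hno ⟨_, charKer_normal χ, fun htop => hχ (eq_principal_of_charKer_eq_top htop),
      fun y hy => mem_charKer.mpr ?_⟩
    have e : lam y = 1 := DFunLike.congr_fun h0 ⟨y, hy⟩
    rw [hlam]
    simp [e]
  have hS : Subgroup.normalizer ((P : Subgroup G) : Set G) ≤
      Subgroup.centralizer ((P : Subgroup G) : Set G) := fun n hn =>
    h.mem_centralizer_of_fix ⟨n, hn⟩ hres (MonoidHom.ext fun y => by
      show lam (n * y * n⁻¹) = lam y
      rw [map_mul, map_mul, map_inv, mul_comm (lam n), mul_inv_cancel_right])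
  exact ⟨(MonoidHom.transferSylow P hS).ker, inferInstance,
    (MonoidHom.ker_transferSylow_isComplement' P hS).symm.index_eq_card⟩

theorem normal_of_small_faithful_aux (c : ℕ) : ∀ (G : Type u) [Group G] [Fintype G],
    Nat.card G = c → ∀ (p : ℕ) [Fact p.Prime] (P : Sylow p G), IsStarSylow P →
    ∀ χ : G → ℂ, IsCharacter G χ → (∀ g, χ g = χ 1 → g = 1) →
      charDegree χ ^ 2 + 1 < Nat.card P → (P : Subgroup G).Normal := by
  induction c using Nat.strong_induction_on with
  | _ c ih =>
  intro G _ _ hc p _ P h χ hχ hfaith hdeg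
  classical
  haveI := irrFintype G
  by_cases hK : ∃ K : Subgroup G, K.Normal ∧ K ≠ ⊤ ∧ (P : Subgroup G) ≤ K
  · obtain ⟨K, hKn, hKtop, hle⟩ := hK
    haveI := hKn
    haveI := Fintype.ofFinite K
    have hlt : Nat.card K < c := hc ▸ lt_of_le_of_ne (Subgroup.card_le_card_group K)
      fun e => hKtop (Subgroup.eq_top_of_card_eq K e)
    set Q := P.subtype hle
    have hQ : IsStarSylow Q := by
      intro x hx hx1
      ext k
      rw [Subgroup.mem_centralizer_singleton_iff, Subgroup.mem_centralizer_iff]
      have e := SetLike.ext_iff.mp (h (x : G) hx fun e => hx1 (Subtype.ext e)) (k : G)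
      rw [Subgroup.mem_centralizer_singleton_iff, Subgroup.mem_centralizer_iff] at e
      constructor
      · intro hk q hq
        exact Subtype.ext (e.mp (congrArg Subtype.val hk) (q : G) hq)
      · intro hk
        exact (hk x hx).symm
    have hdegK : charDegree (fun k : K => χ k) = charDegree χ := by simp [charDegree]
    have hQn := ih _ hlt K rfl p Q hQ (fun k : K => χ k) (isCharacter_restrict K hχ)
      (fun k hk => Subtype.ext (hfaith (k : G) (by simpa using hk))) (by
        rw [hdegK]
        refine hdeg.trans_le (le_of_eq ?_)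
        exact (Nat.card_congr (Subgroup.subgroupOfEquivOfLe hle).toEquiv).symm)
    haveI : (Q : Subgroup K).Normal := hQn
    have hchar : (Q : Subgroup K).Characteristic := Q.characteristic_of_normal hQn
    have hmap : (Q : Subgroup K).map K.subtype = (P : Subgroup G) := by
      show ((P : Subgroup G).subgroupOf K).map K.subtype = _
      rw [Subgroup.subgroupOf_map_subtype, inf_eq_left.mpr hle]
    rw [← hmap]
    exact ConjAct.normal_of_characteristic_of_normal
  · -- every constituent is linear, so `G` is abelian
    refine ⟨fun y hy g => ?_⟩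
    have hcomm : g * y * g⁻¹ * y⁻¹ = 1 := by
      refine hfaith _ ?_
      choose m hm using fun X : IrrCharacter G => inner_irr_right_nat hχ X
      have hexp : ∀ z, χ z = ∑ X : IrrCharacter G, (m X : ℂ) * (X : G → ℂ) z := fun z => by
        conv_lhs => rw [classFun_eq_sum (isClassFunction_of_isCharacter hχ)]
        simp [Finset.sum_apply, hm]
      have hdsum : charDegree χ = ∑ X : IrrCharacter G, m X * charDegree (X : G → ℂ) := by
        have e := hexp 1
        rw [deg_eq_of_isChar hχ] at e
        simp only [deg_eq] at e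
        exact_mod_cast e
      rw [hexp, hexp]
      refine Finset.sum_congr rfl fun X _ => ?_
      rcases eq_or_ne (m X) 0 with h0 | h0
      · simp [h0]
      congr 1
      rcases eq_or_ne X (principal G) with rfl | hX
      · simp [principal_apply]
      have hle : charDegree (X : G → ℂ) ≤ charDegree χ := hdsum ▸
        (Nat.le_mul_of_pos_left _ (Nat.pos_of_ne_zero h0)).trans
          (Finset.single_le_sum (f := fun X => m X * charDegree (X : G → ℂ))
            (fun _ _ => Nat.zero_le _) (Finset.mem_univ X))
      have h1 := degree_eq_one_of_no_normal h hK hX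
        (lt_of_le_of_lt (Nat.add_le_add_right (Nat.pow_le_pow_left hle 2) 1) hdeg)
      obtain ⟨lam, hlam⟩ := exists_hom_of_degree_one (isCharacter_of_irr X.2)
        (by rw [deg_eq, h1, Nat.cast_one])
      rw [hlam]
      have e : lam (g * y * g⁻¹ * y⁻¹) = 1 := by
        rw [map_mul, map_mul, map_mul, map_inv, map_inv, mul_comm (lam g), mul_inv_cancel_right,
          mul_inv_cancel]
      simp [e]
    rw [mul_inv_eq_one] at hcomm
    rwa [hcomm]

end CfsgLib.CharApps
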