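import Cfsg.Agent.Lib.CharApps.CentralTI

/-!
# Small degrees when all non-identity elements of a Sylow subgroup have the same centralizer
-/

set_option autoImplicit false
set_option linter.style.haveILetI false
set_option linter.unusedSectionVars false

namespace CfsgLib.CharApps

open Cfsg CfsgLib.Chars
open scoped ComplexConjugate

universe u

/-- Fourier inversion on a finite abelian group. -/
theorem fourier_apply {A : Type u} [Group A] [Fintype A] [Fintype (A →* ℂˣ)]
    (hc : ∀ a b : A, a * b = b * a) (f : A → ℂ) (y : A) :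
    f y = ∑ μ : A →* ℂˣ, classInner f (fun z => (μ z : ℂ)) * (μ y : ℂ) := by
  classical
  simp only [inner_def, mul_assoc, ← Finset.mul_sum, Finset.sum_mul]
  rw [Finset.sum_comm]
  rw [Finset.sum_congr rfl (g := fun x : A => f x * ∑ μ : A →* ℂˣ, ((μ (x⁻¹ * y) : ℂˣ) : ℂ))
    (fun x _ => by
      rw [Finset.mul_sum]
      exact Finset.sum_congr rfl fun μ _ => by rw [conj_linear_apply, ← Units.val_mul, ← map_mul])]
  rw [Finset.sum_eq_single y]
  · rw [inv_mul_cancel, sum_apply_linear hc, if_pos rfl, Nat.card_eq_fintype_card,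
      mul_comm (f y), ← mul_assoc, inv_mul_cancel₀ (Nat.cast_ne_zero.mpr Fintype.card_ne_zero),
      one_mul]
  · intro x _ hx
    rw [sum_apply_linear hc, if_neg (fun h => hx (inv_mul_eq_one.mp h)), mul_zero]
  · simp

variable {G : Type u} [Group G] [Fintype G] {p : ℕ} [Fact p.Prime] {P : Sylow p G}

namespace CentralSplit

variable (D : CentralSplit P) [Fintype (P : Subgroup G)] [Fintype D.K]
  [Fintype (Subgroup.centralizer ((P : Subgroup G) : Set G))]
  [Fintype (Subgroup.normalizer ((P : Subgroup G) : Set G))]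

/-- The function induced from `(λ - μ) ⊗ θ`. -/
noncomputable def diff (lam μ : (P : Subgroup G) →* ℂˣ) (θ : D.K → ℂ) : G → ℂ :=
  indFun (Subgroup.centralizer ((P : Subgroup G) : Set G)) (D.tensor lam θ - D.tensor μ θ)

theorem diff_add (lam μ ν : (P : Subgroup G) →* ℂˣ) (θ : D.K → ℂ) :
    D.diff lam ν θ - D.diff lam μ θ = D.diff μ ν θ := by
  rw [diff, diff, diff, ← indFun_sub]
  congr 1
  abel

theorem diff_add' (lam μ ν : (P : Subgroup G) →* ℂˣ) (θ : D.K → ℂ) :
    D.diff lam ν θ - D.diff μ ν θ = D.diff lam μ θ := by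
  rw [diff, diff, diff, ← indFun_sub]
  congr 1
  abel

theorem diff_apply_one (lam μ : (P : Subgroup G) →* ℂˣ) (θ : D.K → ℂ) :
    D.diff lam μ θ 1 = 0 := by
  rw [diff, indFun_one_apply]
  simp [tensor]

theorem isGeneralized_diff (lam μ : (P : Subgroup G) →* ℂˣ) {θ : D.K → ℂ}
    (hθ : IsCharacter D.K θ) : IsGeneralizedCharacter G (D.diff lam μ θ) :=
  isGeneralized_indFun _ ⟨_, _, D.isCharacter_tensor lam hθ, D.isCharacter_tensor μ hθ, rfl⟩

theorem inner_diff_diff (h : IsStarSylow P) [DecidableEq ((P : Subgroup G) →* ℂˣ)]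
    (lam μ lam' μ' : (P : Subgroup G) →* ℂˣ) (θ η : D.K → ℂ)
    (hθ : IsClassFunction D.K θ) (hη : IsClassFunction D.K η) :
    classInner (D.diff lam μ θ) (D.diff lam' μ' η) =
      (Nat.card (Subgroup.centralizer ((P : Subgroup G) : Set G)) : ℂ)⁻¹ *
        ∑ n : Subgroup.normalizer ((P : Subgroup G) : Set G),
          (((if lam = conjLin n lam' then (1 : ℂ) else 0) - (if lam = conjLin n μ' then 1 else 0)) -
            ((if μ = conjLin n lam' then 1 else 0) - (if μ = conjLin n μ' then 1 else 0))) *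
          classInner θ (D.conjK n η) := by
  have e : ∀ (l : Fin 2 → (P : Subgroup G) →* ℂˣ) (χ : D.K → ℂ),
      ∑ i, (![1, -1] : Fin 2 → ℂ) i • D.tensor (l i) χ = D.tensor (l 0) χ - D.tensor (l 1) χ := by
    intro l χ
    simp [Fin.sum_univ_two, sub_eq_add_neg]
  have hi := D.inner_indFun_tensor h (![1, -1] : Fin 2 → ℂ) ![lam, μ] θ hθ
    (![1, -1] : Fin 2 → ℂ) ![lam', μ'] η (by simp) hη
  rw [e, e] at hi
  simp only [Matrix.cons_val_zero, Matrix.cons_val_one] at hi
  rw [diff, diff, hi]
  congr 1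
  refine Finset.sum_congr rfl fun n _ => ?_
  have e' := e ![conjLin n lam', conjLin n μ'] (D.conjK n η)
  simp only [Fin.sum_univ_two, Matrix.cons_val_zero, Matrix.cons_val_one] at e' ⊢
  rw [e', Chars.inner_sub_left, Chars.inner_sub_right, Chars.inner_sub_right, D.inner_tensor, D.inner_tensor,
    D.inner_tensor, D.inner_tensor]
  ring

theorem conjK_eq (n : Subgroup.normalizer ((P : Subgroup G) : Set G))
    (hn : (n : G) ∈ Subgroup.centralizer ((P : Subgroup G) : Set G))
    {θ : D.K → ℂ} (hθ : IsClassFunction D.K θ) : D.conjK n θ = θ := by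
  funext k
  set c : Subgroup.centralizer ((P : Subgroup G) : Set G) := ⟨n, hn⟩
  have e : D.e (1, ⟨n * k * (n : G)⁻¹, D.conj_mem n n.2 k k.2⟩) = c * D.e (1, k) * c⁻¹ :=
    Subtype.ext (by simp [D.coe_e, c])
  have e2 := congrArg D.sndHom e
  rw [map_mul, map_mul, map_inv, D.sndHom_e, D.sndHom_e] at e2
  show θ ⟨n * k * (n : G)⁻¹, _⟩ = θ k
  rw [e2]
  exact hθ k _

open scoped Classical in
theorem card_filter_mem :
    (Finset.univ.filter fun n : Subgroup.normalizer ((P : Subgroup G) : Set G) =>
      (n : G) ∈ Subgroup.centralizer ((P : Subgroup G) : Set G)).card =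
      Nat.card (Subgroup.centralizer ((P : Subgroup G) : Set G)) := by
  classical
  rw [← Fintype.card_subtype, ← Nat.card_eq_fintype_card]
  exact Nat.card_congr
    (Subgroup.subgroupOfEquivOfLe (Subgroup.centralizer_le_normalizer _)).toEquiv

theorem norm_diff (h : IsStarSylow P) {lam μ : (P : Subgroup G) →* ℂˣ} (hlam : lam ≠ 1)
    (hμ : μ ≠ 1) (hnot : ∀ n, conjLin n lam ≠ μ) (θ : IrrCharacter D.K) :
    classInner (D.diff lam μ θ) (D.diff lam μ θ) = 2 := by
  classical
  have hcl := isClassFunction_irr θ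
  rw [D.inner_diff_diff h lam μ lam μ _ _ hcl hcl]
  rw [← Finset.sum_filter_add_sum_filter_not Finset.univ
    (fun n : Subgroup.normalizer ((P : Subgroup G) : Set G) =>
      (n : G) ∈ Subgroup.centralizer ((P : Subgroup G) : Set G)),
    Finset.sum_congr rfl (g := fun _ => (2 : ℂ)) fun n hn => ?_,
    Finset.sum_eq_zero (s := Finset.univ.filter fun n : Subgroup.normalizer
      ((P : Subgroup G) : Set G) => ¬ _) fun n hn => ?_,
    add_zero, Finset.sum_const, card_filter_mem, nsmul_eq_mul, ← mul_assoc,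
    inv_mul_cancel₀ (card_ne_zero _), one_mul]
  · have hn' := (Finset.mem_filter.mp hn).2
    rw [if_neg fun hh => hn' (h.mem_centralizer_of_fix n hlam hh.symm),
      if_neg fun hh => hnot n⁻¹ (by rw [hh, ← conjLin_mul, mul_inv_cancel, conjLin_one]),
      if_neg fun hh => hnot n hh.symm,
      if_neg fun hh => hn' (h.mem_centralizer_of_fix n hμ hh.symm)]
    ring
  · have hn' := (Finset.mem_filter.mp hn).2
    have e : ∀ ν, conjLin n ν = ν := fun ν => MonoidHom.ext fun y => congrArg ν (Subtype.ext (by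
      show (n : G) * y * (n : G)⁻¹ = y
      rw [mul_inv_eq_iff_eq_mul]
      exact (Subgroup.mem_centralizer_iff.mp hn' y y.2).symm))
    have hne : lam ≠ μ := fun hh => hnot 1 (by rw [conjLin_one, hh])
    rw [e, e, D.conjK_eq n hn' hcl, inner_irr_self, if_pos rfl, if_pos rfl, if_neg hne,
      if_neg hne.symm]
    norm_num

theorem norm_diff_one (h : IsStarSylow P) {j : (P : Subgroup G) →* ℂˣ} (hj : j ≠ 1) :
    classInner (D.diff 1 j fun _ => 1) (D.diff 1 j fun _ => 1) =
      (Nat.card (Subgroup.centralizer ((P : Subgroup G) : Set G)) : ℂ)⁻¹ *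
        Nat.card (Subgroup.normalizer ((P : Subgroup G) : Set G)) + 1 := by
  classical
  have hcl : IsClassFunction D.K (fun _ : D.K => (1 : ℂ)) := fun _ _ => rfl
  have e : ∀ n : Subgroup.normalizer ((P : Subgroup G) : Set G), (j = conjLin n j) ↔
      (n : G) ∈ Subgroup.centralizer ((P : Subgroup G) : Set G) := fun n =>
    ⟨fun hh => h.mem_centralizer_of_fix n hj hh.symm, fun hn => MonoidHom.ext fun y =>
      (congrArg j (Subtype.ext (by
        show (n : G) * y * (n : G)⁻¹ = y
        rw [mul_inv_eq_iff_eq_mul]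
        exact (Subgroup.mem_centralizer_iff.mp hn y y.2).symm))).symm⟩
  have e1 : ∀ n : Subgroup.normalizer ((P : Subgroup G) : Set G), (1 : _ →* ℂˣ) ≠ conjLin n j :=
    fun n hh => hj (conjLin_injective n (hh.symm.trans (conjLin_trivial n).symm))
  rw [D.inner_diff_diff h 1 j 1 j _ _ hcl hcl,
    Finset.sum_congr rfl (g := fun n : Subgroup.normalizer ((P : Subgroup G) : Set G) =>
      (1 : ℂ) + if (n : G) ∈ Subgroup.centralizer ((P : Subgroup G) : Set G) then 1 else 0)
      fun n _ => by
        rw [D.conjK_one, inner_one_one, conjLin_trivial, if_pos rfl, if_neg (e1 n), if_neg hj,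
          if_congr (e n) rfl rfl]
        ring,
    Finset.sum_add_distrib, Finset.sum_boole, card_filter_mem, Finset.sum_const, Finset.card_univ,
    nsmul_eq_mul, mul_one, ← Nat.card_eq_fintype_card, mul_add, inv_mul_cancel₀ (card_ne_zero _)]

theorem inner_diff_one_diff (h : IsStarSylow P) {j lam μ : (P : Subgroup G) →* ℂˣ}
    (hlam : lam ≠ 1) (hμ : μ ≠ 1) (h1 : ∀ n, conjLin n lam ≠ j) (h2 : ∀ n, conjLin n μ ≠ j)
    (θ : IrrCharacter D.K) :
    classInner (D.diff 1 j fun _ => 1) (D.diff lam μ θ) = 0 := by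
  classical
  rw [D.inner_diff_diff h 1 j lam μ _ _ (fun _ _ => rfl) (isClassFunction_irr θ),
    Finset.sum_eq_zero fun n _ => ?_, mul_zero]
  rw [if_neg fun hh => hlam (conjLin_injective n (hh.symm.trans (conjLin_trivial n).symm)),
    if_neg fun hh => hμ (conjLin_injective n (hh.symm.trans (conjLin_trivial n).symm)),
    if_neg fun hh => h1 n hh.symm, if_neg fun hh => h2 n hh.symm]
  ring

open scoped Classical in
/-- The orbit of a linear character. -/
noncomputable def orb (lam : (P : Subgroup G) →* ℂˣ) : Finset ((P : Subgroup G) →* ℂˣ) :=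
  Finset.univ.image fun n : Subgroup.normalizer ((P : Subgroup G) : Set G) => conjLin n lam

theorem mem_orb {lam μ : (P : Subgroup G) →* ℂˣ} :
    μ ∈ orb lam ↔ ∃ n, conjLin n lam = μ := by simp [orb]

theorem orb_eq_of_mem {lam μ : (P : Subgroup G) →* ℂˣ} (hμ : μ ∈ orb lam) : orb μ = orb lam := by
  obtain ⟨n, rfl⟩ := mem_orb.mp hμ
  ext ν
  simp only [mem_orb]
  constructor
  · rintro ⟨m, rfl⟩
    exact ⟨n * m, conjLin_mul n m lam⟩
  · rintro ⟨m, rfl⟩
    exact ⟨n⁻¹ * m, by rw [← conjLin_mul, mul_inv_cancel_left]⟩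

theorem card_orb (h : IsStarSylow P) {lam : (P : Subgroup G) →* ℂˣ} (hlam : lam ≠ 1) :
    (orb lam).card * Nat.card (Subgroup.centralizer ((P : Subgroup G) : Set G)) =
      Nat.card (Subgroup.normalizer ((P : Subgroup G) : Set G)) := by
  classical
  rw [Nat.card_eq_fintype_card (α := Subgroup.normalizer _), ← Finset.card_univ,
    Finset.card_eq_sum_card_fiberwise
      (f := fun n : Subgroup.normalizer ((P : Subgroup G) : Set G) => conjLin n lam)
      (t := orb lam) (fun n _ => Finset.mem_image_of_mem _ (Finset.mem_univ n)),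
    ← smul_eq_mul, ← Finset.sum_const]
  refine (Finset.sum_congr rfl fun μ hμ => ?_).symm
  obtain ⟨n₀, rfl⟩ := mem_orb.mp hμ
  rw [← card_filter_mem]
  refine Finset.card_bij' (fun n _ => n * n₀⁻¹) (fun n _ => n * n₀) (fun n hn => ?_)
    (fun n hn => ?_) (fun n _ => inv_mul_cancel_right n n₀) (fun n _ => mul_inv_cancel_right n n₀)
  · refine Finset.mem_filter.mpr ⟨Finset.mem_univ _, h.mem_centralizer_of_fix _ hlam ?_⟩
    rw [conjLin_mul, (Finset.mem_filter.mp hn).2, ← conjLin_mul, mul_inv_cancel, conjLin_one]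
  · refine Finset.mem_filter.mpr ⟨Finset.mem_univ _, ?_⟩
    rw [conjLin_mul]
    congr 1
    refine MonoidHom.ext fun y => congrArg lam (Subtype.ext ?_)
    show (n : G) * y * (n : G)⁻¹ = y
    rw [mul_inv_eq_iff_eq_mul]
    exact (Subgroup.mem_centralizer_iff.mp (Finset.mem_filter.mp hn).2 y y.2).symm

end CentralSplit

open CentralSplit in
set_option maxHeartbeats 1000000 in
/-- A non-principal character of degree `x` with `x² + 1 < |P|` is linear, unless some
non-principal irreducible character is trivial on `P`. -/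
theorem degree_eq_one_of_small (h : IsStarSylow P)
    (hker : ∀ X : IrrCharacter G, X ≠ principal G → ¬ ((P : Subgroup G) ≤ charKer X))
    {χ : IrrCharacter G} (hχ : χ ≠ principal G)
    (hdeg : charDegree (χ : G → ℂ) ^ 2 + 1 < Nat.card P) : charDegree (χ : G → ℂ) = 1 := by
  classical
  obtain ⟨D⟩ := h.exists_split
  haveI := Fintype.ofFinite (P : Subgroup G)
  haveI := Fintype.ofFinite D.K
  haveI := Fintype.ofFinite (Subgroup.centralizer ((P : Subgroup G) : Set G))
  haveI := Fintype.ofFinite (Subgroup.normalizer ((P : Subgroup G) : Set G))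
  haveI := irrFintype G
  haveI := irrFintype D.K
  haveI : Fintype ((P : Subgroup G) →* ℂˣ) := Fintype.ofFinite _
  by_contra hx1
  set x := charDegree (χ : G → ℂ) with hx
  have hx2 : 2 ≤ x := by have := deg_pos χ; omega
  have hc : ∀ a b : (P : Subgroup G), a * b = b * a := h.comm
  set n := Fintype.card (P : Subgroup G) with hn
  rw [Nat.card_eq_fintype_card, ← hn] at hdeg
  -- multiplicities on `P`
  choose m hm using fun (X : IrrCharacter G) (μ : (P : Subgroup G) →* ℂˣ) =>
    inner_irr_right_nat (isCharacter_restrict (P : Subgroup G) (isCharacter_of_irr X.2))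
      ⟨_, isIrrCharacter_linear μ⟩
  have hfour : ∀ (X : IrrCharacter G) (y : (P : Subgroup G)),
      (X : G → ℂ) (y : G) = ∑ μ, (m X μ : ℂ) * (μ y : ℂ) := fun X y => by
    rw [fourier_apply hc (fun z : (P : Subgroup G) => (X : G → ℂ) z) y]
    exact Finset.sum_congr rfl fun μ _ => by rw [hm]
  have hmsum : ∀ X : IrrCharacter G, ∑ μ, m X μ = charDegree (X : G → ℂ) := fun X => by
    have h1 := hfour X 1
    simp only [Subgroup.coe_one, map_one, Units.val_one, mul_one, deg_eq] at h1
    exact_mod_cast h1.symm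
  have hminv : ∀ X k μ, m X (conjLin k μ) = m X μ := by
    intro X k μ
    apply Nat.cast_injective (R := ℂ)
    rw [← hm, ← hm, inner_def, inner_def]
    congr 1
    refine Fintype.sum_bijective (conjP k) ?_ _ _ fun y => ?_
    · refine Finite.injective_iff_bijective.mp fun a b e => Subtype.ext ?_
      exact mul_left_cancel (mul_right_cancel (congrArg Subtype.val e))
    · show _ = (X : G → ℂ) ((k : G) * y * (k : G)⁻¹) * _
      rw [isClassFunction_irr X]
      rfl
  have hexist : ∀ X : IrrCharacter G, X ≠ principal G → ∃ μ, μ ≠ 1 ∧ m X μ ≠ 0 := by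
    intro X hX
    by_contra hall
    simp only [not_exists, not_and, not_not] at hall
    refine hker X hX fun y hy => mem_charKer.mpr ?_
    have e1 := hfour X ⟨y, hy⟩
    have e2 := hfour X 1
    rw [Finset.sum_eq_single 1 (fun μ _ hμ => by rw [hall μ hμ, Nat.cast_zero, zero_mul]) (by simp)]
      at e1 e2
    simp only [MonoidHom.one_apply, Units.val_one, mul_one, Subgroup.coe_one] at e1 e2
    exact e1.trans e2.symm
  -- multiplicities on `C(P)`
  choose a ha using fun (X : IrrCharacter G) (μ : (P : Subgroup G) →* ℂˣ) (θ : IrrCharacter D.K) =>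
    inner_char_nat (D.isCharacter_tensor μ (isCharacter_of_irr θ.2))
      (isCharacter_restrict (Subgroup.centralizer ((P : Subgroup G) : Set G))
        (isCharacter_of_irr X.2))
  have ha' : ∀ (X : IrrCharacter G) μ (θ : IrrCharacter D.K), classInner
      (fun c : Subgroup.centralizer ((P : Subgroup G) : Set G) => (X : G → ℂ) c)
      (D.tensor μ (θ : D.K → ℂ)) = (a X μ θ : ℂ) := fun X μ θ => by
    rw [← inner_conj, ha, map_natCast]
  have hma : ∀ X μ, m X μ = ∑ θ : IrrCharacter D.K, charDegree (θ : D.K → ℂ) * a X μ θ := by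
    intro X μ
    apply Nat.cast_injective (R := ℂ)
    push_cast
    rw [← hm, inner_def,
      Finset.sum_congr rfl (g := fun θ : IrrCharacter D.K =>
        ((Nat.card (P : Subgroup G) : ℂ)⁻¹ * (Nat.card D.K : ℂ)⁻¹) *
          ∑ y : (P : Subgroup G), ∑ k : D.K, (X : G → ℂ) ((y : G) * k) * conj (μ y : ℂ) *
            conj ((θ : D.K → ℂ) 1 * (θ : D.K → ℂ) k)) fun θ _ => ?_,
      ← Finset.mul_sum, Finset.sum_comm]
    · rw [mul_assoc]
      congr 1
      rw [Finset.mul_sum]
      refine Finset.sum_congr rfl fun y _ => ?_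
      rw [Finset.sum_comm, Finset.sum_congr rfl (g := fun k : D.K =>
        (X : G → ℂ) ((y : G) * k) * conj (μ y : ℂ) *
          conj (if k = 1 then (Nat.card D.K : ℂ) else 0)) (fun k _ => by
          rw [← sum_degree_mul k, map_sum, Finset.mul_sum]),
        Finset.sum_eq_single 1 (fun k _ hk => by rw [if_neg hk, map_zero, mul_zero]) (by simp),
        if_pos rfl, Subgroup.coe_one, mul_one, map_natCast, mul_comm _ (Nat.card D.K : ℂ),
        inv_mul_cancel_left₀ (card_ne_zero _)]
    · rw [← deg_eq, ← ha', inner_def, D.sum_e, D.card_eq, mul_inv, Finset.mul_sum, Finset.mul_sum,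
        Finset.mul_sum]
      refine Finset.sum_congr rfl fun y _ => ?_
      rw [Finset.mul_sum, Finset.mul_sum, Finset.mul_sum]
      refine Finset.sum_congr rfl fun k _ => ?_
      rw [D.coe_e, D.tensor_e, map_mul, map_mul, conj_deg]
      ring
  have ha0 : ∀ X μ, m X μ = 0 → ∀ θ, a X μ θ = 0 := fun X μ h0 θ => by
    rw [hma, Finset.sum_eq_zero_iff] at h0
    exact ((mul_eq_zero.mp (h0 θ (Finset.mem_univ _))).resolve_left (deg_pos θ).ne')
  have haex : ∀ X μ, m X μ ≠ 0 → ∃ θ, a X μ θ ≠ 0 := fun X μ h0 => by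
    by_contra hall
    simp only [not_exists, not_not] at hall
    exact h0 (by rw [hma]; exact Finset.sum_eq_zero fun θ _ => by rw [hall θ, mul_zero])
  set one : IrrCharacter D.K := principal D.K with hone
  have hone' : (one : D.K → ℂ) = fun _ => 1 := funext fun k => principal_apply k
  have htriv : D.tensor 1 (one : D.K → ℂ) = fun _ => 1 := by
    funext c
    simp [tensor, hone']
  -- the square of `χ`
  set Y : G → ℂ := fun g => (χ : G → ℂ) g * conj ((χ : G → ℂ) g) with hY
  have hYchar : IsCharacter G Y :=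
    isCharacter_mul (isCharacter_of_irr χ.2) (isCharacter_conj (isCharacter_of_irr χ.2))
  choose Mult hMult using fun X : IrrCharacter G => inner_irr_right_nat hYchar X
  have hYexp : ∀ g, Y g = ∑ X : IrrCharacter G, (Mult X : ℂ) * (X : G → ℂ) g := fun g => by
    conv_lhs => rw [classFun_eq_sum (isClassFunction_of_isCharacter hYchar)]
    simp [Finset.sum_apply, hMult]
  have hM1 : Mult (principal G) = 1 := by
    apply Nat.cast_injective (R := ℂ)
    rw [← hMult, Nat.cast_one, ← inner_irr_self χ, inner_def, inner_def]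
    simp [hY, principal_apply]
  have hMx : ∑ X : IrrCharacter G, Mult X * charDegree (X : G → ℂ) = x ^ 2 := by
    have e := hYexp 1
    simp only [hY, deg_eq, map_natCast] at e
    rw [sq, hx]
    exact_mod_cast e.symm
  have hYP : ∀ μ, classInner (fun y : (P : Subgroup G) => Y y) (fun y => (μ y : ℂ)) =
      ((∑ X : IrrCharacter G, Mult X * m X μ : ℕ) : ℂ) := by
    intro μ
    rw [show (fun y : (P : Subgroup G) => Y y) = ∑ X : IrrCharacter G,
        (Mult X : ℂ) • (fun y : (P : Subgroup G) => (X : G → ℂ) y) by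
      funext y; rw [hYexp]; simp [Finset.sum_apply], Chars.inner_sum_left]
    push_cast
    exact Finset.sum_congr rfl fun X _ => by rw [Chars.inner_smul_left, hm]
  set mY : ((P : Subgroup G) →* ℂˣ) → ℕ := fun μ => ∑ X : IrrCharacter G, Mult X * m X μ
    with hmY
  have hmYsum : ∑ μ, mY μ = x ^ 2 := by
    rw [← hMx, hmY, Finset.sum_comm]
    exact Finset.sum_congr rfl fun X _ => by rw [← Finset.mul_sum, hmsum]
  have hmY1 : x ≤ mY 1 := by
    have e : ((mY 1 : ℕ) : ℂ) = ((∑ μ, m χ μ * m χ μ : ℕ) : ℂ) := by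
      rw [← hYP 1, inner_def]
      push_cast
      calc (Nat.card (P : Subgroup G) : ℂ)⁻¹ * ∑ y : (P : Subgroup G),
            Y y * conj (((1 : (P : Subgroup G) →* ℂˣ) y : ℂˣ) : ℂ)
          = (Nat.card (P : Subgroup G) : ℂ)⁻¹ * ∑ y : (P : Subgroup G), ∑ μ,
            (m χ μ : ℂ) * ((χ : G → ℂ) (y : G) * conj (μ y : ℂ)) := by
            refine congrArg _ (Finset.sum_congr rfl fun y _ => ?_)
            conv_lhs =>
              rw [show Y y = (χ : G → ℂ) y * conj ((χ : G → ℂ) y) from rfl]
              enter [1, 2, 2]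
              rw [hfour]
            simp only [map_sum, map_mul, map_natCast, MonoidHom.one_apply, Units.val_one, map_one,
              mul_one, Finset.mul_sum]
            exact Finset.sum_congr rfl fun μ _ => by ring
        _ = ∑ μ, (m χ μ : ℂ) * (m χ μ : ℂ) := by
            rw [Finset.sum_comm, Finset.mul_sum]
            refine Finset.sum_congr rfl fun μ _ => ?_
            rw [← Finset.mul_sum, mul_left_comm]
            congr 1
            rw [← hm, inner_def]
    have e' : mY 1 = ∑ μ, m χ μ * m χ μ := by exact_mod_cast e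
    rw [e', hx, ← hmsum χ]
    exact Finset.sum_le_sum fun μ _ => Nat.le_mul_self _
  -- a linear character missing from `Y`
  set S := (Finset.univ : Finset ((P : Subgroup G) →* ℂˣ)).erase 1 with hS
  have hScard : S.card + 1 = n := by
    rw [hS, Finset.card_erase_add_one (Finset.mem_univ _), Finset.card_univ,
      card_linear_eq_card hc]
  have hSsum : ∑ μ ∈ S, mY μ + mY 1 = x ^ 2 := by
    rw [← hmYsum, hS, Finset.sum_erase_add _ _ (Finset.mem_univ _)]
  obtain ⟨j, hjS, hj0⟩ : ∃ j ∈ S, mY j = 0 := by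
    by_contra hall
    push Not at hall
    have := Finset.card_nsmul_le_sum S mY 1 fun μ hμ => Nat.one_le_iff_ne_zero.mpr (hall μ hμ)
    have h2 : S.card ≤ ∑ μ ∈ S, mY μ := by simpa using this
    rw [sq] at hdeg hSsum
    have h3 : 2 * x ≤ x * x := Nat.mul_le_mul_right _ hx2
    omega
  have hj1 : j ≠ 1 := Finset.ne_of_mem_erase hjS
  -- a constituent of `Y` with a fixed vector
  have hT : ∃ X : IrrCharacter G, X ≠ principal G ∧ Mult X ≠ 0 ∧ a X 1 one ≠ 0 := by
    by_contra hall
    simp only [not_exists, not_and, not_not] at hall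
    set χC := fun c : Subgroup.centralizer ((P : Subgroup G) : Set G) => (χ : G → ℂ) c with hχC
    have hnorm : classInner χC χC = 1 := by
      calc classInner χC χC = classInner (∑ X : IrrCharacter G, (Mult X : ℂ) •
            fun c : Subgroup.centralizer ((P : Subgroup G) : Set G) => (X : G → ℂ) c)
              (D.tensor 1 (one : D.K → ℂ)) := by
            rw [htriv, inner_def, inner_def]
            refine congrArg _ (Finset.sum_congr rfl fun c _ => ?_)
            simp only [Finset.sum_apply, Pi.smul_apply, smul_eq_mul, ← hYexp, map_one, mul_one]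
            rfl
        _ = ∑ X : IrrCharacter G, ((Mult X * a X 1 one : ℕ) : ℂ) := by
            rw [Chars.inner_sum_left]
            push_cast
            exact Finset.sum_congr rfl fun X _ => by rw [Chars.inner_smul_left, ha']
        _ = ((Mult (principal G) * a (principal G) 1 one : ℕ) : ℂ) := by
            refine Finset.sum_eq_single _ (fun X _ hX => ?_) (by simp)
            rcases eq_or_ne (Mult X) 0 with h0 | h0
            · simp [h0]
            · simp [hall X hX h0]
        _ = 1 := by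
            rw [hM1, one_mul, ← ha', htriv]
            simp only [principal_apply]
            exact inner_one_one
    obtain ⟨μ₀, -, hμ₀⟩ := hexist χ hχ
    obtain ⟨θ₀, hθ₀⟩ := haex χ μ₀ hμ₀
    have hirrC : IsIrrCharacter _ χC := isIrrCharacter_iff_inner_self.mpr
      ⟨isCharacter_restrict _ (isCharacter_of_irr χ.2), hnorm⟩
    have hirrT : IsIrrCharacter _ (D.tensor μ₀ (θ₀ : D.K → ℂ)) := isIrrCharacter_iff_inner_self.mpr
      ⟨D.isCharacter_tensor μ₀ (isCharacter_of_irr θ₀.2), by
        rw [D.inner_tensor, if_pos rfl, one_mul, inner_irr_self]⟩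
    have heq : χC = D.tensor μ₀ (θ₀ : D.K → ℂ) := by
      by_contra hne
      have h0 := inner_irr_ne (χ := ⟨_, hirrC⟩) (ψ := ⟨_, hirrT⟩)
        (fun e => hne (congrArg Subtype.val e))
      rw [show classInner χC (D.tensor μ₀ (θ₀ : D.K → ℂ)) = _ from ha' χ μ₀ θ₀] at h0
      exact hθ₀ (Nat.cast_eq_zero.mp h0)
    have hYconst : ∀ y : (P : Subgroup G), Y y = ((x : ℂ)) ^ 2 := by
      intro y
      have e1 := congrFun heq (D.e (y, 1))
      have e2 := congrFun heq (D.e (1, 1))
      simp only [hχC, D.coe_e, D.tensor_e, map_one, Units.val_one, one_mul, mul_one,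
        Subgroup.coe_one, deg_eq] at e1 e2
      rw [show Y y = (χ : G → ℂ) y * conj ((χ : G → ℂ) y) from rfl, e1, map_mul, conj_linear_apply,
        ← e2, map_natCast, ← hx]
      rw [map_inv, Units.val_inv_eq_inv_val]
      field_simp
    have hmY0 : ∀ μ, μ ≠ 1 → mY μ = 0 := by
      intro μ hμ
      have e := hYP μ
      rw [inner_def, Finset.sum_congr rfl (g := fun y : (P : Subgroup G) =>
        (x : ℂ) ^ 2 * conj (μ y : ℂ)) (fun y _ => by rw [hYconst]), ← Finset.mul_sum, ← map_sum,
        sum_linear_apply, if_neg hμ, map_zero, mul_zero, mul_zero] at e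
      exact Nat.cast_eq_zero.mp e.symm
    have honly : ∀ X : IrrCharacter G, X ≠ principal G → Mult X = 0 := by
      intro X hX
      obtain ⟨μ, hμ, hμ0⟩ := hexist X hX
      have e := hmY0 μ hμ
      rw [hmY, Finset.sum_eq_zero_iff] at e
      exact (mul_eq_zero.mp (e X (Finset.mem_univ _))).resolve_right hμ0
    rw [Finset.sum_eq_single (principal G) (fun X _ hX => by rw [honly X hX, zero_mul])
      (by simp), hM1, one_mul, (deg_eq_one_iff (principal G)).mp (principal_apply 1)] at hMx
    nlinarith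
  obtain ⟨X, hX1, hXM, hT0⟩ := hT
  have hmXle : ∀ μ, m X μ ≤ mY μ := fun μ => le_trans (Nat.le_mul_of_pos_left _
    (Nat.pos_of_ne_zero hXM)) (Finset.single_le_sum (f := fun X' => Mult X' * m X' μ)
      (fun _ _ => Nat.zero_le _) (Finset.mem_univ X))
  have hmXj : m X j = 0 := Nat.eq_zero_of_le_zero (hj0 ▸ hmXle j)
  obtain ⟨lam, hlam, hmlam⟩ := hexist X hX1
  obtain ⟨θ, hθ⟩ := haex X lam hmlam
  have hnotj : ∀ μ, m X μ ≠ 0 → ∀ k, conjLin k μ ≠ j := fun μ hμ k hk =>
    hμ (by rw [← hminv X k μ, hk, hmXj])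
  -- the signed pairs
  have hpair : ∀ μ ν, μ ≠ 1 → ν ≠ 1 → (∀ k, conjLin k μ ≠ ν) → a X μ θ ≠ 0 → a X ν θ = 0 →
      ∃ B : IrrCharacter G, B ≠ X ∧ D.diff μ ν θ = (X : G → ℂ) - B := by
    intro μ ν hμ hν hnot h1 h0
    obtain ⟨A, B, hAB, hd⟩ := exists_diff_of_norm_two
      (D.isGeneralized_diff μ ν (isCharacter_of_irr θ.2)) (D.norm_diff h hμ hν hnot θ)
      (D.diff_apply_one μ ν _)
    have e : classInner (D.diff μ ν θ) (X : G → ℂ) = (a X μ θ : ℂ) := by
      rw [diff, inner_indFun _ _ (isClassFunction_irr X), Chars.inner_sub_left, ha, ha, h0,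
        Nat.cast_zero, sub_zero]
    rw [hd, Chars.inner_sub_left, inner_irr, inner_irr] at e
    have hAX : A = X := by
      by_contra hne
      rw [if_neg hne] at e
      split_ifs at e
      · have e' : ((a X μ θ : ℤ) : ℂ) = ((-1 : ℤ) : ℂ) := by push_cast; rw [← e]; norm_num
        exact absurd (Int.cast_injective e') (by omega)
      · exact h1 (by simpa using e.symm)
    exact ⟨B, fun hBX => hAB (hAX.trans hBX.symm), by rw [hd, hAX]⟩
  have hnz : ∀ μ ν, μ ≠ 1 → ν ≠ 1 → (∀ k, conjLin k μ ≠ ν) → D.diff μ ν (θ : D.K → ℂ) ≠ 0 := by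
    intro μ ν hμ hν hnot he
    have h2 := D.norm_diff h hμ hν hnot θ
    rw [he, inner_def] at h2
    simp at h2
  -- the orbits
  set w := (orb (P := P) lam).card with hw
  have hNC : Nat.card (Subgroup.normalizer ((P : Subgroup G) : Set G)) =
      w * Nat.card (Subgroup.centralizer ((P : Subgroup G) : Set G)) := (card_orb h hlam).symm
  have hworb : ∀ μ, μ ≠ 1 → (orb μ).card = w := fun μ hμ =>
    Nat.eq_of_mul_eq_mul_right Nat.card_pos ((card_orb h hμ).trans hNC)
  have horbS : ∀ μ, μ ≠ 1 → orb μ ⊆ S := by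
    intro μ hμ ν hν
    obtain ⟨k, rfl⟩ := mem_orb.mp hν
    exact Finset.mem_erase.mpr ⟨fun h0 => hμ (conjLin_injective k (h0.trans (conjLin_trivial k).symm)),
      Finset.mem_univ _⟩
  have hwdvd : w ∣ S.card := by
    rw [Finset.card_eq_sum_card_fiberwise (f := orb (P := P)) (t := S.image orb)
      (fun μ hμ => Finset.mem_image_of_mem _ hμ)]
    refine Finset.dvd_sum fun o ho => ?_
    obtain ⟨μ, hμ, rfl⟩ := Finset.mem_image.mp ho
    have hμ1 := Finset.ne_of_mem_erase hμ
    rw [show S.filter (fun ν => orb ν = orb μ) = orb μ from Finset.ext fun ν => by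
      rw [Finset.mem_filter]
      exact ⟨fun hh => hh.2 ▸ mem_orb.mpr ⟨1, conjLin_one ν⟩,
        fun hh => ⟨horbS μ hμ1 hh, orb_eq_of_mem hh⟩⟩, hworb μ hμ1]
  have hwx : w ≤ x := by
    obtain ⟨μ, hμ, hμ0⟩ := hexist χ hχ
    rw [← hworb μ hμ, hx, ← hmsum χ]
    calc (orb μ).card = ∑ ν ∈ orb μ, 1 := by simp
      _ ≤ ∑ ν ∈ orb μ, m χ ν := Finset.sum_le_sum fun ν hν => by
          obtain ⟨k, rfl⟩ := mem_orb.mp hν
          rw [hminv]; omega
      _ ≤ _ := Finset.sum_le_univ_sum_of_nonneg fun _ => Nat.zero_le _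
  by_cases hocc : ∃ k, k ≠ 1 ∧ k ∉ orb lam ∧ k ∉ orb j ∧ a X k θ ≠ 0
  · -- every orbit other than that of `j` occurs in `X`
    obtain ⟨k, hk1, hkl, -, hak⟩ := hocc
    have hmk : m X k ≠ 0 := fun h0 => hak (ha0 X k h0 θ)
    have hall : ∀ μ ∈ S \ orb j, 1 ≤ m X μ := by
      intro μ hμ
      rw [Finset.mem_sdiff] at hμ
      have hμ1 := Finset.ne_of_mem_erase hμ.1
      by_contra hlt
      have hμ0 : m X μ = 0 := by omega
      have hμl : ∀ t, conjLin t lam ≠ μ := fun t e => hmlam (by rw [← hminv X t lam, e, hμ0])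
      have hμk : ∀ t, conjLin t k ≠ μ := fun t e => hmk (by rw [← hminv X t k, e, hμ0])
      obtain ⟨A, hA, eA⟩ := hpair lam j hlam hj1 (hnotj lam hmlam) hθ (ha0 X j hmXj θ)
      obtain ⟨B, hB, eB⟩ := hpair lam μ hlam hμ1 hμl hθ (ha0 X μ hμ0 θ)
      obtain ⟨A', hA', eA'⟩ := hpair k j hk1 hj1 (hnotj k hmk) hak (ha0 X j hmXj θ)
      obtain ⟨B', hB', eB'⟩ := hpair k μ hk1 hμ1 hμk hak (ha0 X μ hμ0 θ)
      have hne : A ≠ B := by
        intro e
        refine hnz μ j hμ1 hj1 (fun t ht => hμ.2 (mem_orb.mpr ⟨t⁻¹, ?_⟩)) ?_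
        · rw [← ht, ← conjLin_mul, mul_inv_cancel, conjLin_one]
        · rw [← D.diff_add lam μ j, eA, eB, e, sub_self]
      have e := congrArg (fun f => classInner f (B : G → ℂ))
        ((D.diff_add lam μ j (θ : D.K → ℂ)).trans (D.diff_add k μ j (θ : D.K → ℂ)).symm)
      simp only [eA, eB, eA', eB', Chars.inner_sub_left, inner_irr, if_pos, if_neg hne, if_neg hB.symm]
        at e
      have hBB : B' = B := by
        by_contra hne'
        rw [if_neg hne'] at e
        split_ifs at e <;> norm_num at e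
      refine hnz lam k hlam hk1 (fun t e => hkl (mem_orb.mpr ⟨t, e⟩)) ?_
      rw [← D.diff_add' lam k μ, eB, eB', hBB, sub_self]
    have h1 : (S \ orb j).card ≤ ∑ μ ∈ S, mY μ := by
      calc (S \ orb j).card = ∑ μ ∈ S \ orb j, 1 := by simp
        _ ≤ ∑ μ ∈ S \ orb j, mY μ := Finset.sum_le_sum fun μ hμ => (hall μ hμ).trans (hmXle μ)
        _ ≤ _ := Finset.sum_le_sum_of_subset Finset.sdiff_subset
    rw [Finset.card_sdiff_of_subset (horbS j hj1), hworb j hj1] at h1
    omega
  · -- `X` has many siblings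
    simp only [not_exists, not_and, not_not] at hocc
    set U := (S \ orb lam) \ orb j with hU
    have hUmem : ∀ μ ∈ U, μ ≠ 1 ∧ (∀ t, conjLin t lam ≠ μ) ∧ (∀ t, conjLin t μ ≠ j) ∧
        a X μ θ = 0 := by
      intro μ hμ
      simp only [hU, Finset.mem_sdiff] at hμ
      obtain ⟨⟨hμS, hμl⟩, hμj⟩ := hμ
      refine ⟨Finset.ne_of_mem_erase hμS, fun t e => hμl (mem_orb.mpr ⟨t, e⟩), fun t e => hμj ?_,
        hocc μ (Finset.ne_of_mem_erase hμS) hμl hμj⟩
      exact mem_orb.mpr ⟨t⁻¹, by rw [← e, ← conjLin_mul, mul_inv_cancel, conjLin_one]⟩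
    have hB : ∀ μ, ∃ B : IrrCharacter G, μ ∈ U →
        B ≠ X ∧ D.diff lam μ θ = (X : G → ℂ) - B := fun μ => by
      by_cases hμ : μ ∈ U
      · obtain ⟨h1, h2, h3, h4⟩ := hUmem μ hμ
        obtain ⟨B, hB⟩ := hpair lam μ hlam h1 h2 hθ h4
        exact ⟨B, fun _ => hB⟩
      · exact ⟨X, fun h => absurd h hμ⟩
    choose B hB using hB
    have hfib : ∀ b ∈ U.image B, (U.filter fun μ => B μ = b).card ≤ w := by
      intro b hb
      obtain ⟨μ₀, hμ₀, rfl⟩ := Finset.mem_image.mp hb
      rw [← hworb μ₀ (hUmem μ₀ hμ₀).1]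
      refine Finset.card_le_card fun μ hμ => ?_
      obtain ⟨hμU, hμb⟩ := Finset.mem_filter.mp hμ
      by_contra hnot
      refine hnz μ₀ μ (hUmem μ₀ hμ₀).1 (hUmem μ hμU).1 (fun t e => hnot (mem_orb.mpr ⟨t, e⟩)) ?_
      rw [← D.diff_add lam μ₀ μ, (hB μ hμU).2, (hB μ₀ hμ₀).2, hμb, sub_self]
    have hUcard : U.card ≤ (U.image B).card * w := by
      rw [Finset.card_eq_sum_card_fiberwise (f := B) (t := U.image B)
        (fun μ hμ => Finset.mem_image_of_mem _ hμ), ← smul_eq_mul, ← Finset.sum_const]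
      exact Finset.sum_le_sum hfib
    have hUval : U.card + 2 * w = S.card := by
      have hsub : orb j ⊆ S \ orb lam := fun ν hν => Finset.mem_sdiff.mpr ⟨horbS j hj1 hν, fun hl => by
        have e1 : orb j = orb lam := (orb_eq_of_mem hν).symm.trans (orb_eq_of_mem hl)
        obtain ⟨t, ht⟩ := mem_orb.mp (e1 ▸ mem_orb.mpr ⟨1, conjLin_one j⟩ : j ∈ orb lam)
        exact hnotj lam hmlam t ht⟩
      rw [hU, Finset.card_sdiff_of_subset hsub, Finset.card_sdiff_of_subset (horbS lam hlam),
        hworb j hj1, ← hw]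
      have := Finset.card_le_card hsub
      rw [Finset.card_sdiff_of_subset (horbS lam hlam), hworb j hj1, ← hw] at this
      have := Finset.card_le_card (horbS lam hlam)
      omega
    -- the function with trivial character at `1`
    set Φ := D.diff 1 j (fun _ : D.K => (1 : ℂ)) with hΦ
    have hΦgen : IsGeneralizedCharacter G Φ := D.isGeneralized_diff 1 j isCharacter_one
    choose v hv using (isGeneralized_iff_inner.mp hΦgen).2
    have hnormΦ : ∑ χ' : IrrCharacter G, v χ' * v χ' = (w : ℤ) + 1 := by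
      have e := inner_eq_sum (isClassFunction_of_isGeneralized hΦgen) Φ
      simp only [hv, map_intCast] at e
      rw [hΦ, D.norm_diff_one h hj1, hNC, Nat.cast_mul, mul_comm (w : ℂ), ← mul_assoc,
        inv_mul_cancel₀ (card_ne_zero _), one_mul] at e
      exact_mod_cast e.symm
    have hvX : v X = (a X 1 one : ℤ) := by
      apply Int.cast_injective (α := ℂ)
      rw [← hv, hΦ, ← hone', diff, inner_indFun _ _ (isClassFunction_irr X), Chars.inner_sub_left, ha, ha,
        ha0 X j hmXj one]
      simp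
    have hv1 : v (principal G) = 1 := by
      apply Int.cast_injective (α := ℂ)
      rw [← hv, hΦ, ← hone', diff, inner_indFun _ _ (isClassFunction_irr _), Chars.inner_sub_left]
      simp only [principal_apply]
      rw [← htriv, D.inner_tensor, D.inner_tensor, if_pos rfl, if_neg hj1, inner_irr_self]
      simp
    have hvB : ∀ μ ∈ U, v (B μ) = v X := by
      intro μ hμ
      obtain ⟨h1, h2, h3, h4⟩ := hUmem μ hμ
      have e := D.inner_diff_one_diff h hlam h1 (hnotj lam hmlam) h3 θ
      rw [(hB μ hμ).2, Chars.inner_sub_right, ← hΦ, hv, hv, sub_eq_zero] at e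
      exact (Int.cast_injective e).symm
    have hB1 : ∀ μ ∈ U, B μ ≠ principal G := by
      intro μ hμ e
      have e2 : classInner (D.diff lam μ (θ : D.K → ℂ)) (principal G : G → ℂ) = 0 := by
        rw [diff, inner_indFun _ _ (isClassFunction_irr _), Chars.inner_sub_left]
        simp only [principal_apply]
        rw [← htriv, D.inner_tensor, D.inner_tensor, if_neg hlam, if_neg (hUmem μ hμ).1]
        simp
      rw [(hB μ hμ).2, Chars.inner_sub_left, e, inner_irr_self, inner_irr_ne hX1] at e2
      norm_num at e2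
    set R := insert (principal G) (insert X (U.image B)) with hR
    have hXim : X ∉ U.image B := fun hh => by
      obtain ⟨μ, hμ, e⟩ := Finset.mem_image.mp hh
      exact (hB μ hμ).1 e
    have h1im : principal G ∉ insert X (U.image B) := by
      simp only [Finset.mem_insert, Finset.mem_image, not_or, not_exists, not_and]
      exact ⟨hX1.symm, hB1⟩
    have hvim : ∀ b ∈ U.image B, v b = v X := fun b hb => by
      obtain ⟨μ, hμ, rfl⟩ := Finset.mem_image.mp hb
      exact hvB μ hμ
    have hRsum : ∑ b ∈ R, v b * v b = 1 + (((U.image B).card : ℤ) + 1) * (v X * v X) := by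
      rw [hR, Finset.sum_insert h1im, Finset.sum_insert hXim,
        Finset.sum_congr rfl (g := fun _ => v X * v X) (fun b hb => by rw [hvim b hb]),
        Finset.sum_const, nsmul_eq_mul, hv1]
      ring
    have hle : ∑ b ∈ R, v b * v b ≤ (w : ℤ) + 1 := hnormΦ ▸
      Finset.sum_le_sum_of_subset_of_nonneg (Finset.subset_univ _) fun b _ _ => mul_self_nonneg _
    set c := (U.image B).card with hc'
    have hvpos : (1 : ℤ) ≤ v X := by rw [hvX]; exact_mod_cast Nat.one_le_iff_ne_zero.mpr hT0
    have hmul : ((c : ℤ) + 1) * 1 ≤ ((c : ℤ) + 1) * (v X * v X) :=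
      mul_le_mul_of_nonneg_left (one_le_mul_of_one_le_of_one_le hvpos hvpos) (by positivity)
    rw [mul_one] at hmul
    have hcw : (c : ℤ) + 1 ≤ w := by
      rw [hRsum] at hle
      linarith
    have hw0 : 0 < w := by omega
    obtain ⟨t, ht⟩ := hwdvd
    have htw : w + 1 ≤ t := by
      by_contra hlt
      have : w * t ≤ w * w := Nat.mul_le_mul_left _ (by omega)
      have : w * w ≤ x * x := Nat.mul_le_mul hwx hwx
      rw [sq] at hdeg
      omega
    have hct : t ≤ c + 2 := by
      by_contra hlt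
      have : w * (c + 3) ≤ w * t := Nat.mul_le_mul_left _ (by omega)
      rw [Nat.mul_add] at this
      have e : c * w = w * c := mul_comm _ _
      omega
    have hceq : (c : ℤ) + 1 = w := by omega
    have hout : ∀ b ∉ R, v b = 0 := by
      intro b hb
      by_contra h0
      have h1 : ∑ b ∈ R, v b * v b + v b * v b ≤ (w : ℤ) + 1 := by
        rw [← hnormΦ, add_comm, ← Finset.sum_insert hb (f := fun b => v b * v b)]
        exact Finset.sum_le_sum_of_subset_of_nonneg (Finset.subset_univ _)
          fun b _ _ => mul_self_nonneg _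
      rw [hRsum] at h1
      have := mul_self_pos.mpr h0
      linarith
    -- evaluate at the identity
    have heval : ∑ b : IrrCharacter G, v b * (charDegree (b : G → ℂ) : ℤ) = 0 := by
      have e := congrFun (classFun_eq_sum (isClassFunction_of_isGeneralized hΦgen)) 1
      rw [show Φ 1 = 0 from D.diff_apply_one 1 j _] at e
      simp only [hv, Finset.sum_apply, Pi.smul_apply, smul_eq_mul, deg_eq] at e
      exact_mod_cast e.symm
    rw [← Finset.sum_subset (Finset.subset_univ R) (fun b _ hb => by rw [hout b hb, zero_mul]),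
      hR, Finset.sum_insert h1im] at heval
    have hpos : 0 ≤ ∑ b ∈ insert X (U.image B), v b * (charDegree (b : G → ℂ) : ℤ) :=
      Finset.sum_nonneg fun b hb => by
        have : v b = v X := by
          rcases Finset.mem_insert.mp hb with rfl | hb
          · rfl
          · exact hvim b hb
        rw [this]
        positivity
    rw [hv1, one_mul, (deg_eq_one_iff (principal G)).mp (principal_apply 1), Nat.cast_one] at heval
    omega

end CfsgLib.CharApps
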