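import Cfsg.Agent.Lib.Chars.Induction
import Cfsg.Agent.Lib.Chars.Quotient
import Cfsg.Agent.Lib.Chars.Degree
import Cfsg.Agent.Lib.Base.MinimalNormal

/-!
# Solvable groups inside central type factor groups
-/

set_option autoImplicit false
set_option linter.unusedSectionVars false
set_option linter.style.haveILetI false

namespace CfsgLib.CharApps.CentralType

open Cfsg
open scoped ComplexConjugate

universe u

/-- `G` embeds into a suitable central type factor group. -/
def HasCentralType (G : Type u) [Group G] : Prop :=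
  ∃ (H : Type u) (_ : Group H) (_ : Finite H) (χ : H → ℂ), IsIrrCharacter H χ ∧
    (∀ h : H, χ h = χ 1 → h = 1) ∧ (∀ h : H, h ∉ Subgroup.center H → χ h = 0) ∧
    (∃ f : G →* H ⧸ Subgroup.center H, Function.Injective f) ∧
    (∀ r : ℕ, r.Prime → ((r ∣ Nat.card H ↔ r ∣ Nat.card G) ∧
      (r ∣ Nat.card (Subgroup.center H) ↔ r ∣ Nat.card G))) ∧
    Squarefree (Nat.card (Subgroup.center H))

/-- The index of the centre is the square of the degree. -/
theorem sq_degree {H : Type u} [Group H] [Fintype H] {χ : H → ℂ} (hχ : IsIrrCharacter H χ)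
    (hvan : ∀ h : H, h ∉ Subgroup.center H → χ h = 0) {d : ℕ} (hd : χ 1 = d) :
    d ^ 2 = (Subgroup.center H).index ∧ ∀ z ∈ Subgroup.center H, χ z * conj (χ z) = (d : ℂ) ^ 2 := by
  classical
  obtain ⟨m, ρ, hirr, hρ⟩ := id hχ
  have hm : m = d := by
    have : (m : ℂ) = d := by
      rw [← hd, ← hρ, Representation.char_one, Module.finrank_fin_fun]
    exact_mod_cast this
  have hsc : ∀ z ∈ Subgroup.center H, χ z * conj (χ z) = (d : ℂ) ^ 2 := by
    intro z hz
    obtain ⟨c, hc⟩ := Chars.exists_scalar_of_mem_center ρ z hz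
    obtain ⟨c', hc'⟩ := Chars.exists_scalar_of_mem_center ρ z⁻¹ (inv_mem hz)
    have h1 : χ z = c * m := by
      rw [← hρ]
      show LinearMap.trace ℂ _ (ρ z) = _
      rw [hc, map_smul, LinearMap.trace_id, Module.finrank_fin_fun, smul_eq_mul]
    have h2 : χ z⁻¹ = c' * m := by
      rw [← hρ]
      show LinearMap.trace ℂ _ (ρ z⁻¹) = _
      rw [hc', map_smul, LinearMap.trace_id, Module.finrank_fin_fun, smul_eq_mul]
    have h3 : c * c' * m = (m : ℂ) := by
      have h4 := congrArg (LinearMap.trace ℂ (Fin m → ℂ))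
        (show ρ z * ρ z⁻¹ = 1 by rw [← map_mul, mul_inv_cancel, map_one])
      rw [hc, hc', smul_mul_smul_comm, ← Module.End.one_eq_id, mul_one, map_smul,
        LinearMap.trace_one, Module.finrank_fin_fun, smul_eq_mul] at h4
      exact h4
    rw [← Chars.char_inv (Chars.isCharacter_of_irr hχ) z, h1, h2, ← hm]
    linear_combination (m : ℂ) * h3
  refine ⟨?_, hsc⟩
  have h1 : classInner χ χ = 1 := Chars.inner_irr_self ⟨χ, hχ⟩
  rw [Chars.inner_def, inv_mul_eq_iff_eq_mul₀ (Nat.cast_ne_zero.2 Nat.card_pos.ne'), mul_one,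
    ← Finset.sum_subset (Finset.subset_univ (Finset.univ.filter (· ∈ Subgroup.center H)))
      (fun x _ hx => by rw [hvan x (by simpa using hx), zero_mul]),
    Finset.sum_congr rfl (fun z hz => hsc z (Finset.mem_filter.1 hz).2), Finset.sum_const,
    nsmul_eq_mul] at h1
  have h2 : (Finset.univ.filter (· ∈ Subgroup.center H)).card * d ^ 2 = Nat.card H := by
    exact_mod_cast h1
  rw [← Fintype.card_subtype, ← Nat.card_eq_fintype_card, ← (Subgroup.center H).card_mul_index]
    at h2
  exact Nat.eq_of_mul_eq_mul_left Nat.card_pos h2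

section Ext

variable {H : Type u} [Group H] {ι : Type u} [Fintype ι] [MulAction H ι] {p : ℕ}

/-- The action on vectors. -/
def sm (h : H) (v : ι → ZMod p) : ι → ZMod p := fun i => v (h⁻¹ • i)

theorem sm_one (v : ι → ZMod p) : sm (1 : H) v = v := by funext i; simp [sm]

theorem sm_mul (a b : H) (v : ι → ZMod p) : sm (a * b) v = sm a (sm b v) := by
  funext i; simp [sm, mul_smul]

theorem sm_add (h : H) (v w : ι → ZMod p) : sm h (v + w) = sm h v + sm h w := rfl

theorem sm_neg (h : H) (v : ι → ZMod p) : sm h (-v) = -sm h v := rfl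

theorem sm_zero (h : H) : sm h (0 : ι → ZMod p) = 0 := rfl

/-- The invariant pairing. -/
def dot (v w : ι → ZMod p) : ZMod p := ∑ i, v i * w i

theorem dot_sm (h : H) (v w : ι → ZMod p) : dot (sm h v) (sm h w) = dot v w :=
  Fintype.sum_equiv (MulAction.toPerm h⁻¹) _ _ fun i => rfl

theorem dot_add_left (a b c : ι → ZMod p) : dot (a + b) c = dot a c + dot b c := by
  simp [dot, add_mul, Finset.sum_add_distrib]

theorem dot_add_right (a b c : ι → ZMod p) : dot a (b + c) = dot a b + dot a c := by
  simp [dot, mul_add, Finset.sum_add_distrib]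

theorem dot_zero_left (c : ι → ZMod p) : dot 0 c = 0 := by simp [dot]

theorem dot_zero_right (c : ι → ZMod p) : dot c 0 = 0 := by simp [dot]

theorem dot_neg_left (a b : ι → ZMod p) : dot (-a) b = -dot a b := by simp [dot]

theorem dot_neg_right (a b : ι → ZMod p) : dot a (-b) = -dot a b := by simp [dot]

variable (H ι p) in
/-- The Heisenberg group extended by a group of permutations. -/
@[ext]
structure Ext where
  /-- central part -/
  c : ZMod p
  /-- translation part -/
  v : ι → ZMod p
  /-- modulation part -/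
  f : ι → ZMod p
  /-- acting part -/
  h : H

instance : Group (Ext H ι p) where
  mul x y := ⟨x.c + y.c + dot x.f (sm x.h y.v), x.v + sm x.h y.v, x.f + sm x.h y.f, x.h * y.h⟩
  one := ⟨0, 0, 0, 1⟩
  inv x := ⟨-x.c + dot x.f x.v, -sm x.h⁻¹ x.v, -sm x.h⁻¹ x.f, x.h⁻¹⟩
  mul_assoc x y z := by
    refine Ext.ext ?_ ?_ ?_ (mul_assoc _ _ _)
    · show x.c + y.c + dot x.f (sm x.h y.v) + z.c + dot (x.f + sm x.h y.f) (sm (x.h * y.h) z.v) =
        x.c + (y.c + z.c + dot y.f (sm y.h z.v)) + dot x.f (sm x.h (y.v + sm y.h z.v))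
      rw [dot_add_left, sm_mul, dot_sm, sm_add, dot_add_right]
      ring
    · show x.v + sm x.h y.v + sm (x.h * y.h) z.v = x.v + sm x.h (y.v + sm y.h z.v)
      rw [sm_mul, sm_add, add_assoc]
    · show x.f + sm x.h y.f + sm (x.h * y.h) z.f = x.f + sm x.h (y.f + sm y.h z.f)
      rw [sm_mul, sm_add, add_assoc]
  one_mul x := by
    refine Ext.ext ?_ ?_ ?_ (one_mul _)
    · show 0 + x.c + dot 0 (sm 1 x.v) = x.c
      rw [dot_zero_left, zero_add, add_zero]
    · show 0 + sm 1 x.v = x.v
      rw [sm_one, zero_add]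
    · show 0 + sm 1 x.f = x.f
      rw [sm_one, zero_add]
  mul_one x := by
    refine Ext.ext ?_ ?_ ?_ (mul_one _)
    · show x.c + 0 + dot x.f (sm x.h 0) = x.c
      rw [sm_zero, dot_zero_right, add_zero, add_zero]
    · show x.v + sm x.h 0 = x.v
      rw [sm_zero, add_zero]
    · show x.f + sm x.h 0 = x.f
      rw [sm_zero, add_zero]
  inv_mul_cancel x := by
    refine Ext.ext ?_ ?_ ?_ (inv_mul_cancel _)
    · show -x.c + dot x.f x.v + x.c + dot (-sm x.h⁻¹ x.f) (sm x.h⁻¹ x.v) = 0
      rw [dot_neg_left, dot_sm]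
      ring
    · show -sm x.h⁻¹ x.v + sm x.h⁻¹ x.v = 0
      rw [neg_add_cancel]
    · show -sm x.h⁻¹ x.f + sm x.h⁻¹ x.f = 0
      rw [neg_add_cancel]

theorem mul_c (x y : Ext H ι p) : (x * y).c = x.c + y.c + dot x.f (sm x.h y.v) := rfl
theorem mul_v (x y : Ext H ι p) : (x * y).v = x.v + sm x.h y.v := rfl
theorem mul_f (x y : Ext H ι p) : (x * y).f = x.f + sm x.h y.f := rfl
theorem mul_h (x y : Ext H ι p) : (x * y).h = x.h * y.h := rfl

/-- The equivalence with the product. -/
def toProd : Ext H ι p ≃ ZMod p × (ι → ZMod p) × (ι → ZMod p) × H where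
  toFun x := (x.c, x.v, x.f, x.h)
  invFun x := ⟨x.1, x.2.1, x.2.2.1, x.2.2.2⟩
  left_inv _ := rfl
  right_inv _ := rfl

instance [NeZero p] [Finite H] : Finite (Ext H ι p) := Finite.of_equiv _ toProd.symm

variable (H ι p) in
/-- The polarised subgroup. -/
def base : Subgroup (Ext H ι p) where
  carrier := {x | x.v = 0}
  one_mem' := rfl
  mul_mem' {x y} hx hy := by
    show x.v + sm x.h y.v = 0
    rw [show x.v = 0 from hx, show y.v = 0 from hy, sm_zero, add_zero]
  inv_mem' {x} hx := by
    show -sm x.h⁻¹ x.v = 0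
    rw [show x.v = 0 from hx, sm_zero, neg_zero]

/-- Projection to the acting group. -/
def projH : base H ι p →* H where
  toFun x := x.1.h
  map_one' := rfl
  map_mul' _ _ := rfl

variable (H ι p) in
/-- The linear character of the polarised subgroup. -/
noncomputable def phase [NeZero p] : base H ι p →* ℂ where
  toFun x := ZMod.stdAddChar x.1.c
  map_one' := AddChar.map_zero_eq_one _
  map_mul' x y := by
    show ZMod.stdAddChar (x.1 * y.1).c = _
    rw [mul_c, show y.1.v = 0 from y.2, sm_zero, dot_zero_right, add_zero,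
      AddChar.map_add_eq_mul]

variable (H ι p) in
/-- The central subgroup. -/
def cen (hz : ∀ z ∈ Subgroup.center H, ∀ i : ι, z • i = i) : Subgroup (Ext H ι p) where
  carrier := {x | x.v = 0 ∧ x.f = 0 ∧ x.h ∈ Subgroup.center H}
  one_mem' := ⟨rfl, rfl, Subgroup.one_mem _⟩
  mul_mem' {x y} hx hy := by
    refine ⟨?_, ?_, mul_mem hx.2.2 hy.2.2⟩
    · rw [mul_v, hx.1, hy.1, sm_zero, add_zero]
    · rw [mul_f, hx.2.1, hy.2.1, sm_zero, add_zero]
  inv_mem' {x} hx := by
    refine ⟨?_, ?_, inv_mem hx.2.2⟩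
    · show -sm x.h⁻¹ x.v = 0
      rw [hx.1, sm_zero, neg_zero]
    · show -sm x.h⁻¹ x.f = 0
      rw [hx.2.1, sm_zero, neg_zero]

variable (hz : ∀ z ∈ Subgroup.center H, ∀ i : ι, z • i = i)

theorem sm_center {z : H} (hzc : z ∈ Subgroup.center H) (v : ι → ZMod p)
    (hz : ∀ z ∈ Subgroup.center H, ∀ i : ι, z • i = i) : sm z v = v := by
  funext i
  rw [sm, hz _ (inv_mem hzc)]

theorem cen_le_center : cen H ι p hz ≤ Subgroup.center (Ext H ι p) := by
  rintro x ⟨hv, hf, hh⟩
  rw [Subgroup.mem_center_iff]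
  intro y
  refine Ext.ext ?_ ?_ ?_ (Subgroup.mem_center_iff.1 hh y.h)
  · rw [mul_c, mul_c, hv, hf, sm_zero, dot_zero_right, dot_zero_left, add_zero, add_zero, add_comm]
  · rw [mul_v, mul_v, hv, sm_zero, add_zero, zero_add, sm_center hh _ hz]
  · rw [mul_f, mul_f, hf, sm_zero, add_zero, zero_add, sm_center hh _ hz]

variable [Fintype H] [hp : Fact p.Prime]

/-- The main step. -/
theorem step {χ : H → ℂ} (hχ : IsIrrCharacter H χ) (hfaith : ∀ h : H, χ h = χ 1 → h = 1)
    (hvan : ∀ h : H, h ∉ Subgroup.center H → χ h = 0)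
    (hsq : Squarefree (Nat.card (Subgroup.center H))) :
    ∃ (Y : Type u) (_ : Group Y) (_ : Finite Y) (ψ : Y → ℂ), IsIrrCharacter Y ψ ∧
      (∀ y : Y, ψ y = ψ 1 → y = 1) ∧ (∀ y : Y, y ∉ Subgroup.center Y → ψ y = 0) ∧
      (∃ (g : Ext H ι p →* Y ⧸ Subgroup.center Y), g.ker = cen H ι p hz) ∧
      (∀ r : ℕ, r.Prime → r ∣ Nat.card Y → r = p ∨ r ∣ Nat.card H) ∧
      Squarefree (Nat.card (Subgroup.center Y)) ∧
      p ∣ Nat.card (Subgroup.center Y) ∧
      ∀ r : ℕ, r.Prime → r ∣ Nat.card (Subgroup.center H) → r ∣ Nat.card (Subgroup.center Y) := by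
  classical
  haveI : NeZero p := ⟨hp.out.ne_zero⟩
  haveI := Fintype.ofFinite (Ext H ι p)
  haveI := Fintype.ofFinite (base H ι p)
  have hχc := Chars.isCharacter_of_irr hχ
  set θ : base H ι p → ℂ := fun x => ZMod.stdAddChar x.1.c * χ x.1.h with hθ
  have hθc : IsCharacter (base H ι p) θ := by
    have h1 : IsCharacter (base H ι p)
        (fun x => (((phase H ι p).toHomUnits x : ℂˣ) : ℂ)) :=
      Chars.isCharacter_of_irr (Chars.isIrrCharacter_linear _)
    have h2 := Chars.isCharacter_comp (projH (H := H) (ι := ι) (p := p)) hχc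
    exact Chars.isCharacter_mul h1 h2
  set F := indFun (base H ι p) θ with hF
  have hFc : IsCharacter (Ext H ι p) F := Chars.isCharacter_indFun _ hθc
  -- the value formula
  let e : Ext H ι p ≃ (ι → ZMod p) × base H ι p :=
    { toFun := fun x => (x.v, ⟨⟨x.c, 0, x.f, x.h⟩, rfl⟩)
      invFun := fun x => ⟨x.2.1.c, x.1, x.2.1.f, x.2.1.h⟩
      left_inv := fun x => rfl
      right_inv := fun x => by
        refine Prod.ext rfl (Subtype.ext (Ext.ext rfl ?_ rfl rfl))
        exact x.2.2.symm }
  have hval : ∀ x : Ext H ι p, F x = ∑ u : ι → ZMod p,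
      if x.v + sm x.h u = u then ZMod.stdAddChar (x.c + dot x.f (sm x.h u)) * χ x.h else 0 := by
    intro x
    have hterm : ∀ (u : ι → ZMod p) (a : base H ι p),
        extendByZero (base H ι p) θ ((e.symm (u, a))⁻¹ * x * e.symm (u, a)) =
          if x.v + sm x.h u = u then ZMod.stdAddChar (x.c + dot x.f (sm x.h u)) * χ x.h else 0 := by
      intro u a
      set t : Ext H ι p := ⟨0, u, 0, 1⟩ with ht
      have hx : e.symm (u, a) = t * (a : Ext H ι p) := by
        refine Ext.ext ?_ ?_ ?_ (one_mul _).symm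
        · rw [mul_c, ht]
          show a.1.c = 0 + a.1.c + dot 0 (sm 1 a.1.v)
          rw [dot_zero_left, zero_add, add_zero]
        · rw [mul_v, ht]
          show u = u + sm 1 a.1.v
          rw [show a.1.v = 0 from a.2, sm_zero, add_zero]
        · rw [mul_f, ht]
          show a.1.f = 0 + sm 1 a.1.f
          rw [sm_one, zero_add]
      set y := t⁻¹ * x * t with hy
      have hyc : y.c = x.c + dot x.f (sm x.h u) ∧ y.v = -u + (x.v + sm x.h u) ∧ y.h = x.h := by
        refine ⟨?_, ?_, ?_⟩
        · show -(0 : ZMod p) + dot (0 : ι → ZMod p) u + x.c +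
              dot (-sm (1 : H)⁻¹ (0 : ι → ZMod p)) (sm (1 : H)⁻¹ x.v) + 0 +
              dot (-sm (1 : H)⁻¹ (0 : ι → ZMod p) + sm (1 : H)⁻¹ x.f) (sm ((1 : H)⁻¹ * x.h) u) = _
          simp [dot_zero_left, sm_zero, sm_one]
        · show -sm (1 : H)⁻¹ u + sm (1 : H)⁻¹ x.v + sm ((1 : H)⁻¹ * x.h) u = _
          simp [sm_one, add_assoc]
        · show (1 : H)⁻¹ * x.h * 1 = x.h
          simp
      rw [hx, show (t * (a : Ext H ι p))⁻¹ * x * (t * a) = (a : Ext H ι p)⁻¹ * y * a by
        rw [hy]; group]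
      have hcond : y ∈ base H ι p ↔ x.v + sm x.h u = u := by
        show y.v = 0 ↔ _
        rw [hyc.2.1, neg_add_eq_zero, eq_comm]
      by_cases hu : x.v + sm x.h u = u
      · have hm : y ∈ base H ι p := hcond.2 hu
        rw [if_pos hu, Chars.extendByZero_of_mem _ θ
          (mul_mem (mul_mem (inv_mem a.2) hm) a.2)]
        have h := Chars.isClassFunction_of_isCharacter hθc ⟨y, hm⟩ a⁻¹
        rw [inv_inv] at h
        refine h.trans ?_
        show ZMod.stdAddChar y.c * χ y.h = _
        rw [hyc.1, hyc.2.2]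
      · rw [if_neg hu, Chars.extendByZero_of_not_mem _ θ]
        intro hm
        refine hu (hcond.1 ?_)
        have := mul_mem (mul_mem a.2 hm) (inv_mem a.2)
        simpa [mul_assoc] using this
    rw [hF, Chars.indFun_apply, ← e.symm.sum_comp, Fintype.sum_prod_type,
      Finset.sum_congr rfl fun u _ => Finset.sum_congr rfl fun a _ => hterm u a]
    simp only [Finset.sum_const, Finset.card_univ, nsmul_eq_mul, ← Finset.mul_sum]
    rw [← mul_assoc, Nat.card_eq_fintype_card, inv_mul_cancel₀ (Nat.cast_ne_zero.2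
      Fintype.card_ne_zero), one_mul]
  set q := Fintype.card (ι → ZMod p) with hq
  have hcenval : ∀ x ∈ cen H ι p hz, F x = (q : ℂ) * (ZMod.stdAddChar x.c * χ x.h) := by
    rintro x ⟨hv, hf, hh⟩
    rw [hval, Finset.sum_congr rfl fun u _ => if_pos (by rw [hv, sm_center hh _ hz, zero_add])]
    simp [hf, dot_zero_left, hq]
  have hFvan : ∀ x : Ext H ι p, x ∉ cen H ι p hz → F x = 0 := by
    intro x hx
    rw [hval]
    by_cases hh : x.h ∈ Subgroup.center H
    · by_cases hv : x.v = 0
      · have hf : x.f ≠ 0 := fun h => hx ⟨hv, h, hh⟩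
        rw [Finset.sum_congr rfl fun u _ => if_pos (by rw [hv, sm_center hh _ hz, zero_add])]
        let ψ : AddChar (ι → ZMod p) ℂ :=
          { toFun := fun u => ZMod.stdAddChar (dot x.f u)
            map_zero_eq_one' := by rw [dot_zero_right, AddChar.map_zero_eq_one]
            map_add_eq_mul' := fun a b => by rw [dot_add_right, AddChar.map_add_eq_mul] }
        have hψ : ψ ≠ 1 := by
          obtain ⟨i, hi⟩ := Function.ne_iff.1 hf
          intro h1
          have h2 : ψ (Pi.single i (x.f i)⁻¹) = 1 := by rw [h1]; rfl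
          have h3 : dot x.f (Pi.single i (x.f i)⁻¹) = 1 := by
            rw [dot, Finset.sum_eq_single i (fun j _ hj => by simp [Pi.single_eq_of_ne hj])
              (fun h => absurd (Finset.mem_univ i) h), Pi.single_eq_same,
              mul_inv_cancel₀ (by simpa using hi)]
          have h4 : ZMod.stdAddChar (N := p) 1 = (ZMod.stdAddChar (N := p)) 0 := by
            rw [AddChar.map_zero_eq_one]
            rw [← h2]
            show _ = ZMod.stdAddChar (dot x.f _)
            rw [h3]
          exact one_ne_zero (ZMod.injective_stdAddChar h4)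
        calc ∑ u, ZMod.stdAddChar (x.c + dot x.f (sm x.h u)) * χ x.h
            = ∑ u, (ZMod.stdAddChar x.c * χ x.h) * ψ u := Finset.sum_congr rfl fun u _ => by
              rw [sm_center hh _ hz, AddChar.map_add_eq_mul]
              show _ = _ * ZMod.stdAddChar (dot x.f u)
              ring
          _ = 0 := by rw [← Finset.mul_sum, AddChar.sum_eq_zero_of_ne_one hψ, mul_zero]
      · refine Finset.sum_eq_zero fun u _ => if_neg ?_
        rw [sm_center hh _ hz]
        exact fun h => hv (add_eq_right.1 h)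
    · refine Finset.sum_eq_zero fun u _ => ?_
      rw [hvan x.h hh]
      simp
  obtain ⟨d, hd⟩ := Chars.character_degree_nat hχc
  have hd0 : d ≠ 0 := fun h => Chars.irr_degree_ne_zero hχ (by rw [hd, h, Nat.cast_zero])
  obtain ⟨hdi, hdn⟩ := sq_degree hχ hvan hd
  have hq0 : q ≠ 0 := Fintype.card_ne_zero
  -- irreducibility
  have hnorm : classInner F F = 1 := by
    rw [Chars.inner_def, inv_mul_eq_iff_eq_mul₀ (Nat.cast_ne_zero.2 Nat.card_pos.ne'), mul_one,
      ← Finset.sum_subset (Finset.subset_univ (Finset.univ.filter (· ∈ cen H ι p hz)))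
        (fun x _ hx => by rw [hFvan x (by simpa using hx), zero_mul]),
      Finset.sum_congr rfl (fun x hx => (?_ : F x * conj (F x) = (q : ℂ) ^ 2 * (d : ℂ) ^ 2)),
      Finset.sum_const, nsmul_eq_mul]
    · have hc : (Finset.univ.filter (· ∈ cen H ι p hz)).card =
          p * Nat.card (Subgroup.center H) := by
        rw [← Fintype.card_subtype, ← Nat.card_eq_fintype_card]
        rw [Nat.card_congr (
          { toFun := fun x => (x.1.c, ⟨x.1.h, x.2.2.2⟩)
            invFun := fun x => ⟨⟨x.1, 0, 0, x.2.1⟩, rfl, rfl, x.2.2⟩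
            left_inv := fun x => Subtype.ext (Ext.ext rfl x.2.1.symm x.2.2.1.symm rfl)
            right_inv := fun x => rfl } : cen H ι p hz ≃ ZMod p × Subgroup.center H),
          Nat.card_prod, Nat.card_zmod]
      have hX : Nat.card (Ext H ι p) = p * (q * (q * Nat.card H)) := by
        rw [Nat.card_congr toProd, Nat.card_prod, Nat.card_prod, Nat.card_prod, Nat.card_zmod,
          Nat.card_eq_fintype_card (α := ι → ZMod p)]
      have : (p * Nat.card (Subgroup.center H)) * (q ^ 2 * d ^ 2) = Nat.card (Ext H ι p) := by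
        rw [hX, hdi, ← (Subgroup.center H).card_mul_index]
        ring
      rw [hc, ← this]
      push_cast
      ring
    · have hxm := (Finset.mem_filter.1 hx).2
      have h1 : ZMod.stdAddChar x.c * conj (ZMod.stdAddChar x.c) = 1 := by
        rw [Complex.mul_conj, Complex.normSq_eq_norm_sq, AddChar.norm_apply]
        simp
      rw [hcenval x hxm, map_mul, map_mul, map_natCast, ← hdn x.h hxm.2.2]
      linear_combination ((q : ℂ) ^ 2 * (χ x.h * conj (χ x.h))) * h1
  have hFirr : IsIrrCharacter (Ext H ι p) F := Chars.isIrrCharacter_iff_inner_self.2 ⟨hFc, hnorm⟩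
  -- the faithful quotient
  obtain ⟨m, ρ, hρi, hρ⟩ := id hFirr
  set K : Subgroup (Ext H ι p) := MonoidHom.ker ρ with hK
  have hKmem : ∀ x, x ∈ K ↔ F x = F 1 := fun x =>
    MonoidHom.mem_ker.trans (Chars.ker_iff ρ hρ x).symm
  have hF1 : F 1 ≠ 0 := Chars.irr_degree_ne_zero hFirr
  have hKcen : K ≤ cen H ι p hz := fun x hx => by
    by_contra h
    exact hF1 (((hKmem x).1 hx).symm.trans (hFvan x h))
  obtain ⟨ψ, hψ, hFψ⟩ := Chars.exists_deflate_irr K hFirr fun x hx => (hKmem x).1 hx
  have hψv : ∀ x : Ext H ι p, ψ (x : Ext H ι p ⧸ K) = F x := fun x => (congrFun hFψ x).symm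
  have hψf : ∀ y : Ext H ι p ⧸ K, ψ y = ψ 1 → y = 1 := by
    intro y
    induction y using QuotientGroup.induction_on with
    | H x =>
      intro hx
      refine (QuotientGroup.eq_one_iff x).2 ((hKmem x).2 ?_)
      rw [← hψv, hx, ← hψv, QuotientGroup.mk_one]
  haveI := Fintype.ofFinite (Ext H ι p ⧸ K)
  have hcentre : Subgroup.center (Ext H ι p ⧸ K) = (cen H ι p hz).map (QuotientGroup.mk' K) := by
    refine le_antisymm (fun y hy => ?_) ?_
    · induction y using QuotientGroup.induction_on with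
      | H x =>
        refine Subgroup.mem_map_of_mem _ ?_
        by_contra hx
        obtain ⟨m', σ, hσi, hσ⟩ := id hψ
        obtain ⟨c, hc⟩ := Chars.exists_scalar_of_mem_center σ _ hy
        have h1 : ψ (x : Ext H ι p ⧸ K) = c * m' := by
          rw [← hσ]
          show LinearMap.trace ℂ _ (σ (x : Ext H ι p ⧸ K)) = _
          rw [hc, map_smul, LinearMap.trace_id, Module.finrank_fin_fun, smul_eq_mul]
        rw [hψv, hFvan x hx] at h1
        have hm' : (m' : ℂ) ≠ 0 := by
          have := Chars.irr_degree_ne_zero hψ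
          rwa [← hσ, Representation.char_one, Module.finrank_fin_fun] at this
        have hc0 : c = 0 := (mul_eq_zero.1 h1.symm).resolve_right hm'
        have h2 : σ (x : Ext H ι p ⧸ K) * σ (x : Ext H ι p ⧸ K)⁻¹ = 1 := by
          rw [← map_mul, mul_inv_cancel, map_one]
        rw [hc, hc0, zero_smul, zero_mul] at h2
        have h3 := congrArg (LinearMap.trace ℂ (Fin m' → ℂ)) h2
        rw [map_zero, LinearMap.trace_one, Module.finrank_fin_fun] at h3
        exact hm' h3.symm
    · rintro _ ⟨x, hx, rfl⟩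
      rw [Subgroup.mem_center_iff]
      intro y
      induction y using QuotientGroup.induction_on with
      | H y => exact congrArg (QuotientGroup.mk' K) (Subgroup.mem_center_iff.1 (cen_le_center hz hx) y)
  refine ⟨Ext H ι p ⧸ K, inferInstance, inferInstance, ψ, hψ, hψf, ?_, ?_, ?_, ?_, ?_, ?_⟩
  · intro y
    induction y using QuotientGroup.induction_on with
    | H x =>
      intro hy
      rw [hψv]
      exact hFvan x fun h => hy (hcentre ▸ Subgroup.mem_map_of_mem _ h)
  · refine ⟨(QuotientGroup.mk' _).comp (QuotientGroup.mk' K), ?_⟩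
    rw [← MonoidHom.comap_ker, QuotientGroup.ker_mk', hcentre, Subgroup.comap_map_eq,
      QuotientGroup.ker_mk', sup_eq_left.2 hKcen]
  · intro r hr hd'
    have h1 : r ∣ Nat.card (Ext H ι p) := hd'.trans (Subgroup.card_quotient_dvd_card K)
    rw [Nat.card_congr toProd, Nat.card_prod, Nat.card_prod, Nat.card_prod, Nat.card_zmod,
      Nat.card_fun, Nat.card_zmod] at h1
    rcases hr.dvd_mul.1 h1 with h | h
    · exact Or.inl ((Nat.prime_dvd_prime_iff_eq hr hp.out).1 h)
    rcases hr.dvd_mul.1 h with h | h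
    · exact Or.inl ((Nat.prime_dvd_prime_iff_eq hr hp.out).1 (hr.dvd_of_dvd_pow h))
    rcases hr.dvd_mul.1 h with h | h
    · exact Or.inl ((Nat.prime_dvd_prime_iff_eq hr hp.out).1 (hr.dvd_of_dvd_pow h))
    · exact Or.inr h
  · -- the centre is cyclic of squarefree order
    obtain ⟨m', σ, hσi, hσ⟩ := id hψ
    have hm' : 0 < m' := by
      have := Chars.irr_degree_ne_zero hψ
      rw [← hσ, Representation.char_one, Module.finrank_fin_fun] at this
      exact Nat.pos_of_ne_zero fun h => this (by rw [h, Nat.cast_zero])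
    choose c hc using fun z : Subgroup.center (Ext H ι p ⧸ K) =>
      Chars.exists_scalar_of_mem_center σ (z : Ext H ι p ⧸ K) z.2
    have happ : ∀ z : Subgroup.center (Ext H ι p ⧸ K), σ (z : Ext H ι p ⧸ K) (fun _ => 1) ⟨0, hm'⟩ = c z := fun z => by
      rw [hc]; simp
    let lam : Subgroup.center (Ext H ι p ⧸ K) →* ℂ :=
      { toFun := c
        map_one' := by rw [← happ, OneMemClass.coe_one, map_one]; rfl
        map_mul' := fun a b => by
          rw [← happ, Subgroup.coe_mul, map_mul, Module.End.mul_apply, hc, hc]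
          simp [mul_comm] }
    have hinj : Function.Injective lam := by
      intro a b h
      have h' : c a = c b := h
      have hab : σ (a : Ext H ι p ⧸ K) = σ b := by rw [hc, hc, h']
      refine Subtype.ext (mul_inv_eq_one.1 (hψf _ ?_))
      refine (Chars.ker_iff σ hσ _).2 ?_
      rw [map_mul, hab, ← map_mul, mul_inv_cancel, map_one]
    haveI : IsCyclic (Subgroup.center (Ext H ι p ⧸ K)) := isCyclic_of_subgroup_isDomain lam hinj
    set L := Nat.lcm p (Nat.card (Subgroup.center H)) with hL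
    have hpow : ∀ z : Subgroup.center (Ext H ι p ⧸ K), z ^ L = 1 := by
      rintro ⟨z, hzm⟩
      obtain ⟨x, hx, rfl⟩ := Subgroup.mem_map.1 (hcentre ▸ hzm)
      apply Subtype.ext
      show QuotientGroup.mk' K x ^ L = 1
      have hxe : ∀ k : ℕ, x ^ k = ⟨k • x.c, 0, 0, x.h ^ k⟩ := by
        intro k
        induction k with
        | zero => rw [pow_zero, pow_zero, zero_smul]; rfl
        | succ k ih =>
          rw [pow_succ, ih]
          refine Ext.ext ?_ ?_ ?_ (pow_succ _ _).symm
          · rw [mul_c, dot_zero_left, add_zero]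
            show k • x.c + x.c = _
            rw [succ_nsmul]
          · rw [mul_v, hx.1, sm_zero, add_zero]
          · rw [mul_f, hx.2.1, sm_zero, add_zero]
      rw [← map_pow, hxe]
      obtain ⟨a, ha⟩ := Nat.dvd_lcm_left p (Nat.card (Subgroup.center H))
      obtain ⟨b, hb⟩ := Nat.dvd_lcm_right p (Nat.card (Subgroup.center H))
      have h1 : L • x.c = 0 := by
        rw [hL, ha, mul_comm, mul_smul, ZModModule.char_nsmul_eq_zero p, smul_zero]
      have h2 : x.h ^ L = 1 := by
        have := congrArg Subtype.val (pow_card_eq_one' (x := (⟨x.h, hx.2.2⟩ : Subgroup.center H)))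
        rw [SubgroupClass.coe_pow, OneMemClass.coe_one] at this
        rw [hL, hb, pow_mul, this, one_pow]
      rw [h1, h2]
      exact map_one _
    have hdvd : Nat.card (Subgroup.center (Ext H ι p ⧸ K)) ∣ L := by
      rw [← IsCyclic.exponent_eq_card]
      exact Monoid.exponent_dvd_of_forall_pow_eq_one hpow
    refine Squarefree.squarefree_of_dvd hdvd ?_
    by_cases hpz : p ∣ Nat.card (Subgroup.center H)
    · rw [hL, Nat.lcm_eq_right hpz]
      exact hsq
    · rw [hL, Nat.Coprime.lcm_eq_mul (hp.out.coprime_iff_not_dvd.2 hpz),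
        Nat.squarefree_mul (hp.out.coprime_iff_not_dvd.2 hpz)]
      exact ⟨hp.out.squarefree, hsq⟩
  · -- the element of order p
    set x : Ext H ι p := ⟨1, 0, 0, 1⟩
    have hx : x ∈ cen H ι p hz := ⟨rfl, rfl, Subgroup.one_mem _⟩
    have hxK : x ∉ K := by
      intro h
      have h1 := (hKmem x).1 h
      have e1 : F 1 = (q : ℂ) * (ZMod.stdAddChar (0 : ZMod p) * χ 1) :=
        hcenval 1 (Subgroup.one_mem _)
      rw [hcenval x hx, e1] at h1
      have h2 := mul_right_cancel₀ (Chars.irr_degree_ne_zero hχ)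
        (mul_left_cancel₀ (Nat.cast_ne_zero.2 hq0) h1)
      exact one_ne_zero (ZMod.injective_stdAddChar h2)
    have hxp : x ^ p = 1 := by
      have hxe : ∀ k : ℕ, x ^ k = ⟨(k : ZMod p), 0, 0, 1⟩ := by
        intro k
        induction k with
        | zero => rw [pow_zero, Nat.cast_zero]; rfl
        | succ k ih =>
          rw [pow_succ, ih]
          refine Ext.ext ?_ ?_ ?_ (one_mul _)
          · rw [mul_c, dot_zero_left, add_zero, Nat.cast_succ]
          · rw [mul_v, sm_zero, add_zero]
          · rw [mul_f, sm_zero, add_zero]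
      rw [hxe, ZMod.natCast_self]
      rfl
    have hmem : QuotientGroup.mk' K x ∈ Subgroup.center (Ext H ι p ⧸ K) :=
      hcentre ▸ Subgroup.mem_map_of_mem _ hx
    have hord : orderOf (⟨_, hmem⟩ : Subgroup.center (Ext H ι p ⧸ K)) = p :=
      orderOf_eq_prime (Subtype.ext (by
        show QuotientGroup.mk' K x ^ p = 1
        rw [← map_pow, hxp, map_one]))
        (fun h => hxK ((QuotientGroup.eq_one_iff x).1 (congrArg Subtype.val h)))
    exact hord.symm.dvd.trans (orderOf_dvd_natCard _)
  · intro r hr hd'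
    haveI := Fact.mk hr
    obtain ⟨z, hzr⟩ := exists_prime_orderOf_dvd_card' r hd'
    set x : Ext H ι p := ⟨0, 0, 0, z.1⟩
    have hx : x ∈ cen H ι p hz := ⟨rfl, rfl, z.2⟩
    have hxK : x ∉ K := by
      intro h
      have h1 := (hKmem x).1 h
      rw [hcenval x hx, hcenval 1 (Subgroup.one_mem _)] at h1
      have h2 := mul_left_cancel₀ (Nat.cast_ne_zero.2 hq0) h1
      have h3 : χ z.1 = χ 1 := by
        have e1 : ZMod.stdAddChar (N := p) (0 : ZMod p) = 1 := AddChar.map_zero_eq_one _
        change ZMod.stdAddChar (0 : ZMod p) * χ z.1 = ZMod.stdAddChar (0 : ZMod p) * χ 1 at h2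
        rwa [e1, one_mul, one_mul] at h2
      rw [show z = 1 from Subtype.ext (hfaith _ h3), orderOf_one] at hzr
      exact hr.one_lt.ne hzr
    let inc : Subgroup.center H →* Ext H ι p :=
      { toFun := fun w => ⟨0, 0, 0, w.1⟩
        map_one' := rfl
        map_mul' := fun a b => Ext.ext (by rw [mul_c, dot_zero_left]; simp)
          (by rw [mul_v, sm_zero, add_zero]) (by rw [mul_f, sm_zero, add_zero]) rfl }
    have hzp : z ^ r = 1 := hzr ▸ pow_orderOf_eq_one z
    have hxr : x ^ r = 1 := by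
      show inc z ^ r = 1
      rw [← map_pow, hzp, map_one]
    have hmem : QuotientGroup.mk' K x ∈ Subgroup.center (Ext H ι p ⧸ K) :=
      hcentre ▸ Subgroup.mem_map_of_mem _ hx
    have hord : orderOf (⟨_, hmem⟩ : Subgroup.center (Ext H ι p ⧸ K)) = r :=
      orderOf_eq_prime (Subtype.ext (by
        show QuotientGroup.mk' K x ^ r = 1
        rw [← map_pow, hxr, map_one]))
        (fun h => hxK ((QuotientGroup.eq_one_iff x).1 (congrArg Subtype.val h)))
    exact hord.symm.dvd.trans (orderOf_dvd_natCard _)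

end Ext

/-- Left translations modulo the centre. -/
@[reducible]
def prodAct (H : Type u) [Group H] (Φ : Type u) : MulAction H ((H ⧸ Subgroup.center H) × Φ) where
  smul h i := ((h : H ⧸ Subgroup.center H) * i.1, i.2)
  one_smul i := Prod.ext (one_mul i.1) rfl
  mul_smul a b i := Prod.ext (mul_assoc (a : H ⧸ Subgroup.center H) b i.1) rfl

/-- A finite space has a finite dual. -/
theorem finite_dual (p : ℕ) [NeZero p] (A : Type*) [AddCommGroup A] [Finite A] [Module (ZMod p) A] :
    Finite (A →ₗ[ZMod p] ZMod p) :=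
  Finite.of_injective (fun f => (f : A → ZMod p)) DFunLike.coe_injective

/-- Separating functionals of an additive group of prime exponent. -/
theorem exists_functionals (p : ℕ) [Fact p.Prime] (A : Type*) [AddCommGroup A] [Finite A]
    [Module (ZMod p) A] : ∃ (r : ℕ) (e : Fin r → A →+ ZMod p),
      ∀ a : A, (∀ i, e i a = 0) → a = 0 := by
  haveI : NeZero p := ⟨(Fact.out : p.Prime).ne_zero⟩
  haveI := finite_dual p A
  obtain ⟨r, ⟨e⟩⟩ := Finite.exists_equiv_fin (A →ₗ[ZMod p] ZMod p)
  exact ⟨r, fun i => (e.symm i).toAddMonoidHom, fun a ha =>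
    (Module.forall_dual_apply_eq_zero_iff (ZMod p) a).1 fun ξ => by simpa using ha (e ξ)⟩

/-- Coordinates on an elementary abelian group. -/
theorem exists_coords (p : ℕ) [Fact p.Prime] {N : Type*} [Group N] [Finite N]
    (hcomm : ∀ a b : N, a * b = b * a) (hexp : ∀ a : N, a ^ p = 1) :
    ∃ (r : ℕ) (e : Fin r → N → ZMod p), (∀ i a b, e i (a * b) = e i a + e i b) ∧
      ∀ a : N, (∀ i, e i a = 0) → a = 1 := by
  letI : CommGroup N := { (inferInstance : Group N) with mul_comm := hcomm }
  have hexp' : ∀ x : Additive N, p • x = 0 := fun x => by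
    apply Additive.toMul.injective
    rw [toMul_nsmul, toMul_zero]
    exact hexp _
  haveI : Finite (Additive N) := Finite.of_equiv N Additive.ofMul
  obtain ⟨r, e, he⟩ := @exists_functionals p _ (Additive N) _ _ (AddCommGroup.zmodModule hexp')
  exact ⟨r, fun i a => e i (Additive.ofMul a), fun i a b => map_add (e i) _ _,
    fun a ha => ofMul_eq_zero.1 (he _ ha)⟩

theorem hasCentralType_aux (k : ℕ) : ∀ {G : Type u} [Group G] [Finite G], Nat.card G ≤ k →
    Group.IsSolvable G → HasCentralType G := by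
  induction k with
  | zero =>
    intro G _ _ hk
    exact absurd hk (by have := Nat.card_pos (α := G); omega)
  | succ k IH =>
    intro G _ _ hk hsolv
    classical
    haveI := hsolv
    rcases subsingleton_or_nontrivial G with hG | hG
    · refine ⟨G, inferInstance, inferInstance, fun _ => 1, ?_, fun h _ => Subsingleton.elim _ _,
        fun h hh => absurd (Subgroup.mem_center_iff.2 fun x => Subsingleton.elim _ _) hh,
        ⟨QuotientGroup.mk' _, fun a b _ => Subsingleton.elim a b⟩, ?_, ?_⟩
      · haveI := Fintype.ofFinite G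
        exact Chars.isIrrCharacter_one
      · intro r hr
        rw [Nat.card_of_subsingleton (1 : G), Nat.card_of_subsingleton (1 : Subgroup.center G)]
        simp
      · rw [Nat.card_of_subsingleton (1 : Subgroup.center G)]
        exact squarefree_one
    obtain ⟨N, hN⟩ := Base.exists_isMinimalNormal (G := G)
    haveI := hN.normal
    obtain ⟨p, hp, hcomm, helem, hpN⟩ := hN.exists_prime inferInstance
    haveI := Fact.mk hp
    have hlt : Nat.card (G ⧸ N) ≤ k := by
      have h1 := Subgroup.card_eq_card_quotient_mul_card_subgroup N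
      have h2 : 1 < Nat.card N := N.one_lt_card_iff_ne_bot.2 hN.ne_bot
      have h3 := Nat.card_pos (α := G ⧸ N)
      nlinarith
    obtain ⟨H, _, _, χ, hχ, hfaith, hvan, ⟨φ, hφ⟩, hpr, hsq⟩ := IH hlt inferInstance
    haveI := Fintype.ofFinite H
    obtain ⟨r₀, eN, heN, hsep⟩ := exists_coords p (N := N) hcomm.is_comm.comm
      fun a => Subtype.ext (by simpa using helem _ a.2)
    haveI : NeZero p := ⟨hp.ne_zero⟩
    haveI := Fintype.ofFinite (H ⧸ Subgroup.center H)
    set Hb := H ⧸ Subgroup.center H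
    letI act : MulAction H (Hb × ULift.{u} (Fin r₀)) := prodAct H (ULift.{u} (Fin r₀))
    have hsm : ∀ (h : H) (i : Hb × ULift.{u} (Fin r₀)), h • i = ((h : Hb) * i.1, i.2) :=
      fun _ _ => rfl
    have hz : ∀ z ∈ Subgroup.center H, ∀ i : Hb × ULift.{u} (Fin r₀), z • i = i := fun z hzc i => by
      rw [hsm, (QuotientGroup.eq_one_iff z).2 hzc, one_mul]
    obtain ⟨Y, _, _, ψ, hψ, hψf, hψv, ⟨g, hg⟩, hY1, hY2, hY3, hY4⟩ :=
      step (ι := Hb × ULift.{u} (Fin r₀)) (p := p) hz hχ hfaith hvan hsq
    -- the transversal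
    let R := φ.range
    let rep : Hb → Hb := fun b => (Quotient.mk (QuotientGroup.rightRel R) b).out
    have hrep : ∀ b, b * (rep b)⁻¹ ∈ R := by
      intro b
      have h := Quotient.exact (Quotient.out_eq (Quotient.mk (QuotientGroup.rightRel R) b))
      exact QuotientGroup.rightRel_apply.1 h
    choose π hπ using hrep
    have hπq : ∀ (a : G ⧸ N) (b : Hb), π (φ a * b) = a * π b := by
      intro a b
      apply hφ
      have hr : rep (φ a * b) = rep b := by
        show (Quotient.mk (QuotientGroup.rightRel R) (φ a * b)).out = _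
        congr 1
        refine Quotient.sound (QuotientGroup.rightRel_apply.2 ?_)
        rw [mul_inv_rev, ← mul_assoc, mul_inv_cancel, one_mul]
        exact inv_mem ⟨a, rfl⟩
      rw [hπ, map_mul, hπ, hr, mul_assoc]
    let s : Hb → G := fun b => (π b).out
    have hs : ∀ b, ((s b : G) : G ⧸ N) = π b := fun b => QuotientGroup.out_eq' _
    let cg : G → Hb → G := fun x b => (s b)⁻¹ * x * s ((φ (x : G ⧸ N))⁻¹ * b)
    have hcg : ∀ x b, cg x b ∈ N := by
      intro x b
      rw [← QuotientGroup.eq_one_iff]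
      show (((s b)⁻¹ * x * s ((φ (x : G ⧸ N))⁻¹ * b) : G) : G ⧸ N) = 1
      rw [QuotientGroup.mk_mul, QuotientGroup.mk_mul, QuotientGroup.mk_inv, hs, hs, ← map_inv,
        hπq]
      group
    let vg : G → Hb × ULift.{u} (Fin r₀) → ZMod p := fun x i =>
      eN i.2.down ⟨cg x i.1, hcg x i.1⟩
    let lift : G → H := fun x => (φ (x : G ⧸ N)).out
    have hlift : ∀ x, ((lift x : H) : Hb) = φ (x : G ⧸ N) := fun x => QuotientGroup.out_eq' _
    have hvmul : ∀ x y, vg (x * y) = vg x + sm (lift x) (vg y) := by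
      intro x y
      funext ⟨b, ξ⟩
      show eN ξ.down ⟨cg (x * y) b, hcg _ _⟩ =
        eN ξ.down ⟨cg x b, hcg _ _⟩ +
        vg y ((lift x)⁻¹ • (b, ξ))
      rw [hsm, QuotientGroup.mk_inv, hlift]
      show _ = _ + eN ξ.down ⟨cg y ((φ (x : G ⧸ N))⁻¹ * b), hcg _ _⟩
      rw [← heN]
      congr 1
      apply Subtype.ext
      show (s b)⁻¹ * (x * y) * s ((φ ((x * y : G) : G ⧸ N))⁻¹ * b) =
        ((s b)⁻¹ * x * s ((φ (x : G ⧸ N))⁻¹ * b)) * ((s ((φ (x : G ⧸ N))⁻¹ * b))⁻¹ * y *
          s ((φ (y : G ⧸ N))⁻¹ * ((φ (x : G ⧸ N))⁻¹ * b)))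
      rw [QuotientGroup.mk_mul, map_mul, mul_inv_rev, mul_assoc (φ (y : G ⧸ N))⁻¹]
      group
    let el : G → Ext H (Hb × ULift.{u} (Fin r₀)) p := fun x => ⟨0, vg x, 0, lift x⟩
    let f : G →* Y ⧸ Subgroup.center Y := MonoidHom.mk' (fun x => g (el x)) fun x y => by
      rw [← map_mul]
      apply (MonoidHom.eq_iff g).2
      rw [hg]
      set z := (lift x * lift y)⁻¹ * lift (x * y) with hzdef
      have hzc : z ∈ Subgroup.center H := by
        rw [← QuotientGroup.eq, QuotientGroup.mk_mul, hlift, hlift, hlift, QuotientGroup.mk_mul,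
          map_mul]
      have he : el (x * y) = el x * el y * ⟨0, 0, 0, z⟩ := by
        refine Ext.ext ?_ ?_ ?_ ?_
        · show (0 : ZMod p) = 0 + 0 + dot 0 _ + 0 + dot _ _
          simp [dot_zero_left, sm_zero, dot_zero_right]
        · show vg (x * y) = vg x + sm (lift x) (vg y) + sm _ 0
          rw [sm_zero, add_zero, hvmul]
        · show (0 : Hb × ULift.{u} (Fin r₀) → ZMod p) = 0 + sm _ 0 + sm _ 0
          simp [sm_zero]
        · show lift (x * y) = lift x * lift y * z
          rw [hzdef, mul_inv_cancel_left]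
      rw [he, ← mul_assoc, inv_mul_cancel, one_mul]
      exact ⟨rfl, rfl, hzc⟩
    have hfinj : Function.Injective f := by
      rw [injective_iff_map_eq_one]
      intro x hx
      have hmem : el x ∈ g.ker := MonoidHom.mem_ker.2 hx
      rw [hg] at hmem
      obtain ⟨hv, -, hh⟩ := hmem
      have hxN : (x : G ⧸ N) = 1 := by
        apply hφ
        rw [map_one, ← hlift]
        exact (QuotientGroup.eq_one_iff _).2 hh
      by_contra hne
      have hcne : ∀ b, cg x b ≠ 1 := by
        intro b hb
        apply hne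
        have : cg x b = (s b)⁻¹ * x * s b := by
          show (s b)⁻¹ * x * s ((φ (x : G ⧸ N))⁻¹ * b) = _
          rw [hxN, map_one, inv_one, one_mul]
        rw [this] at hb
        calc x = s b * ((s b)⁻¹ * x * s b) * (s b)⁻¹ := by group
          _ = 1 := by rw [hb]; group
      apply hcne 1
      exact congrArg Subtype.val
        (hsep ⟨cg x 1, hcg x 1⟩ fun ξ => congrFun hv ((1 : Hb), ULift.up ξ))
    refine ⟨Y, inferInstance, inferInstance, ψ, hψ, hψf, hψv, ⟨f, hfinj⟩, fun r hr => ?_, hY2⟩
    have hpG : p ∣ Nat.card G := by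
      obtain ⟨e, he⟩ := IsPGroup.iff_card.1 hpN
      have he0 : e ≠ 0 := by
        rintro rfl
        exact hN.ne_bot (Subgroup.eq_bot_of_card_eq _ (by rw [he, pow_zero]))
      exact (dvd_pow_self p he0).trans (he ▸ N.card_subgroup_dvd_card)
    have hsplit : r ∣ Nat.card G → r = p ∨ r ∣ Nat.card (G ⧸ N) := by
      intro h
      rw [Subgroup.card_eq_card_quotient_mul_card_subgroup N] at h
      rcases hr.dvd_mul.1 h with h | h
      · exact Or.inr h
      · obtain ⟨e, he⟩ := IsPGroup.iff_card.1 hpN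
        rw [he] at h
        exact Or.inl ((Nat.prime_dvd_prime_iff_eq hr hp).1 (hr.dvd_of_dvd_pow h))
    have hcenG : r ∣ Nat.card G → r ∣ Nat.card (Subgroup.center Y) := fun h => by
      rcases hsplit h with rfl | h
      · exact hY3
      · exact hY4 r hr ((hpr r hr).2.2 h)
    have hYG : r ∣ Nat.card Y → r ∣ Nat.card G := fun h => by
      rcases hY1 r hr h with rfl | h
      · exact hpG
      · exact ((hpr r hr).1.1 h).trans (Subgroup.card_quotient_dvd_card N)
    exact ⟨⟨hYG, fun h => (hcenG h).trans (Subgroup.card_subgroup_dvd_card _)⟩,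
      fun h => hYG (h.trans (Subgroup.card_subgroup_dvd_card _)), hcenG⟩

/-- **Solvable groups are subgroups of central type factor groups.** -/
theorem hasCentralType {G : Type u} [Group G] [Finite G] (h : Group.IsSolvable G) :
    HasCentralType G := hasCentralType_aux _ le_rfl h

end CfsgLib.CharApps.CentralType
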