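import Cfsg.Agent.Lib.CharApps.Kazarin
import Cfsg.Agent.Lib.Base.Fitting
import Cfsg.Agent.Lib.Base.Cores
import Cfsg.Agent.Lib.Base.MinimalNormal

/-!
# Modulo `O_p(G)` a class of `p`-power size generates an abelian subgroup
-/

set_option autoImplicit false
set_option linter.style.haveILetI false

namespace CfsgLib.CharApps.Kazarin

open Cfsg CfsgLib.Base

variable {G : Type*} [Group G] [Finite G]

/-- An element with class of `p`-power size centralizes every normal subgroup of order prime to `p`
which is nilpotent of prime power order. -/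
theorem pCore_le_centralizer_of_class {x : G} {p k : ℕ} (hp : p.Prime)
    (hx : (Subgroup.centralizer ({x} : Set G)).index = p ^ k) {q : ℕ} [Fact q.Prime] (hqp : q ≠ p) :
    pCore q G ≤ Subgroup.centralizer ({x} : Set G) := by
  set C := Subgroup.centralizer ({x} : Set G)
  have h1 : C.relIndex (pCore q G) ∣ p ^ k := hx ▸ relIndex_dvd_index C _
  obtain ⟨a, ha⟩ := (isPGroup_pCore q G).exists_card_eq
  have h2 : C.relIndex (pCore q G) ∣ q ^ a := ha ▸ Subgroup.index_dvd_card _
  have hco : Nat.Coprime (p ^ k) (q ^ a) :=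
    Nat.Coprime.pow _ _ ((Nat.coprime_primes hp (Fact.out : q.Prime)).2 (Ne.symm hqp))
  exact Subgroup.relIndex_eq_one.1 (Nat.eq_one_of_dvd_coprimes hco h1 h2)

/-- Without `O_p(G)` the conjugates of an element with class of `p`-power size commute. -/
theorem conj_comm_of_pCore_eq_bot {x : G} {p k : ℕ} [Fact p.Prime]
    (hx : (Subgroup.centralizer ({x} : Set G)).index = p ^ k) (hbot : pCore p G = ⊥) :
    ∀ a ∈ Subgroup.normalClosure ({x} : Set G), ∀ b ∈ Subgroup.normalClosure ({x} : Set G),
      a * b = b * a := by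
  set K := Subgroup.normalClosure ({x} : Set G) with hK
  haveI : K.Normal := Subgroup.normalClosure_normal
  haveI : Group.IsSolvable K := isSolvable_normalClosure x (Fact.out : p.Prime) hx
  haveI := fittingSubgroup_normal' G
  have hFx : fittingSubgroup G ≤ Subgroup.centralizer ({x} : Set G) := by
    rw [fittingSubgroup_eq_iSup_pCore]
    refine iSup_le fun q => ?_
    haveI := Fact.mk q.2
    by_cases hqp : (q : ℕ) = p
    · rw [hqp, hbot]; exact bot_le
    · exact pCore_le_centralizer_of_class (Fact.out : p.Prime) hx hqp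
  have hKF : K ≤ Subgroup.centralizer (fittingSubgroup G : Set G) := by
    refine Subgroup.normalClosure_le_normal (Set.singleton_subset_iff.2 ?_)
    exact Subgroup.mem_centralizer_iff.2 fun f hf =>
      Subgroup.mem_centralizer_singleton_iff.1 (hFx hf)
  haveI := fittingSubgroup_normal' K
  haveI : (fittingSubgroup K).Characteristic :=
    Subgroup.characteristic_iff_map_eq.2 fun e => map_fittingSubgroup_mulEquiv e
  have hle : (fittingSubgroup K).map K.subtype ≤ fittingSubgroup G :=
    le_fittingSubgroup (isNilpotent_map K.subtype (isNilpotent_fittingSubgroup K))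
  have htop : ∀ a : K, a ∈ fittingSubgroup K := fun a =>
    centralizer_fittingSubgroup_le (Subgroup.mem_centralizer_iff.2 fun f hf =>
      Subtype.ext (Subgroup.mem_centralizer_iff.1 (hKF a.2) f (hle ⟨f, hf, rfl⟩)))
  intro a ha b hb
  exact Subgroup.mem_centralizer_iff.1 (hKF hb) a (hle ⟨⟨a, ha⟩, htop _, rfl⟩)

omit [Finite G] in
theorem map_commutator_eq_one {H : Type*} [Group H] (f : G →* H) (a b : G)
    (hc : f a * f b = f b * f a) : f (a * b * a⁻¹ * b⁻¹) = 1 := by
  rw [map_mul, map_mul, map_mul, map_inv, map_inv, hc, mul_inv_cancel_right, mul_inv_cancel]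

theorem commutator_conj_mem_ker {H : Type*} [Group H] [Finite H] (f : G →* H)
    (hf : Function.Surjective f) {x : G} {p k : ℕ} [Fact p.Prime]
    (hk : (Subgroup.centralizer ({x} : Set G)).index = p ^ k) (hbot : pCore p H = ⊥) (g h : G) :
    (g * x * g⁻¹) * (h * x * h⁻¹) * (g * x * g⁻¹)⁻¹ * (h * x * h⁻¹)⁻¹ ∈ f.ker := by
  have hle : (Subgroup.centralizer ({x} : Set G)).map f ≤
      Subgroup.centralizer ({f x} : Set H) := by
    rintro _ ⟨c, hc, rfl⟩
    rw [Subgroup.mem_centralizer_singleton_iff, ← map_mul, ← map_mul]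
    exact congrArg _ (Subgroup.mem_centralizer_singleton_iff.1 hc)
  have hd : (Subgroup.centralizer ({f x} : Set H)).index ∣ p ^ k := by
    rw [← hk]
    exact (Subgroup.index_dvd_of_le hle).trans (Subgroup.index_map_dvd _ hf)
  obtain ⟨j, -, hj⟩ := (Nat.dvd_prime_pow (Fact.out : p.Prime)).1 hd
  have hmem : ∀ c, f (c * x * c⁻¹) ∈ Subgroup.normalClosure ({f x} : Set H) := fun c => by
    rw [map_mul, map_mul, map_inv]
    exact (Subgroup.normalClosure_normal (s := ({f x} : Set H))).conj_mem (f x)
      (Subgroup.subset_normalClosure (Set.mem_singleton _)) (f c)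
  exact MonoidHom.mem_ker.2 (map_commutator_eq_one f _ _
    (conj_comm_of_pCore_eq_bot hj hbot _ (hmem g) _ (hmem h)))

/-- Commutators of two conjugates of an element with class of `p`-power size lie in `O_p(G)`. -/
theorem commutator_conj_mem_pCore {x : G} {p : ℕ} [Fact p.Prime]
    (hx : ∃ k : ℕ, (Subgroup.centralizer ({x} : Set G)).index = p ^ k) (g h : G) :
    (g * x * g⁻¹) * (h * x * h⁻¹) * (g * x * g⁻¹)⁻¹ * (h * x * h⁻¹)⁻¹ ∈ pCore p G := by
  obtain ⟨k, hk⟩ := hx
  have h1 := commutator_conj_mem_ker (QuotientGroup.mk' (pCore p G))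
    (QuotientGroup.mk'_surjective _) hk (pCore_quotient_pCore p G) g h
  exact (QuotientGroup.ker_mk' (pCore p G)).le h1

end CfsgLib.CharApps.Kazarin
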