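import Cfsg.Agent.Lib.CharApps.SylowNormalizerExtend
import Cfsg.Agent.Lib.CharApps.Inflation
import Cfsg.Agent.Lib.CharApps.AbelianSylow
import Cfsg.Agent.Lib.Blocks.OrbitSum

/-!
# The sum of the squares of the degrees prime to `p`

It is at least the index of the derived subgroup of a Sylow subgroup in the Sylow normalizer, with
equality exactly when this normalizer has a normal complement.
-/

set_option autoImplicit false
set_option linter.style.haveILetI false

namespace CfsgLib.CharApps.CoprimeSquares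

open Cfsg CfsgLib CfsgLib.Chars CfsgLib.CharApps

variable {G : Type*} [Group G] [Finite G] (p : ℕ) [hp : Fact p.Prime]

/-- A subgroup centralised by no nontrivial element is in the kernel of each character of degree
prime to `p`. -/
theorem le_charKer_of_no_fixed (K : Subgroup G) [K.Normal] (P : Subgroup G) (hP : IsPGroup p P)
    (hfix : ∀ k ∈ K, (∀ a ∈ P, a * k = k * a) → k = 1) (χ : IrrCharacter G)
    (hχ : ¬ p ∣ charDegree (χ : G → ℂ)) : K ≤ charKer χ := by
  classical
  haveI := Fintype.ofFinite G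
  haveI := Fintype.ofFinite K
  obtain ⟨M, hM⟩ := exists_pModular p
  haveI : M.IsMaximal := hM.2.1
  haveI : CharP (AlgInt ⧸ M) p :=
    (CharP.charP_iff_prime_eq_zero hp.out).2 (by
      rw [← map_natCast (Ideal.Quotient.mk M), Ideal.Quotient.eq_zero_iff_mem]
      exact hM.2.2)
  letI : MulAction P K :=
    { smul := fun a k => ⟨a * k * (a : G)⁻¹, Subgroup.Normal.conj_mem inferInstance _ k.2 _⟩
      one_smul := fun k => Subtype.ext (by simp [HSMul.hSMul])
      mul_smul := fun a b k => Subtype.ext (by simp [HSMul.hSMul, mul_assoc]) }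
  have hsm : ∀ (a : P) (k : K), ((a • k : K) : G) = a * k * (a : G)⁻¹ := fun _ _ => rfl
  let v : K → AlgInt := fun k => ⟨(χ : G → ℂ) k, char_isIntegral (isCharacter_of_irr χ.2) _⟩
  have hsum := Blocks.sum_eq_sum_fixedPoints p hP (fun k => Ideal.Quotient.mk M (v k))
    (fun a k => congrArg _ (Subtype.ext (by
      show (χ : G → ℂ) ((a • k : K) : G) = (χ : G → ℂ) k
      rw [hsm, isClassFunction_irr χ])))
  have hfp : Finset.univ.filter (fun k : K => k ∈ MulAction.fixedPoints P K) = {1} := by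
    ext k
    simp only [Finset.mem_filter, Finset.mem_univ, true_and, Finset.mem_singleton,
      MulAction.mem_fixedPoints]
    refine ⟨fun h => Subtype.ext (hfix k k.2 fun a ha => ?_), fun h a => ?_⟩
    · have h1 := congrArg Subtype.val (h ⟨a, ha⟩)
      rw [hsm] at h1
      exact mul_inv_eq_iff_eq_mul.mp h1
    · subst h; exact Subtype.ext (by rw [hsm]; simp)
  rw [hfp, Finset.sum_singleton, ← map_sum] at hsum
  let one : IrrCharacter K := principal K
  have hres : IsCharacter K fun k : K => (χ : G → ℂ) k :=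
    isCharacter_restrict K (isCharacter_of_irr χ.2)
  obtain ⟨m, hm⟩ := inner_char_nat hres (isCharacter_of_irr one.2)
  have htot : ∑ k : K, (χ : G → ℂ) k = ((Nat.card K * m : ℕ) : ℂ) := by
    rw [inner_def] at hm
    have h2 := (inv_mul_eq_iff_eq_mul₀ (card_ne_zero K)).mp hm
    push_cast
    rw [← h2]
    simp [one, principal_apply]
  have h1 : (∑ k : K, v k) = ((Nat.card K * m : ℕ) : AlgInt) := by
    apply Subtype.ext
    rw [AddSubmonoidClass.coe_finsetSum]
    simpa [v] using htot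
  have h2 : v 1 = ((charDegree (χ : G → ℂ) : ℕ) : AlgInt) := by
    apply Subtype.ext
    show (χ : G → ℂ) ((1 : K) : G) = _
    rw [OneMemClass.coe_one, deg_eq]
    simp
  rw [h1, h2, map_natCast, map_natCast] at hsum
  have hm0 : m ≠ 0 := by
    rintro rfl
    rw [Nat.mul_zero, Nat.cast_zero] at hsum
    exact hχ ((CharP.cast_eq_zero_iff (AlgInt ⧸ M) p _).mp hsum.symm)
  have hne : classInner (fun k : K => (χ : G → ℂ) k) (one : K → ℂ) ≠ 0 := by
    rw [hm]; exact_mod_cast hm0
  intro k hk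
  have hr := fun n => CharsMore.restrict_eq_mul_of_invariant K χ.2 one.2
    (fun _ _ => by simp [one, principal_apply]) hne n
  have e1 := hr ⟨k, hk⟩
  have e2 := hr 1
  simp only [one, principal_apply, mul_one, OneMemClass.coe_one] at e1 e2
  exact e1.trans e2.symm

variable {p}

/-- The sum of the squares of the degrees prime to `p`. -/
noncomputable def total (p : ℕ) (G : Type*) [Group G] : ℕ :=
  ∑ᶠ χ : {χ : IrrCharacter G // ¬ p ∣ charDegree (χ : G → ℂ)}, charDegree (χ.1 : G → ℂ) ^ 2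

variable {N : Subgroup G} {PN : Subgroup N} [PN.Normal]

/-- With a normal Sylow subgroup, the characters of degree prime to `p` are those trivial on its
derived subgroup. -/
theorem le_charKer_iff (hPN : IsPGroup p PN) (hidx : ¬ p ∣ PN.index) (θ : IrrCharacter N) :
    ⁅PN, PN⁆ ≤ charKer θ ↔ ¬ p ∣ charDegree (θ : N → ℂ) := by
  classical
  haveI := Fintype.ofFinite N
  haveI := Fintype.ofFinite PN
  constructor
  · intro hθ hdvd
    obtain ⟨ψ, hψ, he⟩ := Chars.exists_deflate_irr ⁅PN, PN⁆ θ.2 (fun x hx => hθ hx)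
    haveI := Fintype.ofFinite (N ⧸ ⁅PN, PN⁆)
    haveI : (PN.map (QuotientGroup.mk' ⁅PN, PN⁆)).Normal :=
      Subgroup.Normal.map inferInstance _ (QuotientGroup.mk'_surjective _)
    haveI := Fintype.ofFinite (PN.map (QuotientGroup.mk' ⁅PN, PN⁆))
    obtain ⟨k, hk, hkd⟩ := CharsMore.ito_degree_dvd (PN.map (QuotientGroup.mk' ⁅PN, PN⁆)) (by
      rintro _ ⟨a, ha, rfl⟩ _ ⟨b, hb, rfl⟩
      rw [← commutatorElement_eq_one_iff_mul_comm, ← map_commutatorElement, QuotientGroup.mk'_apply,
        QuotientGroup.eq_one_iff]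
      exact Subgroup.commutator_mem_commutator ha hb) hψ
    have h1 : (θ : N → ℂ) 1 = (k : ℂ) := by rw [he]; exact hk
    rw [deg_eq, Nat.cast_inj] at h1
    exact hidx (hdvd.trans (h1 ▸ hkd.trans (PN.index_map_dvd (QuotientGroup.mk'_surjective _))))
  · intro hθ
    obtain ⟨η, hη⟩ := CharsMore.exists_below PN θ.2
    obtain ⟨k, -, hk, -⟩ := CharsMore.degree_quotient PN θ.2 η.2 hη
    obtain ⟨e, -, he, hed⟩ := irr_degree_dvd_card η.2
    obtain ⟨a, ha⟩ := hPN.exists_card_eq
    rw [ha] at hed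
    obtain ⟨i, -, rfl⟩ := (Nat.dvd_prime_pow hp.out).mp hed
    have hi : i = 0 := by
      by_contra hi
      refine hθ ?_
      have h1 : ((charDegree (θ : N → ℂ) : ℕ) : ℂ) = ((k * p ^ i : ℕ) : ℂ) := by
        rw [← deg_eq, hk, he]; push_cast; ring
      rw [Nat.cast_inj.mp h1]
      exact dvd_mul_of_dvd_right (dvd_pow_self p hi) _
    subst hi
    obtain ⟨lam, hlam⟩ := exists_hom_of_degree_one (isCharacter_of_irr η.2)
      (by simpa using he)
    intro d hd
    have hdP : d ∈ PN := Subgroup.commutator_le_self PN hd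
    have hcl := CharsMore.clifford PN θ.2 η.2 hη
    have hval : ∀ φ ∈ CharsMore.orbitFn PN (η : PN → ℂ), φ ⟨d, hdP⟩ = φ 1 := by
      intro φ hφ
      obtain ⟨g, rfl⟩ := (CharsMore.mem_orbitFn PN).1 hφ
      show (η : PN → ℂ) (CharsMore.conjBy PN g ⟨d, hdP⟩) = (η : PN → ℂ) (CharsMore.conjBy PN g 1)
      rw [map_one]
      have hmem : CharsMore.conjBy PN g ⟨d, hdP⟩ ∈ commutator PN := by
        have h1 : d ∈ (commutator PN).map PN.subtype := by
          rw [Subgroup.map_subtype_commutator]; exact hd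
        obtain ⟨c, hc, hcd⟩ := h1
        have hc' : (⟨d, hdP⟩ : PN) = c := Subtype.ext hcd.symm
        rw [hc']
        have hle : (commutator PN).map (CharsMore.conjBy PN g) ≤ commutator PN := by
          rw [commutator_def, Subgroup.map_commutator]
          exact Subgroup.commutator_mono le_top le_top
        exact hle (Subgroup.mem_map_of_mem _ hc)
      have hker : commutator PN ≤ lam.ker := Abelianization.commutator_subset_ker lam
      rw [hlam]
      simp [MonoidHom.mem_ker.mp (hker hmem)]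
    have e1 := congrFun hcl ⟨d, hdP⟩
    have e2 := congrFun hcl 1
    simp only [Pi.smul_apply, Finset.sum_apply, smul_eq_mul] at e1 e2
    rw [Finset.sum_congr rfl hval, ← e2] at e1
    rw [mem_charKer]
    simpa using e1

omit [PN.Normal] in
/-- Decomposition of the degree of a restriction. -/
theorem degree_restrict_eq [Fintype N] [Fintype (IrrCharacter N)] (χ : IrrCharacter G) :
    charDegree (χ : G → ℂ) = ∑ θ : IrrCharacter N,
      CharsMore.multNat (fun n : N => (χ : G → ℂ) n) θ * charDegree (θ : N → ℂ) := by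
  have h := congrFun (CharsMore.char_eq_sum_multNat
    (isCharacter_restrict N (isCharacter_of_irr χ.2))) 1
  simp only [Finset.sum_apply, Pi.smul_apply, smul_eq_mul, OneMemClass.coe_one, deg_eq] at h
  exact_mod_cast h

omit [PN.Normal] in
/-- A character of degree prime to `p` has one above it when the index is prime to `p`. -/
theorem exists_over_coprime [Fintype N] (hN : ¬ p ∣ N.index) (θ : IrrCharacter N)
    (hθ : ¬ p ∣ charDegree (θ : N → ℂ)) :
    ∃ χ : IrrCharacter G, ¬ p ∣ charDegree (χ : G → ℂ) ∧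
      CharsMore.multNat (fun n : N => (χ : G → ℂ) n) θ ≠ 0 := by
  classical
  haveI := Fintype.ofFinite G
  letI := irrFintype G
  by_contra hne
  push Not at hne
  have hc := isCharacter_indFun (H := N) (isCharacter_of_irr θ.2)
  have h := congrFun (classFun_eq_sum (isClassFunction_of_isCharacter hc)) 1
  simp only [Finset.sum_apply, Pi.smul_apply, smul_eq_mul, indFun_one_apply, deg_eq] at h
  have h' : N.index * charDegree (θ : N → ℂ) = ∑ χ : IrrCharacter G,
      CharsMore.multNat (fun n : N => (χ : G → ℂ) n) θ * charDegree (χ : G → ℂ) := by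
    rw [← Nat.cast_inj (R := ℂ)]
    push_cast
    rw [h]
    refine Finset.sum_congr rfl fun χ _ => ?_
    rw [inner_indFun N θ.1 (isClassFunction_irr χ), CharsMore.conj_inner
      (isCharacter_restrict N (isCharacter_of_irr χ.2)) (isCharacter_of_irr θ.2),
      CharsMore.inner_eq_multNat (isCharacter_restrict N (isCharacter_of_irr χ.2))
      (isCharacter_of_irr θ.2)]
  have hd : p ∣ N.index * charDegree (θ : N → ℂ) := by
    rw [h']
    refine Finset.dvd_sum fun χ _ => ?_
    by_cases hχ : p ∣ charDegree (χ : G → ℂ)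
    · exact dvd_mul_of_dvd_right hχ _
    · rw [hne χ hχ, zero_mul]; exact dvd_zero _
  exact (hp.out.dvd_mul.mp hd).elim hN hθ

/-- The degrees prime to `p` of a group with a normal Sylow subgroup. -/
theorem total_eq_index (hPN : IsPGroup p PN) (hidx : ¬ p ∣ PN.index) :
    total p N = (⁅PN, PN⁆ : Subgroup N).index := by
  classical
  haveI := Fintype.ofFinite N
  letI := irrFintype N
  set D : Subgroup N := ⁅PN, PN⁆ with hD
  letI := irrFintype (N ⧸ D)
  rw [total, finsum_eq_sum_of_fintype]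
  let e : IrrCharacter (N ⧸ D) ≃ {θ : IrrCharacter N // ¬ p ∣ charDegree (θ : N → ℂ)} :=
    (inflateEquiv D).trans (Equiv.subtypeEquivRight fun θ => le_charKer_iff hPN hidx θ)
  rw [← Equiv.sum_comp e, Subgroup.index_eq_card, ← Nat.cast_inj (R := ℂ), ← sum_degree_sq]
  push_cast
  refine Finset.sum_congr rfl fun ψ _ => ?_
  show ((charDegree (inflate D ψ : N → ℂ) : ℕ) : ℂ) ^ 2 = _
  rw [inflate_charDegree, deg_eq]

omit [PN.Normal] in
/-- The comparison with a subgroup of index prime to `p`, and the case of equality. -/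
theorem total_le (hN : ¬ p ∣ N.index) :
    total p N ≤ total p G ∧ (total p N = total p G →
      ∀ θ : IrrCharacter N, ¬ p ∣ charDegree (θ : N → ℂ) →
        ∃ χ : IrrCharacter G, ∀ x : N, (χ : G → ℂ) x = (θ : N → ℂ) x) := by
  classical
  haveI := Fintype.ofFinite G
  haveI := Fintype.ofFinite N
  letI := irrFintype G
  letI := irrFintype N
  simp only [total, finsum_eq_sum_of_fintype]
  let a : {χ : IrrCharacter G // ¬ p ∣ charDegree (χ : G → ℂ)} →
      {θ : IrrCharacter N // ¬ p ∣ charDegree (θ : N → ℂ)} → ℕ := fun χ θ =>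
    CharsMore.multNat (fun n : N => (χ.1 : G → ℂ) n) θ.1 * charDegree (θ.1 : N → ℂ)
  have hle : ∀ χ, ∑ θ, a χ θ ≤ charDegree (χ.1 : G → ℂ) := fun χ => by
    rw [degree_restrict_eq (N := N) χ.1]
    rw [← Finset.sum_subtype (Finset.univ.filter fun θ : IrrCharacter N =>
      ¬ p ∣ charDegree (θ : N → ℂ)) (fun θ => by simp) (fun θ : IrrCharacter N =>
        CharsMore.multNat (fun n : N => (χ.1 : G → ℂ) n) θ * charDegree (θ : N → ℂ))]
    exact Finset.sum_le_sum_of_subset (Finset.subset_univ _)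
  have hex : ∀ θ : {θ : IrrCharacter N // ¬ p ∣ charDegree (θ : N → ℂ)},
      ∃ χ, charDegree (θ.1 : N → ℂ) ≤ a χ θ := fun θ => by
    obtain ⟨χ, hχ, hm⟩ := exists_over_coprime hN θ.1 θ.2
    exact ⟨⟨χ, hχ⟩, Nat.le_mul_of_pos_left _ (Nat.pos_of_ne_zero hm)⟩
  have h1 : ∀ θ, charDegree (θ.1 : N → ℂ) ^ 2 ≤ ∑ χ, a χ θ ^ 2 := fun θ => by
    obtain ⟨χ, hχ⟩ := hex θ
    exact (Nat.pow_le_pow_left hχ 2).trans
      (Finset.single_le_sum (f := fun χ => a χ θ ^ 2) (fun _ _ => Nat.zero_le _) (Finset.mem_univ χ))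
  have ha : ∀ χ θ, a χ θ ≤ charDegree (χ.1 : G → ℂ) := fun χ θ =>
    (Finset.single_le_sum (f := a χ) (fun _ _ => Nat.zero_le _) (Finset.mem_univ θ)).trans (hle χ)
  have h2 : ∀ χ, ∑ θ, a χ θ ^ 2 ≤ ∑ θ, a χ θ * charDegree (χ.1 : G → ℂ) := fun χ =>
    Finset.sum_le_sum fun θ _ => by rw [sq]; exact Nat.mul_le_mul_left _ (ha χ θ)
  have h3 : ∀ χ, ∑ θ, a χ θ * charDegree (χ.1 : G → ℂ) ≤ charDegree (χ.1 : G → ℂ) ^ 2 := fun χ => by
    rw [← Finset.sum_mul, sq]; exact Nat.mul_le_mul_right _ (hle χ)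
  have hA := Finset.sum_le_sum (s := Finset.univ) fun θ _ => h1 θ
  have hB := Finset.sum_le_sum (s := Finset.univ) fun χ _ => (h2 χ).trans (h3 χ)
  rw [Finset.sum_comm] at hA
  refine ⟨hA.trans hB, fun heq θ hθ => ?_⟩
  obtain ⟨χ, hχ, hm⟩ := exists_over_coprime hN θ hθ
  have hBeq := (Finset.sum_eq_sum_iff_of_le fun χ _ => (h2 χ).trans (h3 χ)).mp
    (le_antisymm hB (heq ▸ hA)) ⟨χ, hχ⟩ (Finset.mem_univ _)
  have hAeq := (Finset.sum_eq_sum_iff_of_le fun θ _ => h1 θ).mp
    (by rw [Finset.sum_comm (s := (Finset.univ : Finset {θ : IrrCharacter N //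
      ¬ p ∣ charDegree (θ : N → ℂ)}))]; exact le_antisymm hA (heq ▸ hB)) ⟨θ, hθ⟩ (Finset.mem_univ _)
  have hterm := (Finset.sum_eq_sum_iff_of_le fun η _ => by
    rw [sq]; exact Nat.mul_le_mul_left _ (ha ⟨χ, hχ⟩ η)).mp
    (le_antisymm (h2 ⟨χ, hχ⟩) ((h3 ⟨χ, hχ⟩).trans hBeq.ge)) ⟨θ, hθ⟩ (Finset.mem_univ _)
  have hpos : 0 < a ⟨χ, hχ⟩ ⟨θ, hθ⟩ := Nat.mul_pos (Nat.pos_of_ne_zero hm) (deg_pos θ)
  rw [sq] at hterm
  have hdeq := Nat.eq_of_mul_eq_mul_left hpos hterm
  have hsmall : a ⟨χ, hχ⟩ ⟨θ, hθ⟩ ^ 2 ≤ charDegree (θ : N → ℂ) ^ 2 :=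
    (Finset.single_le_sum (f := fun χ => a χ ⟨θ, hθ⟩ ^ 2) (fun _ _ => Nat.zero_le _)
      (Finset.mem_univ _)).trans hAeq.ge
  have hd : charDegree (χ : G → ℂ) ≤ charDegree (θ : N → ℂ) := by
    rw [← hdeq]
    exact (Nat.pow_le_pow_iff_left two_ne_zero).mp hsmall
  refine ⟨χ, fun x => ?_⟩
  have := CharsMore.eq_of_constituent_degree (isCharacter_restrict N (isCharacter_of_irr χ.2)) θ.2
    (by rw [CharsMore.inner_eq_multNat (isCharacter_restrict N (isCharacter_of_irr χ.2))
      (isCharacter_of_irr θ.2)]; exact_mod_cast hm) (d := charDegree (χ : G → ℂ))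
    (by rw [OneMemClass.coe_one, deg_eq]) (deg_eq θ) hd
  exact congrFun this x

omit [PN.Normal] in
/-- A normal complement gives equality. -/
theorem total_le_of_complement (K : Subgroup G) [K.Normal] (hKN : K ⊔ N = ⊤)
    (hker : ∀ χ : IrrCharacter G, ¬ p ∣ charDegree (χ : G → ℂ) → K ≤ charKer χ) :
    total p G ≤ total p N := by
  classical
  haveI := Fintype.ofFinite G
  haveI := Fintype.ofFinite N
  letI := irrFintype G
  letI := irrFintype N
  simp only [total, finsum_eq_sum_of_fintype]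
  have hdec : ∀ g : G, ∃ k ∈ K, ∃ n ∈ N, k * n = g := fun g => by
    have h : g ∈ ((K ⊔ N : Subgroup G) : Set G) := by rw [hKN]; trivial
    rw [Subgroup.normal_mul] at h
    exact Set.mem_mul.mp h
  have hsurj : Function.Surjective ((QuotientGroup.mk' K).comp N.subtype) := fun q => by
    obtain ⟨g, rfl⟩ := QuotientGroup.mk'_surjective K q
    obtain ⟨k, hk, n, hn, rfl⟩ := hdec g
    refine ⟨⟨n, hn⟩, ?_⟩
    show (n : G ⧸ K) = ((k * n : G) : G ⧸ K)
    rw [QuotientGroup.mk_mul, (QuotientGroup.eq_one_iff k).mpr hk, one_mul]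
  have hirr : ∀ χ : {χ : IrrCharacter G // ¬ p ∣ charDegree (χ : G → ℂ)},
      IsIrrCharacter N fun n : N => (χ.1 : G → ℂ) n := fun χ => by
    obtain ⟨ψ, hψ⟩ := exists_inflate K χ.1 (hker χ.1 χ.2)
    have h := isIrrCharacter_comp ((QuotientGroup.mk' K).comp N.subtype) hsurj ψ.2
    rw [← hψ]
    exact h
  have hdeg : ∀ χ : {χ : IrrCharacter G // ¬ p ∣ charDegree (χ : G → ℂ)},
      charDegree (fun n : N => (χ.1 : G → ℂ) n) = charDegree (χ.1 : G → ℂ) := fun χ => by
    simp [charDegree]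
  let f : {χ : IrrCharacter G // ¬ p ∣ charDegree (χ : G → ℂ)} →
      {θ : IrrCharacter N // ¬ p ∣ charDegree (θ : N → ℂ)} := fun χ =>
    ⟨⟨_, hirr χ⟩, by rw [hdeg]; exact χ.2⟩
  have hf : Function.Injective f := by
    intro χ χ' h
    refine Subtype.ext (Subtype.ext (funext fun g => ?_))
    obtain ⟨k, hk, n, hn, rfl⟩ := hdec g
    have hn' := congrFun (congrArg (fun t => ((t.1 : IrrCharacter N) : N → ℂ)) h) ⟨n, hn⟩
    rw [(char_mul_of_mem_ker (isCharacter_of_irr χ.1.2) (hker χ.1 χ.2 hk) n).1,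
      (char_mul_of_mem_ker (isCharacter_of_irr χ'.1.2) (hker χ'.1 χ'.2 hk) n).1]
    exact hn'
  calc ∑ χ : {χ : IrrCharacter G // ¬ p ∣ charDegree (χ : G → ℂ)}, charDegree (χ.1 : G → ℂ) ^ 2
      = ∑ χ, charDegree ((f χ).1 : N → ℂ) ^ 2 :=
        Finset.sum_congr rfl fun χ _ => by rw [← hdeg χ]
    _ = ∑ θ ∈ Finset.univ.image f, charDegree (θ.1 : N → ℂ) ^ 2 :=
        (Finset.sum_image (f := fun θ : {θ : IrrCharacter N // ¬ p ∣ charDegree (θ : N → ℂ)} =>
          charDegree (θ.1 : N → ℂ) ^ 2) fun a _ b _ h => hf h).symm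
    _ ≤ _ := Finset.sum_le_sum_of_subset (Finset.subset_univ _)

/-- The theorem on the sum of the squares of the degrees prime to `p`. -/
theorem main (P : Sylow p G) :
    Nat.card (Subgroup.normalizer ((P : Subgroup G) : Set G)) ≤
        Nat.card (commutator ↥(P : Subgroup G)) * total p G ∧
      (Nat.card (Subgroup.normalizer ((P : Subgroup G) : Set G)) =
          Nat.card (commutator ↥(P : Subgroup G)) * total p G ↔
        ∃ K : Subgroup G, K.Normal ∧ K ⊓ Subgroup.normalizer ((P : Subgroup G) : Set G) = ⊥ ∧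
          K ⊔ Subgroup.normalizer ((P : Subgroup G) : Set G) = ⊤) := by
  classical
  set N : Subgroup G := Subgroup.normalizer ((P : Subgroup G) : Set G) with hN
  have hPle : (P : Subgroup G) ≤ N := Subgroup.le_normalizer
  set PN : Subgroup N := (P : Subgroup G).subgroupOf N with hPNdef
  haveI : PN.Normal := (Subgroup.normal_subgroupOf_iff_le_normalizer hPle).mpr le_rfl
  have hPNp : IsPGroup p PN := P.2.of_equiv (Subgroup.subgroupOfEquivOfLe hPle).symm
  have hidx : ¬ p ∣ PN.index := fun h =>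
    P.not_dvd_index (h.trans (Subgroup.relIndex_dvd_index_of_le hPle))
  have hNidx : ¬ p ∣ N.index := fun h => P.not_dvd_index (h.trans (Subgroup.index_dvd_of_le hPle))
  have hD : Nat.card (commutator ↥(P : Subgroup G)) = Nat.card (⁅PN, PN⁆ : Subgroup N) := by
    have h1 : (⁅PN, PN⁆ : Subgroup N).map N.subtype =
        (commutator ↥(P : Subgroup G)).map (P : Subgroup G).subtype := by
      rw [Subgroup.map_commutator, hPNdef, Subgroup.map_subgroupOf_eq_of_le hPle,
        Subgroup.map_subtype_commutator]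
    rw [Nat.card_congr (Subgroup.equivMapOfInjective _ (P : Subgroup G).subtype
      (P : Subgroup G).subtype_injective).toEquiv, ← h1,
      ← Nat.card_congr (Subgroup.equivMapOfInjective _ N.subtype N.subtype_injective).toEquiv]
  have hcard : Nat.card N = Nat.card (commutator ↥(P : Subgroup G)) * total p N := by
    rw [hD, total_eq_index hPNp hidx, Subgroup.card_mul_index]
  obtain ⟨hle, heq⟩ := total_le (G := G) hNidx
  have hDpos : 0 < Nat.card (commutator ↥(P : Subgroup G)) := Nat.card_pos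
  refine ⟨hcard ▸ Nat.mul_le_mul_left _ hle, ⟨fun h => ?_, ?_⟩⟩
  · obtain ⟨K, hK, hsup, hinf⟩ := exists_normal_complement_of_extendible P N hN
      (heq (Nat.eq_of_mul_eq_mul_left hDpos (hcard.symm.trans h)))
    exact ⟨K, hK, hinf, hsup⟩
  · rintro ⟨K, hK, hinf, hsup⟩
    haveI := hK
    rw [hcard, le_antisymm hle (total_le_of_complement K hsup fun χ hχ =>
      le_charKer_of_no_fixed p K P P.2 (fun k hk hc => ?_) χ hχ)]
    have hkN : k ∈ N := Subgroup.centralizer_le_normalizer _
      (Subgroup.mem_centralizer_iff.mpr fun a ha => hc a ha)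
    have : k ∈ K ⊓ N := ⟨hk, hkN⟩
    rwa [hinf, Subgroup.mem_bot] at this

end CfsgLib.CharApps.CoprimeSquares
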