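import Mathlib

/-!
# Average size of fixed point subgroups

If a group acts irreducibly and nontrivially on an elementary abelian group and the image has an
abelian normal subgroup of coprime order, then on average an element fixes at most the square root.
-/

set_option autoImplicit false
set_option linter.style.haveILetI false

namespace CfsgLib.CharApps.FixedAvg

open Subgroup

variable {V : Type*} [CommGroup V]

/-- The points fixed by an automorphism. -/
def fix (x : MulAut V) : Subgroup V := x.toMonoidHom.eqLocus (MonoidHom.id V)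

theorem mem_fix {x : MulAut V} {a : V} : a ∈ fix x ↔ x a = a := Iff.rfl

/-- The points fixed by a group of automorphisms. -/
def fixAll (H : Subgroup (MulAut V)) : Subgroup V := ⨅ h ∈ H, fix h

theorem mem_fixAll {H : Subgroup (MulAut V)} {a : V} : a ∈ fixAll H ↔ ∀ h ∈ H, h a = a := by
  simp only [fixAll, Subgroup.mem_iInf]; exact Iff.rfl

theorem card_mul_le [Finite V] {A B₁ B₂ : Subgroup V} (h1 : B₁ ≤ A) (h2 : B₂ ≤ A)
    (hd : B₁ ⊓ B₂ = ⊥) : Nat.card B₁ * Nat.card B₂ ≤ Nat.card A := by
  rw [← Nat.card_prod]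
  refine Nat.card_le_card_of_injective
    (fun b => (⟨(b.1 : V) * (b.2 : V), A.mul_mem (h1 b.1.2) (h2 b.2.2)⟩ : A)) ?_
  rintro ⟨a, b⟩ ⟨a', b'⟩ h
  have h' : (a : V) * b = a' * b' := congrArg Subtype.val h
  have hmem : (a' : V)⁻¹ * a ∈ B₁ ⊓ B₂ := by
    refine ⟨B₁.mul_mem (B₁.inv_mem a'.2) a.2, ?_⟩
    have : (a' : V)⁻¹ * a = b' * (b : V)⁻¹ := by
      rw [eq_mul_inv_iff_mul_eq, mul_assoc, h', inv_mul_cancel_left]
    show (a' : V)⁻¹ * a ∈ B₂
    rw [this]
    exact B₂.mul_mem b'.2 (B₂.inv_mem b.2)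
  rw [hd, Subgroup.mem_bot, inv_mul_eq_one] at hmem
  have ha : a' = a := Subtype.ext hmem
  subst ha
  exact Prod.ext rfl (Subtype.ext (mul_left_cancel h'))

section trace

variable [Finite V] (H : Subgroup (MulAut V)) [Fintype H]

/-- The product over the orbit map of a finite group of automorphisms. -/
noncomputable def trace : V →* V where
  toFun a := ∏ h : H, (h : MulAut V) a
  map_one' := by simp
  map_mul' a b := by simp [Finset.prod_mul_distrib]

theorem trace_apply (a : V) : trace H a = ∏ h : H, (h : MulAut V) a := rfl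

theorem trace_mem_fixAll (a : V) : trace H a ∈ fixAll H := by
  rw [mem_fixAll]
  intro k hk
  rw [trace_apply, map_prod]
  exact Fintype.prod_equiv (Equiv.mulLeft (⟨k, hk⟩ : H)) _ _ fun h => rfl

theorem trace_of_fixed {a : V} (ha : a ∈ fixAll H) : trace H a = a ^ Nat.card H := by
  rw [trace_apply, Finset.prod_congr rfl fun (h : H) _ => mem_fixAll.1 ha (h : MulAut V) h.2,
    Finset.prod_const, Nat.card_eq_fintype_card, Finset.card_univ]

theorem eq_one_of_trace (hcop : (Nat.card H).Coprime (Nat.card V)) {a : V} (ha : a ∈ fixAll H)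
    (h : trace H a = 1) : a = 1 := by
  rw [trace_of_fixed H ha] at h
  rw [← orderOf_eq_one_iff]
  exact Nat.eq_one_of_dvd_coprimes hcop (orderOf_dvd_of_pow_eq_one h) (orderOf_dvd_natCard a)

theorem trace_comm {x : MulAut V} (hx : ∀ h : MulAut V, h ∈ H ↔ x * h * x⁻¹ ∈ H) (a : V) :
    trace H (x a) = x (trace H a) := by
  rw [trace_apply, trace_apply, map_prod]
  let e : H ≃ H :=
    { toFun := fun h => ⟨x * h * x⁻¹, (hx _).1 h.2⟩
      invFun := fun h => ⟨x⁻¹ * h * x, (hx _).2 (by simp [mul_assoc])⟩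
      left_inv := fun h => by ext; simp [mul_assoc]
      right_inv := fun h => by ext; simp [mul_assoc] }
  refine (Fintype.prod_equiv e _ _ fun h => ?_).symm
  show x ((h : MulAut V) a) = (x * (h : MulAut V) * x⁻¹) (x a)
  simp

end trace

/-- The key bound on a coset of an abelian coprime group of automorphisms. -/
theorem coset_bound [Finite V] (M : Subgroup (MulAut V)) [Fintype M]
    (hab : ∀ a ∈ M, ∀ b ∈ M, a * b = b * a) (hcop : (Nat.card M).Coprime (Nat.card V))
    (g : MulAut V) (hg : ∀ h : MulAut V, h ∈ M ↔ g * h * g⁻¹ ∈ M) :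
    ∀ A : Subgroup V, (∀ a ∈ A, g a ∈ A) → (∀ m ∈ M, ∀ a ∈ A, m a ∈ A) → A ⊓ fixAll M = ⊥ →
      (∏ m : M, Nat.card ↥(A ⊓ fix (g * (m : MulAut V)))) ^ 2 ≤ Nat.card A ^ Fintype.card M := by
  classical
  haveI : Finite (MulAut V) := DFunLike.finite _
  intro A
  induction A using WellFoundedLT.induction with
  | ind A ih =>
    intro hgA hMA hfpf
    by_cases hA : A = ⊥
    · subst hA
      have h1 : ∀ m : M, Nat.card ↥((⊥ : Subgroup V) ⊓ fix (g * (m : MulAut V))) = 1 := fun m => by
        rw [bot_inf_eq, Subgroup.card_bot]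
      rw [Finset.prod_congr rfl fun m _ => h1 m]
      simp
    obtain ⟨H, ⟨hHM, hHne⟩, hmax⟩ := (Set.toFinite {H : Subgroup (MulAut V) | H ≤ M ∧
      A ⊓ fixAll H ≠ ⊥}).exists_maximal ⟨⊥, bot_le, by
        intro h
        refine hA (eq_bot_iff.2 fun a ha => h ▸ ⟨ha, mem_fixAll.2 fun k hk => ?_⟩)
        rw [Subgroup.mem_bot.1 hk]; rfl⟩
    have hbig : ∀ K : Subgroup (MulAut V), H ≤ K → K ≤ M → ¬ K ≤ H → A ⊓ fixAll K = ⊥ := fun K h1 h2 h3 =>
      by_contra fun h => h3 (hmax ⟨h2, h⟩ h1)
    haveI : Fintype H := Fintype.ofFinite _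
    have hcopH : (Nat.card H).Coprime (Nat.card V) :=
      hcop.coprime_dvd_left (Subgroup.card_dvd_of_le hHM)
    have hMH : ∀ m ∈ M, ∀ h : MulAut V, h ∈ H ↔ m * h * m⁻¹ ∈ H := by
      intro m hm h
      constructor
      · intro hh; rwa [hab m hm h (hHM hh), mul_inv_cancel_right]
      · intro hh
        have h2 : h ∈ M := by
          have := M.mul_mem (M.mul_mem (M.inv_mem hm) (hHM hh)) hm
          simpa [mul_assoc] using this
        rwa [hab m hm h h2, mul_inv_cancel_right] at hh
    have htrA : ∀ a ∈ A, trace H a ∈ A := fun a ha =>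
      A.prod_mem fun h _ => hMA _ (hHM h.2) a ha
    set U := A ⊓ fixAll H with hU
    have hUM : ∀ m ∈ M, ∀ u ∈ U, m u ∈ U := fun m hm u hu => ⟨hMA m hm u hu.1, mem_fixAll.2 fun h hh => by
      show (h * m) u = m u
      rw [hab h (hHM hh) m hm]
      show m (h u) = m u
      rw [mem_fixAll.1 hu.2 h hh]⟩
    set K := A ⊓ (trace H).ker with hK
    have hUK : U ⊓ K = ⊥ := eq_bot_iff.2 fun a ha => eq_one_of_trace H hcopH ha.1.2 ha.2.2
    have hKA : K < A := lt_of_le_of_ne inf_le_left fun h => hHne (eq_bot_iff.2 fun a ha =>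
      hUK ▸ ⟨ha, h.symm ▸ ha.1⟩)
    -- the component of `a` in `U`
    obtain ⟨k, hk⟩ : ∃ k : ℕ, ∀ a : V, a ^ (Nat.card H * k) = a := by
      refine ⟨Nat.card H ^ ((Nat.card V).totient - 1), fun a => ?_⟩
      have hpos : 1 ≤ (Nat.card V).totient := Nat.totient_pos.2 Nat.card_pos
      rw [← pow_succ', Nat.sub_add_cancel hpos]
      conv_rhs => rw [← pow_one a]
      exact pow_eq_pow_iff_modEq.2
        ((Nat.ModEq.pow_totient hcopH).of_dvd (orderOf_dvd_natCard a))
    have hproj : ∀ a ∈ A, a * (trace H a ^ k)⁻¹ ∈ K := fun a ha => ⟨A.mul_mem ha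
      (A.inv_mem (A.pow_mem (htrA a ha) k)), by
      show trace H (a * (trace H a ^ k)⁻¹) = 1
      rw [map_mul, map_inv, map_pow, trace_of_fixed H (trace_mem_fixAll H a), ← pow_mul, hk,
        mul_inv_cancel]⟩
    by_cases hgH : ∀ h : MulAut V, h ∈ H ↔ g * h * g⁻¹ ∈ H
    · -- `H` is invariant
      have hgU : ∀ u ∈ U, g u ∈ U := fun u hu => ⟨hgA u hu.1, mem_fixAll.2 fun h hh => by
        have hh' : g⁻¹ * h * g ∈ H := (hgH _).2 (by simpa [mul_assoc] using hh)
        have := congrArg g (mem_fixAll.1 hu.2 _ hh')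
        simpa using this⟩
      by_cases hK0 : K = ⊥
      · -- `H` acts trivially: pair the elements
        have hAU : A = U := le_antisymm (fun a ha => by
          have := hproj a ha
          rw [hK0, Subgroup.mem_bot, mul_inv_eq_one] at this
          refine ⟨ha, this ▸ (fixAll H).pow_mem (trace_mem_fixAll H a) k⟩) inf_le_left
        obtain ⟨m₀, hm₀, hm₀H⟩ : ∃ m₀ ∈ M, m₀ ∉ H := by
          by_contra hcon
          push Not at hcon
          refine hHne ?_
          rw [hU, le_antisymm hHM hcon]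
          exact hfpf
        have hfix : A ⊓ fixAll (H ⊔ zpowers m₀) = ⊥ := hbig _ le_sup_left
          (sup_le hHM (zpowers_le.2 hm₀)) fun h => hm₀H (h (mem_sup_right (mem_zpowers m₀)))
        have hpair : ∀ m : M, Nat.card ↥(A ⊓ fix (g * (m : MulAut V))) *
            Nat.card ↥(A ⊓ fix (g * ((m * ⟨m₀, hm₀⟩ : M) : MulAut V))) ≤ Nat.card A := by
          intro m
          refine card_mul_le inf_le_left inf_le_left (eq_bot_iff.2 fun a ⟨⟨ha, h1⟩, _, h2⟩ => ?_)
          rw [← hfix]
          refine ⟨ha, mem_fixAll.2 fun h hh => ?_⟩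
          have hle : H ⊔ zpowers m₀ ≤ MulAction.stabilizer (MulAut V) a := sup_le
            (fun h hh => mem_fixAll.1 (hAU.le ha).2 h hh) (zpowers_le.2 (by
              show m₀ a = a
              have e : (g * (m : MulAut V)) (m₀ a) = (g * (m : MulAut V)) a := by
                change (g * (m : MulAut V)) a = a at h1
                change (g * ((m : MulAut V) * m₀)) a = a at h2
                rw [h1]
                simpa [mul_assoc] using h2
              exact (g * (m : MulAut V)).injective e))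
          exact hle hh
        calc (∏ m : M, Nat.card ↥(A ⊓ fix (g * (m : MulAut V)))) ^ 2
            = ∏ m : M, (Nat.card ↥(A ⊓ fix (g * (m : MulAut V))) *
                Nat.card ↥(A ⊓ fix (g * ((m * ⟨m₀, hm₀⟩ : M) : MulAut V)))) := by
              rw [Finset.prod_mul_distrib, sq]
              congr 1
              exact (Equiv.prod_comp (Equiv.mulRight (⟨m₀, hm₀⟩ : M))
                fun m : M => Nat.card ↥(A ⊓ fix (g * (m : MulAut V)))).symm
          _ ≤ ∏ _m : M, Nat.card A := Finset.prod_le_prod' fun m _ => hpair m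
          _ = Nat.card A ^ Fintype.card M := by rw [Finset.prod_const, Finset.card_univ]
      · -- split along `H`
        have hUA : U < A := lt_of_le_of_ne inf_le_left fun h => hK0 (eq_bot_iff.2 fun a ha =>
          hUK ▸ ⟨h.symm ▸ ha.1, ha⟩)
        have hgK : ∀ a ∈ K, g a ∈ K := fun a ha => ⟨hgA a ha.1, by
          show trace H (g a) = 1
          rw [trace_comm H hgH, MonoidHom.mem_ker.1 ha.2, map_one]⟩
        have hMK : ∀ m ∈ M, ∀ a ∈ K, m a ∈ K := fun m hm a ha => ⟨hMA m hm a ha.1, by
          show trace H (m a) = 1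
          rw [trace_comm H (hMH m hm), MonoidHom.mem_ker.1 ha.2, map_one]⟩
        have h1 := ih U hUA hgU hUM (eq_bot_iff.2 fun a ha => hfpf ▸ ⟨ha.1.1, ha.2⟩)
        have h2 := ih K hKA hgK hMK (eq_bot_iff.2 fun a ha => hfpf ▸ ⟨ha.1.1, ha.2⟩)
        have h3 : ∀ m : M, Nat.card ↥(A ⊓ fix (g * (m : MulAut V))) ≤
            Nat.card ↥(U ⊓ fix (g * (m : MulAut V))) * Nat.card ↥(K ⊓ fix (g * (m : MulAut V))) := by
          intro m
          rw [← Nat.card_prod]
          set x := g * (m : MulAut V) with hx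
          have hxH : ∀ h : MulAut V, h ∈ H ↔ x * h * x⁻¹ ∈ H := fun h => by
            rw [hMH m m.2 h, hgH]; simp [hx, mul_assoc]
          have hxu : ∀ a ∈ A ⊓ fix x, x (trace H a ^ k) = trace H a ^ k := fun a ha => by
            rw [map_pow, ← trace_comm H hxH, mem_fix.1 ha.2]
          refine Nat.card_le_card_of_injective (fun a : ↥(A ⊓ fix x) =>
            ((⟨trace H (a : V) ^ k, ⟨A.pow_mem (htrA _ a.2.1) k,
                (fixAll H).pow_mem (trace_mem_fixAll H _) k⟩, hxu _ a.2⟩ : ↥(U ⊓ fix x)),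
              (⟨(a : V) * (trace H (a : V) ^ k)⁻¹, hproj _ a.2.1, by
                show x _ = _
                rw [map_mul, map_inv, hxu _ a.2, mem_fix.1 a.2.2]
                rfl⟩ :
                ↥(K ⊓ fix x)))) ?_
          intro a b hab
          have e1 : trace H (a : V) ^ k = trace H (b : V) ^ k := congrArg (fun p => (p.1 : V)) hab
          have e2 : (a : V) * (trace H (a : V) ^ k)⁻¹ = (b : V) * (trace H (b : V) ^ k)⁻¹ :=
            congrArg (fun p => (p.2 : V)) hab
          rw [e1] at e2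
          exact Subtype.ext (mul_right_cancel e2)
        calc (∏ m : M, Nat.card ↥(A ⊓ fix (g * (m : MulAut V)))) ^ 2
            ≤ (∏ m : M, (Nat.card ↥(U ⊓ fix (g * (m : MulAut V))) *
                Nat.card ↥(K ⊓ fix (g * (m : MulAut V))))) ^ 2 :=
              Nat.pow_le_pow_left (Finset.prod_le_prod' fun m _ => h3 m) 2
          _ ≤ Nat.card U ^ Fintype.card M * Nat.card K ^ Fintype.card M := by
              rw [Finset.prod_mul_distrib, mul_pow]; exact Nat.mul_le_mul h1 h2
          _ ≤ Nat.card A ^ Fintype.card M := by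
              rw [← mul_pow]; exact Nat.pow_le_pow_left (card_mul_le inf_le_left inf_le_left hUK) _
    · -- `H` is moved by `g`
      set T := A ⊓ ⨅ i : ℤ, (trace H).ker.comap (g ^ i).toMonoidHom with hT
      have hmemT : ∀ a, a ∈ T ↔ a ∈ A ∧ ∀ i : ℤ, trace H ((g ^ i) a) = 1 := fun a => by
        simp only [hT, Subgroup.mem_inf, Subgroup.mem_iInf]; exact Iff.rfl
      have hgiM : ∀ i : ℤ, ∀ m ∈ M, g ^ i * m * (g ^ i)⁻¹ ∈ M := by
        intro i
        have hn : g ∈ normalizer (M : Set (MulAut V)) := mem_normalizer_iff.2 hg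
        exact fun m hm => (mem_normalizer_iff.1 (zpow_mem hn i) m).1 hm
      have hgi : ∀ i : ℤ, ∀ m ∈ M, ∀ a : V, trace H ((g ^ i) a) = 1 → trace H ((g ^ i) (m a)) = 1 := by
        intro i m hm a ha
        have e : (g ^ i) (m a) = (g ^ i * m * (g ^ i)⁻¹) ((g ^ i) a) := by simp
        rw [e, trace_comm H (hMH _ (hgiM i m hm)), ha, map_one]
      have hgT : ∀ a ∈ T, g a ∈ T := fun a ha => (hmemT _).2 ⟨hgA a ((hmemT a).1 ha).1, fun i => by
        have := ((hmemT a).1 ha).2 (i + 1)
        rwa [zpow_add_one] at this⟩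
      have hMT : ∀ m ∈ M, ∀ a ∈ T, m a ∈ T := fun m hm a ha =>
        (hmemT _).2 ⟨hMA m hm a ((hmemT a).1 ha).1, fun i => hgi i m hm a (((hmemT a).1 ha).2 i)⟩
      have hTK : T ≤ K := fun a ha => ⟨((hmemT a).1 ha).1, by
        have := ((hmemT a).1 ha).2 0; rwa [zpow_zero] at this⟩
      have h1 := ih T (lt_of_le_of_lt hTK hKA) hgT hMT
        (eq_bot_iff.2 fun a ha => hfpf ▸ ⟨((hmemT a).1 ha.1).1, ha.2⟩)
      set U' := U.map g.toMonoidHom with hU'
      have hU'A : U' ≤ A := by rintro _ ⟨u, hu, rfl⟩; exact hgA u hu.1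
      set H' := H.map (MulAut.conj g).toMonoidHom with hH'
      have hHU : U ⊓ U' = ⊥ := by
        have hfix : A ⊓ fixAll (H ⊔ H') = ⊥ := hbig _ le_sup_left (sup_le hHM (by
          rintro _ ⟨h, hh, rfl⟩; exact (hg h).1 (hHM hh))) fun hle => hgH fun h => by
            have hsub : H' ≤ H := le_trans le_sup_right hle
            have heq : H' = H := Subgroup.eq_of_le_of_card_ge hsub
              (Nat.card_congr (H.equivMapOfInjective _ (MulAut.conj g).injective).toEquiv).le
            constructor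
            · intro hh; exact hsub ⟨h, hh, rfl⟩
            · intro hh
              rw [← heq] at hh
              obtain ⟨h', hh', e⟩ := hh
              rwa [(MulAut.conj g).injective e] at hh'
        refine eq_bot_iff.2 ?_
        rintro a ⟨ha, u, hu, rfl⟩
        rw [← hfix]
        refine ⟨ha.1, mem_fixAll.2 fun h hh => ?_⟩
        have hle : H ⊔ H' ≤ MulAction.stabilizer (MulAut V) (g.toMonoidHom u) := sup_le
          (fun h hh => mem_fixAll.1 ha.2 h hh) (by
            rintro _ ⟨h, hh, rfl⟩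
            show (g * h * g⁻¹) (g u) = g u
            simp [mem_fixAll.1 hu.2 h hh])
        exact hle hh
      have hsum : U ⊔ U' ≤ A := sup_le inf_le_left hU'A
      have hdisj : (U ⊔ U') ⊓ T = ⊥ := by
        refine eq_bot_iff.2 ?_
        rintro a ⟨ha, haT⟩
        obtain ⟨u, hu, v, ⟨w, hw, rfl⟩, rfl⟩ := Subgroup.mem_sup.1 ha
        obtain ⟨-, haT⟩ := (hmemT _).1 haT
        have hgwK : trace H (g.toMonoidHom w) = 1 := by
          -- its image is fixed by `H` and lies in `U'`
          have hmem : trace H (g.toMonoidHom w) ∈ U ⊓ U' := by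
            refine ⟨⟨htrA _ (hgA w hw.1), trace_mem_fixAll H _⟩, ?_⟩
            refine U'.prod_mem fun h _ => ?_
            refine ⟨(g⁻¹ * h * g) w, hUM _ ((hg _).2 (by simpa [mul_assoc] using hHM h.2)) w hw, ?_⟩
            show g ((g⁻¹ * (h : MulAut V) * g) w) = (h : MulAut V) (g w)
            simp
          rwa [hHU, Subgroup.mem_bot] at hmem
        have h0 := haT 0
        rw [zpow_zero, MulAut.one_apply, map_mul, hgwK, mul_one] at h0
        have hu1 : u = 1 := eq_one_of_trace H hcopH hu.2 h0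
        subst hu1
        have h2 := haT (-1)
        rw [one_mul, zpow_neg_one] at h2
        have hw1 : w = 1 := eq_one_of_trace H hcopH hw.2 (by simpa using h2)
        simp [hw1]
      have hcard : Nat.card U * Nat.card U * Nat.card T ≤ Nat.card A := by
        have e : Nat.card U' = Nat.card U :=
          (Nat.card_congr (U.equivMapOfInjective _ g.injective).toEquiv).symm
        calc Nat.card U * Nat.card U * Nat.card T = Nat.card U * Nat.card U' * Nat.card T := by rw [e]
          _ ≤ Nat.card ↥(U ⊔ U') * Nat.card T :=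
              Nat.mul_le_mul_right _ (card_mul_le le_sup_left le_sup_right hHU)
          _ ≤ Nat.card A := card_mul_le hsum inf_le_left hdisj
      have h3 : ∀ m : M, Nat.card ↥(A ⊓ fix (g * (m : MulAut V))) ≤
          Nat.card U * Nat.card ↥(T ⊓ fix (g * (m : MulAut V))) := by
        intro m
        set x := g * (m : MulAut V) with hx
        let f : ↥(A ⊓ fix x) →* ↥U :=
          { toFun := fun a => ⟨trace H (a : V), htrA _ a.2.1, trace_mem_fixAll H _⟩
            map_one' := by ext; simp
            map_mul' := fun a b => by ext; simp }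
        have hker : ∀ a : ↥(A ⊓ fix x), a ∈ f.ker → (a : V) ∈ T ⊓ fix x := by
          intro a ha
          have ha0 : trace H (a : V) = 1 := congrArg Subtype.val (MonoidHom.mem_ker.1 ha)
          refine ⟨(hmemT _).2 ⟨a.2.1, fun i => ?_⟩, a.2.2⟩
          -- `x ^ i` is `g ^ i` times an element of `M`
          have hxi : (g ^ i)⁻¹ * x ^ i ∈ M := by
            haveI : (M.subgroupOf (normalizer (M : Set (MulAut V)))).Normal := normal_in_normalizer
            have hn : g ∈ normalizer (M : Set (MulAut V)) := mem_normalizer_iff.2 hg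
            have hmn : (m : MulAut V) ∈ normalizer (M : Set (MulAut V)) := le_normalizer m.2
            let q := QuotientGroup.mk' (M.subgroupOf (normalizer (M : Set (MulAut V))))
            have hq : q ((⟨g, hn⟩ * ⟨(m : MulAut V), hmn⟩) ^ i) = q (⟨g, hn⟩ ^ i) := by
              rw [map_zpow, map_zpow, map_mul]
              have : q ⟨(m : MulAut V), hmn⟩ = 1 := (QuotientGroup.eq_one_iff _).2 (mem_subgroupOf.2 m.2)
              rw [this, mul_one]
            have h := QuotientGroup.eq.1 hq.symm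
            simpa [mem_subgroupOf, hx] using h
          have hfx : (x ^ i) (a : V) = a := by
            have hs : x ∈ MulAction.stabilizer (MulAut V) (a : V) := a.2.2
            exact zpow_mem hs i
          have e2 : (g ^ i) (a : V) = (g ^ i * ((g ^ i)⁻¹ * x ^ i)⁻¹ * (g ^ i)⁻¹) (a : V) := by
            have hxi' : ((x ^ i)⁻¹) (a : V) = a := by
              conv_lhs => rw [← hfx]
              simp
            simp [mul_assoc, hxi']
          rw [e2, trace_comm H (hMH _ (hgiM i _ (inv_mem hxi))), ha0, map_one]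
        calc Nat.card ↥(A ⊓ fix x) = Nat.card f.range * Nat.card f.ker := by
              rw [← Subgroup.index_ker, mul_comm, Subgroup.card_mul_index]
          _ ≤ Nat.card U * Nat.card ↥(T ⊓ fix x) := Nat.mul_le_mul (Subgroup.card_le_card_group _)
              (Nat.card_le_card_of_injective (fun a : f.ker => (⟨((a : ↥(A ⊓ fix x)) : V), hker _ a.2⟩ :
                ↥(T ⊓ fix x))) fun a b hab => by
                  simp only [Subtype.mk.injEq] at hab
                  exact Subtype.ext (Subtype.ext hab))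
      calc (∏ m : M, Nat.card ↥(A ⊓ fix (g * (m : MulAut V)))) ^ 2
          ≤ (∏ m : M, (Nat.card U * Nat.card ↥(T ⊓ fix (g * (m : MulAut V))))) ^ 2 :=
            Nat.pow_le_pow_left (Finset.prod_le_prod' fun m _ => h3 m) 2
        _ ≤ (Nat.card U * Nat.card U) ^ Fintype.card M * Nat.card T ^ Fintype.card M := by
            rw [Finset.prod_mul_distrib, mul_pow, Finset.prod_const, Finset.card_univ]
            refine Nat.mul_le_mul ?_ h1
            rw [← pow_mul, ← sq, ← pow_mul, mul_comm]
        _ ≤ Nat.card A ^ Fintype.card M := by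
            rw [← mul_pow]; exact Nat.pow_le_pow_left hcard _

/-- A nontrivial irreducible solvable action: on average at most the square root is fixed. -/
theorem prod_card_fix_sq_le [Finite V] {G : Type*} [Group G] [Fintype G] {p : ℕ} [Fact p.Prime]
    (hV : IsPGroup p V) (φ : G →* MulAut V) (hsol : Group.IsSolvable φ.range)
    (hne : φ.range ≠ ⊥)
    (hirr : ∀ B : Subgroup V, (∀ g : G, ∀ b ∈ B, φ g b ∈ B) → B = ⊥ ∨ B = ⊤) :
    (∏ g : G, Nat.card (fix (φ g))) ^ 2 ≤ Nat.card V ^ Fintype.card G := by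
  classical
  haveI : Finite (MulAut V) := DFunLike.finite _
  haveI : Nontrivial φ.range := (Subgroup.nontrivial_iff_ne_bot _).2 hne
  -- an abelian normal subgroup of the image
  obtain ⟨M₀, hM₀⟩ := exists_minimal_of_wellFoundedLT (fun N : Subgroup φ.range => N.Normal ∧ N ≠ ⊥)
    ⟨⊤, inferInstance, top_ne_bot⟩
  haveI := hM₀.prop.1
  have hM₀ab : ⁅M₀, M₀⁆ = ⊥ := by
    by_contra h
    have heq : ⁅M₀, M₀⁆ = M₀ := le_antisymm (commutator_le_self M₀)
      (hM₀.le_of_le ⟨inferInstance, h⟩ (commutator_le_self M₀))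
    obtain ⟨n, hn⟩ := (Group.isSolvable_def _).1 hsol
    have : ∀ k, M₀ ≤ derivedSeries φ.range k := by
      intro k
      induction k with
      | zero => simp
      | succ k ih => exact heq.ge.trans (Subgroup.commutator_mono ih ih)
    exact hM₀.prop.2 (le_bot_iff.1 (hn ▸ this n))
  set M := M₀.map φ.range.subtype with hM
  haveI : Fintype M := Fintype.ofFinite _
  have hMle : M ≤ φ.range := map_subtype_le _
  have hab : ∀ a ∈ M, ∀ b ∈ M, a * b = b * a := by
    rintro _ ⟨a, ha, rfl⟩ _ ⟨b, hb, rfl⟩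
    have := (commutator_eq_bot_iff_le_centralizer.1 hM₀ab) ha b hb
    exact (congrArg φ.range.subtype this).symm
  have hnorm : ∀ (g : G) (h : MulAut V), h ∈ M ↔ φ g * h * (φ g)⁻¹ ∈ M := by
    have h1 : ∀ (g : G), ∀ h ∈ M, φ g * h * (φ g)⁻¹ ∈ M := by
      rintro g _ ⟨a, ha, rfl⟩
      exact ⟨⟨φ g, g, rfl⟩ * a * ⟨φ g, g, rfl⟩⁻¹, hM₀.prop.1.conj_mem a ha _, rfl⟩
    intro g h
    refine ⟨h1 g h, fun hh => ?_⟩
    have := h1 g⁻¹ _ hh
    simpa [map_inv, mul_assoc] using this
  have hfixinv : ∀ g : G, ∀ b ∈ fixAll M, φ g b ∈ fixAll M := fun g b hb => mem_fixAll.2 fun h hh => by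
    have hh' : (φ g)⁻¹ * h * φ g ∈ M := (hnorm g _).2 (by simpa [mul_assoc] using hh)
    have := congrArg (φ g) (mem_fixAll.1 hb _ hh')
    simpa using this
  have hMne : M ≠ ⊥ := fun h => hM₀.prop.2 ((Subgroup.map_eq_bot_iff_of_injective _
    φ.range.subtype_injective).1 h)
  have hfpf : fixAll M = ⊥ := (hirr _ hfixinv).resolve_right fun htop => hMne (eq_bot_iff.2 fun h hh =>
    Subgroup.mem_bot.2 (MulEquiv.ext fun a => mem_fixAll.1 (htop ▸ Subgroup.mem_top a) h hh))
  -- coprime to `p`
  have hcop : (Nat.card M).Coprime (Nat.card V) := by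
    obtain ⟨n, hn⟩ := IsPGroup.iff_card.1 hV
    rw [hn]
    refine Nat.Coprime.pow_right _ (Nat.Coprime.symm ((Fact.out : p.Prime).coprime_iff_not_dvd.2 fun hd => ?_))
    obtain ⟨x, hx⟩ := exists_prime_orderOf_dvd_card' p hd
    -- the points fixed by the `p`-elements of `M`
    let P : Subgroup (MulAut V) :=
      { carrier := {y | y ∈ M ∧ y ^ p = 1}
        one_mem' := ⟨M.one_mem, one_pow p⟩
        mul_mem' := fun {a b} ha hb => ⟨M.mul_mem ha.1 hb.1, by
          rw [(show Commute a b from hab a ha.1 b hb.1).mul_pow, ha.2, hb.2, one_mul]⟩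
        inv_mem' := fun {a} ha => ⟨M.inv_mem ha.1, by rw [inv_pow, ha.2, inv_one]⟩ }
    have hP : IsPGroup p P := fun y => ⟨1, by ext1; simpa using y.2.2⟩
    have hPinv : ∀ g : G, ∀ b ∈ fixAll P, φ g b ∈ fixAll P := fun g b hb => mem_fixAll.2 fun h hh => by
      have hh' : (φ g)⁻¹ * h * φ g ∈ P := ⟨(hnorm g _).2 (by simpa [mul_assoc] using hh.1), by
        have := conj_pow (a := (φ g)⁻¹) (b := h) (i := p)
        rw [inv_inv] at this
        rw [this, hh.2]; group⟩
      have := congrArg (φ g) (mem_fixAll.1 hb _ hh')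
      simpa using this
    rcases hirr _ hPinv with h0 | h0
    · haveI : Nontrivial V := by
        by_contra hV1
        rw [not_nontrivial_iff_subsingleton] at hV1
        exact hMne (eq_bot_iff.2 fun h _ => Subgroup.mem_bot.2 (MulEquiv.ext fun a => Subsingleton.elim _ _))
      obtain ⟨n, hn1, hn⟩ := (IsPGroup.nontrivial_iff_card hV).1 inferInstance
      haveI := Fintype.ofFinite V
      have hmod := hP.card_modEq_card_fixedPoints V
      have h1 : Nat.card (MulAction.fixedPoints P V) = 1 := by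
        have e : MulAction.fixedPoints P V = {1} := by
          refine Set.eq_singleton_iff_unique_mem.2 ⟨fun y => map_one (y : MulAut V), fun a ha => ?_⟩
          have : a ∈ fixAll P := mem_fixAll.2 fun h hh => ha ⟨h, hh⟩
          rwa [h0, Subgroup.mem_bot] at this
        rw [e]; simp
      rw [h1, hn] at hmod
      have : p ∣ 1 := (Nat.ModEq.dvd_iff hmod dvd_rfl).1 (dvd_pow_self p (by omega))
      exact (Fact.out : p.Prime).ne_one (Nat.dvd_one.1 this)
    · have hxP : (x : MulAut V) ∈ P := ⟨x.2, by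
        rw [← Subgroup.orderOf_coe] at hx; rw [← hx]; exact pow_orderOf_eq_one _⟩
      have : (x : MulAut V) = 1 := MulEquiv.ext fun a => mem_fixAll.1 (h0 ▸ Subgroup.mem_top a) _ hxP
      rw [← Subgroup.orderOf_coe, this, orderOf_one] at hx
      exact (Fact.out : p.Prime).ne_one hx.symm
  have hcoset : ∀ g : G, (∏ m : M, Nat.card (fix (φ g * (m : MulAut V)))) ^ 2 ≤
      Nat.card V ^ Fintype.card M := by
    intro g
    have h := coset_bound M hab hcop (φ g) (hnorm g) ⊤ (fun _ _ => Subgroup.mem_top _)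
      (fun _ _ _ _ => Subgroup.mem_top _) (by rw [top_inf_eq, hfpf])
    simpa [top_inf_eq] using h
  have hshift : ∀ m : M, (∏ g : G, Nat.card (fix (φ g * (m : MulAut V)))) =
      ∏ g : G, Nat.card (fix (φ g)) := by
    intro m
    obtain ⟨y, hy⟩ := hMle m.2
    rw [← hy]
    exact Fintype.prod_equiv (Equiv.mulRight y) _ _ fun g => by simp [map_mul]
  have key : ((∏ g : G, Nat.card (fix (φ g))) ^ 2) ^ Fintype.card M ≤
      (Nat.card V ^ Fintype.card G) ^ Fintype.card M := by
    calc ((∏ g : G, Nat.card (fix (φ g))) ^ 2) ^ Fintype.card M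
        = (∏ g : G, ∏ m : M, Nat.card (fix (φ g * (m : MulAut V)))) ^ 2 := by
          rw [Finset.prod_comm, Finset.prod_congr rfl fun m _ => hshift m, Finset.prod_const,
            Finset.card_univ, ← pow_mul, ← pow_mul, mul_comm]
      _ ≤ ∏ _g : G, Nat.card V ^ Fintype.card M := by
          rw [← Finset.prod_pow]; exact Finset.prod_le_prod' fun g _ => hcoset g
      _ = (Nat.card V ^ Fintype.card G) ^ Fintype.card M := by
          rw [Finset.prod_const, Finset.card_univ, ← pow_mul, ← pow_mul, mul_comm]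
  exact (Nat.pow_le_pow_iff_left Fintype.card_ne_zero).1 key

end CfsgLib.CharApps.FixedAvg
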