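import Cfsg.Agent.Lib.Blocks.PRationalExtension
import Cfsg.Agent.Lib.CharApps.SchurBound
import Cfsg.Agent.Lib.CharsMore.Clifford
import Cfsg.Agent.Lib.Chars.Degree

/-!
# Schur's bound for a `p`-group acting on a `p'`-subgroup of a linear group
-/

set_option autoImplicit false
set_option linter.unusedSectionVars false
set_option linter.style.haveILetI false

namespace CfsgLib.CharApps.CoprimeSchur

open Cfsg CfsgLib.CharsMore
open scoped ComplexConjugate

universe u

variable {p : ℕ} [hp : Fact p.Prime]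

/-- The canonical extension of an invariant character is fixed by the automorphisms fixing it. -/
theorem exists_fixed_ext {T : Type u} [Group T] [Fintype T] (M : Subgroup T) [M.Normal] [Fintype M]
    (hM : ¬ p ∣ Nat.card M) {e : ℕ} (hidx : M.index = p ^ e) {θ : M → ℂ}
    (hθ : IsIrrCharacter M θ) (hinv : ∀ g n, θ (conjBy M g n) = θ n) :
    ∃ f : T → ℂ, IsCharacter T f ∧ (∀ n : M, f n = θ n) ∧
      ∀ k : ℕ, k.Coprime (Nat.card T) → k ≡ 1 [MOD Nat.card M] → ∀ g : T, f (g ^ k) = f g := by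
  classical
  obtain ⟨d, ρ, hirr, hρ, hI, hdet⟩ := exists_invariant_rep M hθ hinv
  have hcM : (Nat.card M).Coprime M.index := by
    rw [hidx]
    exact Nat.Coprime.pow_right _ ((hp.out.coprime_iff_not_dvd.2 hM).symm)
  have hl : orderOf (detHom ρ) ∣ Nat.card M :=
    orderOf_dvd_of_pow_eq_one (MonoidHom.ext fun n => by
      rw [MonoidHom.pow_apply, ← map_pow, pow_card_eq_one', map_one]; rfl)
  obtain ⟨μ, ⟨hμ, hμo⟩, -⟩ :=
    exists_coprime_ext M (detHom ρ) hdet (hcM.symm.coprime_dvd_right hl)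
  have hd : Module.finrank ℂ (Fin d → ℂ) ∣ Nat.card M :=
    (Chars.finrank_dvd_index_center ρ).trans (Subgroup.index_dvd_card _)
  have hdc : Nat.Coprime (Module.finrank ℂ (Fin d → ℂ)) M.index := hcM.coprime_dvd_left hd
  have hext : RepExtends M ρ := repExtends_of_det M ρ hI hdc μ fun n => by rw [hμ]; rfl
  obtain ⟨R, ⟨hR, hRdet⟩, huniq⟩ := existsUnique_ext_det M ρ hdc hext μ hμ
  obtain ⟨hRirr, -, hRres⟩ := isIrrExt_of_rep M R hR
  refine ⟨R.character, Chars.isCharacter_character R, fun n => by rw [hRres, hρ], fun k hk hk1 g => ?_⟩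
  obtain ⟨σ, hσ⟩ := CharApps.exists_galois_pow (Nat.card T) hk
  have hgal : ∀ x : T, σ (R.character x) = R.character (x ^ k) := fun x =>
    CharApps.galois_apply σ hσ (Chars.isCharacter_character R) x pow_card_eq_one'
  have hfix : ∀ n : M, n ^ k = n := fun n =>
    (pow_eq_pow_iff_modEq.2 (hk1.of_dvd (orderOf_dvd_natCard n))).trans (pow_one n)
  obtain ⟨R', hR', hR'irr, hR'c⟩ := exists_repExt_of_character M.subtype ρ
    (CharApps.isCharacter_galois (Chars.isCharacter_character R) σ) (fun n => by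
      show σ (R.character (n : T)) = ρ.character n
      rw [hgal, ← SubgroupClass.coe_pow, hRres, hfix])
  have hch : R'.character = (Blocks.PrincExt.galRep σ R).character := by
    rw [hR'c, Blocks.PrincExt.character_galRep]
  have hμk : μ ^ k = μ := by
    conv_rhs => rw [← pow_one μ]
    rw [← pow_mod_orderOf μ k, ← pow_mod_orderOf μ 1, hμo]
    exact congrArg (μ ^ ·) (hk1.of_dvd hl)
  have hdR' : detHom R' = μ := by
    obtain ⟨E⟩ := equiv_of_character_eq R' (Blocks.PrincExt.galRep σ R) hch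
    rw [← detHom_eq_of_equiv E]
    refine MonoidHom.ext fun x => Units.ext ?_
    have h1 : (μ x : ℂ) ^ Nat.card T = 1 := by
      rw [← Units.val_pow_eq_pow_val, ← map_pow, pow_card_eq_one', map_one, Units.val_one]
    rw [Blocks.PrincExt.coe_detHom_galRep, hRdet, hσ _ h1, ← Units.val_pow_eq_pow_val,
      ← MonoidHom.pow_apply, hμk]
  have hRR : R' = R := huniq R' ⟨hR', hdR'⟩
  rw [← hgal]
  exact (congrFun hR'c g).symm.trans (by rw [hRR])

section orbit

variable {H : Type u} [Group H] [Fintype H] (N : Subgroup H) [N.Normal]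

/-- A sum over the group collapses to a sum over the conjugates. -/
theorem sum_conjFn (θ : N → ℂ) (n : N) :
    ∑ x : H, conjFn N x θ n = (Nat.card (inertia N θ) : ℂ) * ∑ φ ∈ orbitFn N θ, φ n := by
  classical
  rw [Finset.sum_comp (fun φ : N → ℂ => φ n) (fun x : H => conjFn N x θ), Finset.mul_sum]
  refine Finset.sum_congr (by ext φ; simp [mem_orbitFn]) fun φ hφ => ?_
  obtain ⟨g, rfl⟩ := (mem_orbitFn N).1 hφ
  rw [nsmul_eq_mul]
  congr 2
  have hmem : ∀ x : H, conjFn N x θ = conjFn N g θ ↔ x * g⁻¹ ∈ inertia N θ := by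
    intro x
    show _ ↔ conjFn N (x * g⁻¹) θ = θ
    constructor
    · intro h
      rw [conjFn_mul, h, ← conjFn_mul, mul_inv_cancel, conjFn_one]
    · intro h
      conv_rhs => rw [← h]
      rw [← conjFn_mul, inv_mul_cancel_right]
  rw [Nat.card_eq_fintype_card, ← Finset.card_univ]
  refine Finset.card_bij' (fun x hx => ⟨x * g⁻¹, (hmem x).1 (Finset.mem_filter.1 hx).2⟩)
    (fun t _ => (t : H) * g) (fun _ _ => Finset.mem_univ _) (fun t _ => ?_)
    (fun x _ => by simp) (fun t _ => Subtype.ext (by simp))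
  refine Finset.mem_filter.2 ⟨Finset.mem_univ _, (hmem _).2 ?_⟩
  rw [mul_inv_cancel_right]
  exact t.2

variable (hN : ¬ p ∣ Nat.card N) {e : ℕ} (hidx : N.index = p ^ e)
include hN hidx

/-- A fixed character lying over exactly one orbit, each conjugate once. -/
theorem exists_over_orbit {θ : N → ℂ} (hθ : IsIrrCharacter N θ) :
    ∃ ψ : H → ℂ, IsCharacter H ψ ∧ (∀ n : N, ψ n = ∑ φ ∈ orbitFn N θ, φ n) ∧
      ∀ k : ℕ, k.Coprime (Nat.card H) → k ≡ 1 [MOD Nat.card N] → ∀ g : H, ψ (g ^ k) = ψ g := by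
  classical
  set T := inertia N θ with hT
  have hNT : N ≤ T :=
    le_inertia N (Chars.isClassFunction_of_isCharacter (Chars.isCharacter_of_irr hθ))
  haveI := Fintype.ofFinite N
  haveI := Fintype.ofFinite T
  haveI := Fintype.ofFinite (N.subgroupOf T)
  have hcard : Nat.card (N.subgroupOf T) = Nat.card N :=
    Nat.card_congr (Subgroup.subgroupOfEquivOfLe hNT).toEquiv
  obtain ⟨e', -, he'⟩ := (Nat.dvd_prime_pow hp.out).1
    (show (N.subgroupOf T).index ∣ p ^ e from
      hidx ▸ Subgroup.relIndex_dvd_index_of_normal N T)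
  obtain ⟨f, hf, hfN, hfk⟩ := exists_fixed_ext (N.subgroupOf T) (by rw [hcard]; exact hN) he'
    (isIrr_pullFn N hNT hθ) (fun g n => by
      show θ _ = θ _
      have h := (mem_inertia N).1 g.2 ⟨((n : T) : H), Subgroup.mem_subgroupOf.1 n.2⟩
      refine Eq.trans (congrArg θ (Subtype.ext ?_)) h
      simp [conjBy])
  refine ⟨indFun T f, Chars.isCharacter_indFun T hf, fun n => ?_, fun k hk hk1 g => ?_⟩
  · have h0 : (Nat.card T : ℂ) ≠ 0 := Nat.cast_ne_zero.2 Nat.card_pos.ne'
    have hN0 : (Nat.card N : ℂ) ≠ 0 := Nat.cast_ne_zero.2 Nat.card_pos.ne'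
    have h1 : (Nat.card T : ℂ) * indFun T f n = (Nat.card N : ℂ) * indFun N θ n := by
      rw [Chars.indFun_apply, Chars.indFun_apply, ← mul_assoc, mul_inv_cancel₀ h0, one_mul,
        ← mul_assoc, mul_inv_cancel₀ hN0, one_mul]
      refine Finset.sum_congr rfl fun x _ => ?_
      have hx : x⁻¹ * (n : H) * x ∈ N := by simpa using ‹N.Normal›.conj_mem _ n.2 x⁻¹
      rw [Chars.extendByZero_of_mem N θ hx, Chars.extendByZero_of_mem T f (hNT hx)]
      exact hfN ⟨⟨_, hNT hx⟩, Subgroup.mem_subgroupOf.2 hx⟩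
    rw [indFun_normal_apply, ← mul_assoc, mul_inv_cancel₀ hN0, one_mul, sum_conjFn] at h1
    exact mul_left_cancel₀ h0 h1
  · have hinvmap : Function.Injective (fun x : H => x ^ k) :=
      (powCoprime hk.symm).injective
    rw [Chars.indFun_apply, Chars.indFun_apply]
    congr 1
    refine Finset.sum_congr rfl fun x _ => ?_
    have hc : x⁻¹ * g ^ k * x = (x⁻¹ * g * x) ^ k := by
      have := (conj_pow (i := k) (a := x⁻¹) (b := g)).symm
      simpa using this
    rw [hc]
    set y := x⁻¹ * g * x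
    by_cases hy : y ∈ T
    · rw [Chars.extendByZero_of_mem T f hy, Chars.extendByZero_of_mem T f (pow_mem hy k)]
      exact hfk k (hk.coprime_dvd_right (Subgroup.card_subgroup_dvd_card T)) (by rwa [hcard]) ⟨y, hy⟩
    · rw [Chars.extendByZero_of_not_mem T f hy, Chars.extendByZero_of_not_mem T f]
      intro hyk
      obtain ⟨j, hj⟩ := exists_pow_eq_self_of_coprime
        (hk.coprime_dvd_right (orderOf_dvd_natCard y))
      exact hy (hj ▸ pow_mem hyk j)

/-- A fixed character lying over an invariant set of irreducible characters, each once. -/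
theorem exists_over_set (S : Finset (N → ℂ)) :
    (∀ φ ∈ S, IsIrrCharacter N φ) → (∀ φ ∈ S, ∀ g, conjFn N g φ ∈ S) →
    ∃ ψ : H → ℂ, IsCharacter H ψ ∧ (∀ n : N, ψ n = ∑ φ ∈ S, φ n) ∧
      ∀ k : ℕ, k.Coprime (Nat.card H) → k ≡ 1 [MOD Nat.card N] → ∀ g : H, ψ (g ^ k) = ψ g := by
  classical
  induction S using Finset.strongInduction with
  | H S IH =>
    intro hirr hclosed
    rcases S.eq_empty_or_nonempty with rfl | ⟨θ, hθ⟩
    · exact ⟨0, Chars.isCharacter_zero, fun n => by simp, fun _ _ _ _ => rfl⟩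
    have hsub : orbitFn N θ ⊆ S := by
      intro φ hφ
      obtain ⟨g, rfl⟩ := (mem_orbitFn N).1 hφ
      exact hclosed θ hθ g
    have hne : (orbitFn N θ).Nonempty := ⟨θ, (mem_orbitFn N).2 ⟨1, conjFn_one N θ⟩⟩
    obtain ⟨ψ₁, h1, h1N, h1k⟩ := exists_over_orbit N hN hidx (hirr θ hθ)
    obtain ⟨ψ₂, h2, h2N, h2k⟩ := IH (S \ orbitFn N θ) (Finset.sdiff_ssubset hsub hne)
      (fun φ hφ => hirr φ (Finset.mem_sdiff.1 hφ).1) (fun φ hφ g => by
        rw [Finset.mem_sdiff] at hφ ⊢
        refine ⟨hclosed φ hφ.1 g, fun h => hφ.2 ?_⟩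
        obtain ⟨a, ha⟩ := (mem_orbitFn N).1 h
        refine (mem_orbitFn N).2 ⟨a * g⁻¹, ?_⟩
        rw [conjFn_mul, ha, ← conjFn_mul, mul_inv_cancel, conjFn_one])
    refine ⟨ψ₁ + ψ₂, Chars.isCharacter_add h1 h2, fun n => ?_, fun k hk hk1 g => ?_⟩
    · rw [Pi.add_apply, h1N, h2N, ← Finset.sum_sdiff hsub, add_comm]
    · simp only [Pi.add_apply, h1k k hk hk1, h2k k hk hk1]

end orbit

/-- The kernel of a sum of characters. -/
theorem eq_one_of_sum_eq {N : Type u} [Group N] [Finite N] {ι : Type*} (S : Finset ι)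
    (φ : ι → N → ℂ) (hφ : ∀ i ∈ S, IsCharacter N (φ i)) {y : N}
    (h : ∑ i ∈ S, φ i y = ∑ i ∈ S, φ i 1) : ∀ i ∈ S, φ i y = φ i 1 := by
  have hle : ∀ i ∈ S, (φ i y).re ≤ (φ i 1).re := fun i hi =>
    (Complex.re_le_norm _).trans (Chars.char_norm_le (hφ i hi) y)
  have h' := congrArg Complex.re h
  rw [Complex.re_sum, Complex.re_sum] at h'
  intro i hi
  have hre := (Finset.sum_eq_sum_iff_of_le hle).1 h' i hi
  have hn := Chars.char_norm_le (hφ i hi) y
  obtain ⟨m, hm⟩ := Chars.character_degree_nat (hφ i hi)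
  rw [hm, Complex.natCast_re] at hre hn
  rw [hm]
  refine Complex.ext (by rw [hre, Complex.natCast_re]) ?_
  rw [Complex.natCast_im]
  have h2 := Complex.normSq_apply (φ i y)
  rw [← Complex.sq_norm] at h2
  nlinarith [norm_nonneg (φ i y), sq_nonneg (φ i y).im]

/-- **Schur's bound for coprime action.** -/
theorem factorization_index_le {H : Type u} [Group H] [Fintype H] (N : Subgroup H) [N.Normal]
    (R : Subgroup H) (hN : ¬ p ∣ Nat.card N) (hR : IsPGroup p R) (hNR : N ⊔ R = ⊤) {χ : H → ℂ}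
    (hχ : IsCharacter H χ) (hfaith : ∀ g : H, χ g = χ 1 → g = 1) {n : ℕ} (hn : χ 1 = n) :
    ((Subgroup.centralizer (N : Set H)).relIndex R).factorization p ≤
      ∑ i ∈ Finset.range (n + 1), n / ((p - 1) * p ^ i) := by
  classical
  haveI := Fintype.ofFinite N
  haveI := Fintype.ofFinite (IrrCharacter N)
  obtain ⟨eR, heR⟩ := IsPGroup.iff_card.1 hR
  have hcR : (Nat.card N).Coprime (Nat.card R) := by
    rw [heR]; exact Nat.Coprime.pow_right _ ((hp.out.coprime_iff_not_dvd.2 hN).symm)
  obtain ⟨e, hle', hidx⟩ := (Nat.dvd_prime_pow hp.out).1 (show N.index ∣ p ^ eR by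
    rw [← Subgroup.relIndex_top_right, ← hNR, Subgroup.relIndex_sup_left, ← heR]
    exact Subgroup.index_dvd_card _)
  -- constituents of the restriction
  set χN : N → ℂ := fun x => χ x with hχN
  have hχNc : IsCharacter N χN := Chars.isCharacter_restrict N hχ
  set S : Finset (N → ℂ) := ((Finset.univ : Finset (IrrCharacter N)).filter
    fun φ : IrrCharacter N => classInner χN (φ : N → ℂ) ≠ 0).image Subtype.val with hS
  have hmemS : ∀ f, f ∈ S ↔ IsIrrCharacter N f ∧ classInner χN f ≠ 0 := by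
    intro f
    simp only [hS, Finset.mem_image, Finset.mem_filter, Finset.mem_univ, true_and]
    exact ⟨by rintro ⟨φ, h, rfl⟩; exact ⟨φ.2, h⟩, fun h => ⟨⟨f, h.1⟩, h.2, rfl⟩⟩
  obtain ⟨ψ, hψ, hψN, hψk⟩ := exists_over_set N hN hidx S (fun φ h => ((hmemS φ).1 h).1)
    (fun φ h g => (hmemS _).2 ⟨isIrr_conjFn N g ((hmemS φ).1 h).1, by
      rw [hχN, inner_restrict_conjFn N (Chars.isClassFunction_of_isCharacter hχ)]
      exact ((hmemS φ).1 h).2⟩)
  have hcoef : ∀ φ : IrrCharacter N, ∃ c : ℕ, classInner χN (φ : N → ℂ) = c := fun φ =>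
    Chars.inner_char_nat hχNc (Chars.isCharacter_of_irr φ.2)
  choose c hc using hcoef
  have hdec : ∀ y : N, χN y = ∑ φ : IrrCharacter N, (c φ : ℂ) * (φ : N → ℂ) y := by
    intro y
    rw [congrFun (Chars.classFun_eq_sum (Chars.isClassFunction_of_isCharacter hχNc)) y,
      Finset.sum_apply]
    exact Finset.sum_congr rfl fun φ _ => by rw [Pi.smul_apply, smul_eq_mul, hc]
  -- the degree of ψ
  obtain ⟨d, hd⟩ := Chars.character_degree_nat hψ
  have hdn : d ≤ n := by
    have h1 : (d : ℝ) = ∑ f ∈ S, (f 1).re := by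
      rw [← Complex.re_sum, ← hψN 1, OneMemClass.coe_one, hd, Complex.natCast_re]
    have h2 : (n : ℝ) = ∑ φ : IrrCharacter N, (c φ : ℝ) * ((φ : N → ℂ) 1).re := by
      have := congrArg Complex.re (hdec 1)
      simp only [hχN, OneMemClass.coe_one, hn, Complex.natCast_re, Complex.re_sum,
        Complex.mul_re, Complex.natCast_im, zero_mul, sub_zero] at this
      exact this
    have h3 : (d : ℝ) ≤ n := by
      rw [h1, h2, hS, Finset.sum_image (fun _ _ _ _ h => Subtype.ext h)]
      refine le_trans ?_ (Finset.sum_le_univ_sum_of_nonneg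
        (s := Finset.univ.filter fun φ : IrrCharacter N => classInner χN (φ : N → ℂ) ≠ 0) ?_)
      · refine Finset.sum_le_sum fun φ hφ => ?_
        have h0 : c φ ≠ 0 := fun h => (Finset.mem_filter.1 hφ).2 (by rw [hc, h, Nat.cast_zero])
        obtain ⟨m, hm⟩ := Chars.character_degree_nat (Chars.isCharacter_of_irr φ.2)
        rw [hm, Complex.natCast_re]
        exact le_mul_of_one_le_left (Nat.cast_nonneg m)
          (by exact_mod_cast Nat.pos_of_ne_zero h0)
      · intro φ
        obtain ⟨m, hm⟩ := Chars.character_degree_nat (Chars.isCharacter_of_irr φ.2)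
        rw [hm, Complex.natCast_re]
        positivity
    exact_mod_cast h3
  -- the kernel
  obtain ⟨m, ρ, hρ⟩ := hψ
  have hker : ∀ y : N, ρ (y : H) = 1 → y = 1 := by
    intro y hy
    have hψy : ψ (y : H) = ψ ((1 : N) : H) := by
      rw [← hρ, OneMemClass.coe_one]
      exact congrArg (LinearMap.trace ℂ _) (hy.trans (map_one ρ).symm)
    rw [hψN, hψN] at hψy
    have hall := eq_one_of_sum_eq S (fun f => f)
      (fun f hf => Chars.isCharacter_of_irr ((hmemS f).1 hf).1) hψy
    refine Subtype.ext (hfaith y ?_)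
    have h := hdec y
    have h1 := hdec 1
    simp only [hχN, OneMemClass.coe_one] at h h1
    rw [h, h1]
    refine Finset.sum_congr rfl fun φ _ => ?_
    by_cases h0 : c φ = 0
    · simp [h0]
    · rw [hall φ ((hmemS _).2 ⟨φ.2, by rw [hc]; exact Nat.cast_ne_zero.2 h0⟩)]
  -- the image of R
  set F : R →* (Module.End ℂ (Fin m → ℂ))ˣ := ρ.toHomUnits.comp R.subtype with hF
  have hle : F.ker ≤ (Subgroup.centralizer (N : Set H)).subgroupOf R := by
    intro r hr
    rw [Subgroup.mem_subgroupOf, Subgroup.mem_centralizer_iff]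
    intro x hx
    have hr1 : ρ (r : H) = 1 := congrArg Units.val (MonoidHom.mem_ker.1 hr)
    have hmem : x * (r : H) * x⁻¹ * (r : H)⁻¹ ∈ N := by
      rw [mul_assoc, mul_assoc, ← mul_assoc (r : H)]
      exact mul_mem hx (‹N.Normal›.conj_mem _ (inv_mem hx) _)
    have hinv : ρ (r : H)⁻¹ = 1 := by
      conv_rhs => rw [← map_one ρ, ← inv_mul_cancel (r : H), map_mul, hr1, mul_one]
    have h := hker ⟨_, hmem⟩ (by
      show ρ (x * (r : H) * x⁻¹ * (r : H)⁻¹) = 1
      rw [map_mul, map_mul, map_mul, hr1, hinv, mul_one, mul_one, ← map_mul, mul_inv_cancel,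
        map_one])
    have h' : x * (r : H) * x⁻¹ * (r : H)⁻¹ = 1 := congrArg Subtype.val h
    rw [mul_inv_eq_one, mul_inv_eq_iff_eq_mul] at h'
    exact h'
  haveI : Finite F.range := Finite.of_surjective _ F.rangeRestrict_surjective
  haveI := Fintype.ofFinite F.range
  have hP : IsPGroup p F.range := IsPGroup.of_surjective hR F.rangeRestrict F.rangeRestrict_surjective
  let σ : Representation ℂ F.range (Fin m → ℂ) := (Units.coeHom _).comp F.range.subtype
  have hval : ∀ r : R, σ.character (F.rangeRestrict r) = ψ r := by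
    intro r; rw [← hρ]; rfl
  have h1 : σ.character 1 = (d : ℂ) := by
    have := hval 1
    rwa [map_one, OneMemClass.coe_one, hd] at this
  have hb := SchurBound.factorization_le hP (Chars.isCharacter_character σ) h1 (fun q hq => by
      rw [h1] at hq
      have hm : d = m := by
        have : σ.character 1 = (m : ℂ) := by simp
        exact_mod_cast h1.symm.trans this
      have := (Chars.character_eq_finrank_iff σ q).1 (by rw [hq, hm]; simp)
      exact Subtype.ext (Units.ext this))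
    (fun q t ht => by
      obtain ⟨r, rfl⟩ := F.rangeRestrict_surjective q
      rw [← map_pow, hval, hval]
      obtain ⟨k, hk1, hk2⟩ := Nat.chineseRemainder hcR 1 t
      have hk : k.Coprime (Nat.card H) := by
        rw [← N.card_mul_index, hidx]
        refine Nat.Coprime.mul_right ((Nat.ModEq.gcd_eq hk1).trans (Nat.gcd_one_left _)) ?_
        rcases Nat.eq_zero_or_pos e with rfl | he0
        · simp
        · refine Nat.Coprime.pow_right _ (hp.out.coprime_iff_not_dvd.2 fun h => ht ?_).symm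
          exact ((hk2.of_dvd (heR ▸ dvd_pow_self p (by omega))).dvd_iff dvd_rfl).1 h
      have hrk : r ^ t = r ^ k :=
        (pow_eq_pow_iff_modEq.2 (hk2.of_dvd (orderOf_dvd_natCard r))).symm
      rw [hrk, SubgroupClass.coe_pow]
      exact hψk k hk hk1 _)
  have hdvd : (Subgroup.centralizer (N : Set H)).relIndex R ∣ Nat.card F.range := by
    rw [← Subgroup.index_ker F]
    exact Subgroup.index_dvd_of_le hle
  refine ((Nat.factorization_le_iff_dvd (Nat.pos_of_dvd_of_pos hdvd Nat.card_pos).ne'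
    Nat.card_pos.ne').2 hdvd p).trans (hb.trans ?_)
  calc ∑ i ∈ Finset.range (d + 1), d / ((p - 1) * p ^ i)
      ≤ ∑ i ∈ Finset.range (d + 1), n / ((p - 1) * p ^ i) :=
        Finset.sum_le_sum fun i _ => Nat.div_le_div_right hdn
    _ ≤ _ := Finset.sum_le_sum_of_subset (Finset.range_mono (by omega))

end CfsgLib.CharApps.CoprimeSchur
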