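import Mathlib
import Cfsg.Agent.Lib.Blocks.Omega
import Cfsg.Agent.Lib.Blocks.Degree
import Cfsg.Agent.Lib.CharApps.AbelianSylow
import Cfsg.Agent.Lib.CharApps.Basic

/-!
# Groups without elements of order `2 p` and characters of `p`-defect zero

Without a character of defect zero the number of `p`-elements inverted by an involution is
divisible by `p`; so every involution inverts a Sylow `p`-subgroup.
-/

set_option autoImplicit false
set_option linter.style.haveILetI false
set_option linter.unusedSectionVars false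

namespace CfsgLib.CharApps.InvolutionInverts

open Cfsg CfsgLib CfsgLib.Blocks
open scoped ComplexConjugate Pointwise

variable {G : Type*} [Group G] {p : ℕ}

/-- The indicator of the `p`-elements. -/
noncomputable def pElemFun (p : ℕ) : G → ℂ := fun u => by
  classical exact if ∃ k, orderOf u = p ^ k then 1 else 0

open scoped Classical in
theorem pElemFun_apply (u : G) :
    pElemFun p u = if ∃ k, orderOf u = p ^ k then (1 : ℂ) else 0 := by
  simp [pElemFun]

theorem isClassFunction_pElemFun : IsClassFunction G (pElemFun (G := G) p) := by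
  intro u h
  classical
  simp only [pElemFun_apply]
  refine if_congr ?_ rfl rfl
  rw [show orderOf (h * u * h⁻¹) = orderOf u by simpa using (MulAut.conj h).orderOf_eq u]

variable [hp : Fact p.Prime]

theorem mem_sylow_iff_mem_normalizer [Finite G] (P : Sylow p G) {u : G}
    (hu : ∃ k, orderOf u = p ^ k) :
    u ∈ Subgroup.normalizer ((P : Subgroup G) : Set G) ↔ u ∈ P := by
  refine ⟨fun h => ?_, fun h => Subgroup.le_normalizer h⟩
  obtain ⟨k, hk⟩ := hu
  have hz : IsPGroup p (Subgroup.zpowers u) := IsPGroup.of_card (n := k) (by rw [Nat.card_zpowers, hk])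
  have h2 : IsPGroup p ((Subgroup.zpowers u ⊔ (P : Subgroup G) : Subgroup G)) :=
    hz.to_sup_of_normal_right' P.2 (Subgroup.zpowers_le.mpr h)
  have := P.3 h2 le_sup_right
  have h3 := (le_sup_left : Subgroup.zpowers u ≤ _ ⊔ (P : Subgroup G)) (Subgroup.mem_zpowers u)
  rwa [this] at h3

theorem card_sylow_mem_modEq [Finite G] {u : G} (hu : ∃ k, orderOf u = p ^ k) :
    Nat.card {P : Sylow p G // u ∈ P} ≡ 1 [MOD p] := by
  obtain ⟨k, hk⟩ := hu
  have hz : IsPGroup p (Subgroup.zpowers u) := IsPGroup.of_card (n := k) (by rw [Nat.card_zpowers, hk])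
  suffices e : Nat.card {P : Sylow p G // u ∈ P} =
      Nat.card (MulAction.fixedPoints (Subgroup.zpowers u) (Sylow p G)) by
    rw [e]
    exact (hz.card_modEq_card_fixedPoints (Sylow p G)).symm.trans (card_sylow_modEq_one p G)
  refine Nat.card_congr (Equiv.subtypeEquivRight fun P => ?_)
  constructor
  · rintro hP ⟨x, hx⟩
    exact Sylow.smul_eq_iff_mem_normalizer.mpr
      (Subgroup.le_normalizer ((Subgroup.zpowers_le.mpr hP : Subgroup.zpowers u ≤ (P : Subgroup G)) hx))
  · intro h
    exact (mem_sylow_iff_mem_normalizer P ⟨k, hk⟩).mp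
      (Sylow.smul_eq_iff_mem_normalizer.mp (h ⟨u, Subgroup.mem_zpowers u⟩))

variable [Fintype G] {M : Ideal AlgInt} [M.IsPrime]

theorem pElemFun_mem_loc (u : G) : pElemFun p u ∈ loc M := by
  classical
  rw [pElemFun_apply]
  split_ifs <;> simp [(loc M).one_mem, (loc M).zero_mem]

/-- The sum of the `p`-elements has central character in the ideal at positive defect. -/
theorem omega_pElemFun_ideal (hpM : (p : AlgInt) ∈ M) (χ : IrrCharacter G)
    (hχ : (charDegree (χ : G → ℂ)).factorization p ≠ (Nat.card G).factorization p) :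
    MemLocalIdeal M (omega (χ : G → ℂ) (pElemFun p)) := by
  classical
  haveI := Fintype.ofFinite (ConjClasses G)
  haveI := Fintype.ofFinite (Sylow p G)
  let c : G → ℂ := fun u => (Nat.card {P : Sylow p G // u ∈ P} : ℂ)
  have hc : IsClassFunction G c := by
    intro u h
    show ((Nat.card {P : Sylow p G // h * u * h⁻¹ ∈ P} : ℕ) : ℂ) = _
    refine congrArg Nat.cast (Nat.card_congr ?_).symm
    exact (MulAction.toPerm h).subtypeEquiv fun P => by
      show u ∈ (P : Subgroup G) ↔ h * u * h⁻¹ ∈ (↑(h • P) : Subgroup G)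
      rw [Sylow.coe_subgroup_smul, Subgroup.mem_pointwise_smul_iff_inv_smul_mem]
      simp [MulAut.smul_def, mul_assoc]
  have hczero : ∀ u : G, (¬ ∃ k, orderOf u = p ^ k) → c u = 0 := by
    intro u hu
    show ((Nat.card {P : Sylow p G // u ∈ P} : ℕ) : ℂ) = 0
    rw [Nat.cast_eq_zero, Finite.card_eq_zero_iff]
    refine ⟨fun ⟨P, hP⟩ => hu ?_⟩
    obtain ⟨k, hk⟩ := IsPGroup.iff_orderOf.mp P.2 ⟨u, hP⟩
    exact ⟨k, by rw [← hk, Subgroup.orderOf_mk]⟩
  have hdiff : MemLocalIdeal M (omega (χ : G → ℂ) (c - pElemFun p)) := by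
    rw [omega_eq_sum_centralChar χ (Chars.isClassFunction_sub hc isClassFunction_pElemFun)]
    refine MemLocalIdeal.sum' fun C _ => MemLocalIdeal.mul_right' ?_
      (isIntegral_mem_loc (isIntegral_centralChar χ _))
    rw [Pi.sub_apply, pElemFun_apply]
    split_ifs with hu
    · obtain ⟨j, hj⟩ : ∃ j, Nat.card {P : Sylow p G // classRep C ∈ P} = 1 + p * j := by
        have h1 := card_sylow_mem_modEq (G := G) hu
        have hpos : 1 ≤ Nat.card {P : Sylow p G // classRep C ∈ P} := by
          refine Nat.one_le_iff_ne_zero.mpr fun h0 => ?_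
          rw [h0] at h1
          exact hp.out.one_lt.ne' (Nat.dvd_one.mp (Nat.modEq_zero_iff_dvd.mp h1.symm))
        obtain ⟨j, hj⟩ := (Nat.modEq_iff_dvd' hpos).mp h1.symm
        exact ⟨j, by omega⟩
      show MemLocalIdeal M (((Nat.card {P : Sylow p G // classRep C ∈ P} : ℕ) : ℂ) - 1)
      rw [hj]
      push_cast
      rw [add_sub_cancel_left]
      exact MemLocalIdeal.mul_right' (memLocalIdeal_prime hpM) (natCast_mem_loc j)
    · rw [hczero _ hu, sub_zero]
      exact MemLocalIdeal.zero'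
  -- the sum over all Sylow subgroups
  obtain ⟨P0⟩ : Nonempty (Sylow p G) := inferInstance
  obtain ⟨a, ha⟩ := P0.2.exists_card_eq
  have hfa : (Nat.card G).factorization p = a := by
    have := P0.card_eq_multiplicity
    rw [ha] at this
    exact (Nat.pow_right_injective hp.out.two_le this).symm
  have hres : ∀ P : Sylow p G, ∃ m : ℕ,
      ∑ u : (P : Subgroup G), (χ : G → ℂ) u = ((p ^ a * m : ℕ) : ℂ) := by
    intro P
    obtain ⟨m, hm⟩ := Chars.inner_char_nat
      (Chars.isCharacter_restrict (P : Subgroup G) (Chars.isCharacter_of_irr χ.2))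
      (Chars.isCharacter_one (G := (P : Subgroup G)))
    refine ⟨m, ?_⟩
    have hPa : Nat.card (P : Subgroup G) = p ^ a := by rw [P.card_eq_multiplicity, hfa]
    rw [Chars.inner_def, inv_mul_eq_iff_eq_mul₀ (Chars.card_ne_zero _), hPa] at hm
    simpa using hm
  choose m hm using hres
  have hsum : ∑ u : G, c u * (χ : G → ℂ) u = ((p ^ a * ∑ P : Sylow p G, m P : ℕ) : ℂ) := by
    rw [Finset.mul_sum, Nat.cast_sum, ← Finset.sum_congr rfl (fun P _ => hm P)]
    have e : ∀ u : G, c u * (χ : G → ℂ) u =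
        ∑ P : Sylow p G, if u ∈ P then (χ : G → ℂ) u else 0 := fun u => by
      rw [← Finset.sum_filter, Finset.sum_const, nsmul_eq_mul]
      show ((Nat.card {P : Sylow p G // u ∈ P} : ℕ) : ℂ) * _ = _
      rw [Nat.card_eq_fintype_card, Fintype.card_subtype]
    rw [Finset.sum_congr rfl fun u _ => e u, Finset.sum_comm]
    refine Finset.sum_congr rfl fun P _ => ?_
    rw [← Finset.sum_filter]
    exact (Finset.sum_subtype _ (fun x => by
      simp only [Finset.mem_filter, Finset.mem_univ, true_and]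
      exact Iff.rfl) fun u => (χ : G → ℂ) u)
  set d := charDegree (χ : G → ℂ) with hd
  have hd0 : d ≠ 0 := (deg_pos χ).ne'
  obtain ⟨b, d', hd', hdd⟩ := Nat.exists_eq_pow_mul_and_not_dvd hd0 p hp.out.ne_one
  have hd'0 : d' ≠ 0 := fun h => hd' (by rw [h]; exact dvd_zero p)
  have hb : b < a := by
    have h1 : d.factorization p = b := by
      rw [hdd, Nat.factorization_mul (pow_ne_zero b hp.out.ne_zero) hd'0,
        Finsupp.add_apply, Nat.factorization_eq_zero_of_not_dvd hd',
        Nat.factorization_pow_self hp.out, add_zero]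
    have hdG : d ∣ Nat.card G := by
      obtain ⟨n, -, hn, hdvd⟩ := Chars.irr_degree_dvd_card χ.2
      rw [deg_eq, Nat.cast_inj] at hn
      rwa [hd, hn]
    rw [← h1, ← hfa]
    exact lt_of_le_of_ne ((Nat.factorization_le_iff_dvd hd0 Nat.card_pos.ne').mpr hdG p) hχ
  obtain ⟨i, rfl⟩ : ∃ i, a = b + 1 + i := ⟨a - (b + 1), by omega⟩
  have hcloc : omega (χ : G → ℂ) c ∈ loc M := by
    rw [omega_eq_sum_centralChar χ hc]
    exact sum_mem fun C _ => mul_mem (natCast_mem_loc _) (isIntegral_mem_loc (isIntegral_centralChar χ _))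
  have e : omega (χ : G → ℂ) c * (d' : ℂ) =
      (p : ℂ) * ((p ^ i * ∑ P : Sylow p G, m P : ℕ) : ℂ) := by
    rw [omega, hsum, deg_eq, ← hd, hdd]
    push_cast
    have h1 : (d' : ℂ) ≠ 0 := Nat.cast_ne_zero.mpr hd'0
    have h2 : (p : ℂ) ≠ 0 := Nat.cast_ne_zero.mpr hp.out.ne_zero
    rw [pow_add, pow_succ]
    field_simp
  have hcid : MemLocalIdeal M (omega (χ : G → ℂ) c) := by
    refine (MemLocalIdeal.mem_or_mem hcloc (natCast_mem_loc d') ?_).resolve_right
      fun h => hd' ((memLocalIdeal_natCast_iff hp.out hpM d').mp h)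
    rw [e]
    exact MemLocalIdeal.mul_right' (memLocalIdeal_prime hpM) (natCast_mem_loc _)
  have hadd := omega_add (χ : G → ℂ) (c - pElemFun p) (pElemFun p)
  rw [sub_add_cancel] at hadd
  have hx : omega (χ : G → ℂ) (pElemFun p) =
      omega (χ : G → ℂ) c - omega (χ : G → ℂ) (c - pElemFun p) := by rw [hadd]; ring
  rw [hx]
  exact MemLocalIdeal.sub' hcid hdiff

omit [Fintype G] in
theorem not_dvd_card_centralizer_of_involution [Finite G] (h2p : ∀ g : G, orderOf g ≠ 2 * p)
    (hp2 : p ≠ 2) {s : G} (hs : orderOf s = 2) :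
    ¬ p ∣ Nat.card (Subgroup.centralizer ({s} : Set G)) := by
  intro h
  obtain ⟨u, hu⟩ := exists_prime_orderOf_dvd_card' p h
  refine h2p (s * (u : G)) ?_
  rw [(show Commute s (u : G) from (Subgroup.mem_centralizer_singleton_iff.mp u.2).symm).orderOf_mul_eq_mul_orderOf_of_coprime]
  · rw [hs, Subgroup.orderOf_coe, hu]
  · rw [hs, Subgroup.orderOf_coe, hu]
    exact (Nat.coprime_primes Nat.prime_two hp.out).mpr (Ne.symm hp2)

/-- Without a character of defect zero an involution inverts a `p`-element other than one. -/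
theorem exists_inverted (h2p : ∀ g : G, orderOf g ≠ 2 * p) (hp2 : p ≠ 2)
    (hno : ∀ χ : IrrCharacter G,
      (charDegree (χ : G → ℂ)).factorization p ≠ (Nat.card G).factorization p)
    {s : G} (hs : orderOf s = 2) :
    ∃ u : G, u ≠ 1 ∧ (∃ k, orderOf u = p ^ k) ∧ s * u * s⁻¹ = u⁻¹ := by
  classical
  obtain ⟨M, hM⟩ := exists_pModular p
  haveI : M.IsPrime := hM.2.1.isPrime
  haveI := Chars.irrFintype G
  by_contra hcon
  push Not at hcon
  have key : MemLocalIdeal M (∑ χ : IrrCharacter G,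
      (χ : G → ℂ) s * conj ((χ : G → ℂ) s) * omega (χ : G → ℂ) (pElemFun p)) := by
    refine MemLocalIdeal.sum' fun χ _ => MemLocalIdeal.mul_left' ?_
      (omega_pElemFun_ideal hM.2.2 χ (hno χ))
    rw [← Chars.irr_inv]
    exact mul_mem (isIntegral_mem_loc (Chars.char_isIntegral (Chars.isCharacter_of_irr χ.2) _))
      (isIntegral_mem_loc (Chars.char_isIntegral (Chars.isCharacter_of_irr χ.2) _))
  have h1 : ∀ χ : IrrCharacter G,
      (χ : G → ℂ) s * conj ((χ : G → ℂ) s) * omega (χ : G → ℂ) (pElemFun p) =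
        ∑ u : G, pElemFun p u * ((χ : G → ℂ) (u * s) * conj ((χ : G → ℂ) s)) := by
    intro χ
    rw [mul_right_comm, mul_comm ((χ : G → ℂ) s), ← sum_mul_irr χ isClassFunction_pElemFun s,
      Finset.sum_mul]
    exact Finset.sum_congr rfl fun u _ => by ring
  rw [Finset.sum_congr rfl fun χ _ => h1 χ, Finset.sum_comm,
    Finset.sum_eq_single (1 : G) (fun u _ hu1 => ?_) (fun h => absurd (Finset.mem_univ _) h)] at key
  · rw [← Finset.mul_sum, pElemFun_apply, if_pos ⟨0, by simp⟩, one_mul] at key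
    simp only [one_mul] at key
    rw [Chars.second_orthogonality, if_pos (IsConj.refl _),
      memLocalIdeal_natCast_iff hp.out hM.2.2] at key
    exact not_dvd_card_centralizer_of_involution h2p hp2 hs key
  · rw [pElemFun_apply]
    split_ifs with hu
    · rw [← Finset.mul_sum, Chars.second_orthogonality, if_neg, mul_zero]
      intro hc
      refine hcon u hu1 hu ?_
      obtain ⟨c, hc'⟩ := isConj_iff.mp hc
      have hss : s * s = 1 := by
        have := pow_orderOf_eq_one s
        rwa [hs, pow_two] at this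
      have h2 : u * s * (u * s) = 1 := by
        rw [← hc', show c * s * c⁻¹ * (c * s * c⁻¹) = c * (s * s) * c⁻¹ by group, hss, mul_one,
          mul_inv_cancel]
      rw [inv_eq_of_mul_eq_one_right hss]
      exact eq_inv_of_mul_eq_one_right (by simpa [mul_assoc] using h2)
    · simp

omit [Fintype G] in
/-- Without a character of defect zero every involution inverts a Sylow `p`-subgroup. -/
theorem exists_inverted_sylow [Finite G] (h2p : ∀ g : G, orderOf g ≠ 2 * p) (hp2 : p ≠ 2)
    (hno : ∀ χ : IrrCharacter G,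
      (charDegree (χ : G → ℂ)).factorization p ≠ (Nat.card G).factorization p)
    {s : G} (hs : orderOf s = 2) :
    ∃ P : Sylow p G, (P : Subgroup G) ≠ ⊥ ∧ ∀ x ∈ (P : Subgroup G), s * x * s⁻¹ = x⁻¹ := by
  classical
  haveI := Fintype.ofFinite G
  have hss : s * s = 1 := by
    have := pow_orderOf_eq_one s
    rwa [hs, pow_two] at this
  -- `p`-subgroups normalized by `s`
  let 𝒮 : Set (Subgroup G) :=
    {Q | IsPGroup p Q ∧ Q ≠ ⊥ ∧ s ∈ Subgroup.normalizer (Q : Set G)}
  obtain ⟨u, hu1, ⟨k, hk⟩, hus⟩ := exists_inverted h2p hp2 hno hs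
  have hne : 𝒮.Nonempty := by
    refine ⟨Subgroup.zpowers u, IsPGroup.of_card (n := k) (by rw [Nat.card_zpowers, hk]),
      by simpa using hu1, ?_⟩
    rw [Subgroup.mem_normalizer_iff]
    have hmap : ∀ x ∈ Subgroup.zpowers u, s * x * s⁻¹ ∈ Subgroup.zpowers u := by
      rintro _ ⟨n, rfl⟩
      show s * u ^ n * s⁻¹ ∈ _
      rw [← conj_zpow, hus]
      exact Subgroup.zpow_mem _ (inv_mem (Subgroup.mem_zpowers u)) n
    refine fun x => ⟨hmap x, fun h => ?_⟩
    have := hmap _ h
    rwa [inv_eq_of_mul_eq_one_right hss, ← mul_assoc, ← mul_assoc, hss, one_mul, mul_assoc, hss,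
      mul_one] at this
  obtain ⟨Q, hQ⟩ := Set.Finite.exists_maximal (Set.toFinite 𝒮) hne
  obtain ⟨⟨hQp, hQ1, hQs⟩, hQmax⟩ := hQ
  -- `s` inverts `Q`
  have hinv : ∀ (R : Subgroup G), IsPGroup p R → s ∈ Subgroup.normalizer (R : Set G) →
      ∀ x ∈ R, s * x * s⁻¹ = x⁻¹ := by
    intro R hR hRs
    let φ : R →* R :=
      { toFun := fun x => ⟨s * x * s⁻¹, (Subgroup.mem_normalizer_iff.mp hRs x).mp x.2⟩
        map_one' := Subtype.ext (by simp)
        map_mul' := fun a b => Subtype.ext (by simp [mul_assoc]) }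
    have hfp : MonoidHom.FixedPointFree φ := by
      intro x hx
      have hc : s * (x : G) = (x : G) * s := mul_inv_eq_iff_eq_mul.mp (congrArg Subtype.val hx)
      by_contra hx1
      obtain ⟨j, hj⟩ := IsPGroup.iff_orderOf.mp hR x
      refine not_dvd_card_centralizer_of_involution h2p hp2 hs ?_
      rcases Nat.eq_zero_or_pos j with rfl | hj0
      · exact absurd (orderOf_eq_one_iff.mp (by simpa using hj)) hx1
      · refine dvd_trans ?_ (Subgroup.orderOf_dvd_natCard _
          (Subgroup.mem_centralizer_singleton_iff.mpr hc.symm))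
        rw [Subgroup.orderOf_coe, hj]
        exact dvd_pow_self p hj0.ne'
    have hinvol : Function.Involutive φ := fun x => Subtype.ext (by
      show s * (s * (x : G) * s⁻¹) * s⁻¹ = x
      rw [inv_eq_of_mul_eq_one_right hss, ← mul_assoc, ← mul_assoc, hss, one_mul, mul_assoc, hss,
        mul_one])
    intro x hx
    exact congrArg Subtype.val (congrFun (hfp.coe_eq_inv_of_involutive hinvol) ⟨x, hx⟩)
  by_contra hcon
  push Not at hcon
  have hQnS : ¬ ∃ P : Sylow p G, (P : Subgroup G) = Q := by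
    rintro ⟨P, rfl⟩
    obtain ⟨x, hx, hx'⟩ := hcon P hQ1
    exact hx' (hinv _ P.2 hQs x hx)
  obtain ⟨P, hP⟩ := hQp.exists_le_sylow
  have hlt : Q < (P : Subgroup G) := lt_of_le_of_ne hP fun h => hQnS ⟨P, h.symm⟩
  haveI : Group.IsNilpotent (P : Subgroup G) := P.2.isNilpotent
  have hlt' : Q.subgroupOf (P : Subgroup G) < ⊤ := by
    rw [lt_top_iff_ne_top, Ne, Subgroup.subgroupOf_eq_top]
    exact not_le_of_gt hlt
  obtain ⟨y, hy, hyQ⟩ := SetLike.exists_of_lt
    (Group.normalizerCondition_of_isNilpotent (Q.subgroupOf (P : Subgroup G)) hlt')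
  have hyN : (y : G) ∈ Subgroup.normalizer (Q : Set G) := by
    rw [Subgroup.mem_normalizer_iff]
    intro x
    constructor
    · exact fun hx => (Subgroup.mem_normalizer_iff.mp hy ⟨x, hP hx⟩).mp hx
    · intro hx
      have hxP : x ∈ (P : Subgroup G) := by
        have := mul_mem (mul_mem (inv_mem y.2) (hP hx)) y.2
        simpa [mul_assoc] using this
      exact (Subgroup.mem_normalizer_iff.mp hy ⟨x, hxP⟩).mpr hx
  -- the centralizer of `Q` has odd order and is normalized by `s`
  set C := Subgroup.centralizer (Q : Set G) with hC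
  obtain ⟨z, hzQ, hz1⟩ := Q.bot_or_exists_ne_one.resolve_left hQ1
  have hodd : ¬ 2 ∣ Nat.card C := by
    intro h
    obtain ⟨t, ht⟩ := exists_prime_orderOf_dvd_card' 2 h
    obtain ⟨j, hj⟩ := IsPGroup.iff_orderOf.mp hQp ⟨z, hzQ⟩
    rw [Subgroup.orderOf_mk] at hj
    refine not_dvd_card_centralizer_of_involution h2p hp2 (s := (t : G))
      (by rw [Subgroup.orderOf_coe, ht]) ?_
    rcases Nat.eq_zero_or_pos j with rfl | hj0
    · exact absurd (orderOf_eq_one_iff.mp (by simpa using hj)) hz1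
    · refine dvd_trans ?_ (Subgroup.orderOf_dvd_natCard _ (Subgroup.mem_centralizer_singleton_iff.mpr
        (Subgroup.mem_centralizer_iff.mp t.2 z hzQ)))
      rw [hj]
      exact dvd_pow_self p hj0.ne'
  -- some `p`-element outside `Q` centralizes `Q`
  have hconjC : ∀ g ∈ Subgroup.normalizer (Q : Set G), ∀ c ∈ C, g * c * g⁻¹ ∈ C := by
    intro g hg c hc
    rw [hC, Subgroup.mem_centralizer_iff]
    intro q hq
    have hq' : g⁻¹ * q * g ∈ Q := by
      have := (Subgroup.mem_normalizer_iff.mp (inv_mem hg) q).mp hq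
      rwa [inv_inv] at this
    have := Subgroup.mem_centralizer_iff.mp hc _ hq'
    calc q * (g * c * g⁻¹) = g * ((g⁻¹ * q * g) * c) * g⁻¹ := by group
      _ = g * (c * (g⁻¹ * q * g)) * g⁻¹ := by rw [this]
      _ = g * c * g⁻¹ * q := by group
  have hsy : ∀ q ∈ Q, s * ((y : G) * q * (y : G)⁻¹) * s⁻¹ = (y : G) * (s * q * s⁻¹) * (y : G)⁻¹ := by
    intro q hq
    rw [hinv Q hQp hQs _ ((Subgroup.mem_normalizer_iff.mp hyN q).mp hq), hinv Q hQp hQs q hq]
    group
  have hmem : (y : G)⁻¹ * (s * (y : G) * s⁻¹) ∈ C := by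
    rw [hC, Subgroup.mem_centralizer_iff]
    intro q hq
    have hq' : s * q * s⁻¹ ∈ Q := (Subgroup.mem_normalizer_iff.mp hQs q).mp hq
    have h2 := hsy _ hq'
    have hqq : s * (s * q * s⁻¹) * s⁻¹ = q := by
      rw [inv_eq_of_mul_eq_one_right hss, ← mul_assoc, ← mul_assoc, hss, one_mul, mul_assoc, hss,
        mul_one]
    rw [hqq] at h2
    calc q * ((y : G)⁻¹ * (s * (y : G) * s⁻¹))
        = (y : G)⁻¹ * ((y : G) * q * (y : G)⁻¹) * (s * (y : G) * s⁻¹) := by group
      _ = (y : G)⁻¹ * (s * ((y : G) * (s * q * s⁻¹) * (y : G)⁻¹) * s⁻¹) * (s * (y : G) * s⁻¹) := by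
          rw [h2]
      _ = (y : G)⁻¹ * (s * (y : G) * s⁻¹) * (s * (s * q * s⁻¹) * s⁻¹) := by group
      _ = (y : G)⁻¹ * (s * (y : G) * s⁻¹) * q := by rw [hqq]
  have hpC : ∃ v ∈ C, v ∉ Q ∧ ∃ j, orderOf v = p ^ j := by
    obtain ⟨j, hj⟩ := IsPGroup.iff_orderOf.mp P.2 y
    rw [← Subgroup.orderOf_coe] at hj
    refine ⟨y, ?_, hyQ, j, hj⟩
    -- `y` times an element of `C` commutes with `s`
    set w := (y : G)⁻¹ * (s * (y : G) * s⁻¹) with hw
    obtain ⟨n, hn⟩ : Odd (orderOf w) := by
      rw [← Nat.not_even_iff_odd, even_iff_two_dvd]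
      exact fun h => hodd (h.trans (Subgroup.orderOf_dvd_natCard C hmem))
    set h := w ^ (n + 1) with hh
    have hh2 : h * h = w := by
      rw [hh, ← pow_add, show n + 1 + (n + 1) = orderOf w + 1 by omega, pow_succ, pow_orderOf_eq_one,
        one_mul]
    have hws : s * w * s⁻¹ = w⁻¹ := by
      rw [hw, inv_eq_of_mul_eq_one_right hss]
      calc s * ((y : G)⁻¹ * (s * (y : G) * s)) * s
          = s * (y : G)⁻¹ * s * (y : G) * (s * s) := by group
        _ = ((y : G)⁻¹ * (s * (y : G) * s))⁻¹ := by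
          rw [hss, mul_one, mul_inv_rev, inv_inv, mul_inv_rev, mul_inv_rev,
            inv_eq_of_mul_eq_one_right hss]
          group
    have hhs : s * h * s⁻¹ = h⁻¹ := by rw [hh, ← conj_pow, hws, inv_pow]
    have hhC : h ∈ C := pow_mem hmem _
    have hcs : Commute ((y : G) * h) s := by
      have h1 : h * s * h⁻¹ = w * s := by
        rw [← hhs, ← hh2, inv_eq_of_mul_eq_one_right hss]
        calc h * s * (s * h * s) = h * (s * s) * h * s := by group
          _ = h * h * s := by rw [hss, mul_one]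
      refine mul_inv_eq_iff_eq_mul.mp ?_
      calc (y : G) * h * s * ((y : G) * h)⁻¹ = (y : G) * (h * s * h⁻¹) * (y : G)⁻¹ := by group
        _ = s * (y : G) * (s * s) * (y : G)⁻¹ := by
          rw [h1, hw, inv_eq_of_mul_eq_one_right hss]; group
        _ = s := by rw [hss, mul_one, mul_inv_cancel_right]
    have hcop : ¬ p ∣ orderOf ((y : G) * h) := fun hd =>
      not_dvd_card_centralizer_of_involution h2p hp2 hs (hd.trans
        (Subgroup.orderOf_dvd_natCard _ (Subgroup.mem_centralizer_singleton_iff.mpr hcs.eq)))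
    have hind : ∀ i : ℕ, ((y : G) * h) ^ i * ((y : G) ^ i)⁻¹ ∈ C := by
      intro i
      induction i with
      | zero => simp [C.one_mem]
      | succ i ih =>
        have e : ((y : G) * h) ^ (i + 1) * ((y : G) ^ (i + 1))⁻¹ =
            (((y : G) * h) ^ i * ((y : G) ^ i)⁻¹) *
              ((y : G) ^ (i + 1) * h * ((y : G) ^ (i + 1))⁻¹) := by
          rw [pow_succ, pow_succ]
          group
        rw [e]
        exact C.mul_mem ih (hconjC _ (pow_mem hyN _) h hhC)
    have h2 := hind (orderOf ((y : G) * h))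
    rw [pow_orderOf_eq_one, one_mul, inv_mem_iff] at h2
    obtain ⟨k, hk⟩ := exists_pow_eq_self_of_coprime (x := (y : G))
      (n := orderOf ((y : G) * h)) (by
        rw [hj]
        exact ((Nat.Prime.coprime_iff_not_dvd hp.out).mpr hcop).symm.pow_right j)
    rw [← hk]
    exact pow_mem h2 k
  obtain ⟨v, hvC, hvQ, j, hj⟩ := hpC
  -- a Sylow subgroup of the centralizer normalized by `s`
  have hsC : s ∈ Subgroup.normalizer (C : Set G) := by
    rw [Subgroup.mem_normalizer_iff]
    refine fun x => ⟨hconjC s hQs x, fun h => ?_⟩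
    have := hconjC s hQs _ h
    rwa [inv_eq_of_mul_eq_one_right hss, ← mul_assoc, ← mul_assoc, hss, one_mul, mul_assoc, hss,
      mul_one] at this
  haveI := Fintype.ofFinite C
  let φ : MulAut C := (Subgroup.normalizerMonoidHom C) ⟨s, hsC⟩
  have hφ2 : φ * φ = 1 := by
    rw [← map_mul, show (⟨s, hsC⟩ : Subgroup.normalizer (C : Set G)) * ⟨s, hsC⟩ = 1 from
      Subtype.ext hss, map_one]
  have hfix : ∃ R : Sylow p C, φ • R = R := by
    by_contra hnf
    push Not at hnf
    haveI := Fintype.ofFinite (Sylow p C)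
    have h1 : Even (Fintype.card (Sylow p C)) := by
      rw [← ZMod.natCast_eq_zero_iff_even, ← Finset.card_univ, Finset.card_eq_sum_ones,
        Nat.cast_sum, Nat.cast_one]
      exact Finset.sum_involution (fun R _ => φ • R) (fun _ _ => by decide)
        (fun R _ _ => hnf R) (fun _ _ => Finset.mem_univ _)
        (fun R _ => by rw [smul_smul, hφ2, one_smul])
    obtain ⟨R0⟩ : Nonempty (Sylow p C) := inferInstance
    refine hodd (dvd_trans h1.two_dvd ?_)
    rw [← Nat.card_eq_fintype_card]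
    exact R0.card_dvd_index.trans (Subgroup.index_dvd_card _)
  obtain ⟨R, hR⟩ := hfix
  set R' : Subgroup G := Q ⊔ (R : Subgroup C).map C.subtype with hR'
  have hRn : (R : Subgroup C).map C.subtype ≤ Subgroup.normalizer (Q : Set G) :=
    (Subgroup.map_subtype_le _).trans (Subgroup.centralizer_le_normalizer _)
  have hR'p : IsPGroup p R' := hQp.to_sup_of_normal_left' (R.2.map _) hRn
  have hsR : s ∈ Subgroup.normalizer (R' : Set G) := by
    have hle : R'.map (MulAut.conj s).toMonoidHom ≤ R' := by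
      rw [hR', Subgroup.map_sup]
      refine sup_le_sup ?_ ?_
      · rintro _ ⟨q, hq, rfl⟩
        exact (Subgroup.mem_normalizer_iff.mp hQs q).mp hq
      · rintro _ ⟨_, ⟨r, hr, rfl⟩, rfl⟩
        refine ⟨φ r, ?_, rfl⟩
        have h2 : φ r ∈ (↑(φ • R) : Subgroup C) := by
          rw [Sylow.pointwise_smul_def]
          exact Subgroup.mem_map_of_mem _ hr
        rwa [hR] at h2
    rw [Subgroup.mem_normalizer_iff]
    refine fun x => ⟨fun hx => hle ⟨x, hx, rfl⟩, fun h => ?_⟩
    have := hle ⟨_, h, rfl⟩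
    simp only [MulEquiv.coe_toMonoidHom, MulAut.conj_apply] at this
    rwa [inv_eq_of_mul_eq_one_right hss, ← mul_assoc, ← mul_assoc, hss, one_mul, mul_assoc, hss,
      mul_one] at this
  have heq : R' ≤ Q := hQmax ⟨hR'p, fun h => hQ1 (le_bot_iff.mp (h ▸ le_sup_left)), hsR⟩ le_sup_left
  -- so every `p`-element of the centralizer lies in `Q`
  apply hvQ
  have hvp : IsPGroup p ((Subgroup.zpowers v).subgroupOf C) :=
    (IsPGroup.of_card (n := j) (by rw [Nat.card_zpowers, hj]) :
      IsPGroup p (Subgroup.zpowers v)).comap_subtype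
  obtain ⟨R2, hR2⟩ := hvp.exists_le_sylow
  obtain ⟨g, hg⟩ := MulAction.exists_smul_eq C R2 R
  have hm : (g * ⟨v, hvC⟩ * g⁻¹ : C) ∈ (R : Subgroup C) := by
    rw [← hg, Sylow.coe_subgroup_smul, Subgroup.mem_pointwise_smul_iff_inv_smul_mem]
    simpa [MulAut.smul_def, mul_assoc] using
      hR2 (show (⟨v, hvC⟩ : C) ∈ _ from Subgroup.mem_zpowers v)
  have h3 : ((g : G) * v * (g : G)⁻¹) ∈ Q :=
    heq (le_sup_right (a := Q) ⟨_, hm, rfl⟩)
  exact (Subgroup.mem_normalizer_iff.mp (Subgroup.centralizer_le_normalizer _ g.2) v).mpr h3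

omit [Fintype G] in
/-- The dichotomy. -/
theorem dichotomy [Finite G] (hp2 : p ≠ 2) (hG : Even (Nat.card G))
    (h2p : ∀ g : G, orderOf g ≠ 2 * p) :
    (∃ χ : IrrCharacter G,
        (charDegree (χ : G → ℂ)).factorization p = (Nat.card G).factorization p) ∨
      ((∀ P : Sylow p G, IsMulCommutative (P : Subgroup G)) ∧
        ∀ s t : G, orderOf s = 2 → orderOf t = 2 → IsConj s t) := by
  by_contra hcon
  push Not at hcon
  obtain ⟨hno, hrest⟩ := hcon
  have hinv := fun (s : G) (hs : orderOf s = 2) => exists_inverted_sylow h2p hp2 hno hs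
  obtain ⟨s0, hs0⟩ := exists_prime_orderOf_dvd_card' 2 hG.two_dvd
  obtain ⟨P0, hP01, hP0⟩ := hinv s0 hs0
  have hab : IsMulCommutative (P0 : Subgroup G) := by
    refine ⟨⟨fun a b => Subtype.ext ?_⟩⟩
    show (a : G) * b = b * a
    have h1 := hP0 _ ((P0 : Subgroup G).mul_mem a.2 b.2)
    have h2 : s0 * ((a : G) * b) * s0⁻¹ = (s0 * a * s0⁻¹) * (s0 * b * s0⁻¹) := by group
    rw [h2, hP0 a a.2, hP0 b b.2] at h1
    calc (a : G) * b = ((b : G)⁻¹ * (a : G)⁻¹)⁻¹ := by group
      _ = ((a : G)⁻¹ * (b : G)⁻¹)⁻¹ := by rw [h1.trans (mul_inv_rev _ _)]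
      _ = (b : G) * a := by group
  have habs : ∀ P : Sylow p G, IsMulCommutative (P : Subgroup G) := fun P => by
    refine ⟨⟨fun a b => ?_⟩⟩
    obtain e := Sylow.equiv P P0
    exact e.injective (by rw [map_mul, map_mul, hab.is_comm.comm])
  obtain ⟨s, t, hs, ht, hst⟩ := hrest habs
  obtain ⟨P, hP1, hP⟩ := hinv s hs
  obtain ⟨P', -, hP'⟩ := hinv t ht
  obtain ⟨g, hg⟩ := MulAction.exists_smul_eq G P' P
  set t' := g * t * g⁻¹ with ht'
  have ht'P : ∀ x ∈ (P : Subgroup G), t' * x * t'⁻¹ = x⁻¹ := by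
    intro x hx
    rw [← hg, Sylow.coe_subgroup_smul, Subgroup.mem_pointwise_smul_iff_inv_smul_mem] at hx
    have h1 := hP' (g⁻¹ * x * g) (by simpa [MulAut.smul_def, mul_assoc] using hx)
    calc t' * x * t'⁻¹ = g * (t * (g⁻¹ * x * g) * t⁻¹) * g⁻¹ := by rw [ht']; group
      _ = x⁻¹ := by rw [h1]; group
  refine hst (IsConj.trans ?_ (isConj_iff.mpr ⟨g, rfl⟩ : IsConj t t').symm)
  have hss : s * s = 1 := by
    have := pow_orderOf_eq_one s
    rwa [hs, pow_two] at this
  have htt : t' * t' = 1 := by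
    have := pow_orderOf_eq_one t
    rw [ht, pow_two] at this
    rw [ht', show g * t * g⁻¹ * (g * t * g⁻¹) = g * (t * t) * g⁻¹ by group, this, mul_one,
      mul_inv_cancel]
  -- the product centralizes `P`, so has odd order
  obtain ⟨z, hz, hz1⟩ := (P : Subgroup G).bot_or_exists_ne_one.resolve_left hP1
  have hodd : Odd (orderOf (s * t')) := by
    rw [← Nat.not_even_iff_odd]
    intro hev
    obtain ⟨j, hj⟩ := hev
    have hw : orderOf ((s * t') ^ j) = 2 := by
      rw [orderOf_pow_of_dvd (by have := orderOf_pos (s * t'); omega) ⟨2, by omega⟩, hj]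
      have := orderOf_pos (s * t')
      exact Nat.div_eq_of_eq_mul_left (by omega) (by omega)
    refine not_dvd_card_centralizer_of_involution h2p hp2 hw ?_
    obtain ⟨k, hk⟩ := IsPGroup.iff_orderOf.mp P.2 ⟨z, hz⟩
    rw [Subgroup.orderOf_mk] at hk
    rcases Nat.eq_zero_or_pos k with rfl | hk0
    · exact absurd (orderOf_eq_one_iff.mp (by simpa using hk)) hz1
    · have hcz : Commute (s * t') z := by
        have h1 := ht'P z hz
        have h2 := hP _ ((P : Subgroup G).inv_mem hz)
        rw [inv_inv] at h2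
        refine mul_inv_eq_iff_eq_mul.mp ?_
        calc s * t' * z * (s * t')⁻¹ = s * (t' * z * t'⁻¹) * s⁻¹ := by group
          _ = z := by rw [h1, h2]
      refine dvd_trans ?_ (Subgroup.orderOf_dvd_natCard _
        (Subgroup.mem_centralizer_singleton_iff.mpr (hcz.pow_left j).eq.symm))
      rw [hk]
      exact dvd_pow_self p hk0.ne'
  obtain ⟨m, hm⟩ := hodd
  set r := s * t' with hr
  have hrs : s * r ^ m * s = (r ^ m)⁻¹ := by
    have h1 : s * r * s⁻¹ = r⁻¹ := by
      rw [hr, mul_inv_rev, inv_eq_of_mul_eq_one_right hss, inv_eq_of_mul_eq_one_right htt,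
        ← mul_assoc, hss, one_mul]
    have h2 := conj_pow (i := m) (a := s) (b := r)
    rw [h1, inv_pow, inv_eq_of_mul_eq_one_right hss] at h2
    exact h2.symm
  refine isConj_iff.mpr ⟨r ^ m, ?_⟩
  have h3 : r * (r ^ m * r ^ m) = 1 := by
    rw [← pow_add, ← pow_succ', show m + m + 1 = orderOf r by omega, pow_orderOf_eq_one]
  have hti : t' = s * r := by rw [hr, ← mul_assoc, hss, one_mul]
  rw [hti]
  calc r ^ m * s * (r ^ m)⁻¹ = r ^ m * s * (s * r ^ m * s) := by rw [hrs]
    _ = (r ^ m * r ^ m) * s := by rw [show r ^ m * s * (s * r ^ m * s) = r ^ m * (s * s) * r ^ m * s by group, hss, mul_one]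
    _ = r⁻¹ * s := by rw [eq_inv_of_mul_eq_one_right h3]
    _ = s * r := by
        rw [hr, mul_inv_rev, inv_eq_of_mul_eq_one_right hss, inv_eq_of_mul_eq_one_right htt,
          ← mul_assoc s s t', hss, one_mul, mul_assoc, hss, mul_one]

end CfsgLib.CharApps.InvolutionInverts
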