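import Mathlib
import Cfsg.Agent.Lib.CharApps.InvolutionInverts
import Cfsg.Agent.Lib.Blocks.Osima

/-!
# The number of Sylow subgroups containing an element, as a class function

Its coefficients on the irreducible characters are integral at `p`, it vanishes off the
`p`-elements and is congruent to one on them.
-/

set_option autoImplicit false
set_option linter.style.haveILetI false
set_option linter.unusedSectionVars false

namespace CfsgLib.CharApps.SylowCountFun

open Cfsg CfsgLib CfsgLib.Blocks
open scoped ComplexConjugate Pointwise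

variable {G : Type*} [Group G] [Fintype G] {p : ℕ} [hp : Fact p.Prime]
  {M : Ideal AlgInt} [M.IsPrime]

/-- The number of Sylow `p`-subgroups containing an element. -/
noncomputable def count (p : ℕ) (u : G) : ℂ := (Nat.card {P : Sylow p G // u ∈ P} : ℂ)

theorem count_eq_zero {u : G} (hu : ¬ ∃ k, orderOf u = p ^ k) : count p u = 0 := by
  show ((Nat.card {P : Sylow p G // u ∈ P} : ℕ) : ℂ) = 0
  rw [Nat.cast_eq_zero, Finite.card_eq_zero_iff]
  refine ⟨fun ⟨P, hP⟩ => hu ?_⟩
  obtain ⟨k, hk⟩ := IsPGroup.iff_orderOf.mp P.2 ⟨u, hP⟩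
  exact ⟨k, by rw [← hk, Subgroup.orderOf_mk]⟩

theorem not_memLocalIdeal_count_one (hpM : (p : AlgInt) ∈ M) :
    ¬ MemLocalIdeal M (count p (1 : G)) := by
  intro h
  rw [count, memLocalIdeal_natCast_iff hp.out hpM] at h
  have h1 := InvolutionInverts.card_sylow_mem_modEq (G := G) (p := p) (u := 1) ⟨0, by simp⟩
  have h2 := (Nat.modEq_zero_iff_dvd.mpr h).symm.trans h1
  exact hp.out.one_lt.ne' (Nat.dvd_one.mp (Nat.modEq_zero_iff_dvd.mp h2.symm))

theorem isClassFunction_count : IsClassFunction G (count (G := G) p) := by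
  intro u h
  show ((Nat.card {P : Sylow p G // h * u * h⁻¹ ∈ P} : ℕ) : ℂ) = _
  refine congrArg Nat.cast (Nat.card_congr ?_).symm
  exact (MulAction.toPerm h).subtypeEquiv fun P => by
    show u ∈ (P : Subgroup G) ↔ h * u * h⁻¹ ∈ (↑(h • P) : Subgroup G)
    rw [Sylow.coe_subgroup_smul, Subgroup.mem_pointwise_smul_iff_inv_smul_mem]
    simp [MulAut.smul_def, mul_assoc]

theorem inner_count_mem_loc (hpM : (p : AlgInt) ∈ M) (χ : IrrCharacter G) :
    classInner (count p) (χ : G → ℂ) ∈ loc M := by
  classical
  haveI := Fintype.ofFinite (Sylow p G)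
  have key : classInner (count p) (χ : G → ℂ) =
      ∑ P : Sylow p G, ((P : Subgroup G).index : ℂ)⁻¹ *
        classInner (fun _ : (P : Subgroup G) => (1 : ℂ)) (fun x : (P : Subgroup G) => (χ : G → ℂ) x) := by
    have e : ∀ u : G, count p u * conj ((χ : G → ℂ) u) =
        ∑ P : Sylow p G, if u ∈ P then conj ((χ : G → ℂ) u) else 0 := fun u => by
      rw [← Finset.sum_filter, Finset.sum_const, nsmul_eq_mul]
      show ((Nat.card {P : Sylow p G // u ∈ P} : ℕ) : ℂ) * _ = _
      rw [Nat.card_eq_fintype_card, Fintype.card_subtype]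
    rw [Chars.inner_def, Finset.sum_congr rfl fun u _ => e u, Finset.sum_comm, Finset.mul_sum]
    refine Finset.sum_congr rfl fun P _ => ?_
    rw [Chars.inner_def, ← (P : Subgroup G).index_mul_card, Nat.cast_mul, mul_inv, mul_assoc,
      ← Finset.sum_filter]
    simp only [one_mul]
    congr 2
    exact Finset.sum_subtype _ (fun x => by
      simp only [Finset.mem_filter, Finset.mem_univ, true_and]
      exact Iff.rfl) fun u => conj ((χ : G → ℂ) u)
  rw [key]
  refine sum_mem fun P _ => mul_mem (inv_natCast_mem_loc hp.out hpM P.not_dvd_index) ?_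
  obtain ⟨n, hn⟩ := Chars.inner_char_nat (Chars.isCharacter_one (G := (P : Subgroup G)))
    (Chars.isCharacter_restrict (P : Subgroup G) (Chars.isCharacter_of_irr χ.2))
  rw [hn]
  exact natCast_mem_loc n

/-- Translating a class function by an element and summing against the count. -/
theorem sum_mul_count [Fintype (IrrCharacter G)] {a : G → ℂ} (ha : IsClassFunction G a) (x : G) :
    ∑ g, a g * count p (g * x) =
      ∑ χ : IrrCharacter G,
        classInner (count p) (χ : G → ℂ) * (omega (χ : G → ℂ) a * (χ : G → ℂ) x) := by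
  have h := Chars.classFun_eq_sum (isClassFunction_count (G := G) (p := p))
  conv_lhs => rw [h]
  simp only [Finset.sum_apply, Pi.smul_apply, smul_eq_mul, Finset.mul_sum]
  rw [Finset.sum_comm]
  refine Finset.sum_congr rfl fun χ _ => ?_
  rw [← sum_mul_irr χ ha x, Finset.mul_sum]
  exact Finset.sum_congr rfl fun g _ => by ring

end CfsgLib.CharApps.SylowCountFun
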