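import Mathlib
import Cfsg.Agent.Lib.CharApps.SylowCountFun
import Cfsg.Agent.Lib.Blocks.HeightClasses
import Cfsg.Agent.Lib.Blocks.Center
import Cfsg.Agent.Lib.Blocks.MinMax
import Cfsg.Agent.Lib.BlockOrth.ClassDefect

/-!
# The classes with a given Sylow subgroup of the centralizer and the blocks with that defect group
-/

set_option autoImplicit false
set_option linter.style.haveILetI false
set_option linter.unusedSectionVars false

namespace CfsgLib.CharApps.DefectGroupRank

open Cfsg CfsgLib CfsgLib.Blocks CfsgLib.BlockOrth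

variable {G : Type*} [Group G] [Fintype G] {p : ℕ} [hp : Fact p.Prime]
  {M : Ideal AlgInt} [M.IsPrime] {D : Subgroup G}

omit [M.IsPrime] in
theorem centralizer_inv (x : G) :
    Subgroup.centralizer ({x⁻¹} : Set G) = Subgroup.centralizer ({x} : Set G) := by
  ext y
  rw [Subgroup.mem_centralizer_singleton_iff, Subgroup.mem_centralizer_singleton_iff]
  exact ⟨fun h => (Commute.inv_right_iff.mp h), fun h => (Commute.inv_right_iff.mpr h)⟩

theorem card_eq {x : G}
    {S : Sylow p (Subgroup.centralizer ({x} : Set G))}
    (hS : (S : Subgroup (Subgroup.centralizer ({x} : Set G))).map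
      (Subgroup.centralizer ({x} : Set G)).subtype = D) :
    Nat.card D = p ^ (Nat.card (Subgroup.centralizer ({x} : Set G))).factorization p := by
  rw [← hS, Subgroup.card_map_of_injective (Subgroup.subtype_injective _), S.card_eq_multiplicity]

/-- A character has a vanishing central character at every `x j`, vanishes at every inverse, or
lies in a block with defect group `D`. -/
theorem trichotomy (hpM : (p : AlgInt) ∈ M) {r : ℕ} (x : Fin r → G)
    (hD : ∀ i : Fin r, ∃ S : Sylow p (Subgroup.centralizer ({x i} : Set G)),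
      (S : Subgroup (Subgroup.centralizer ({x i} : Set G))).map
        (Subgroup.centralizer ({x i} : Set G)).subtype = D) (χ : IrrCharacter G) :
    (∀ j, MemLocalIdeal M (centralChar (χ : G → ℂ) (x j))) ∨
      (∀ i, MemLocalIdeal M ((χ : G → ℂ) (x i)⁻¹)) ∨
      IsDefectGroup p M (blockOf M (χ : G → ℂ)) D := by
  by_contra hcon
  push Not at hcon
  obtain ⟨⟨j, hj⟩, ⟨i, hi⟩, hnD⟩ := hcon
  set B := blockOf M (χ : G → ℂ) with hBdef
  have hB : IsPBlock M B := ⟨χ, rfl⟩
  have hχ : χ ∈ B := mem_blockOf_self χ
  have hidx : ∀ l, (Nat.card D = p ^ ((Nat.card G).factorization p -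
      (Subgroup.centralizer ({x l} : Set G)).index.factorization p)) := by
    intro l
    obtain ⟨S, hS⟩ := hD l
    rw [card_eq hS]
    have := factorization_centralizer_add (p := p) (x l)
    congr 1
    omega
  have hle : (Subgroup.centralizer ({x j} : Set G)).index.factorization p ≤ blockMin p B :=
    not_lt.mp fun h => hj (centralChar_mem_of_lt hpM hB hχ h)
  have hii : (Subgroup.centralizer ({x i} : Set G)).index.factorization p =
      (Subgroup.centralizer ({x j} : Set G)).index.factorization p := by
    have h1 := hidx i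
    rw [hidx j] at h1
    have h2 := Nat.pow_right_injective hp.out.two_le h1
    have h3 := factorization_centralizer_add (p := p) (x i)
    have h4 := factorization_centralizer_add (p := p) (x j)
    omega
  have hge : blockMin p B ≤ (Subgroup.centralizer ({x j} : Set G)).index.factorization p := by
    refine not_lt.mp fun h => hi ?_
    have e : (χ : G → ℂ) (x i)⁻¹ =
        (charDegree (χ : G → ℂ) : ℂ) / (Subgroup.centralizer ({x i} : Set G)).index *
          centralChar (χ : G → ℂ) (x i)⁻¹ := by
      have h0 : ((Subgroup.centralizer ({x i} : Set G)).index : ℂ) ≠ 0 :=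
        Nat.cast_ne_zero.mpr Subgroup.index_ne_zero_of_finite
      have h1 : (charDegree (χ : G → ℂ) : ℂ) ≠ 0 :=
        Nat.cast_ne_zero.mpr (irr_charDegree_ne_zero χ)
      rw [centralChar, centralizer_inv, irr_apply_one]
      field_simp
    rw [e]
    refine MemLocalIdeal.mul_right' (memLocalIdeal_natDiv hpM Subgroup.index_ne_zero_of_finite ?_)
      (centralChar_mem_loc χ _)
    rw [hii]
    exact lt_of_lt_of_le h (blockMin_le hχ)
  have heq := le_antisymm hge hle
  obtain ⟨E, hE⟩ := exists_isDefectGroup (p := p) hB
  have hEcard := card_defectGroup hpM hB hE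
  obtain ⟨g, hg, T, rfl⟩ := hE
  obtain ⟨S, hS⟩ := hD j
  obtain ⟨c, hc⟩ := exists_conj_sylow_le hpM hB hg.2.1 hχ hj T S
  rw [hS] at hc
  have hT : IsDefectGroup p M B (((T : Subgroup (Subgroup.centralizer ({g} : Set G))).map
      (Subgroup.centralizer ({g} : Set G)).subtype)) := ⟨g, hg, T, rfl⟩
  have hTD := IsDefectGroup.map_conj hT c hB
  refine hnD ?_
  rwa [Subgroup.eq_of_le_of_card_ge hc] at hTD
  rw [Base.card_map_conj, hEcard, hidx j, blockDefect_eq, heq]

/-- The blocks with defect group `D` separate the classes. -/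
theorem exists_blocks (hpM : (p : AlgInt) ∈ M) {r : ℕ} (x : Fin r → G)
    (hx : ∀ i j : Fin r, IsConj (x i) (x j) → i = j)
    (hD : ∀ i : Fin r, ∃ S : Sylow p (Subgroup.centralizer ({x i} : Set G)),
      (S : Subgroup (Subgroup.centralizer ({x i} : Set G))).map
        (Subgroup.centralizer ({x i} : Set G)).subtype = D)
    (hsep : ∀ i j : Fin r, ∀ g h : G, IsConj (x i) g → IsConj (x j) h →
      ∀ k : ℕ, 0 < k → orderOf (g * h⁻¹) ≠ p ^ k) :
    ∃ B : Fin r → Set (IrrCharacter G), Function.Injective B ∧
      (∀ i, IsPBlock M (B i) ∧ IsDefectGroup p M (B i) D) ∧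
      ∀ χ : Fin r → IrrCharacter G,
        (∀ i, χ i ∈ B i ∧ blockHeight p (B i) (χ i : G → ℂ) = 0) →
        ¬ MemLocalIdeal M (Matrix.det (Matrix.of fun i j : Fin r => (χ i : G → ℂ) (x j))) := by
  classical
  haveI := Chars.irrFintype G
  let S := {B : Set (IrrCharacter G) // IsPBlock M B ∧ IsDefectGroup p M B D}
  haveI : Fintype S := Fintype.ofFinite S
  choose rep hrep using fun B : S => IsPBlock.nonempty B.2.1
  let cc : IrrCharacter G → Fin r → loc M := fun χ j =>
    ⟨centralChar (χ : G → ℂ) (x j), centralChar_mem_loc χ _⟩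
  let w : S → (Fin r → ResField M) := fun B j => red (cc (rep B) j)
  -- a combination vanishing on every block vanishes
  have key : ∀ c : Fin r → ResField M, (∀ B : S, ∑ j, c j * w B j = 0) → c = 0 := by
    intro c hc
    choose a ha using fun j => IsLocalRing.residue_surjective (R := loc M) (c j)
    let z : G → ℂ := ∑ j, (a j : ℂ) • classInd (x j)
    have hz : IsClassFunction G z := Chars.isClassFunction_sum _ fun j _ =>
      Chars.isClassFunction_smul _ (isClassFunction_classInd (x j))
    have homega : ∀ χ : IrrCharacter G, omega (χ : G → ℂ) z = ((∑ j, a j * cc χ j : loc M) : ℂ) := by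
      intro χ
      simp only [z, omega_sum, omega_smul, omega_classInd]
      push_cast
      rfl
    funext i
    have h1 : MemLocalIdeal M (∑ g, z g * SylowCountFun.count p (g * (x i)⁻¹)) := by
      rw [SylowCountFun.sum_mul_count hz]
      refine MemLocalIdeal.sum' fun χ _ => MemLocalIdeal.mul_left'
        (SylowCountFun.inner_count_mem_loc hpM χ) ?_
      rcases trichotomy hpM x hD χ with h | h | h
      · refine MemLocalIdeal.mul_right' ?_ (irr_mem_loc χ _)
        rw [homega]
        exact red_eq_zero_iff.mp (by
          rw [map_sum]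
          exact Finset.sum_eq_zero fun j _ => by
            rw [map_mul, red_eq_zero_iff.mpr (show MemLocalIdeal M ((cc χ j : loc M) : ℂ) from h j),
              mul_zero])
      · refine MemLocalIdeal.mul_left' ?_ (h i)
        rw [homega]
        exact Subtype.prop _
      · refine MemLocalIdeal.mul_right' ?_ (irr_mem_loc χ _)
        rw [homega]
        let B : S := ⟨blockOf M (χ : G → ℂ), ⟨χ, rfl⟩, h⟩
        refine red_eq_zero_iff.mp ?_
        rw [map_sum, ← hc B]
        refine Finset.sum_congr rfl fun j _ => ?_
        rw [map_mul, ha]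
        refine congrArg _ (sub_eq_zero.mp ?_)
        rw [← map_sub]
        exact red_eq_zero_iff.mpr (hrep B (x j))
    have h2 : ∑ g, z g * SylowCountFun.count p (g * (x i)⁻¹) =
        (a i : ℂ) * SylowCountFun.count p (1 : G) := by
      rw [Finset.sum_eq_single (x i) (fun g _ hg => ?_) (fun h => absurd (Finset.mem_univ _) h)]
      · rw [mul_inv_cancel]
        congr 1
        simp only [z, Finset.sum_apply, Pi.smul_apply, smul_eq_mul]
        rw [Finset.sum_eq_single i (fun j _ hj => ?_) (fun h => absurd (Finset.mem_univ _) h),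
          classInd_apply, if_pos (IsConj.refl _), mul_one]
        rw [classInd_apply, if_neg (fun h => hj (hx _ _ h)), mul_zero]
      · by_cases hzg : z g = 0
        · rw [hzg, zero_mul]
        obtain ⟨j, hj⟩ : ∃ j, IsConj (x j) g := by
          by_contra hno
          refine hzg ?_
          simp only [z, Finset.sum_apply, Pi.smul_apply, smul_eq_mul]
          exact Finset.sum_eq_zero fun j _ => by
            rw [classInd_apply, if_neg (fun h => hno ⟨j, h⟩), mul_zero]
        rw [SylowCountFun.count_eq_zero (fun hk => ?_), mul_zero]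
        obtain ⟨k, hk⟩ := hk
        rcases Nat.eq_zero_or_pos k with rfl | hk0
        · exact hg (mul_inv_eq_one.mp (orderOf_eq_one_iff.mp (by simpa using hk)))
        · exact hsep j i g (x i) hj (IsConj.refl _) k hk0 hk
    rw [h2] at h1
    rw [← ha i]
    refine red_eq_zero_iff.mpr ((MemLocalIdeal.mem_or_mem (a i).2 ?_ h1).resolve_right
      (SylowCountFun.not_memLocalIdeal_count_one hpM))
    exact natCast_mem_loc _
  -- hence some of the rows form a basis
  have hspan : ⊤ ≤ Submodule.span (ResField M) (Set.range w) := by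
    by_contra hne
    obtain ⟨f, hf, hfle⟩ := Submodule.exists_le_ker_of_lt_top _ (lt_top_iff_ne_top.mpr
      fun h => hne (le_of_eq h.symm))
    have hfc : ∀ v : Fin r → ResField M, f v = ∑ j, f (fun l => if j = l then 1 else 0) * v j := by
      intro v
      conv_lhs => rw [pi_eq_sum_univ v]
      rw [map_sum]
      exact Finset.sum_congr rfl fun j _ => by rw [map_smul, smul_eq_mul, mul_comm]
    have h0 := key (fun j => f (fun l => if j = l then 1 else 0)) fun B => by
      rw [← hfc]
      exact hfle (Submodule.subset_span ⟨B, rfl⟩)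
    refine hf (LinearMap.ext fun v => ?_)
    rw [hfc]
    simp [funext_iff.mp h0]
  obtain ⟨b, hb, hbspan, hblin⟩ := exists_linearIndependent (ResField M) (Set.range w)
  let bb := Module.Basis.mk hblin (by rw [Subtype.range_coe, hbspan]; exact hspan)
  haveI : Finite b := Module.Finite.finite_basis bb
  haveI := Fintype.ofFinite b
  have hcard : Fintype.card b = r := by
    rw [← Module.finrank_eq_card_basis bb, Module.finrank_fin_fun]
  let e : Fin r ≃ b := (Fintype.equivFinOfCardEq hcard).symm
  choose sel hsel using fun v : b => hb v.2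
  refine ⟨fun i => (sel (e i)).1, fun i j h => ?_, fun i => (sel (e i)).2, fun χ hχ => ?_⟩
  · have h1 : sel (e i) = sel (e j) := Subtype.ext h
    exact e.injective (Subtype.ext (by rw [← hsel (e i), ← hsel (e j), h1]))
  · obtain rfl | hr := Nat.eq_zero_or_pos r
    · simpa using not_memLocalIdeal_one (M := M)
    set ι := (Subgroup.centralizer ({x ⟨0, hr⟩} : Set G)).index.factorization p with hι
    have hidx : ∀ j, (Subgroup.centralizer ({x j} : Set G)).index.factorization p = ι := by
      intro j
      obtain ⟨T, hT⟩ := hD j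
      obtain ⟨T0, hT0⟩ := hD ⟨0, hr⟩
      have h1 := card_eq hT
      rw [card_eq hT0] at h1
      have h2 := Nat.pow_right_injective hp.out.two_le h1
      have h3 := factorization_centralizer_add (p := p) (x j)
      have h4 := factorization_centralizer_add (p := p) (x ⟨0, hr⟩)
      omega
    have hdeg : ∀ i, (charDegree (χ i : G → ℂ)).factorization p = ι := by
      intro i
      set B := (sel (e i)).1
      obtain ⟨hBp, hBD⟩ : IsPBlock M B ∧ IsDefectGroup p M B D := (sel (e i)).2
      have h1 := card_defectGroup hpM hBp hBD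
      obtain ⟨T0, hT0⟩ := hD ⟨0, hr⟩
      rw [card_eq hT0] at h1
      have h2 := Nat.pow_right_injective hp.out.two_le h1
      have h3 := factorization_centralizer_add (p := p) (x ⟨0, hr⟩)
      have h4 := blockMin_add_blockDefect (p := p) (IsPBlock.nonempty hBp)
      have h5 : degVal p (χ i) = blockMin p B := (blockHeight_eq_zero_iff (hχ i).1).1 (hχ i).2
      rw [degVal] at h5
      omega
    have hp0 : (p : ℂ) ^ ι ≠ 0 := pow_ne_zero _ (Nat.cast_ne_zero.mpr hp.out.ne_zero)
    have hpι : (p ^ ι).factorization p = ι := Nat.factorization_pow_self hp.out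
    have hu1 := fun i => natDiv_unit (M := M) hpM (irr_charDegree_ne_zero (χ i))
      (pow_ne_zero ι hp.out.ne_zero) ((hdeg i).trans hpι.symm)
    have hu2 := fun j => natDiv_unit (M := M) hpM (pow_ne_zero ι hp.out.ne_zero)
      (Subgroup.index_ne_zero_of_finite (H := Subgroup.centralizer ({x j} : Set G)))
      (hpι.trans (hidx j).symm)
    let α : Fin r → loc M := fun i => ⟨_, (hu1 i).1⟩
    let β : Fin r → loc M := fun j => ⟨_, (hu2 j).1⟩
    let A : Matrix (Fin r) (Fin r) (loc M) :=
      Matrix.diagonal α * (Matrix.of fun i j => cc (χ i) j) * Matrix.diagonal β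
    have hA : (Matrix.of fun i j : Fin r => (χ i : G → ℂ) (x j)) = (loc M).subtype.mapMatrix A := by
      ext i j
      simp only [RingHom.mapMatrix_apply, Matrix.map_apply, A, Matrix.mul_diagonal,
        Matrix.diagonal_mul, Matrix.of_apply]
      show _ = ((charDegree (χ i : G → ℂ) : ℂ) / ((p ^ ι : ℕ) : ℂ)) * centralChar (χ i : G → ℂ) (x j) *
        (((p ^ ι : ℕ) : ℂ) / ((Subgroup.centralizer ({x j} : Set G)).index : ℂ))
      have h0 : ((Subgroup.centralizer ({x j} : Set G)).index : ℂ) ≠ 0 :=
        Nat.cast_ne_zero.mpr Subgroup.index_ne_zero_of_finite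
      have h1 : (charDegree (χ i : G → ℂ) : ℂ) ≠ 0 :=
        Nat.cast_ne_zero.mpr (irr_charDegree_ne_zero _)
      rw [centralChar, irr_apply_one]
      push_cast
      field_simp
    intro hmem
    rw [hA, ← RingHom.map_det] at hmem
    have h1 : red (A.det) = 0 := red_eq_zero_iff.mpr hmem
    rw [Matrix.det_mul, Matrix.det_mul, Matrix.det_diagonal, Matrix.det_diagonal, map_mul, map_mul,
      map_prod, map_prod, mul_eq_zero, mul_eq_zero] at h1
    rcases h1 with (h1 | h1) | h1
    · obtain ⟨i, -, hi⟩ := Finset.prod_eq_zero_iff.mp h1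
      exact (hu1 i).2 (red_eq_zero_iff.mp hi)
    · rw [RingHom.map_det] at h1
      have hm : (red (M := M)).mapMatrix (Matrix.of fun i j => cc (χ i) j) =
          Matrix.of fun i j => ((e i : b) : Fin r → ResField M) j := by
        ext i j
        simp only [RingHom.mapMatrix_apply, Matrix.map_apply, Matrix.of_apply]
        rw [← hsel (e i)]
        refine sub_eq_zero.mp ?_
        rw [← map_sub]
        exact red_eq_zero_iff.mpr (IsPBlock.sameBlock (sel (e i)).2.1 (hχ i).1 (hrep _) (x j))
      rw [hm] at h1
      have hli : LinearIndependent (ResField M)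
          (Matrix.of fun i j => ((e i : b) : Fin r → ResField M) j).row :=
        hblin.comp _ e.injective
      exact ((Matrix.isUnit_iff_isUnit_det _).mp
        (Matrix.linearIndependent_rows_iff_isUnit.mp hli)).ne_zero h1
    · obtain ⟨j, -, hj⟩ := Finset.prod_eq_zero_iff.mp h1
      exact (hu2 j).2 (red_eq_zero_iff.mp hj)

end CfsgLib.CharApps.DefectGroupRank
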