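import Mathlib
import Cfsg.Agent.Lib.Blocks.Omega
import Cfsg.Agent.Lib.Blocks.Degree
import Cfsg.Agent.Lib.CharApps.AbelianSylow
import Cfsg.Agent.Lib.CharApps.Basic

/-!
# Characters of 2-defect zero and elements of order three

The class function counting solutions of `u ^ 2 = 1` has central character in the ideal above `2`
at every irreducible character of positive defect, and its weighted table is diagonal on the
elements of order three that normalize no nontrivial 2-subgroup.
-/

set_option autoImplicit false
set_option linter.style.haveILetI false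
set_option linter.unusedSectionVars false

namespace CfsgLib.CharApps.DefectZeroCount

open Cfsg CfsgLib CfsgLib.Blocks
open scoped ComplexConjugate

variable {G : Type*} [Group G]

/-- An element of order three normalizing no nontrivial 2-subgroup. -/
def IsGood (g : G) : Prop :=
  orderOf g = 3 ∧ ∀ Q : Subgroup G, IsPGroup 2 Q → g ∈ Subgroup.normalizer (Q : Set G) → Q = ⊥

theorem isPGroup_closure_pair [Finite G] {a b : G} (ha : a * a = 1) (hb : b * b = 1)
    (hab : a * b = b * a) : IsPGroup 2 (Subgroup.closure ({a, b} : Set G)) := by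
  have hc : ∀ x ∈ Subgroup.closure ({a, b} : Set G), ∀ y ∈ Subgroup.closure ({a, b} : Set G),
      x * y = y * x := by
    have h : IsMulCommutative (Subgroup.closure ({a, b} : Set G)) := Subgroup.isMulCommutative_closure (by
      rintro x (rfl | rfl) y (rfl | rfl)
      · rfl
      · exact hab
      · exact hab.symm
      · rfl)
    exact fun x hx y hy => congrArg Subtype.val (h.is_comm.comm ⟨x, hx⟩ ⟨y, hy⟩)
  have h2 : ∀ x ∈ Subgroup.closure ({a, b} : Set G), x * x = 1 := by
    intro x hx
    induction hx using Subgroup.closure_induction with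
    | mem x hx => rcases hx with rfl | rfl <;> assumption
    | one => exact one_mul 1
    | mul x y hx hy ihx ihy =>
      rw [mul_assoc, ← mul_assoc y, hc y hy x hx, mul_assoc, ihy, mul_one, ihx]
    | inv x _ ih => rw [← mul_inv_rev, ih, inv_one]
  intro x
  exact ⟨1, Subtype.ext (by simpa [pow_two] using h2 x x.2)⟩

/-- An involution `u` with `u * g` of order three is excluded. -/
theorem eq_one_of_good [Finite G] {g u : G} (hg : IsGood g) (hu : u * u = 1)
    (h3 : (u * g) ^ 3 = 1) : u = 1 := by
  obtain ⟨hg3, hgn⟩ := hg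
  have hg1 : g * (g * g) = 1 := by
    have := pow_orderOf_eq_one g
    rwa [hg3, pow_succ', pow_two] at this
  have hgi : g⁻¹ = g * g := inv_eq_of_mul_eq_one_right hg1
  set a := g * u * g⁻¹ with ha
  set b := g * a * g⁻¹ with hb
  have haa : a * a = 1 := by
    rw [ha, show g * u * g⁻¹ * (g * u * g⁻¹) = g * (u * u) * g⁻¹ by group, hu, mul_one, mul_inv_cancel]
  have hbb : b * b = 1 := by
    rw [hb, show g * a * g⁻¹ * (g * a * g⁻¹) = g * (a * a) * g⁻¹ by group, haa, mul_one, mul_inv_cancel]
  have hb' : b = g⁻¹ * u * g := by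
    rw [hb, ha, show g * (g * u * g⁻¹) * g⁻¹ = (g * g) * u * (g * g)⁻¹ by group, ← hgi, inv_inv]
  have hprod : u * a * b = 1 := by
    rw [pow_succ', pow_two] at h3
    calc u * a * b = u * g * u * (g⁻¹ * g⁻¹) * u * g := by rw [hb', ha]; group
      _ = u * g * (u * g * (u * g)) := by
        rw [show g⁻¹ * g⁻¹ = g by rw [hgi]; rw [show g * g * (g * g) = g * (g * g) * g by group, hg1, one_mul]]
        group
      _ = 1 := h3
  have hua : u * a = b := by
    have := mul_eq_one_iff_eq_inv.mp hprod
    rwa [inv_eq_of_mul_eq_one_right hbb] at this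
  have hcomm : u * a = a * u := by
    have h4 : (u * a)⁻¹ = u * a := by rw [hua, inv_eq_of_mul_eq_one_right hbb]
    rw [mul_inv_rev, inv_eq_of_mul_eq_one_right haa, inv_eq_of_mul_eq_one_right hu] at h4
    exact h4.symm
  set Q := Subgroup.closure ({u, a} : Set G) with hQ
  have hnorm : g ∈ Subgroup.normalizer (Q : Set G) := by
    have hle : Q.map (MulAut.conj g).toMonoidHom ≤ Q := by
      rw [hQ, MonoidHom.map_closure, Subgroup.closure_le]
      rintro _ ⟨x, rfl | rfl, rfl⟩
      · exact Subgroup.subset_closure (Set.mem_insert_of_mem _ rfl)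
      · show g * a * g⁻¹ ∈ Q
        rw [← hb, ← hua]
        exact Q.mul_mem (Subgroup.subset_closure (Set.mem_insert _ _))
          (Subgroup.subset_closure (Set.mem_insert_of_mem _ rfl))
    have heq := Subgroup.eq_of_le_of_card_ge hle (le_of_eq (Nat.card_congr
      (Q.equivMapOfInjective _ (MulAut.conj g).injective).toEquiv))
    rw [Subgroup.mem_normalizer_iff]
    intro x
    constructor
    · exact fun hx => hle ⟨x, hx, rfl⟩
    · intro hx
      rw [← heq] at hx
      obtain ⟨y, hy, hy'⟩ := hx
      exact (MulAut.conj g).injective (show MulAut.conj g y = MulAut.conj g x from hy') ▸ hy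
  have h5 := hgn Q (isPGroup_closure_pair hu haa hcomm) hnorm
  have h6 : u ∈ Q := Subgroup.subset_closure (Set.mem_insert _ _)
  rwa [h5, Subgroup.mem_bot] at h6

theorem odd_card_centralizer [Finite G] {g : G} (hg : IsGood g) :
    ¬ 2 ∣ Nat.card (Subgroup.centralizer ({g} : Set G)) := by
  intro h
  haveI : Fact (Nat.Prime 2) := ⟨Nat.prime_two⟩
  obtain ⟨t, ht⟩ := exists_prime_orderOf_dvd_card' 2 h
  have ht' : orderOf (t : G) = 2 := by rw [Subgroup.orderOf_coe, ht]
  have hQ : IsPGroup 2 (Subgroup.zpowers (t : G)) :=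
    IsPGroup.of_card (n := 1) (by rw [Nat.card_zpowers, ht', pow_one])
  have hn : g ∈ Subgroup.normalizer (Subgroup.zpowers (t : G) : Set G) := by
    refine Subgroup.centralizer_le_normalizer _ (Subgroup.mem_centralizer_iff.mpr fun x hx => ?_)
    obtain ⟨k, rfl⟩ := Subgroup.mem_zpowers_iff.mp hx
    exact ((show Commute g (t : G) from
      (Subgroup.mem_centralizer_singleton_iff.mp t.2).symm).zpow_right k).eq.symm
  have h1 := hg.2 _ hQ hn
  rw [Subgroup.zpowers_eq_bot] at h1
  rw [h1, orderOf_one] at ht'
  omega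

/-- Number of `u` with `u ^ 2 = 1`, as a class function. -/
noncomputable def invFun2 : G → ℂ := fun u => by classical exact if u * u = 1 then 1 else 0

open scoped Classical in
theorem invFun2_apply (u : G) : invFun2 u = if u * u = 1 then (1 : ℂ) else 0 := by
  simp [invFun2]

theorem isClassFunction_invFun2 : IsClassFunction G (invFun2 (G := G)) := by
  intro u h
  classical
  simp only [invFun2_apply]
  refine if_congr ?_ rfl rfl
  rw [show h * u * h⁻¹ * (h * u * h⁻¹) = h * (u * u) * h⁻¹ by group, conj_eq_one_iff]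

theorem sum_eq_zero_of_involutive {α : Type*} [DecidableEq α] (s : Finset α) (f : α → α)
    (h1 : ∀ a ∈ s, f a ∈ s) (h2 : ∀ a ∈ s, f (f a) = a) (h3 : ∀ a ∈ s, f a ≠ a) :
    Even s.card := by
  rw [← ZMod.natCast_eq_zero_iff_even, Finset.card_eq_sum_ones, Nat.cast_sum, Nat.cast_one]
  exact Finset.sum_involution (fun a _ => f a) (fun a _ => by decide) (fun a ha _ => h3 a ha)
    (fun a ha => h1 a ha) fun a ha => h2 a ha

theorem conv_invFun2_even [Fintype G] {g : G}
    (hg : 2 ∣ Nat.card (Subgroup.centralizer ({g} : Set G))) :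
    ∃ n : ℕ, conv invFun2 invFun2 g = 2 * (n : ℂ) := by
  classical
  haveI : Fact (Nat.Prime 2) := ⟨Nat.prime_two⟩
  obtain ⟨⟨t, htg⟩, ht⟩ := exists_prime_orderOf_dvd_card' 2 hg
  rw [Subgroup.orderOf_mk] at ht
  have htc : Commute t g := Subgroup.mem_centralizer_singleton_iff.mp htg
  have ht2 : t * t = 1 := by
    have := pow_orderOf_eq_one t
    rwa [ht, pow_two] at this
  have ht1 : t ≠ 1 := fun h => by rw [h, orderOf_one] at ht; omega
  have hti : t⁻¹ = t := inv_eq_of_mul_eq_one_right ht2
  let S := Finset.univ.filter fun u : G => u * u = 1 ∧ (u⁻¹ * g) * (u⁻¹ * g) = 1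
  have hS : conv invFun2 invFun2 g = (S.card : ℂ) := by
    simp only [conv, invFun2_apply]
    rw [← Finset.sum_boole]
    refine Finset.sum_congr rfl fun u _ => ?_
    split_ifs <;> simp_all
  let T := S.filter fun u => t * u = u * t
  have hT : Even T.card := by
    refine sum_eq_zero_of_involutive T (fun u => t * u) (fun u hu => ?_) (fun u _ => ?_)
      fun u _ h => ht1 (mul_eq_right.mp h)
    · obtain ⟨huS, htu⟩ := Finset.mem_filter.mp hu
      obtain ⟨-, h1, h2⟩ := Finset.mem_filter.mp huS
      refine Finset.mem_filter.mpr ⟨Finset.mem_filter.mpr ⟨Finset.mem_univ _, ?_, ?_⟩, ?_⟩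
      · calc t * u * (t * u) = t * (u * t) * u := by group
          _ = (t * t) * (u * u) := by rw [← htu]; group
          _ = 1 := by rw [ht2, h1, one_mul]
      · have hc : Commute t (u⁻¹ * g) := (Commute.inv_right htu).mul_right htc
        calc (t * u)⁻¹ * g * ((t * u)⁻¹ * g) = u⁻¹ * (t * g) * (u⁻¹ * (t * g)) := by
              rw [mul_inv_rev, hti]; group
          _ = u⁻¹ * g * (t * (u⁻¹ * g)) * t := by rw [htc.eq]; group
          _ = u⁻¹ * g * (u⁻¹ * g) * (t * t) := by rw [hc.eq]; group
          _ = 1 := by rw [h2, ht2, one_mul]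
      · rw [mul_assoc t u t, ← htu]
    · rw [← mul_assoc, ht2, one_mul]
  have hR : Even (S \ T).card := by
    refine sum_eq_zero_of_involutive _ (fun u => t * u * t) (fun u hu => ?_) (fun u _ => ?_) ?_
    · obtain ⟨huS, huT⟩ := Finset.mem_sdiff.mp hu
      obtain ⟨-, h1, h2⟩ := Finset.mem_filter.mp huS
      refine Finset.mem_sdiff.mpr ⟨Finset.mem_filter.mpr ⟨Finset.mem_univ _, ?_, ?_⟩, fun hc => huT
        (Finset.mem_filter.mpr ⟨huS, ?_⟩)⟩
      · calc t * u * t * (t * u * t) = t * u * (t * t) * u * t := by group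
          _ = t * (u * u) * t := by rw [ht2]; group
          _ = 1 := by rw [h1, mul_one, ht2]
      · calc (t * u * t)⁻¹ * g * ((t * u * t)⁻¹ * g)
            = t * u⁻¹ * (t * g) * (t * u⁻¹ * (t * g)) := by
              rw [mul_inv_rev, mul_inv_rev, hti]; group
          _ = t * (u⁻¹ * g * (t * t) * (u⁻¹ * g)) * t := by rw [htc.eq]; group
          _ = 1 := by rw [ht2, mul_one, h2, mul_one, ht2]
      · have h4 := (Finset.mem_filter.mp hc).2
        rw [← mul_assoc, ← mul_assoc, ht2, one_mul, mul_assoc, ht2, mul_one] at h4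
        exact h4.symm
    · calc t * (t * u * t) * t = (t * t) * u * (t * t) := by group
        _ = u := by rw [ht2, one_mul, mul_one]
    · intro u hu h
      obtain ⟨huS, huT⟩ := Finset.mem_sdiff.mp hu
      refine huT (Finset.mem_filter.mpr ⟨huS, ?_⟩)
      conv_rhs => rw [← h]
      rw [mul_assoc, mul_assoc, ht2, mul_one]
  have hsum : Even S.card := by
    rw [← Finset.card_sdiff_add_card_eq_card (Finset.filter_subset _ S : T ⊆ S)]
    exact hR.add hT
  obtain ⟨n, hn⟩ := hsum
  exact ⟨n, by rw [hS, hn, Nat.cast_add]; ring⟩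

variable [Fintype G] {M : Ideal AlgInt} [M.IsPrime]

theorem omega_invFun2_mem (χ : IrrCharacter G) :
    omega (χ : G → ℂ) invFun2 ∈ loc M := by
  classical
  haveI := Fintype.ofFinite (ConjClasses G)
  rw [omega_eq_sum_centralChar χ isClassFunction_invFun2]
  refine sum_mem fun C _ => mul_mem ?_ (isIntegral_mem_loc (isIntegral_centralChar χ _))
  rw [invFun2_apply]
  split_ifs <;> simp [(loc M).one_mem, (loc M).zero_mem]

/-- The weight lies in the ideal at every character of positive defect. -/
theorem omega_invFun2_ideal (h2M : ((2 : ℕ) : AlgInt) ∈ M) (χ : IrrCharacter G)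
    (hχ : (charDegree (χ : G → ℂ)).factorization 2 ≠ (Nat.card G).factorization 2) :
    MemLocalIdeal M (omega (χ : G → ℂ) invFun2) := by
  classical
  haveI := Fintype.ofFinite (ConjClasses G)
  have key : MemLocalIdeal M (omega (χ : G → ℂ) (conv invFun2 invFun2)) := by
    rw [omega_eq_sum_centralChar χ (isClassFunction_conv isClassFunction_invFun2
      isClassFunction_invFun2)]
    refine MemLocalIdeal.sum' fun C _ => ?_
    set g := classRep C
    have hint : centralChar (χ : G → ℂ) g ∈ loc M := isIntegral_mem_loc (isIntegral_centralChar χ _)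
    by_cases hC : 2 ∣ Nat.card (Subgroup.centralizer ({g} : Set G))
    · obtain ⟨n, hn⟩ := conv_invFun2_even hC
      rw [hn, mul_assoc]
      exact MemLocalIdeal.mul_right' (by exact_mod_cast memLocalIdeal_prime h2M)
        (mul_mem (natCast_mem_loc n) hint)
    · refine MemLocalIdeal.mul_left' ?_ ?_
      · simp only [conv, invFun2_apply]
        refine sum_mem fun u _ => mul_mem ?_ ?_ <;>
          split_ifs <;> simp [(loc M).one_mem, (loc M).zero_mem]
      · -- the class has full `2`-part
        set d := charDegree (χ : G → ℂ) with hd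
        have hd0 : d ≠ 0 := (deg_pos χ).ne'
        set i := (Subgroup.centralizer ({g} : Set G)).index with hi
        have hi0 : i ≠ 0 := Subgroup.index_ne_zero_of_finite
        have hfac : i.factorization 2 = (Nat.card G).factorization 2 := by
          rw [← (Subgroup.centralizer ({g} : Set G)).index_mul_card,
            Nat.factorization_mul hi0 Nat.card_pos.ne', Finsupp.add_apply,
            Nat.factorization_eq_zero_of_not_dvd hC, add_zero]
        obtain ⟨b, d', hd', hdd⟩ := Nat.exists_eq_pow_mul_and_not_dvd hd0 2 (by norm_num)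
        have hdG : d ∣ Nat.card G := by
          obtain ⟨n, -, hn, hdvd⟩ := Chars.irr_degree_dvd_card χ.2
          rw [deg_eq, Nat.cast_inj] at hn
          rwa [hd, hn]
        have hb : b < i.factorization 2 := by
          have h1 : d.factorization 2 = b := by
            rw [hdd, Nat.factorization_mul (by positivity) (fun h => hd' (by rw [h]; exact dvd_zero 2)),
              Finsupp.add_apply, Nat.factorization_eq_zero_of_not_dvd hd',
              Nat.factorization_pow_self Nat.prime_two, add_zero]
          rw [hfac, ← h1]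
          exact lt_of_le_of_ne ((Nat.factorization_le_iff_dvd hd0 Nat.card_pos.ne').mpr hdG 2) hχ
        obtain ⟨i', hi'⟩ : 2 ^ (b + 1) ∣ i :=
          (Nat.Prime.pow_dvd_iff_le_factorization Nat.prime_two hi0).mpr hb
        have e : centralChar (χ : G → ℂ) g * (d' : ℂ) =
            ((2 : ℕ) : ℂ) * ((i' : ℂ) * (χ : G → ℂ) g) := by
          rw [centralChar, ← hi, deg_eq, ← hd, hdd, hi']
          push_cast
          have : (d' : ℂ) ≠ 0 := Nat.cast_ne_zero.mpr fun h => hd' (by rw [h]; exact dvd_zero 2)
          field_simp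
          ring
        refine (MemLocalIdeal.mem_or_mem hint (natCast_mem_loc d') ?_).resolve_right
          fun h => hd' ((memLocalIdeal_natCast_iff Nat.prime_two h2M d').mp h)
        rw [e]
        exact MemLocalIdeal.mul_right' (memLocalIdeal_prime h2M) (mul_mem (natCast_mem_loc i')
          (isIntegral_mem_loc (Chars.char_isIntegral (Chars.isCharacter_of_irr χ.2) g)))
  rw [omega_conv χ isClassFunction_invFun2] at key
  exact (MemLocalIdeal.mem_or_mem (omega_invFun2_mem χ) (omega_invFun2_mem χ) key).elim id id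

/-- The weighted table on good elements is diagonal. -/
theorem sum_weight {g h : G} (hg : IsGood g) (hh : IsGood h) [Fintype (IrrCharacter G)]
    [Decidable (IsConj h g)] :
    ∑ χ : IrrCharacter G, (χ : G → ℂ) g * conj ((χ : G → ℂ) h) * omega (χ : G → ℂ) invFun2 =
      if IsConj h g then (Nat.card (Subgroup.centralizer ({g} : Set G)) : ℂ) else 0 := by
  classical
  have h1 : ∀ χ : IrrCharacter G,
      (χ : G → ℂ) g * conj ((χ : G → ℂ) h) * omega (χ : G → ℂ) invFun2 =
        ∑ u : G, invFun2 u * ((χ : G → ℂ) (u * g) * conj ((χ : G → ℂ) h)) := by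
    intro χ
    rw [mul_right_comm, mul_comm ((χ : G → ℂ) g), ← sum_mul_irr χ isClassFunction_invFun2 g,
      Finset.sum_mul]
    exact Finset.sum_congr rfl fun u _ => by ring
  rw [Finset.sum_congr rfl fun χ _ => h1 χ, Finset.sum_comm, Finset.sum_eq_single (1 : G)
    (fun u _ hu1 => ?_) (fun h => absurd (Finset.mem_univ _) h)]
  · rw [← Finset.mul_sum, invFun2_apply, if_pos (one_mul 1), one_mul]
    simp only [one_mul]
    exact Chars.second_orthogonality g h
  · rw [invFun2_apply]
    split_ifs with hu
    · rw [← Finset.mul_sum, Chars.second_orthogonality, if_neg, mul_zero]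
      intro hc
      refine hu1 (eq_one_of_good hg hu ?_)
      obtain ⟨c, hc'⟩ := isConj_iff.mp hc
      rw [← hc', conj_pow]
      have := pow_orderOf_eq_one h
      rw [hh.1] at this
      rw [this, mul_one, mul_inv_cancel]
    · simp

theorem card_good_classes_le :
    Nat.card {C : ConjClasses G // ∃ g ∈ C.carrier, IsGood g} ≤
      Nat.card {χ : IrrCharacter G //
        (charDegree (χ : G → ℂ)).factorization 2 = (Nat.card G).factorization 2} := by
  classical
  haveI : Fact (Nat.Prime 2) := ⟨Nat.prime_two⟩
  obtain ⟨M, hM⟩ := exists_pModular 2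
  haveI : M.IsPrime := hM.2.1.isPrime
  have h2M := hM.2.2
  haveI := Chars.irrFintype G
  set I := {C : ConjClasses G // ∃ g ∈ C.carrier, IsGood g}
  set D := {χ : IrrCharacter G //
    (charDegree (χ : G → ℂ)).factorization 2 = (Nat.card G).factorization 2}
  choose r hr hrg using fun C : I => C.2
  have hrinj : ∀ C C' : I, IsConj (r C') (r C) → C' = C := fun C C' h => Subtype.ext <| by
    rw [← ConjClasses.mem_carrier_iff_mk_eq.mp (hr C'), ← ConjClasses.mem_carrier_iff_mk_eq.mp (hr C)]
    exact ConjClasses.mk_eq_mk_iff_isConj.mpr h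
  have hχint : ∀ (χ : IrrCharacter G) (x : G), (χ : G → ℂ) x ∈ loc M := fun χ x =>
    isIntegral_mem_loc (Chars.char_isIntegral (Chars.isCharacter_of_irr χ.2) x)
  have hχintc : ∀ (χ : IrrCharacter G) (x : G), conj ((χ : G → ℂ) x) ∈ loc M := fun χ x => by
    rw [← Chars.irr_inv]; exact hχint χ _
  let v : I → (D → IsLocalRing.ResidueField (loc M)) := fun C χ => red (M := M) ⟨_, hχint χ.1 (r C)⟩
  let w : I → (D → IsLocalRing.ResidueField (loc M)) := fun C χ =>
    red (M := M) ⟨_, mul_mem (hχintc χ.1 (r C)) (omega_invFun2_mem χ.1)⟩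
  have hvw : ∀ C C' : I, ∑ χ : D, v C χ * w C' χ =
      if C' = C then (Nat.card (Subgroup.centralizer ({r C} : Set G)) : IsLocalRing.ResidueField (loc M)) else 0 := by
    intro C C'
    let f : IrrCharacter G → loc M := fun χ => ⟨(χ : G → ℂ) (r C), hχint χ _⟩ *
      ⟨_, mul_mem (hχintc χ (r C')) (omega_invFun2_mem χ)⟩
    have h1 : red (M := M) (∑ χ, f χ) = ∑ χ : D, v C χ * w C' χ := by
      rw [map_sum]
      refine ((Finset.sum_subtype _ (fun x => by simp) fun χ => red (M := M) (f χ)).symm.trans
        (Finset.sum_filter_of_ne (p := fun χ : IrrCharacter G =>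
          (charDegree (χ : G → ℂ)).factorization 2 = (Nat.card G).factorization 2)
          fun χ _ hne => ?_)).symm.trans (Finset.sum_congr rfl fun χ _ => map_mul _ _ _)
      by_contra hdz
      refine hne (red_eq_zero_iff.mpr ?_)
      show MemLocalIdeal M ((χ : G → ℂ) (r C) *
        (conj ((χ : G → ℂ) (r C')) * omega (χ : G → ℂ) invFun2))
      exact MemLocalIdeal.mul_left' (hχint χ _)
        (MemLocalIdeal.mul_left' (hχintc χ _) (omega_invFun2_ideal h2M χ hdz))
    rw [← h1]
    have h2 : ((∑ χ, f χ : loc M) : ℂ) = (((if C' = C then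
        Nat.card (Subgroup.centralizer ({r C} : Set G)) else 0 : ℕ) : loc M) : ℂ) := by
      push_cast
      rw [Finset.sum_congr rfl fun χ _ => show ((f χ : loc M) : ℂ) =
        (χ : G → ℂ) (r C) * conj ((χ : G → ℂ) (r C')) * omega (χ : G → ℂ) invFun2 from
          (mul_assoc _ _ _).symm, sum_weight (hrg C) (hrg C')]
      by_cases hcc : C' = C
      · subst hcc
        rw [if_pos (IsConj.refl _), if_pos rfl]
        push_cast
        rfl
      · rw [if_neg hcc, if_neg (fun h => hcc (hrinj _ _ h))]
        simp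
    rw [Subtype.ext h2, map_natCast, Nat.cast_ite, Nat.cast_zero]
  have hlin : LinearIndependent (IsLocalRing.ResidueField (loc M)) v := by
    rw [Fintype.linearIndependent_iff]
    intro c hc C'
    have h1 : ∑ χ : D, (∑ C, c C • v C) χ * w C' χ = 0 := by rw [hc]; simp
    simp only [Finset.sum_apply, Pi.smul_apply, smul_eq_mul, Finset.sum_mul, mul_assoc] at h1
    rw [Finset.sum_comm] at h1
    simp only [← Finset.mul_sum, hvw, mul_ite, mul_zero] at h1
    rw [Finset.sum_eq_single C' (fun b _ hb => if_neg (Ne.symm hb)) (by simp), if_pos rfl] at h1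
    refine (mul_eq_zero.mp h1).resolve_right ?_
    haveI := charP_residueField (M := M) Nat.prime_two h2M
    rw [CharP.cast_eq_zero_iff (IsLocalRing.ResidueField (loc M)) 2]
    exact odd_card_centralizer (hrg C')
  have := hlin.fintype_card_le_finrank
  rw [Module.finrank_fintype_fun_eq_card, ← Nat.card_eq_fintype_card, ← Nat.card_eq_fintype_card]
    at this
  exact this

end CfsgLib.CharApps.DefectZeroCount
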