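import Cfsg.Agent.Lib.CharApps.ElementCentralizers

/-!
# Characters of defect zero when no element has order `pq`
-/

set_option autoImplicit false
set_option linter.style.haveILetI false

namespace CfsgLib.CharApps

open Cfsg CfsgLib.Chars

universe u

section Quot

variable {G : Type u} [Group G] [Finite G] {p q : ℕ} [Fact p.Prime] [Fact q.Prime]

theorem no_pq_element
    (hC : ∀ g : G, g ≠ 1 → (∃ k : ℕ, orderOf g = p ^ k) →
      ¬ q ∣ Nat.card (Subgroup.centralizer ({g} : Set G)))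
    {x : G} (hp : p ∣ orderOf x) : ¬ q ∣ orderOf x := by
  intro hq
  set w := x ^ (orderOf x / p)
  have hw : orderOf w = p := orderOf_pow_orderOf_div (orderOf_pos x).ne' hp
  refine hC w ?_ ⟨1, by rw [hw, pow_one]⟩ ?_
  · intro h1
    exact (Fact.out : p.Prime).ne_one (by rw [← hw, h1, orderOf_one])
  · have hxmem : x ∈ Subgroup.centralizer ({w} : Set G) :=
      Subgroup.mem_centralizer_singleton_iff.mpr ((Commute.refl x).pow_right _)
    refine hq.trans ?_
    rw [← Subgroup.orderOf_mk x hxmem]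
    exact orderOf_dvd_natCard _

theorem centralizer_hyp_quotient
    (hC : ∀ g : G, g ≠ 1 → (∃ k : ℕ, orderOf g = p ^ k) →
      ¬ q ∣ Nat.card (Subgroup.centralizer ({g} : Set G)))
    (N : Subgroup G) [N.Normal] (g : G ⧸ N) (hg : g ≠ 1) (hk : ∃ k : ℕ, orderOf g = p ^ k)
    (hpq : p ≠ q) : ¬ q ∣ Nat.card (Subgroup.centralizer ({g} : Set (G ⧸ N))) := by
  intro hdvd
  obtain ⟨w, hw⟩ := exists_prime_orderOf_dvd_card'
    (G := ↥(Subgroup.centralizer ({g} : Set (G ⧸ N)))) q hdvd
  have hw' : orderOf (w : G ⧸ N) = q := by rw [Subgroup.orderOf_coe, hw]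
  have hcomm : Commute (w : G ⧸ N) g := Subgroup.mem_centralizer_singleton_iff.mp w.2
  obtain ⟨k, hk⟩ := hk
  have hpg : p ∣ orderOf g := by
    rw [hk]
    exact dvd_pow_self p (by rintro rfl; exact hg (orderOf_eq_one_iff.mp (by simpa using hk)))
  have hcop : (orderOf (w : G ⧸ N)).Coprime (orderOf g) := by
    rw [hw', hk]
    exact Nat.Coprime.pow_right _ ((Nat.coprime_primes Fact.out Fact.out).mpr hpq.symm)
  have hord := hcomm.orderOf_mul_eq_mul_orderOf_of_coprime hcop
  obtain ⟨x, hx⟩ := QuotientGroup.mk'_surjective N ((w : G ⧸ N) * g)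
  have hdvdx : orderOf ((w : G ⧸ N) * g) ∣ orderOf x := hx ▸ orderOf_map_dvd _ x
  rw [hord] at hdvdx
  exact no_pq_element hC (hpg.trans ((dvd_mul_left _ _).trans hdvdx))
    ((hw' ▸ dvd_rfl : q ∣ orderOf (w : G ⧸ N)).trans ((dvd_mul_right _ _).trans hdvdx))

/-- A nontrivial element of a normal subgroup yields a character of defect zero. -/
theorem defectZero_of_mem_normal
    (hC : ∀ g : G, g ≠ 1 → (∃ k : ℕ, orderOf g = p ^ k) →
      ¬ q ∣ Nat.card (Subgroup.centralizer ({g} : Set G)))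
    (N : Subgroup G) [N.Normal] (hpN : ¬ p ∣ Nat.card N) (hqN : q ∣ Nat.card N) :
    ∃ χ : IrrCharacter G, (charDegree (χ : G → ℂ)).factorization p =
      (Nat.card G).factorization p := by
  by_contra hcon
  obtain ⟨z, hz⟩ := exists_prime_orderOf_dvd_card' (G := N) q hqN
  have hz' : orderOf (z : G) = q := by rw [Subgroup.orderOf_coe, hz]
  obtain ⟨P⟩ : Nonempty (Sylow p G) := inferInstance
  obtain ⟨g, k, hg, hk, hm, hne⟩ := exists_quotient_of_no_defectZero (not_exists.mp hcon) (z : G)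
    (not_dvd_centralizer hC (hz' ▸ dvd_rfl)) P
  have hin : g * k⁻¹ ∈ N := by
    obtain ⟨a, rfl⟩ := isConj_iff.mp hg
    obtain ⟨b, rfl⟩ := isConj_iff.mp hk
    exact mul_mem (Subgroup.Normal.conj_mem inferInstance _ z.2 a)
      (inv_mem (Subgroup.Normal.conj_mem inferInstance _ z.2 b))
  obtain ⟨i, hi⟩ := exists_pow_eq_of_mem_pGroup P.isPGroup' hm
  rcases Nat.eq_zero_or_pos i with h0 | h0
  · exact hne (orderOf_eq_one_iff.mp (by rw [hi, h0, pow_zero]))
  · refine hpN ((dvd_pow_self p h0.ne').trans ?_)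
    rw [← hi, ← Subgroup.orderOf_mk _ hin]
    exact orderOf_dvd_natCard _

end Quot

theorem defectZero_of_pSolvable {G : Type u} [Group G] [Finite G] {p q : ℕ} [Fact p.Prime]
    [Fact q.Prime]
    (hC : ∀ g : G, g ≠ 1 → (∃ k : ℕ, orderOf g = p ^ k) →
      ¬ q ∣ Nat.card (Subgroup.centralizer ({g} : Set G)))
    (hpG : p ∣ Nat.card G) (hqG : q ∣ Nat.card G) (hpq : p ≠ q) (hs : IsPSolvable p G) :
    (∃ χ : IrrCharacter G, (charDegree (χ : G → ℂ)).factorization p =
      (Nat.card G).factorization p) ∨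
    (∃ χ : IrrCharacter G, (charDegree (χ : G → ℂ)).factorization q =
      (Nat.card G).factorization q) := by
  induction hn : Nat.card G using Nat.strong_induction_on generalizing G with
  | _ n ih =>
  subst hn
  haveI : Nontrivial G := by
    rw [← Finite.one_lt_card_iff_nontrivial]
    exact lt_of_lt_of_le (Fact.out : p.Prime).one_lt (Nat.le_of_dvd Nat.card_pos hpG)
  have hC' : ∀ g : G, g ≠ 1 → (∃ k : ℕ, orderOf g = q ^ k) →
      ¬ p ∣ Nat.card (Subgroup.centralizer ({g} : Set G)) := fun g hg ⟨k, hk⟩ =>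
    not_dvd_centralizer hC (hk ▸ dvd_pow_self q
      (by rintro rfl; exact hg (orderOf_eq_one_iff.mp (by simpa using hk))))
  obtain ⟨N, hN, hne, hcase⟩ := CfsgLib.Coprime.pSolvable_step hs
  by_cases hpN : p ∣ Nat.card N
  · refine Or.inr (defectZero_of_mem_normal hC' N (fun hqN => ?_) hpN)
    rcases hcase with h | h
    · obtain ⟨j, hj⟩ := h.exists_card_eq
      rw [hj] at hqN
      exact hpq ((Nat.prime_dvd_prime_iff_eq Fact.out Fact.out).mp
        ((Fact.out : q.Prime).dvd_of_dvd_pow hqN)).symm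
    · exact (Fact.out : p.Prime).coprime_iff_not_dvd.mp h.symm hpN
  by_cases hqN : q ∣ Nat.card N
  · exact Or.inl (defectZero_of_mem_normal hC N hpN hqN)
  have hcard : Nat.card G = Nat.card (G ⧸ N) * Nat.card N := Subgroup.card_eq_card_quotient_mul_card_subgroup N
  have hN1 : 1 < Nat.card N := Subgroup.one_lt_card_iff_ne_bot N |>.mpr hne
  have hlt : Nat.card (G ⧸ N) < Nat.card G := by
    rw [hcard]
    exact lt_mul_of_one_lt_right Nat.card_pos hN1
  have hfac : ∀ r : ℕ, r.Prime → ¬ r ∣ Nat.card N →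
      (Nat.card G).factorization r = (Nat.card (G ⧸ N)).factorization r := fun r _ hr => by
    rw [hcard, Nat.factorization_mul Nat.card_pos.ne' Nat.card_pos.ne', Finsupp.add_apply,
      Nat.factorization_eq_zero_of_not_dvd hr, add_zero]
  have hp' : p ∣ Nat.card (G ⧸ N) :=
    ((Fact.out : p.Prime).dvd_mul.mp (hcard ▸ hpG)).resolve_right hpN
  have hq' : q ∣ Nat.card (G ⧸ N) :=
    ((Fact.out : q.Prime).dvd_mul.mp (hcard ▸ hqG)).resolve_right hqN
  rcases ih _ hlt (fun g hg hk => centralizer_hyp_quotient hC N g hg hk hpq) hp' hq'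
      (CfsgLib.PLocal.isPSolvable_quotient hs N) rfl with ⟨ψ, hψ⟩ | ⟨ψ, hψ⟩
  · exact Or.inl ⟨inflate N ψ, by rw [inflate_charDegree, hψ, hfac p Fact.out hpN]⟩
  · exact Or.inr ⟨inflate N ψ, by rw [inflate_charDegree, hψ, hfac q Fact.out hqN]⟩

end CfsgLib.CharApps
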