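import Cfsg.Agent.Lib.Blocks.PrincipalHeights
import Cfsg.Agent.Lib.CharsMore.ItoDegree
import Cfsg.Agent.Lib.CharsMore.LinExtend
import Cfsg.Agent.Lib.CharsMore.Extend
import Cfsg.Agent.Lib.CharApps.Basic

/-!
In a `p`-solvable group the derived length of a Sylow `p`-subgroup is at most one more than the
number of irreducible characters of degree divisible by `p`.
-/

set_option linter.style.haveILetI false
set_option linter.unusedSectionVars false

open Cfsg CfsgLib CfsgLib.CharsMore
open scoped commutatorElement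

namespace CfsgLib.DerivedSylow

universe u

/-- If an irreducible character of degree `d` prime to the order of a linear character `l` of `N`
lies over it as a multiple, then `l` extends. -/
theorem homExtends_of_restrict {T : Type u} [Group T] [Finite T] (N : Subgroup T)
    (l : N →* ℂˣ) {ψ : T → ℂ} (hψ : IsIrrCharacter T ψ) {d m : ℕ} (hd : ψ 1 = d)
    (hm : l ^ m = 1) (hco : d.Coprime m) (hres : ∀ n : N, ψ n = (d : ℂ) * (l n : ℂ)) :
    HomExtends N l := by
  obtain ⟨k, ρ, hρ, hρψ⟩ := hψ
  have hk : k = d := by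
    have h1 : (k : ℂ) = d := by
      rw [← hd, ← hρψ, Representation.char_one, Module.finrank_fin_fun]
    exact_mod_cast h1
  subst hk
  let σ : Representation ℂ N (Fin k → ℂ) :=
    { toFun := fun n => (l n : ℂ) • (1 : Module.End ℂ (Fin k → ℂ))
      map_one' := by simp
      map_mul' := fun a b => by
        rw [map_mul, Units.val_mul, smul_mul_assoc, one_mul, smul_smul] }
  have hch : σ.character = Representation.character (ρ.comp N.subtype) := by
    funext n
    have h1 : Representation.character (ρ.comp N.subtype) n = ψ n := by rw [← hρψ]; rfl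
    rw [h1, hres]
    show LinearMap.trace ℂ (Fin k → ℂ) ((l n : ℂ) • (1 : Module.End ℂ (Fin k → ℂ))) = _
    rw [map_smul, LinearMap.trace_one, Module.finrank_fin_fun, smul_eq_mul, mul_comm]
  obtain ⟨e⟩ := Chars.equiv_of_character_eq σ (ρ.comp N.subtype) hch
  refine homExtends_of_coprime hco ⟨detHom ρ, fun n => Units.ext ?_⟩
    ⟨1, fun n => by rw [hm, MonoidHom.one_apply, MonoidHom.one_apply]⟩
  have h2 := congrArg (fun f : N →* ℂˣ => (f n : ℂ)) (detHom_eq_of_equiv e)
  simp only [coe_detHom] at h2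
  rw [coe_detHom]
  refine h2.trans ?_
  show LinearMap.det ((l n : ℂ) • (1 : Module.End ℂ (Fin k → ℂ))) = _
  rw [LinearMap.det_smul, Module.End.one_eq_id, LinearMap.det_id, mul_one,
    Module.finrank_fin_fun, MonoidHom.pow_apply, Units.val_pow_eq_pow_val]

variable {p : ℕ} [hp : Fact p.Prime]

/-- If all characters over a linear character of a normal abelian `p`-subgroup have degree prime
to `p`, the Sylow subgroups are abelian modulo it. -/
theorem commutator_mem_of_over {G : Type u} [Group G] [Finite G] (hG : IsPSolvable p G)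
    (N : Subgroup G) [N.Normal] [Fintype N] (hN : IsPGroup p N) (l : N →* ℂˣ)
    (hall : ∀ χ : IrrCharacter G, classInner (fun n : N => (χ : G → ℂ) n)
      (fun n => (l n : ℂ)) ≠ 0 → ¬ p ∣ charDegree (χ : G → ℂ))
    (P : Sylow p G) {a b : G} (ha : a ∈ (P : Subgroup G)) (hb : b ∈ (P : Subgroup G)) :
    ⁅a, b⁆ ∈ N := by
  classical
  haveI := Fintype.ofFinite G
  set θ : N → ℂ := fun n => (l n : ℂ) with hθdef
  have hθ : IsIrrCharacter N θ := Chars.isIrrCharacter_linear l
  obtain ⟨χ, hχ⟩ := exists_over N hθ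
  set T := inertia N θ with hT
  have hNT : N ≤ T := le_inertia N (Chars.isClassFunction_of_isCharacter
    (Chars.isCharacter_of_irr hθ))
  letI := Fintype.ofFinite T
  obtain ⟨ψ, hψ, hind, hmult, hres⟩ := exists_correspondent N hNT hθ hT χ.2 hχ
  have hχp := hall χ hχ
  obtain ⟨d, hd0, hd, -⟩ := Chars.irr_degree_dvd_card hψ
  have hθ1 : θ 1 = 1 := by simp [hθdef]
  have hdeg : charDegree (χ : G → ℂ) = T.index * d := by
    rw [← hind, charDegree, Chars.indFun_one_apply, hd, ← Nat.cast_mul, Complex.natCast_re,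
      Nat.floor_natCast]
  have hTi : ¬ p ∣ T.index := fun h => hχp (hdeg ▸ h.mul_right d)
  have hdp : ¬ p ∣ d := fun h => hχp (hdeg ▸ h.mul_left _)
  have he : classInner (fun n : N => (χ : G → ℂ) n) θ = d := by
    have h1 := hres 1
    rw [hθ1, mul_one] at h1
    rw [← h1, ← hd]
    rfl
  -- `l` extends to the inertia group
  set N' := N.subgroupOf T with hN'
  let l' : N' →* ℂˣ := l.comp (Subgroup.subgroupOfEquivOfLe hNT).toMonoidHom
  obtain ⟨j, hj⟩ := hN.exists_card_eq
  have hext : HomExtends N' l' := by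
    refine homExtends_of_restrict N' l' hψ hd (m := Nat.card N) ?_ ?_ fun n => ?_
    · refine MonoidHom.ext fun n => ?_
      rw [MonoidHom.pow_apply, MonoidHom.one_apply]
      show l _ ^ _ = 1
      rw [← map_pow, pow_card_eq_one', map_one]
    · rw [hj]
      exact ((hp.out.coprime_iff_not_dvd.2 hdp).symm).pow_right j
    · have h1 := hres (Subgroup.subgroupOfEquivOfLe hNT n)
      rw [he] at h1
      exact h1
  obtain ⟨ν, hν⟩ := hext
  -- all degrees of the quotient are prime to `p`
  have hAll : Blocks.PrincHeights.AllPrime p (T ⧸ N') := by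
    intro β hβ
    let φ : T → ℂ := fun t => (ν t : ℂ) * (β : T ⧸ N' → ℂ) t
    have hφ : IsIrrCharacter T φ :=
      Chars.isIrrCharacter_linear_mul ν (Chars.isIrrCharacter_inflate N' β.2)
    have hrN : (fun n : N => φ ⟨n, hNT n.2⟩) = (β : T ⧸ N' → ℂ) 1 • θ := by
      funext n
      have h1 := hν ⟨⟨n, hNT n.2⟩, n.2⟩
      show (ν ⟨n, hNT n.2⟩ : ℂ) * (β : T ⧸ N' → ℂ) ((⟨n, hNT n.2⟩ : T) : T ⧸ N') = _
      rw [(QuotientGroup.eq_one_iff (⟨n, hNT n.2⟩ : T)).2 (by exact n.2), Pi.smul_apply,
        smul_eq_mul, mul_comm]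
      congr 1
      exact congrArg Units.val h1
    have hover : classInner (fun n : N => φ ⟨n, hNT n.2⟩) θ ≠ 0 := by
      rw [hrN, Chars.inner_smul_left, Chars.inner_irr_self ⟨θ, hθ⟩, mul_one]
      exact Chars.irr_degree_ne_zero β.2
    have hirr := isIrr_indFun_of_over N hNT hθ hT hφ hover
    have hin : classInner (fun t : T => indFun T φ t) φ ≠ 0 := by
      rw [conj_inner (Chars.isCharacter_of_irr hφ) (Chars.isCharacter_restrict T
          (Chars.isCharacter_of_irr hirr)),
        ← Chars.inner_indFun T φ (Chars.isClassFunction_of_isCharacter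
          (Chars.isCharacter_of_irr hirr)),
        Chars.inner_irr_self ⟨_, hirr⟩]
      exact one_ne_zero
    obtain ⟨-, h2, -⟩ := correspondence_core N hNT hθ hT hφ hover hirr hin
    refine hall ⟨_, hirr⟩ (h2 ▸ hover) ?_
    have hdφ : charDegree φ = charDegree (β : T ⧸ N' → ℂ) := by
      simp [charDegree, φ]
    show p ∣ charDegree (indFun T φ)
    rw [charDegree, Chars.indFun_one_apply, CharApps.deg_eq_of_isChar (Chars.isCharacter_of_irr hφ),
      hdφ, ← Nat.cast_mul, Complex.natCast_re, Nat.floor_natCast]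
    exact hβ.mul_left _
  have hTs : IsPSolvable p T := PLocal.isPSolvable_subgroup hG T
  obtain ⟨S⟩ : Nonempty (Sylow p T) := inferInstance
  set S' := S.mapSurjective (QuotientGroup.mk'_surjective N') with hS'
  haveI := Blocks.PrincHeights.normal_sylow_of_allPrime (PLocal.isPSolvable_quotient hTs N') hAll S'
  have hcomm := Blocks.PrincHeights.comm_of_allPrime hAll S'.2
  have hkey : ∀ x y : T, x ∈ (S : Subgroup T) → y ∈ (S : Subgroup T) → ⁅(x : G), (y : G)⁆ ∈ N := by
    intro x y hx hy
    have hmem : ∀ {z : T}, z ∈ (S : Subgroup T) → QuotientGroup.mk' N' z ∈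
        (S' : Subgroup (T ⧸ N')) := fun {z} hz => by
      rw [hS', Sylow.coe_mapSurjective]; exact ⟨z, hz, rfl⟩
    have h1 : QuotientGroup.mk' N' x * QuotientGroup.mk' N' y =
        QuotientGroup.mk' N' y * QuotientGroup.mk' N' x :=
      congrArg Subtype.val (hcomm ⟨_, hmem hx⟩ ⟨_, hmem hy⟩)
    have h2 : QuotientGroup.mk' N' ⁅x, y⁆ = 1 := by
      rw [map_commutatorElement]; exact commutatorElement_eq_one_iff_mul_comm.2 h1
    have h3 := Subgroup.mem_subgroupOf.1 ((QuotientGroup.eq_one_iff _).1 h2)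
    simpa [commutatorElement_def] using h3
  -- move `P` into `T`
  have hcard : Nat.card ((S : Subgroup T).map T.subtype) = p ^ (Nat.card G).factorization p := by
    rw [Subgroup.card_map_of_injective T.subtype_injective, Sylow.card_eq_multiplicity]
    congr 1
    rw [← T.index_mul_card, Nat.factorization_mul Subgroup.index_ne_zero_of_finite
      Nat.card_pos.ne', Finsupp.add_apply, Nat.factorization_eq_zero_of_not_dvd hTi, zero_add]
  obtain ⟨g, hg⟩ := MulAction.exists_smul_eq G P (Sylow.ofCard _ hcard)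
  have hconj : ∀ {z : G}, z ∈ (P : Subgroup G) →
      ∃ t : T, t ∈ (S : Subgroup T) ∧ (t : G) = g * z * g⁻¹ := by
    intro z hz
    have h1 : g * z * g⁻¹ ∈ ((g • P : Sylow p G) : Subgroup G) := by
      rw [Sylow.coe_subgroup_smul]
      exact ⟨z, hz, rfl⟩
    rw [hg, Sylow.coe_ofCard] at h1
    obtain ⟨t, ht, hte⟩ := h1
    exact ⟨t, ht, hte⟩
  obtain ⟨x, hx, hxe⟩ := hconj ha
  obtain ⟨y, hy, hye⟩ := hconj hb
  have h4 := (inferInstance : N.Normal).conj_mem _ (hkey x y hx hy) g⁻¹
  rw [hxe, hye] at h4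
  convert h4 using 1
  simp only [commutatorElement_def]
  group

/-- The number of irreducible characters of degree divisible by `p`. -/
noncomputable def count (p : ℕ) (G : Type u) [Group G] : ℕ :=
  Nat.card {χ : IrrCharacter G // p ∣ charDegree (χ : G → ℂ)}

theorem count_quotient {G : Type u} [Group G] [Finite G] (N : Subgroup G) [N.Normal] :
    count p (G ⧸ N) ≤ count p G ∧
      ((∃ χ : IrrCharacter G, p ∣ charDegree (χ : G → ℂ) ∧
        ∃ n ∈ N, (χ : G → ℂ) n ≠ (χ : G → ℂ) 1) → count p (G ⧸ N) < count p G) := by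
  classical
  let f : {χ : IrrCharacter (G ⧸ N) // p ∣ charDegree (χ : G ⧸ N → ℂ)} →
      {χ : IrrCharacter G // p ∣ charDegree (χ : G → ℂ)} := fun χ =>
    ⟨⟨_, Chars.isIrrCharacter_inflate N χ.1.2⟩, χ.2⟩
  have hf : Function.Injective f := fun χ χ' h => by
    refine Subtype.ext (Subtype.ext (funext fun x => ?_))
    obtain ⟨g, rfl⟩ := QuotientGroup.mk'_surjective N x
    exact congrFun (congrArg (fun z => ((z.1 : IrrCharacter G) : G → ℂ)) h) g
  haveI := Chars.irrFintype G
  haveI := Chars.irrFintype (G ⧸ N)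
  refine ⟨Nat.card_le_card_of_injective f hf, ?_⟩
  rintro ⟨χ, hχp, n, hn, hne⟩
  rw [count, count, Nat.card_eq_fintype_card, Nat.card_eq_fintype_card]
  refine Fintype.card_lt_of_injective_not_surjective f hf fun hs => hne ?_
  obtain ⟨χ', hχ'⟩ := hs ⟨χ, hχp⟩
  have h1 : (χ : G → ℂ) = fun g : G => (χ'.1 : G ⧸ N → ℂ) g :=
    (congrArg (fun z => ((z.1 : IrrCharacter G) : G → ℂ)) hχ').symm
  rw [h1]
  show (χ'.1 : G ⧸ N → ℂ) (n : G ⧸ N) = (χ'.1 : G ⧸ N → ℂ) ((1 : G) : G ⧸ N)
  rw [(QuotientGroup.eq_one_iff n).2 hn]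
  rfl

theorem derivedSeries_le_ker {A B : Type u} [Group A] [Group B] (f : A →* B)
    (hf : Function.Surjective f) {k : ℕ} (h : derivedSeries B k = ⊥) :
    derivedSeries A k ≤ f.ker := by
  rw [← Subgroup.map_eq_bot_iff, map_derivedSeries_eq hf, h]

/-- **Derived length of a Sylow subgroup.** -/
theorem derivedSeries_sylow_eq_bot {G : Type u} [Group G] [Finite G] (hG : IsPSolvable p G)
    (P : Sylow p G) : derivedSeries (P : Subgroup G) (count p G + 1) = ⊥ := by
  classical
  induction hn : Nat.card G using Nat.strong_induction_on generalizing G with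
  | _ n ih =>
  subst hn
  by_cases h0 : count p G = 0
  · rw [h0, zero_add, derivedSeries_one]
    have hall : Blocks.PrincHeights.AllPrime p G := fun χ hχ => by
      haveI : Nonempty {χ : IrrCharacter G // p ∣ charDegree (χ : G → ℂ)} := ⟨⟨χ, hχ⟩⟩
      haveI := Chars.irrFintype G
      exact (Nat.card_pos (α := {χ : IrrCharacter G // p ∣ charDegree (χ : G → ℂ)})).ne' h0
    haveI := Blocks.PrincHeights.normal_sylow_of_allPrime hG hall P
    rw [_root_.commutator_def, eq_bot_iff, Subgroup.commutator_le]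
    intro a _ b _
    rw [Subgroup.mem_bot, commutatorElement_eq_one_iff_mul_comm]
    exact Blocks.PrincHeights.comm_of_allPrime hall P.2 a b
  haveI : Nontrivial G := by
    by_contra hnt
    rw [not_nontrivial_iff_subsingleton] at hnt
    apply h0
    rw [count, Nat.card_eq_zero]
    refine Or.inl ⟨fun ⟨χ, hχ⟩ => ?_⟩
    obtain ⟨d, -, hd, hdd⟩ := Chars.irr_degree_dvd_card χ.2
    rw [Nat.card_unique (α := G), Nat.dvd_one] at hdd
    rw [CharApps.deg_eq, hdd, Nat.cast_one, Nat.cast_eq_one] at hd
    rw [hd, Nat.dvd_one] at hχ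
    exact hp.out.ne_one hχ
  have hlt : ∀ N : Subgroup G, N ≠ ⊥ → ∀ [N.Normal], Nat.card (G ⧸ N) < Nat.card G := by
    intro N hne _
    have h1 : 1 < Nat.card N := (Subgroup.one_lt_card_iff_ne_bot N).2 hne
    have h2 := N.card_mul_index
    rw [Subgroup.index_eq_card] at h2
    have h3 : 0 < Nat.card (G ⧸ N) := Nat.card_pos
    nlinarith
  -- reduce to a quotient
  have hquot : ∀ (N : Subgroup G) [N.Normal], N ≠ ⊥ →
      derivedSeries (P : Subgroup G) (count p (G ⧸ N) + 1) ≤ N.subgroupOf P := by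
    intro N _ hne
    have h1 := ih _ (hlt N hne) (PLocal.isPSolvable_quotient hG N)
      (P.mapSurjective (QuotientGroup.mk'_surjective N)) rfl
    let f := (QuotientGroup.mk' N).subgroupMap (P : Subgroup G)
    have h2 := derivedSeries_le_ker f ((QuotientGroup.mk' N).subgroupMap_surjective _)
      (k := count p (G ⧸ N) + 1) (by rw [← Sylow.coe_mapSurjective (QuotientGroup.mk'_surjective N) P]; exact h1)
    refine h2.trans fun x hx => ?_
    exact (QuotientGroup.eq_one_iff (x : G)).1 (congrArg Subtype.val hx)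
  rcases PLocal.pCore_ne_bot_or_pPrimeCore_ne_bot hG with hne | hne
  swap
  · set N := pPrimeCore p G
    have h1 := hquot N hne
    have h2 : N.subgroupOf (P : Subgroup G) = ⊥ := by
      rw [Subgroup.subgroupOf_eq_bot, disjoint_iff, ← Subgroup.card_eq_one]
      obtain ⟨j, hj⟩ := IsPGroup.iff_card.1 P.2
      exact Nat.eq_one_of_dvd_coprimes ((Base.pPrimeCore_coprime p G).pow_right j)
        (Subgroup.card_dvd_of_le inf_le_left)
        ((Subgroup.card_dvd_of_le inf_le_right).trans (dvd_of_eq hj))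
    exact le_bot_iff.1 (h2 ▸ (derivedSeries_antitone _ (Nat.add_le_add_right
      (count_quotient N).1 1)).trans h1)
  -- a nontrivial normal abelian `p`-subgroup
  set R := pCore p G with hR
  have hRp : IsPGroup p R := Base.isPGroup_pCore p G
  haveI : Nontrivial R := (Subgroup.nontrivial_iff_ne_bot R).2 hne
  haveI := hRp.center_nontrivial
  set N := (Subgroup.center R).map R.subtype with hNdef
  haveI : N.Normal := by
    haveI : R.Normal := inferInstance
    exact ConjAct.normal_of_characteristic_of_normal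
  have hNne : N ≠ ⊥ := by
    rw [hNdef, Ne, Subgroup.map_eq_bot_iff_of_injective _ R.subtype_injective]
    exact (Subgroup.nontrivial_iff_ne_bot _).1 inferInstance
  have hNp : IsPGroup p N := hRp.to_le (Subgroup.map_subtype_le _)
  have hNc : ∀ x y : N, x * y = y * x := by
    rintro ⟨-, x, hx, rfl⟩ ⟨-, y, hy, rfl⟩
    exact Subtype.ext (congrArg (fun z : R => (z : G)) (Subgroup.mem_center_iff.1 hy x))
  have hNab : ⁅N.subgroupOf (P : Subgroup G), N.subgroupOf (P : Subgroup G)⁆ = ⊥ := by
    rw [eq_bot_iff, Subgroup.commutator_le]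
    intro a ha b hb
    rw [Subgroup.mem_bot, commutatorElement_eq_one_iff_mul_comm]
    exact Subtype.ext (congrArg (fun z : N => (z : G)) (hNc ⟨(a : G), ha⟩ ⟨(b : G), hb⟩))
  have hstep : ∀ k, derivedSeries (P : Subgroup G) k ≤ N.subgroupOf P →
      derivedSeries (P : Subgroup G) (k + 1) = ⊥ := fun k hk => by
    rw [derivedSeries_succ]
    exact le_bot_iff.1 (hNab ▸ Subgroup.commutator_mono hk hk)
  by_cases hex : ∃ χ : IrrCharacter G, p ∣ charDegree (χ : G → ℂ) ∧
      ∃ n ∈ N, (χ : G → ℂ) n ≠ (χ : G → ℂ) 1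
  · exact le_bot_iff.1 ((derivedSeries_antitone _ (Nat.succ_le_succ ((count_quotient N).2 hex))).trans
      (hstep _ (hquot N hNne)).le)
  push Not at hex
  -- all characters nontrivial on `N` have degree prime to `p`
  letI := Fintype.ofFinite N
  obtain ⟨l, hl⟩ : ∃ l : N →* ℂˣ, l ≠ 1 := by
    refine Chars.exists_nontrivial_hom fun htop => hNne ?_
    haveI : IsMulCommutative N := ⟨⟨hNc⟩⟩
    have hb : commutator N = ⊥ := by
      rw [_root_.commutator_def, eq_bot_iff, Subgroup.commutator_le]
      exact fun a _ b _ => Subgroup.mem_bot.2 (commutatorElement_eq_one_iff_mul_comm.2 (hNc a b))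
    rw [← Subgroup.card_eq_one, ← Subgroup.card_top (G := N), ← htop, hb, Subgroup.card_bot]
  have hover : ∀ χ : IrrCharacter G, classInner (fun n : N => (χ : G → ℂ) n)
      (fun n => (l n : ℂ)) ≠ 0 → ¬ p ∣ charDegree (χ : G → ℂ) := by
    intro χ hχ hd
    apply hχ
    have h1 : (fun n : N => (χ : G → ℂ) n) =
        (χ : G → ℂ) 1 • (Chars.principal N : N → ℂ) := by
      funext n
      rw [hex χ hd n n.2, Pi.smul_apply, Chars.principal_apply, smul_eq_mul, mul_one]
    rw [h1, Chars.inner_smul_left, show (fun n => (l n : ℂ)) =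
      ((⟨_, Chars.isIrrCharacter_linear l⟩ : IrrCharacter N) : N → ℂ) from rfl, Chars.inner_irr,
      if_neg, mul_zero]
    intro h2
    exact hl (MonoidHom.ext fun n => Units.ext
      ((congrFun (congrArg Subtype.val h2) n).symm.trans (Chars.principal_apply n)))
  refine le_bot_iff.1 ((derivedSeries_antitone _ (show 1 + 1 ≤ count p G + 1 by omega)).trans
    (hstep 1 ?_).le)
  rw [derivedSeries_one, _root_.commutator_def, Subgroup.commutator_le]
  intro a _ b _
  rw [Subgroup.mem_subgroupOf]
  have := commutator_mem_of_over hG N hNp l hover P a.2 b.2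
  simpa [commutatorElement_def] using this

end CfsgLib.DerivedSylow
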