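import Cfsg.Agent.Lib.CharApps.ClassCount
import Cfsg.Agent.Lib.Chars.Induction
import Cfsg.Agent.Lib.Chars.Virtual

/-!
# No group with one class of involutions, dihedral involution centralizer `2 * m` and `m` odd
in which every real element meets the abelian half of the centralizer

The exceptional characters of the trivial intersection subgroup and the structure constants of the
involution class give `(D + 2) ^ 2 * (4 * m ^ 2 - 2 * m + 1) = 8 * m ^ 2 * D * (D + 1)` for an
integer `D`, impossible for `m ≥ 3`.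
-/

set_option autoImplicit false
set_option linter.style.haveILetI false

namespace CfsgLib.CharApps.DihedralCount

open Cfsg CfsgLib.Chars
open scoped ComplexConjugate

variable {G : Type*} [Group G] [Fintype G]

/-- The configuration. -/
structure Config (C N : Subgroup G) (z : G) (m : ℕ) : Prop where
  three_le : 3 ≤ m
  odd : Odd m
  card_C : Nat.card C = 2 * m
  card_N : Nat.card N = 4 * m
  le : C ≤ N
  comm : ∀ a ∈ C, ∀ b ∈ C, a * b = b * a
  z_mem : z ∈ C
  z_ord : orderOf z = 2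
  z_unique : ∀ a ∈ C, orderOf a = 2 → a = z
  normal : ∀ n ∈ N, ∀ c ∈ C, n * c * n⁻¹ ∈ C
  outer : ∀ t ∈ N, t ∉ C → orderOf t = 2
  cent_z : Subgroup.centralizer ({z} : Set G) = N
  ti : ∀ g : G, ∀ c ∈ C, c ≠ 1 → g * c * g⁻¹ ∈ C → g ∈ N
  fused : ∀ u : G, orderOf u = 2 → IsConj z u
  real : ∀ x : G, x ≠ 1 → ∀ u : G, orderOf u = 2 → u * x * u = x⁻¹ → ∃ g : G, g * x * g⁻¹ ∈ C

omit [Fintype G] in
theorem invol_iff {u : G} : orderOf u = 2 ↔ u * u = 1 ∧ u ≠ 1 := by
  rw [orderOf_eq_prime_iff, pow_two]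

variable {C N : Subgroup G} {z : G} {m : ℕ}

theorem Config.z_sq (h : Config C N z m) : z * z = 1 := (invol_iff.1 h.z_ord).1

theorem Config.z_inv (h : Config C N z m) : z⁻¹ = z := inv_eq_of_mul_eq_one_right h.z_sq

theorem Config.exists_outer (h : Config C N z m) : ∃ t ∈ N, t ∉ C := by
  by_contra hc
  push Not at hc
  have := Subgroup.card_le_of_le (show N ≤ C from hc)
  rw [h.card_C, h.card_N] at this
  have := h.three_le
  omega

theorem Config.invert (h : Config C N z m) {t c : G} (htN : t ∈ N) (ht : t ∉ C) (hc : c ∈ C) :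
    t * c * t⁻¹ = c⁻¹ := by
  have h1 : t * c ∉ C := fun hh => ht (by simpa using C.mul_mem hh (C.inv_mem hc))
  have h2 := (invol_iff.1 (h.outer _ (N.mul_mem htN (h.le hc)) h1)).1
  have h3 := (invol_iff.1 (h.outer t htN ht)).1
  rw [inv_eq_of_mul_eq_one_right h3]
  exact eq_inv_of_mul_eq_one_left (by rw [← h2]; group)

/-- Involutions pairing with a given one to give a fixed element of `C`. -/
theorem Config.pairs_iff (h : Config C N z m) {x : G} (hx : x ∈ C) (hx1 : x ≠ 1) (u : G) :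
    (orderOf u = 2 ∧ orderOf (u * x) = 2) ↔ (u ∈ N ∧ u ∉ C) := by
  constructor
  · rintro ⟨hu, hux⟩
    obtain ⟨hu1, hu0⟩ := invol_iff.1 hu
    obtain ⟨hux1, hux0⟩ := invol_iff.1 hux
    have huinv : u⁻¹ = u := inv_eq_of_mul_eq_one_right hu1
    have hc : u * x * u⁻¹ = x⁻¹ := eq_inv_of_mul_eq_one_left (by rw [huinv, ← hux1]; group)
    have huN : u ∈ N := h.ti u x hx hx1 (hc ▸ C.inv_mem hx)
    refine ⟨huN, fun huC => ?_⟩
    obtain rfl : u = z := h.z_unique u huC hu
    have hxx : x * x = 1 := by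
      have : u * x * u⁻¹ = x := by rw [h.comm u huC x hx, mul_inv_cancel_right]
      calc x * x = x * (u * x * u⁻¹) := by rw [this]
        _ = 1 := by rw [hc, mul_inv_cancel]
    obtain rfl : x = u := h.z_unique x hx (invol_iff.2 ⟨hxx, hx1⟩)
    exact hux0 hu1
  · rintro ⟨huN, huC⟩
    exact ⟨h.outer u huN huC, h.outer _ (N.mul_mem huN (h.le hx))
      fun hh => huC (by simpa using C.mul_mem hh (C.inv_mem hx))⟩

theorem Config.no_pairs (h : Config C N z m) {x : G} (hx1 : x ≠ 1)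
    (hx : ∀ g : G, g * x * g⁻¹ ∉ C) (u : G) : ¬ (orderOf u = 2 ∧ orderOf (u * x) = 2) := by
  rintro ⟨hu, hux⟩
  obtain ⟨hu1, -⟩ := invol_iff.1 hu
  obtain ⟨hux1, -⟩ := invol_iff.1 hux
  obtain ⟨g, hg⟩ := h.real x hx1 u hu (eq_inv_of_mul_eq_one_left (by rw [← hux1]; group))
  exact hx g hg

/-- The number of ways to write `x` as a product of two conjugates of `z`, with multiplicity. -/
noncomputable def pairCount (z x : G) : ℕ :=
  Nat.card {ab : G × G // (ab.1 * z * ab.1⁻¹) * (ab.2 * z * ab.2⁻¹) = x}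

theorem Config.pairCount_eq (h : Config C N z m) (x : G) :
    pairCount z x = (4 * m) ^ 2 * Nat.card {u : G // orderOf u = 2 ∧
      IsConj z (u⁻¹ * x)} := by
  classical
  rw [pairCount]
  have e : {ab : G × G // (ab.1 * z * ab.1⁻¹) * (ab.2 * z * ab.2⁻¹) = x} ≃
      Σ u : {u : G // orderOf u = 2 ∧ IsConj z (u⁻¹ * x)},
        {a : G // a * z * a⁻¹ = u.1} × {b : G // b * z * b⁻¹ = u.1⁻¹ * x} :=
    { toFun := fun ab => ⟨⟨ab.1.1 * z * ab.1.1⁻¹,
          by rw [← MulAut.conj_apply, MulEquiv.orderOf_eq]; exact h.z_ord,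
          isConj_iff.2 ⟨ab.1.2, eq_inv_mul_of_mul_eq ab.2⟩⟩,
        ⟨ab.1.1, rfl⟩, ⟨ab.1.2, eq_inv_mul_of_mul_eq ab.2⟩⟩
      invFun := fun q => ⟨(q.2.1.1, q.2.2.1), by rw [q.2.1.2, q.2.2.2, mul_inv_cancel_left]⟩
      left_inv := fun ab => rfl
      right_inv := by rintro ⟨⟨u, hu⟩, ⟨a, ha⟩, ⟨b, hb⟩⟩; change a * z * a⁻¹ = u at ha; subst ha; rfl }
  rw [Nat.card_congr e, Nat.card_sigma, Finset.sum_congr rfl (g := fun _ => (4 * m) ^ 2)]
  · rw [Finset.sum_const, Finset.card_univ, smul_eq_mul, Nat.card_eq_fintype_card, mul_comm]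
  · intro u _
    rw [Nat.card_prod, card_conj_fiber z (h.fused _ u.2.1), card_conj_fiber z u.2.2, h.cent_z,
      h.card_N, pow_two]

theorem Config.pairCount_C (h : Config C N z m) {x : G} (hx : x ∈ C) (hx1 : x ≠ 1) :
    pairCount z x = 32 * m ^ 3 := by
  classical
  rw [h.pairCount_eq]
  have : Nat.card {u : G // orderOf u = 2 ∧ IsConj z (u⁻¹ * x)} = 2 * m := by
    have e : ∀ u : G, (orderOf u = 2 ∧ IsConj z (u⁻¹ * x)) ↔ (u ∈ N ∧ u ∉ C) := by
      intro u
      rw [← h.pairs_iff hx hx1 u]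
      refine and_congr_right fun hu => ?_
      rw [inv_eq_of_mul_eq_one_right (invol_iff.1 hu).1]
      refine ⟨fun hc => ?_, fun hc => h.fused _ hc⟩
      obtain ⟨g, hg⟩ := isConj_iff.1 hc
      rw [← hg, ← MulAut.conj_apply, MulEquiv.orderOf_eq, h.z_ord]
    rw [Nat.card_congr (Equiv.subtypeEquivRight e)]
    have h1 : Nat.card {u : G // u ∈ N ∧ u ∉ C} + Nat.card C = Nat.card N := by
      rw [Nat.card_eq_fintype_card, Nat.card_eq_fintype_card, Nat.card_eq_fintype_card,
        Fintype.card_subtype, Fintype.card_subtype, Fintype.card_subtype,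
        ← Finset.card_union_of_disjoint (Finset.disjoint_filter.2 fun u _ hu => hu.2)]
      refine congrArg Finset.card (Finset.ext fun u => ?_)
      simp only [Finset.mem_union, Finset.mem_filter, Finset.mem_univ, true_and]
      exact ⟨fun hh => hh.elim And.left (fun hc => h.le hc), fun hu => (em (u ∈ C)).symm.imp
        (fun hc => ⟨hu, hc⟩) id⟩
    rw [h.card_C, h.card_N] at h1
    omega
  rw [this]; ring

theorem Config.pairCount_none (h : Config C N z m) {x : G} (hx1 : x ≠ 1)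
    (hx : ∀ g : G, g * x * g⁻¹ ∉ C) : pairCount z x = 0 := by
  rw [h.pairCount_eq]
  haveI : IsEmpty {u : G // orderOf u = 2 ∧ IsConj z (u⁻¹ * x)} := ⟨fun ⟨u, hu, hc⟩ => by
    refine h.no_pairs hx1 hx u ⟨hu, ?_⟩
    rw [inv_eq_of_mul_eq_one_right (invol_iff.1 hu).1] at hc
    obtain ⟨g, hg⟩ := isConj_iff.1 hc
    rw [← hg, ← MulAut.conj_apply, MulEquiv.orderOf_eq, h.z_ord]⟩
  rw [Nat.card_of_isEmpty, mul_zero]

theorem Config.pairCount_one (h : Config C N z m) :
    pairCount z 1 = Nat.card G * (4 * m) := by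
  classical
  rw [pairCount]
  have e : {ab : G × G // (ab.1 * z * ab.1⁻¹) * (ab.2 * z * ab.2⁻¹) = 1} ≃
      Σ a : G, {b : G // b * z * b⁻¹ = a * z * a⁻¹} :=
    { toFun := fun ab => ⟨ab.1.1, ab.1.2, by
        rw [eq_inv_of_mul_eq_one_right ab.2, mul_inv_rev, mul_inv_rev, inv_inv, h.z_inv,
          mul_assoc]⟩
      invFun := fun q => ⟨(q.1, q.2.1), by
        have := h.z_sq
        rw [q.2.2, show q.1 * z * q.1⁻¹ * (q.1 * z * q.1⁻¹) = q.1 * (z * z) * q.1⁻¹ by group,
          this, mul_one, mul_inv_cancel]⟩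
      left_inv := fun ab => rfl
      right_inv := fun q => rfl }
  rw [Nat.card_congr e, Nat.card_sigma, Finset.sum_congr rfl (g := fun _ => 4 * m)]
  · rw [Finset.sum_const, Finset.card_univ, smul_eq_mul, Nat.card_eq_fintype_card]
  · intro a _
    rw [card_conj_fiber z (isConj_iff.2 ⟨a, rfl⟩), h.cent_z, h.card_N]

theorem sum_pairCount (z : G) : ∑ x : G, pairCount z x = Nat.card G * Nat.card G := by
  classical
  rw [← Nat.card_prod, ← Nat.card_congr
    (Equiv.sigmaFiberEquiv fun ab : G × G => (ab.1 * z * ab.1⁻¹) * (ab.2 * z * ab.2⁻¹)),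
    Nat.card_sigma]
  rfl

/-- Values on `C` of a function induced from `C` vanishing at the identity. -/
theorem Config.ind_apply (h : Config C N z m) {ψ : C → ℂ} (h1 : ψ 1 = 0) (c : C) :
    indFun C ψ (c : G) = ψ c + ψ c⁻¹ := by
  classical
  by_cases hc : c = 1
  · subst hc; simp [indFun_one_apply, h1]
  have hval : ∀ x : G, extendByZero C ψ (x⁻¹ * c * x) =
      if x ∈ C then ψ c else if x ∈ N then ψ c⁻¹ else 0 := by
    intro x
    by_cases hxC : x ∈ C
    · rw [if_pos hxC, show x⁻¹ * (c : G) * x = c by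
        rw [mul_assoc, h.comm c c.2 x hxC, inv_mul_cancel_left]]
      exact extendByZero_coe C ψ c
    rw [if_neg hxC]
    by_cases hxN : x ∈ N
    · rw [if_pos hxN]
      have := h.invert (N.inv_mem hxN) (fun hh => hxC (by simpa using C.inv_mem hh)) c.2
      rw [inv_inv] at this
      rw [this, ← Subgroup.coe_inv]
      exact extendByZero_coe C ψ c⁻¹
    · rw [if_neg hxN, extendByZero_of_not_mem]
      intro hm
      refine hxN ?_
      have := h.ti x⁻¹ c c.2 (fun hh => hc (Subtype.ext hh)) (by simpa using hm)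
      simpa using N.inv_mem this
  rw [indFun_apply, Finset.sum_congr rfl fun x _ => hval x, Finset.sum_ite, Finset.sum_ite,
    Finset.sum_const_zero, add_zero, Finset.sum_const, Finset.sum_const, nsmul_eq_mul,
    nsmul_eq_mul, Finset.filter_filter]
  have e1 : (Finset.univ.filter (· ∈ C)).card = 2 * m := by
    rw [← Fintype.card_subtype, ← Nat.card_eq_fintype_card]; exact h.card_C
  have e2 : (Finset.univ.filter fun x => x ∉ C ∧ x ∈ N).card = 2 * m := by
    have h0 : (Finset.univ.filter (· ∈ N)).card = 4 * m := by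
      rw [← Fintype.card_subtype, ← Nat.card_eq_fintype_card]; exact h.card_N
    have h2 := Finset.card_filter_add_card_filter_not (s := Finset.univ.filter (· ∈ N)) (· ∈ C)
    rw [Finset.filter_filter, Finset.filter_filter, h0] at h2
    have h3 : (Finset.univ.filter fun x => x ∈ N ∧ x ∈ C) = Finset.univ.filter (· ∈ C) := by
      ext x; simpa using fun hx => h.le hx
    have h4 : (Finset.univ.filter fun x => x ∈ N ∧ x ∉ C) =
        Finset.univ.filter fun x => x ∉ C ∧ x ∈ N := by ext x; simp [and_comm]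
    rw [h3, h4, e1] at h2
    omega
  rw [e1, e2, h.card_C]
  have : ((2 * m : ℕ) : ℂ) ≠ 0 := by
    have := h.three_le
    exact_mod_cast (show 2 * m ≠ 0 by omega)
  field_simp

/-- The order of the group. -/
theorem Config.card_G (h : Config C N z m) :
    Nat.card G = 4 * m + 8 * m ^ 2 * (2 * m - 1) := by
  classical
  set ψ : C → ℂ := fun c => if c = 1 then 0 else 1 with hψ
  have h1 : ψ 1 = 0 := by simp [hψ]
  have hkey : ∀ x : G, x ≠ 1 → (pairCount z x : ℂ) = 16 * (m : ℂ) ^ 3 * indFun C ψ x := by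
    intro x hx
    by_cases hc : ∃ g, g * x * g⁻¹ ∈ C
    · obtain ⟨g, hg⟩ := hc
      have hne : g * x * g⁻¹ ≠ 1 := fun hh => hx (conj_eq_one_iff.1 hh)
      have e1 : pairCount z x = pairCount z (g * x * g⁻¹) := by
        rw [pairCount, pairCount]
        refine Nat.card_congr (((Equiv.mulLeft g).prodCongr (Equiv.mulLeft g)).subtypeEquiv
          fun ab => ?_)
        simp only [Equiv.prodCongr_apply, Prod.map_fst, Prod.map_snd, Equiv.coe_mulLeft]
        rw [show g * ab.1 * z * (g * ab.1)⁻¹ * (g * ab.2 * z * (g * ab.2)⁻¹) =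
          g * (ab.1 * z * ab.1⁻¹ * (ab.2 * z * ab.2⁻¹)) * g⁻¹ by group]
        simp
      rw [e1, h.pairCount_C hg hne, ← isClassFunction_indFun C ψ x g,
        h.ind_apply h1 ⟨_, hg⟩]
      have hn : (⟨_, hg⟩ : C) ≠ 1 := fun hh => hne (congrArg Subtype.val hh)
      simp only [hψ, if_neg hn, inv_eq_one]
      push_cast; ring
    · push Not at hc
      rw [h.pairCount_none hx hc, indFun_apply, Finset.sum_eq_zero fun y _ => by
        exact extendByZero_of_not_mem C ψ (by simpa using hc y⁻¹)]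
      simp
  have hsum : (∑ x : G, indFun C ψ x) = (Nat.card G : ℂ) / (2 * m : ℕ) * (2 * m - 1 : ℕ) := by
    have := inner_indFun C ψ (χ := fun _ : G => (1 : ℂ)) (fun _ _ => rfl)
    rw [inner_def, inner_def] at this
    simp only [map_one, mul_one] at this
    have hs : ∑ c : C, ψ c = ((2 * m - 1 : ℕ) : ℂ) := by
      simp only [hψ]
      rw [Finset.sum_ite, Finset.sum_const_zero, zero_add, Finset.sum_const, nsmul_eq_mul,
        mul_one, Finset.filter_ne', Finset.card_erase_of_mem (Finset.mem_univ _),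
        Finset.card_univ, ← Nat.card_eq_fintype_card, h.card_C]
    rw [hs, h.card_C, inv_mul_eq_iff_eq_mul₀ (card_ne_zero G)] at this
    rw [this]; ring
  have htot := sum_pairCount z
  rw [← Finset.add_sum_erase _ _ (Finset.mem_univ (1 : G)), h.pairCount_one] at htot
  have hC : ((Nat.card G : ℂ) * (4 * m : ℕ)) + 16 * (m : ℂ) ^ 3 * ∑ x : G, indFun C ψ x =
      (Nat.card G : ℂ) * Nat.card G := by
    rw [← Nat.cast_mul, ← Nat.cast_mul, ← htot, Nat.cast_add, Nat.cast_sum, Finset.mul_sum]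
    congr 1
    rw [← Finset.add_sum_erase _ _ (Finset.mem_univ (1 : G)), indFun_one_apply, h1, mul_zero,
      mul_zero, zero_add]
    exact Finset.sum_congr rfl fun x hx => (hkey x (Finset.ne_of_mem_erase hx)).symm
  rw [hsum] at hC
  have hG := card_ne_zero G
  have hm : (m : ℂ) ≠ 0 := by have := h.three_le; exact_mod_cast (show m ≠ 0 by omega)
  have : (Nat.card G : ℂ) = ((4 * m + 8 * m ^ 2 * (2 * m - 1) : ℕ) : ℂ) := by
    apply mul_left_cancel₀ hG
    rw [← hC]
    push_cast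
    field_simp
    ring
  exact_mod_cast this

/-- Two signed constituents of a norm two virtual character. -/
theorem exists_two_signed [Fintype (IrrCharacter G)] (f : IrrCharacter G → ℤ)
    (h : ∑ χ, f χ * f χ = 2) :
    ∃ a b : IrrCharacter G, a ≠ b ∧ (f a = 1 ∨ f a = -1) ∧ (f b = 1 ∨ f b = -1) ∧
      ∀ χ, χ ≠ a → χ ≠ b → f χ = 0 := by
  classical
  have hle : ∀ χ, f χ = 0 ∨ f χ = 1 ∨ f χ = -1 := by
    intro χ
    have h4 : f χ * f χ ≤ 2 := by
      rw [← h]; exact Finset.single_le_sum (fun i _ => mul_self_nonneg (f i)) (Finset.mem_univ χ)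
    have h5 : -1 ≤ f χ := by nlinarith
    have h6 : f χ ≤ 1 := by nlinarith
    omega
  have hcard : (Finset.univ.filter fun χ => f χ ≠ 0).card = 2 := by
    have : ((Finset.univ.filter fun χ => f χ ≠ 0).card : ℤ) = 2 := by
      rw [← h, Finset.card_filter, Nat.cast_sum]
      exact Finset.sum_congr rfl fun χ _ => by rcases hle χ with e | e | e <;> simp [e]
    exact_mod_cast this
  obtain ⟨a, b, hab, he⟩ := Finset.card_eq_two.1 hcard
  have hmem : ∀ χ, f χ ≠ 0 ↔ χ = a ∨ χ = b := fun χ => by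
    have := Finset.ext_iff.1 he χ
    simpa using this
  refine ⟨a, b, hab, (hle a).resolve_left ((hmem a).2 (Or.inl rfl)),
    (hle b).resolve_left ((hmem b).2 (Or.inr rfl)), fun χ h1 h2 => ?_⟩
  by_contra h0
  rcases (hmem χ).1 h0 with e | e
  · exact h1 e
  · exact h2 e

theorem arith {m : ℕ} (hm : 3 ≤ m) (hodd : Odd m) (D : ℤ) (h0 : D ≠ 0) (h1 : D ≠ -1)
    (h : (D + 2) ^ 2 * (4 * (m : ℤ) ^ 2 - 2 * m + 1) = 8 * (m : ℤ) ^ 2 * (D * (D + 1))) :
    False := by
  have hm' : (3 : ℤ) ≤ m := by exact_mod_cast hm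
  have hR : 0 < 4 * (m : ℤ) ^ 2 - 2 * m + 1 := by nlinarith
  have hR8 : 4 * (m : ℤ) ^ 2 - 2 * m + 1 < 8 * (m : ℤ) ^ 2 := by nlinarith
  rcases le_or_gt D (-2) with hD | hD
  · have h3 : (D + 2) ^ 2 < D * (D + 1) := by nlinarith
    have h4 : 0 < D * (D + 1) := by nlinarith
    nlinarith [mul_lt_mul_of_pos_right h3 hR, mul_le_mul_of_nonneg_left hR8.le h4.le]
  rcases le_or_gt 4 D with hD4 | hD4
  · have h3 : (D + 2) ^ 2 ≤ 2 * (D * (D + 1)) := by nlinarith
    have h4 : 0 < D * (D + 1) := by nlinarith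
    nlinarith [mul_le_mul_of_nonneg_right h3 hR.le, mul_pos h4 (show (0 : ℤ) < m by omega)]
  obtain ⟨k, rfl⟩ := hodd
  have : D = 1 ∨ D = 2 ∨ D = 3 := by omega
  rcases this with rfl | rfl | rfl
  · push_cast at h hm'; nlinarith
  · push_cast at h hm'; nlinarith
  · push_cast at h
    have : (96 : ℤ) * (2 * k + 1) ^ 2 = 25 * (4 * (2 * (k : ℤ) + 1) ^ 2 - 2 * (2 * k + 1) + 1) := by
      linarith
    have h2 : Odd (25 * (4 * (2 * (k : ℤ) + 1) ^ 2 - 2 * (2 * k + 1) + 1)) :=
      ⟨25 * (2 * (2 * (k : ℤ) + 1) ^ 2 - (2 * k + 1)) + 12, by ring⟩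
    rw [← this] at h2
    exact Int.not_odd_iff_even.2 ⟨48 * (2 * (k : ℤ) + 1) ^ 2, by ring⟩ h2

theorem Config.false (h : Config C N z m) : False := by
  classical
  haveI := irrFintype G
  letI : CommGroup C := { (inferInstance : Group C) with
    mul_comm := fun a b => Subtype.ext (h.comm a a.2 b b.2) }
  set Z : C := ⟨z, h.z_mem⟩ with hZdef
  have hZ2 : Z * Z = 1 := Subtype.ext h.z_sq
  have hZ1 : Z ≠ 1 := fun hh => (invol_iff.1 h.z_ord).2 (congrArg Subtype.val hh)
  obtain ⟨x₀, hx₀⟩ : ∃ x : C, x ^ 2 ≠ 1 := by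
    by_contra hc
    push Not at hc
    have hle : (Finset.univ : Finset C) ⊆ {1, Z} := fun x _ => by
      simp only [Finset.mem_insert, Finset.mem_singleton]
      by_cases hx : x = 1
      · exact Or.inl hx
      · refine Or.inr (Subtype.ext (h.z_unique x x.2 (invol_iff.2 ⟨?_, fun hh => hx (Subtype.ext hh)⟩)))
        rw [← pow_two]; exact congrArg Subtype.val (hc x)
    have h2 := (Finset.card_le_card hle).trans Finset.card_le_two
    rw [Finset.card_univ, ← Nat.card_eq_fintype_card, h.card_C] at h2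
    have := h.three_le
    omega
  obtain ⟨φ, hφ⟩ := CommGroup.exists_apply_ne_one_of_hasEnoughRootsOfUnity C ℂ (a := x₀ ^ 2)
    (by exact hx₀)
  obtain ⟨φ', hφ'⟩ := CommGroup.exists_apply_ne_one_of_hasEnoughRootsOfUnity C ℂ (a := Z) hZ1
  have hφ'Z : (φ' Z : ℂ) = -1 := by
    have h2 : (φ' Z : ℂ) ^ 2 = 1 := by
      rw [← Units.val_pow_eq_pow_val, ← map_pow, pow_two, hZ2, map_one, Units.val_one]
    rcases sq_eq_one_iff.1 h2 with e | e
    · exact absurd (Units.ext e) hφ'
    · exact e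
  set lam : C →* ℂˣ := φ ^ 2 with hlam
  set μ : C →* ℂˣ := lam * φ' ^ m with hμ
  have hlZ : (lam Z : ℂ) = 1 := by
    rw [hlam, MonoidHom.pow_apply, ← map_pow, pow_two, hZ2, map_one, Units.val_one]
  have hμZ : (μ Z : ℂ) = -1 := by
    rw [hμ, MonoidHom.mul_apply, Units.val_mul, hlZ, MonoidHom.pow_apply, Units.val_pow_eq_pow_val,
      hφ'Z, h.odd.neg_one_pow, one_mul]
  have hsum0 : ∀ χ : C →* ℂˣ, χ ≠ 1 → ∑ c : C, (χ c : ℂ) = 0 := fun χ hχ =>
    sum_hom_units_eq_zero ((Units.coeHom ℂ).comp χ) fun hh => hχ (MonoidHom.ext fun c =>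
      Units.ext (by simpa using DFunLike.congr_fun hh c))
  have hconj : ∀ (χ : C →* ℂˣ) (c : C), conj (χ c : ℂ) = (χ c⁻¹ : ℂ) := by
    intro χ c
    have h1 : ‖(χ c : ℂ)‖ = 1 := by
      refine Complex.norm_eq_one_of_pow_eq_one (n := orderOf c) ?_ (orderOf_pos c).ne'
      rw [← Units.val_pow_eq_pow_val, ← map_pow, pow_orderOf_eq_one, map_one, Units.val_one]
    rw [map_inv, Units.val_inv_eq_inv_val, Complex.inv_eq_conj h1]
  have hlam1 : lam ≠ 1 := fun hh => hφ (by
    have := DFunLike.congr_fun hh x₀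
    rwa [hlam, MonoidHom.pow_apply, ← map_pow] at this)
  have hlam2 : lam * lam ≠ 1 := by
    intro hh
    apply hlam1
    refine MonoidHom.ext fun c => ?_
    have h1 : lam c ^ 2 = 1 := by rw [pow_two]; exact DFunLike.congr_fun hh c
    have h2 : lam c ^ m = 1 := by
      rw [hlam, MonoidHom.pow_apply, ← pow_mul, ← map_pow, ← h.card_C, pow_card_eq_one', map_one]
    have h3 := pow_gcd_eq_one.2 ⟨h1, h2⟩
    rwa [Nat.coprime_two_left.2 h.odd, pow_one] at h3
  have hne : ∀ χ ν : C →* ℂˣ, (χ Z : ℂ) ≠ (ν Z : ℂ) → χ ≠ ν := fun χ ν hh e => hh (e ▸ rfl)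
  have hμ1 : μ ≠ 1 := hne _ _ (by rw [hμZ]; norm_num)
  have hμ2 : μ * μ ≠ 1 := by
    have : μ * μ = lam * lam := by
      refine MonoidHom.ext fun c => ?_
      have h2 : (φ' c ^ m) * (φ' c ^ m) = 1 := by
        rw [← pow_add, ← two_mul, ← map_pow, ← h.card_C, pow_card_eq_one', map_one]
      simp only [hμ, MonoidHom.mul_apply, MonoidHom.pow_apply]
      rw [mul_mul_mul_comm, h2, mul_one]
    rwa [this]
  have hlm : lam * μ⁻¹ ≠ 1 := hne _ _ (by
    rw [MonoidHom.mul_apply, MonoidHom.inv_apply, Units.val_mul, Units.val_inv_eq_inv_val, hlZ,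
      hμZ]; norm_num)
  have hlm' : lam * μ ≠ 1 := hne _ _ (by
    rw [MonoidHom.mul_apply, Units.val_mul, hlZ, hμZ]; norm_num)
  set ψ : (C →* ℂˣ) → C → ℂ := fun χ c => 1 - (χ c : ℂ) with hψ
  set θ : (C →* ℂˣ) → G → ℂ := fun χ => indFun C (ψ χ) with hθ
  have hψ1 : ∀ χ, ψ χ 1 = 0 := fun χ => by simp [hψ]
  have hθC : ∀ (χ : C →* ℂˣ) (c : C), θ χ (c : G) = 2 - (χ c : ℂ) - (χ c⁻¹ : ℂ) := fun χ c => by
    simp only [hθ]; rw [h.ind_apply (hψ1 χ) c]; simp only [hψ]; ring
  have hθcl : ∀ χ, IsClassFunction G (θ χ) := fun χ => isClassFunction_indFun C _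
  have hθgen : ∀ χ, IsGeneralizedCharacter G (θ χ) := fun χ => isGeneralized_indFun C
    ⟨fun _ => 1, fun c => (χ c : ℂ), isCharacter_one,
      isCharacter_of_irr (isIrrCharacter_linear χ), rfl⟩
  have hcardC : (Nat.card C : ℂ) ≠ 0 := card_ne_zero C
  have hinner : ∀ χ ν : C →* ℂˣ, χ ≠ 1 → ν ≠ 1 →
      classInner (θ χ) (θ ν) = 2 + (if χ * ν⁻¹ = 1 then 1 else 0) +
        (if χ * ν = 1 then 1 else 0) := by
    intro χ ν hχ hν
    simp only [hθ]
    rw [inner_indFun C (ψ χ) (isClassFunction_indFun C _), inner_def]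
    have e : ∀ c : C, ψ χ c * conj (indFun C (ψ ν) (c : G)) =
        2 - (ν c : ℂ) - (ν⁻¹ c : ℂ) - 2 * (χ c : ℂ) + ((χ * ν⁻¹) c : ℂ) + ((χ * ν) c : ℂ) := by
      intro c
      have := hθC ν c
      simp only [hθ] at this
      rw [this, map_sub, map_sub, map_ofNat, hconj, hconj, inv_inv]
      simp only [hψ, MonoidHom.mul_apply, MonoidHom.inv_apply, Units.val_mul, map_inv]
      ring
    rw [Finset.sum_congr rfl fun c _ => e c]
    simp only [Finset.sum_add_distrib, Finset.sum_sub_distrib, ← Finset.mul_sum]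
    rw [hsum0 χ hχ, hsum0 ν hν, hsum0 ν⁻¹ (fun hh => hν (MonoidHom.ext fun c => by simpa using DFunLike.congr_fun hh c)), Finset.sum_const, Finset.card_univ,
      ← Nat.card_eq_fintype_card, nsmul_eq_mul]
    have e2 : ∀ η : C →* ℂˣ, ∑ c : C, (η c : ℂ) = if η = 1 then (Nat.card C : ℂ) else 0 := by
      intro η
      split
      · subst_vars; simp [Nat.card_eq_fintype_card]
      · exact hsum0 η ‹_›
    rw [e2, e2]
    split_ifs <;> field_simp <;> ring
  have hone : ∀ χ : C →* ℂˣ, χ ≠ 1 → classInner (θ χ) (principal G : G → ℂ) = 1 := by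
    intro χ hχ
    simp only [hθ]
    rw [inner_indFun C (ψ χ) (isClassFunction_irr (principal G)), inner_def]
    simp only [principal_apply, map_one, mul_one, hψ, Finset.sum_sub_distrib, hsum0 χ hχ,
      sub_zero]
    rw [Finset.sum_const, Finset.card_univ, ← Nat.card_eq_fintype_card, nsmul_eq_mul, mul_one,
      inv_mul_cancel₀ hcardC]
  choose c hc using fun (χ : C →* ℂˣ) (X : IrrCharacter G) =>
    (isGeneralized_iff_inner.1 (hθgen χ)).2 X
  have hprod : ∀ χ ν : C →* ℂˣ,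
      classInner (θ χ) (θ ν) = ∑ X : IrrCharacter G, ((c χ X * c ν X : ℤ) : ℂ) := fun χ ν => by
    rw [inner_eq_sum (hθcl χ) (θ ν)]
    exact Finset.sum_congr rfl fun X _ => by rw [hc, hc, map_intCast, Int.cast_mul]
  set f : (C →* ℂˣ) → IrrCharacter G → ℤ := fun χ X =>
    c χ X - if X = principal G then 1 else 0 with hf
  have hc1 : ∀ χ : C →* ℂˣ, χ ≠ 1 → c χ (principal G) = 1 := fun χ hχ => by
    have := hc χ (principal G)
    rw [hone χ hχ] at this
    exact_mod_cast this.symm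
  have hff : ∀ χ ν : C →* ℂˣ, χ ≠ 1 → ν ≠ 1 →
      ((∑ X, f χ X * f ν X : ℤ) : ℂ) = classInner (θ χ) (θ ν) - 1 := by
    intro χ ν hχ hν
    have : ∑ X, f χ X * f ν X = (∑ X, c χ X * c ν X) - 1 := by
      have e : ∀ X, f χ X * f ν X = c χ X * c ν X -
          if X = principal G then c χ X + c ν X - 1 else 0 := fun X => by
        simp only [hf]; split_ifs <;> ring
      rw [Finset.sum_congr rfl fun X _ => e X, Finset.sum_sub_distrib, Finset.sum_ite_eq',
        if_pos (Finset.mem_univ _), hc1 χ hχ, hc1 ν hν]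
      norm_num
    rw [this, hprod]; push_cast; ring
  have hlamlam : ∑ X, f lam X * f lam X = 2 := by
    have := hff lam lam hlam1 hlam1
    rw [hinner lam lam hlam1 hlam1, if_pos (MonoidHom.ext fun c => mul_inv_cancel _), if_neg hlam2] at this
    norm_num at this
    exact_mod_cast this
  have hμμ : ∑ X, f μ X * f μ X = 2 := by
    have := hff μ μ hμ1 hμ1
    rw [hinner μ μ hμ1 hμ1, if_pos (MonoidHom.ext fun c => mul_inv_cancel _), if_neg hμ2] at this
    norm_num at this
    exact_mod_cast this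
  have hlμ : ∑ X, f lam X * f μ X = 1 := by
    have := hff lam μ hlam1 hμ1
    rw [hinner lam μ hlam1 hμ1, if_neg hlm, if_neg hlm'] at this
    norm_num at this
    exact_mod_cast this
  obtain ⟨a, b, hab, ha, hb, hoth⟩ := exists_two_signed (f lam) hlamlam
  obtain ⟨a', b', hab', ha', hb', hoth'⟩ := exists_two_signed (f μ) hμμ
  rw [Fintype.sum_eq_add a b hab (fun X hX => by rw [hoth X hX.1 hX.2, zero_mul])] at hlμ
  have hμval : ∀ X, f μ X = 0 ∨ f μ X = 1 ∨ f μ X = -1 := by
    intro X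
    by_cases h1 : X = a'
    · subst h1; exact Or.inr ha'
    by_cases h2 : X = b'
    · subst h2; exact Or.inr hb'
    exact Or.inl (hoth' X h1 h2)
  obtain ⟨H, X, hHX, hH, hX, hrest, hμH, hμX⟩ : ∃ H X : IrrCharacter G, H ≠ X ∧
      (f lam H = 1 ∨ f lam H = -1) ∧ (f lam X = 1 ∨ f lam X = -1) ∧
      (∀ Y, Y ≠ H → Y ≠ X → f lam Y = 0) ∧ f μ H = f lam H ∧ f μ X = 0 := by
    rcases ha with e1 | e1 <;> rcases hb with e2 | e2 <;> rcases hμval a with e3 | e3 | e3 <;>
      rcases hμval b with e4 | e4 | e4 <;> simp only [e1, e2, e3, e4] at hlμ <;>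
      first
        | omega
        | exact ⟨a, b, hab, by omega, by omega, hoth, by omega, e4⟩
        | exact ⟨b, a, hab.symm, by omega, by omega, fun Y h1 h2 => hoth Y h2 h1, by omega, e3⟩
  obtain ⟨Y, hYH, hY, hrest'⟩ : ∃ Y : IrrCharacter G, Y ≠ H ∧ (f μ Y = 1 ∨ f μ Y = -1) ∧
      ∀ W, W ≠ H → W ≠ Y → f μ W = 0 := by
    by_cases h1 : H = a'
    · subst h1
      exact ⟨b', hab'.symm, hb', hoth'⟩
    · by_cases h2 : H = b'
      · subst h2
        exact ⟨a', hab', ha', fun W u v => hoth' W v u⟩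
      · exfalso
        have := hoth' H h1 h2
        rcases hH with e | e <;> omega
  have hexp : ∀ (χ : C →* ℂˣ) (A B : IrrCharacter G), A ≠ B →
      (∀ W, W ≠ A → W ≠ B → f χ W = 0) → ∀ (F : IrrCharacter G → ℂ),
      ∑ W, (c χ W : ℂ) * F W = F (principal G) + (f χ A : ℂ) * F A + (f χ B : ℂ) * F B := by
    intro χ A B hAB hW F
    have e : ∀ W, (c χ W : ℂ) * F W =
        (if W = principal G then F W else 0) + (f χ W : ℂ) * F W := fun W => by
      simp only [hf]; split_ifs <;> push_cast <;> ring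
    rw [Finset.sum_congr rfl fun W _ => e W, Finset.sum_add_distrib, Finset.sum_ite_eq',
      if_pos (Finset.mem_univ _), Fintype.sum_eq_add A B hAB
        (fun W hh => by rw [hW W hh.1 hh.2, Int.cast_zero, zero_mul]), add_assoc]
  have hval : ∀ (χ : C →* ℂˣ) (x : G), θ χ x = ∑ W : IrrCharacter G, (c χ W : ℂ) * (W : G → ℂ) x :=
    fun χ x => by
      conv_lhs => rw [classFun_eq_sum (hθcl χ)]
      simp only [Finset.sum_apply, Pi.smul_apply, smul_eq_mul, hc]
  have hat1 : ∀ χ, θ χ 1 = 0 := fun χ => by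
    simp only [hθ]; rw [indFun_one_apply, hψ1, mul_zero]
  have hl1 := hat1 lam
  rw [hval, hexp lam H X hHX hrest, principal_apply] at hl1
  have hm1 := hat1 μ
  rw [hval, hexp μ H Y hYH.symm hrest', principal_apply, hμH] at hm1
  have hlz : θ lam z = 0 := by
    rw [show z = (Z : G) from rfl, hθC, show Z⁻¹ = Z from inv_eq_of_mul_eq_one_right hZ2, hlZ]
    ring
  rw [hval, hexp lam H X hHX hrest, principal_apply] at hlz
  have hmz : θ μ z = 4 := by
    rw [show z = (Z : G) from rfl, hθC, show Z⁻¹ = Z from inv_eq_of_mul_eq_one_right hZ2, hμZ]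
    ring
  rw [hval, hexp μ H Y hYH.symm hrest', principal_apply, hμH] at hmz
  -- the structure constants
  have hfrob : ∀ χ : C →* ℂˣ, χ ≠ 1 → (Nat.card G : ℂ) *
      ∑ W : IrrCharacter G, (c χ W : ℂ) * ((W : G → ℂ) z * (W : G → ℂ) z / (W : G → ℂ) 1) =
        32 * (m : ℂ) ^ 3 := by
    intro χ hχ
    have hN : ∀ x : G, (pairCount z x : ℂ) = (Nat.card G : ℂ) * ∑ W : IrrCharacter G,
        (W : G → ℂ) z * (W : G → ℂ) z * (W : G → ℂ) x⁻¹ / (W : G → ℂ) 1 :=
      fun x => card_conj_mul_conj z z x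
    have hL : ∑ x : G, θ χ x * (pairCount z x : ℂ) = 32 * (m : ℂ) ^ 3 * Nat.card G := by
      have hcl : IsClassFunction G (fun x => (pairCount z x : ℂ)) := fun x g => by
        simp only [hN]
        congr 1
        refine Finset.sum_congr rfl fun W _ => ?_
        rw [show (g * x * g⁻¹)⁻¹ = g * x⁻¹ * g⁻¹ by group, isClassFunction_irr W x⁻¹ g]
      have := inner_indFun C (ψ χ) hcl
      rw [inner_def, inner_def] at this
      simp only [map_natCast] at this
      rw [Finset.sum_congr rfl (g := fun cc : C => ψ χ cc * (32 * (m : ℂ) ^ 3))] at this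
      · rw [inv_mul_eq_iff_eq_mul₀ (card_ne_zero G), ← Finset.sum_mul] at this
        simp only [hθ]
        rw [this]
        simp only [hψ, Finset.sum_sub_distrib, hsum0 χ hχ, sub_zero]
        rw [Finset.sum_const, Finset.card_univ, ← Nat.card_eq_fintype_card, nsmul_eq_mul, mul_one]
        field_simp
      · intro cc _
        by_cases h1 : cc = 1
        · subst h1; rw [hψ1, zero_mul, zero_mul]
        · rw [h.pairCount_C cc.2 fun hh => h1 (Subtype.ext hh)]; push_cast; ring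
    have hR : ∀ W : IrrCharacter G, ∑ x : G, θ χ x * (W : G → ℂ) x⁻¹ =
        (Nat.card G : ℂ) * (c χ W : ℂ) := fun W => by
      rw [← hc χ W, inner_def, mul_inv_cancel_left₀ (card_ne_zero G)]
      exact Finset.sum_congr rfl fun x _ => by rw [irr_inv]
    have h2 : ∑ x : G, θ χ x * (pairCount z x : ℂ) = (Nat.card G : ℂ) * ((Nat.card G : ℂ) *
        ∑ W : IrrCharacter G, (c χ W : ℂ) * ((W : G → ℂ) z * (W : G → ℂ) z / (W : G → ℂ) 1)) := by
      simp only [hN, Finset.mul_sum]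
      rw [Finset.sum_comm]
      refine Finset.sum_congr rfl fun W _ => ?_
      rw [← mul_assoc (Nat.card G : ℂ) (c χ W : ℂ), ← hR W, Finset.sum_mul, Finset.mul_sum]
      exact Finset.sum_congr rfl fun x _ => by ring
    rw [hL, mul_comm] at h2
    exact (mul_left_cancel₀ (card_ne_zero G) h2).symm
  have hFl := hfrob lam hlam1
  rw [hexp lam H X hHX hrest, principal_apply, principal_apply] at hFl
  have hFm := hfrob μ hμ1
  rw [hexp μ H Y hYH.symm hrest', principal_apply, principal_apply, hμH] at hFm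
  have hterm : ∀ (e : ℤ) (W : IrrCharacter G), (e = 1 ∨ e = -1) →
      (e : ℂ) * ((W : G → ℂ) z * (W : G → ℂ) z / (W : G → ℂ) 1) =
        ((e : ℂ) * (W : G → ℂ) z) ^ 2 / ((e : ℂ) * (W : G → ℂ) 1) := by
    intro e W he
    rcases he with rfl | rfl <;> push_cast <;> ring
  rw [hterm _ _ hH, hterm _ _ hX] at hFl
  rw [hterm _ _ hH, hterm _ _ hY] at hFm
  obtain ⟨dX, hdX0, hdX⟩ := irr_degree_nat X.2
  obtain ⟨dH, hdH0, hdH⟩ := irr_degree_nat H.2
  set D : ℤ := f lam X * dX with hDdef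
  have hD : (f lam X : ℂ) * (X : G → ℂ) 1 = (D : ℂ) := by rw [hdX, hDdef]; push_cast; ring
  have hD0 : D ≠ 0 := mul_ne_zero (by rcases hX with e | e <;> omega) (by exact_mod_cast hdX0.ne')
  have hD1 : D ≠ -1 := by
    intro hh
    rw [hD, hh, hdH] at hl1
    push_cast at hl1
    have : (f lam H : ℂ) * (dH : ℂ) = 0 := by linear_combination hl1
    rcases mul_eq_zero.1 this with e | e
    · have : f lam H = 0 := by exact_mod_cast e
      rcases hH with e' | e' <;> omega
    · exact hdH0.ne' (by exact_mod_cast e)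
  set A : ℂ := (f lam X : ℂ) * (X : G → ℂ) z with hA
  set B : ℂ := (f lam H : ℂ) * (H : G → ℂ) z with hB
  rw [show (f lam H : ℂ) * (H : G → ℂ) 1 = -1 - (D : ℂ) by linear_combination hl1 - hD,
    hD] at hFl
  rw [show (f lam H : ℂ) * (H : G → ℂ) 1 = -1 - (D : ℂ) by linear_combination hl1 - hD] at hFm
  rw [show (f μ Y : ℂ) * (Y : G → ℂ) 1 = (D : ℂ) by linear_combination hm1 - hl1 + hD,
    show (f μ Y : ℂ) * (Y : G → ℂ) z = A + 4 by rw [hA]; linear_combination hmz - hlz] at hFm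
  have hB' : B = -1 - A := by rw [hA, hB]; linear_combination hlz
  have hDC : (D : ℂ) ≠ 0 := by exact_mod_cast hD0
  have hD1C : (-1 : ℂ) - (D : ℂ) ≠ 0 := by
    intro hh
    exact hD1 (by exact_mod_cast (show (D : ℂ) = ((-1 : ℤ) : ℂ) by push_cast; linear_combination -hh))
  have hAeq : A = -2 := by
    have h3 := hFl.trans hFm.symm
    have h4 := mul_left_cancel₀ (card_ne_zero G) h3
    have h5 : A ^ 2 / (D : ℂ) = (A + 4) ^ 2 / (D : ℂ) := by linear_combination h4
    rw [div_left_inj' hDC] at h5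
    linear_combination -(1 / 8 : ℂ) * h5
  rw [hB', hAeq, h.card_G] at hFl
  have hsub : ((2 * m - 1 : ℕ) : ℂ) = 2 * (m : ℂ) - 1 := by
    rw [Nat.cast_sub (by have := h.three_le; omega)]; push_cast; ring
  push_cast [hsub] at hFl
  refine arith h.three_le h.odd D hD0 hD1 ?_
  have hm0 : (m : ℂ) ≠ 0 := by have := h.three_le; exact_mod_cast (show m ≠ 0 by omega)
  field_simp at hFl
  have hgoal : ((((D + 2) ^ 2 * (4 * (m : ℤ) ^ 2 - 2 * m + 1)) : ℤ) : ℂ) =
      (((8 * (m : ℤ) ^ 2 * (D * (D + 1))) : ℤ) : ℂ) := by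
    push_cast
    linear_combination (-1 / 4 : ℂ) * hFl
  exact_mod_cast hgoal

end CfsgLib.CharApps.DihedralCount
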