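import Cfsg.Agent.Lib.CharApps.ClassCount
import Cfsg.Agent.Lib.CharApps.Inflation
import Cfsg.Agent.Lib.Coprime.Action
import Cfsg.Agent.Lib.PLocal.PSolvable
import Mathlib

/-!
# Characters of defect zero and centralizers of `p`-elements
-/

set_option autoImplicit false
set_option linter.style.haveILetI false

namespace CfsgLib.CharApps

open Cfsg CfsgLib.Chars

universe u

variable {G : Type u} [Group G] [Finite G]

theorem factorization_degree_le (χ : IrrCharacter G) (p : ℕ) :
    (charDegree (χ : G → ℂ)).factorization p ≤ (Nat.card G).factorization p := by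
  obtain ⟨n, hn0, hn, hnG⟩ := irr_degree_dvd_card χ.2
  rw [show charDegree (χ : G → ℂ) = n by simp [charDegree, hn]]
  exact (Nat.factorization_le_iff_dvd hn0.ne' Nat.card_pos.ne').mpr hnG p

/-- If `p ∤ |C(x)|` and there is no character of defect zero, some nontrivial element of `P` is a
quotient of two conjugates of `x`. -/
theorem exists_quotient_of_no_defectZero {p : ℕ} [Fact p.Prime]
    (hno : ∀ χ : IrrCharacter G,
      (charDegree (χ : G → ℂ)).factorization p ≠ (Nat.card G).factorization p)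
    (x : G) (hx : ¬ p ∣ Nat.card (Subgroup.centralizer ({x} : Set G))) (P : Sylow p G) :
    ∃ g k : G, IsConj x g ∧ IsConj x k ∧ g * k⁻¹ ∈ (P : Subgroup G) ∧ g * k⁻¹ ≠ 1 := by
  classical
  haveI := Fintype.ofFinite G
  by_contra hcon
  obtain ⟨χ, hχ⟩ := exists_pow_dvd_degree (Fact.out : p.Prime) x (P : Subgroup G) _ 0
    P.card_eq_multiplicity (Nat.factorization_eq_zero_of_not_dvd hx) (fun g k hg hk hm => by
      by_contra hne
      exact hcon ⟨g, k, hg, hk, hm, hne⟩)
  rw [Nat.sub_zero] at hχ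
  exact hno χ (le_antisymm (factorization_degree_le χ p)
    (((Fact.out : p.Prime).pow_dvd_iff_le_factorization (deg_pos χ).ne').mp hχ))

theorem exists_pow_eq_of_mem_pGroup {p : ℕ} [Fact p.Prime] {H : Subgroup G} (hH : IsPGroup p H)
    {g : G} (hg : g ∈ H) : ∃ k : ℕ, orderOf g = p ^ k := by
  obtain ⟨j, hj⟩ := hH.exists_card_eq
  have hd : orderOf g ∣ p ^ j := by
    rw [← hj, ← Subgroup.orderOf_mk g hg]
    exact orderOf_dvd_natCard _
  obtain ⟨i, -, hi⟩ := (Nat.dvd_prime_pow (Fact.out : p.Prime)).mp hd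
  exact ⟨i, hi⟩

/-- If commuting elements of orders `p` and `q` do not exist, centralizers are `p'`. -/
theorem not_dvd_centralizer {p q : ℕ} [Fact p.Prime]
    (hC : ∀ g : G, g ≠ 1 → (∃ k : ℕ, orderOf g = p ^ k) →
      ¬ q ∣ Nat.card (Subgroup.centralizer ({g} : Set G)))
    {z : G} (hz : q ∣ orderOf z) : ¬ p ∣ Nat.card (Subgroup.centralizer ({z} : Set G)) := by
  intro hdvd
  obtain ⟨w, hw⟩ := exists_prime_orderOf_dvd_card'
    (G := ↥(Subgroup.centralizer ({z} : Set G))) p hdvd
  have hw' : orderOf (w : G) = p := by rw [Subgroup.orderOf_coe, hw]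
  refine hC w ?_ ⟨1, by rw [hw', pow_one]⟩ ?_
  · intro h1
    exact (Fact.out : p.Prime).ne_one (by rw [← hw', h1, orderOf_one])
  · have hzmem : z ∈ Subgroup.centralizer ({(w : G)} : Set G) :=
      Subgroup.mem_centralizer_singleton_iff.mpr
        (Subgroup.mem_centralizer_singleton_iff.mp w.2).symm
    refine hz.trans ?_
    rw [← Subgroup.orderOf_mk z hzmem]
    exact orderOf_dvd_natCard _

/-! ### Centralizers of `p`-elements of odd order -/

section OddCentralizers

variable {p : ℕ} [Fact p.Prime]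
  (hC : ∀ g : G, g ≠ 1 → (∃ k : ℕ, orderOf g = p ^ k) →
    Odd (Nat.card (Subgroup.centralizer ({g} : Set G))))
include hC

omit [Finite G] [Fact p.Prime] in
theorem not_two_dvd_centralizer : ∀ g : G, g ≠ 1 → (∃ k : ℕ, orderOf g = p ^ k) →
    ¬ 2 ∣ Nat.card (Subgroup.centralizer ({g} : Set G)) :=
  fun g h1 h2 => (hC g h1 h2).not_two_dvd_nat

/-- Without characters of defect zero, every Sylow subgroup contains a nontrivial element
inverted by an involution. -/
theorem exists_inverted (h2 : 2 ∣ Nat.card G)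
    (hno : ∀ χ : IrrCharacter G,
      (charDegree (χ : G → ℂ)).factorization p ≠ (Nat.card G).factorization p)
    (P : Sylow p G) :
    ∃ z s : G, z ∈ (P : Subgroup G) ∧ z ≠ 1 ∧ orderOf s = 2 ∧ s * z * s⁻¹ = z⁻¹ := by
  haveI : Fact (Nat.Prime 2) := ⟨Nat.prime_two⟩
  obtain ⟨x, hx⟩ := exists_prime_orderOf_dvd_card' (G := G) 2 h2
  obtain ⟨g, k, hg, hk, hm, hne⟩ := exists_quotient_of_no_defectZero hno x
    (not_dvd_centralizer (not_two_dvd_centralizer hC) (hx ▸ dvd_rfl)) P
  have hord : ∀ t : G, IsConj x t → orderOf t = 2 := by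
    intro t ht
    obtain ⟨b, rfl⟩ := isConj_iff.mp ht
    rw [← hx]
    exact (MulEquiv.orderOf_eq (MulAut.conj b) x)
  have hgg : g * g = 1 := by rw [← sq, ← hord g hg, pow_orderOf_eq_one]
  have hkk : k * k = 1 := by rw [← sq, ← hord k hk, pow_orderOf_eq_one]
  refine ⟨g * k⁻¹, g, hm, hne, hord g hg, ?_⟩
  rw [inv_eq_of_mul_eq_one_right hgg, inv_eq_of_mul_eq_one_right hkk, mul_inv_rev,
    inv_eq_of_mul_eq_one_right hgg, inv_eq_of_mul_eq_one_right hkk, ← mul_assoc g g, hgg, one_mul]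

/-- A `p`-subgroup normalized by an involution is abelian. -/
theorem comm_of_normalized {Q : Subgroup G} (hQ : IsPGroup p Q) {s : G} (hs : orderOf s = 2)
    (hsQ : s ∈ Subgroup.normalizer (Q : Set G)) :
    ∀ a ∈ Q, ∀ b ∈ Q, a * b = b * a := by
  have hss : s * s = 1 := by rw [← sq, ← hs, pow_orderOf_eq_one]
  let φ : Q →* Q := MonoidHom.mk'
    (fun q => ⟨s * q * s⁻¹, (Subgroup.mem_normalizer_iff.mp hsQ q).mp q.2⟩)
    (fun a b => Subtype.ext (show s * (a * b : G) * s⁻¹ = s * a * s⁻¹ * (s * b * s⁻¹) by group))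
  have hfp : MonoidHom.FixedPointFree φ := by
    intro q hq
    by_contra hq1
    have hcomm : s * (q : G) * s⁻¹ = q := congrArg Subtype.val hq
    have hsmem : s ∈ Subgroup.centralizer ({(q : G)} : Set G) :=
      Subgroup.mem_centralizer_singleton_iff.mpr (mul_inv_eq_iff_eq_mul.mp hcomm)
    refine (hC q (fun h => hq1 (Subtype.ext h))
      (exists_pow_eq_of_mem_pGroup hQ q.2)).not_two_dvd_nat ?_
    rw [← hs, ← Subgroup.orderOf_mk s hsmem]
    exact orderOf_dvd_natCard _
  have hinv : Function.Involutive φ := by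
    intro q
    refine Subtype.ext ?_
    show s * (s * q * s⁻¹) * s⁻¹ = q
    rw [inv_eq_of_mul_eq_one_right hss, show s * (s * (q : G) * s) * s = s * s * q * (s * s) by
      group, hss, one_mul, mul_one]
  intro a ha b hb
  exact congrArg Subtype.val (hfp.commute_all_of_involutive hinv ⟨a, ha⟩ ⟨b, hb⟩).eq

/-- If `z` is inverted by an involution then some Sylow `p`-subgroup of `G` containing `z` is
abelian and has normalizer of even order. -/
theorem exists_abelian_sylow {z s : G} {P : Sylow p G} (hz : z ∈ (P : Subgroup G)) (hz1 : z ≠ 1)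
    (hs : orderOf s = 2) (hsz : s * z * s⁻¹ = z⁻¹) :
    ∃ Q : Sylow p G, s ∈ Subgroup.normalizer ((Q : Subgroup G) : Set G) := by
  set A := Subgroup.zpowers s
  set C := Subgroup.centralizer ({z} : Set G) with hCdef
  have hzp : ∃ k, orderOf z = p ^ k := exists_pow_eq_of_mem_pGroup P.isPGroup' hz
  have hCodd : Odd (Nat.card C) := hC z hz1 hzp
  have hAcard : Nat.card A = 2 := by rw [Nat.card_zpowers, hs]
  have hAsol : Group.IsSolvable A := inferInstance
  have hss : s * s = 1 := by rw [← sq, ← hs, pow_orderOf_eq_one]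
  have hAC : A ≤ Subgroup.normalizer (C : Set G) := by
    rw [hCdef, ← Subgroup.centralizer_closure]
    refine CfsgLib.Coprime.le_normalizer_centralizer ?_
    rw [Subgroup.zpowers_le, ← Subgroup.zpowers_eq_closure]
    refine Subgroup.mem_normalizer_iff.mpr fun y => ⟨fun hy => ?_, fun hy => ?_⟩
    · obtain ⟨i, rfl⟩ := Subgroup.mem_zpowers_iff.mp hy
      rw [← conj_zpow, hsz]
      exact zpow_mem (inv_mem (Subgroup.mem_zpowers z)) i
    · obtain ⟨i, hi⟩ := Subgroup.mem_zpowers_iff.mp hy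
      have : y = (s⁻¹ * z * s) ^ i := by
        rw [show s⁻¹ * z * s = s⁻¹ * z * (s⁻¹)⁻¹ by group, conj_zpow, hi]
        group
      rw [this, inv_eq_of_mul_eq_one_right hss,
        show s * z * s = z⁻¹ by rwa [inv_eq_of_mul_eq_one_right hss] at hsz]
      exact zpow_mem (inv_mem (Subgroup.mem_zpowers z)) i
  obtain ⟨Q₀, hQ₀⟩ := CfsgLib.Coprime.exists_invariant_sylow (p := p) hAC
    (hAcard ▸ Nat.coprime_two_left.mpr hCodd) (Or.inl hAsol)
  set Q := (Q₀ : Subgroup C).map C.subtype with hQdef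
  have hQp : IsPGroup p Q := Q₀.isPGroup'.map _
  have hQC : Q ≤ C := Subgroup.map_subtype_le _
  -- `Q` is not properly contained in an invariant `p`-subgroup
  obtain ⟨P', hP'⟩ := hQp.exists_le_sylow
  rcases eq_or_lt_of_le hP' with heq | hlt
  · exact ⟨P', by rw [← heq]; exact hQ₀ (Subgroup.mem_zpowers s)⟩
  exfalso
  have hzQ : z ∈ Q := by
    have hzC : z ∈ C := Subgroup.mem_centralizer_singleton_iff.mpr rfl
    refine ⟨⟨z, hzC⟩, ?_, rfl⟩
    have hzn : (Subgroup.zpowers (⟨z, hzC⟩ : C)).Normal := by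
      refine ⟨fun n hn c => ?_⟩
      obtain ⟨i, rfl⟩ := Subgroup.mem_zpowers_iff.mp hn
      have hcz : c * (⟨z, hzC⟩ : C) = ⟨z, hzC⟩ * c :=
        Subtype.ext (Subgroup.mem_centralizer_singleton_iff.mp c.2)
      rw [← conj_zpow, hcz, mul_inv_cancel_right]
      exact zpow_mem (Subgroup.mem_zpowers _) i
    have hpz : IsPGroup p (Subgroup.zpowers (⟨z, hzC⟩ : C)) := by
      refine IsPGroup.of_card (n := hzp.choose) ?_
      rw [Nat.card_zpowers, Subgroup.orderOf_mk]
      exact hzp.choose_spec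
    obtain ⟨S, hS⟩ := hpz.exists_le_sylow
    obtain ⟨c, hc⟩ := MulAction.exists_smul_eq C S Q₀
    rw [← hc, Sylow.coe_subgroup_smul]
    refine ⟨c⁻¹ * ⟨z, hzC⟩ * c, hS ?_, by simp [mul_assoc]⟩
    simpa using hzn.conj_mem _ (Subgroup.mem_zpowers _) c⁻¹
  set R := (P' : Subgroup G) ⊓ Subgroup.normalizer (Q : Set G)
  have hRp : IsPGroup p R := P'.isPGroup'.to_le inf_le_left
  have hQR : Q < R := by
    have hnil : Group.IsNilpotent (P' : Subgroup G) := P'.isPGroup'.isNilpotent
    have hnc := Group.normalizerCondition_of_isNilpotent (Q.subgroupOf (P' : Subgroup G))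
      (lt_top_iff_ne_top.mpr fun h => hlt.not_ge (Subgroup.subgroupOf_eq_top.mp h))
    obtain ⟨r, hr, hrQ⟩ := SetLike.exists_of_lt hnc
    refine lt_of_le_of_ne (le_inf hlt.le Subgroup.le_normalizer) fun he => hrQ ?_
    rw [Subgroup.mem_subgroupOf, he]
    refine ⟨r.2, Subgroup.mem_normalizer_iff.mpr fun y => ⟨fun hy => ?_, fun hy => ?_⟩⟩
    · exact (Subgroup.mem_normalizer_iff.mp hr ⟨y, hlt.le hy⟩).mp hy
    · have hyP : y ∈ (P' : Subgroup G) := by
        have := mul_mem (mul_mem (inv_mem r.2) (hlt.le hy)) r.2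
        simpa [mul_assoc] using this
      exact (Subgroup.mem_normalizer_iff.mp hr ⟨y, hyP⟩).mpr hy
  set D := Subgroup.centralizer (Q : Set G) with hDdef
  have hDC : D ≤ C := Subgroup.centralizer_le (Set.singleton_subset_iff.mpr hzQ)
  have hRD : R ≤ Subgroup.normalizer (D : Set G) :=
    CfsgLib.Coprime.le_normalizer_centralizer inf_le_right
  set K := D ⊔ R with hKdef
  have hKodd : Odd (Nat.card K) := by
    refine Odd.of_dvd_nat ?_ ((hKdef ▸ sup_comm R D ▸ CfsgLib.Coprime.card_sup_dvd hRD :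
      Nat.card K ∣ Nat.card R * Nat.card D))
    refine Odd.mul ?_ (hCodd.of_dvd_nat (Subgroup.card_dvd_of_le hDC))
    obtain ⟨j, hj⟩ := hRp.exists_card_eq
    rw [hj]
    refine Odd.pow ((Fact.out : p.Prime).odd_of_ne_two fun hp => ?_)
    obtain ⟨i, hi⟩ := hzp
    refine hCodd.not_two_dvd_nat ?_
    refine dvd_trans (dvd_trans ?_ (orderOf_dvd_natCard (⟨z, hQC hzQ⟩ : C))) dvd_rfl
    rw [Subgroup.orderOf_mk, hi, hp]
    exact dvd_pow_self 2 (by rintro rfl; exact hz1 (orderOf_eq_one_iff.mp (by simpa using hi)))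
  have hsQ : s ∈ Subgroup.normalizer (Q : Set G) := hQ₀ (Subgroup.mem_zpowers s)
  have hinvQ : ∀ q ∈ Q, s * q * s⁻¹ = q⁻¹ := by
    have hcomm := comm_of_normalized hC hQp hs hsQ
    intro q hq
    by_contra hne
    have hmem : q * (s * q * s⁻¹) ∈ Q :=
      mul_mem hq ((Subgroup.mem_normalizer_iff.mp hsQ q).mp hq)
    have hfix : s * (q * (s * q * s⁻¹)) * s⁻¹ = q * (s * q * s⁻¹) := by
      rw [show s * (q * (s * q * s⁻¹)) * s⁻¹ = (s * q * s⁻¹) * (s * s * q * (s * s)⁻¹) by group,
        hss, inv_one, mul_one, one_mul]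
      exact hcomm _ ((Subgroup.mem_normalizer_iff.mp hsQ q).mp hq) q hq
    refine (hC _ (fun h => hne (inv_eq_of_mul_eq_one_right h).symm)
      (exists_pow_eq_of_mem_pGroup hQp hmem)).not_two_dvd_nat ?_
    have hsmem : s ∈ Subgroup.centralizer ({q * (s * q * s⁻¹)} : Set G) :=
      Subgroup.mem_centralizer_singleton_iff.mpr (mul_inv_eq_iff_eq_mul.mp hfix)
    rw [← hs, ← Subgroup.orderOf_mk s hsmem]
    exact orderOf_dvd_natCard _
  have hAD : A ≤ Subgroup.normalizer (D : Set G) :=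
    CfsgLib.Coprime.le_normalizer_centralizer hQ₀
  have hsR : ∀ r ∈ R, s * r * s⁻¹ ∈ K := by
    intro r hr
    have hd : s * r * s⁻¹ * r⁻¹ ∈ D := by
      rw [hDdef, Subgroup.mem_centralizer_iff]
      intro q hq
      have hq' : r⁻¹ * q * r ∈ Q := (Subgroup.mem_normalizer_iff''.mp hr.2 q).mp hq
      have e1 := hinvQ _ hq'
      have e2 := hinvQ q hq
      have e3 : s * r * s⁻¹ * r⁻¹ * q = q * (s * r * s⁻¹ * r⁻¹) := by
        calc s * r * s⁻¹ * r⁻¹ * q
            = s * r * (s⁻¹ * ((r⁻¹ * q⁻¹ * r))⁻¹ * s) * s⁻¹ * r⁻¹ := by group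
          _ = s * r * (r⁻¹ * q⁻¹ * r) * s⁻¹ * r⁻¹ := by
              congr 3
              have hq'' : r⁻¹ * q⁻¹ * r ∈ Q := by
                have := inv_mem hq'
                simpa [mul_assoc] using this
              rw [← hinvQ _ hq'']
              group
          _ = (s * q⁻¹ * s⁻¹) * (s * r * s⁻¹ * r⁻¹) := by group
          _ = q * (s * r * s⁻¹ * r⁻¹) := by rw [hinvQ _ (inv_mem hq), inv_inv]
      exact e3.symm
    rw [hKdef, show s * r * s⁻¹ = s * r * s⁻¹ * r⁻¹ * r by group]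
    exact mul_mem (Subgroup.mem_sup_left hd) (Subgroup.mem_sup_right hr)
  have hAK : A ≤ Subgroup.normalizer (K : Set G) := by
    have hle : ∀ y ∈ K, s * y * s⁻¹ ∈ K := by
      have : K ≤ K.comap (MulAut.conj s).toMonoidHom := by
        refine sup_le (fun d hd => ?_) (fun r hr => hsR r hr)
        exact Subgroup.mem_sup_left ((Subgroup.mem_normalizer_iff.mp
          (hAD (Subgroup.mem_zpowers s)) d).mp hd)
      exact fun y hy => this hy
    rw [Subgroup.zpowers_le]
    refine Subgroup.mem_normalizer_iff.mpr fun y => ⟨hle y, fun hy => ?_⟩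
    have := hle _ hy
    rwa [show s * (s * y * s⁻¹) * s⁻¹ = s * s * y * (s * s)⁻¹ by group, hss, inv_one, mul_one,
      one_mul] at this
  obtain ⟨S, hSQ, hSA⟩ := CfsgLib.Coprime.exists_invariant_sylow_ge (p := p) hAK
    (hAcard ▸ Nat.coprime_two_left.mpr hKodd) (Or.inl hAsol)
    (hQR.le.trans le_sup_right) hQp hQ₀
  set S' := (S : Subgroup K).map K.subtype
  have hS'p : IsPGroup p S' := S.isPGroup'.map _
  have hScomm := comm_of_normalized hC hS'p hs (hSA (Subgroup.mem_zpowers s))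
  have hSC : S' ≤ C := fun y hy =>
    Subgroup.mem_centralizer_singleton_iff.mpr (hScomm y hy z (hSQ hzQ))
  obtain ⟨T, hT⟩ := (hS'p.comap_of_injective C.subtype C.subtype_injective :
    IsPGroup p (S'.subgroupOf C)).exists_le_sylow
  have h1 : Nat.card S' ≤ Nat.card Q := by
    calc Nat.card S' = Nat.card (S'.subgroupOf C) :=
          (Nat.card_congr (Subgroup.subgroupOfEquivOfLe hSC).toEquiv).symm
      _ ≤ Nat.card (T : Subgroup C) := Subgroup.card_le_of_le hT
      _ = Nat.card Q := by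
          rw [hQdef, Subgroup.card_map_of_injective C.subtype_injective]
          exact T.card_eq_multiplicity.trans Q₀.card_eq_multiplicity.symm
  have h2 : Nat.card R ≤ Nat.card S' := by
    rw [Subgroup.card_map_of_injective K.subtype_injective, S.card_eq_multiplicity]
    obtain ⟨j, hj⟩ := hRp.exists_card_eq
    have hdvd : Nat.card R ∣ Nat.card K := Subgroup.card_dvd_of_le le_sup_right
    rw [hj] at hdvd ⊢
    exact Nat.pow_le_pow_right (Fact.out : p.Prime).pos
      (((Fact.out : p.Prime).pow_dvd_iff_le_factorization Nat.card_pos.ne').mp hdvd)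
  have h3 : Nat.card Q < Nat.card R := by
    refine lt_of_le_of_ne (Subgroup.card_le_of_le hQR.le) fun he => hQR.ne ?_
    exact Subgroup.eq_of_le_of_card_ge hQR.le he.ge
  omega

end OddCentralizers

end CfsgLib.CharApps
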