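import Mathlib.GroupTheory.Sylow
import Mathlib.GroupTheory.Perm.Cycle.Type
import Mathlib.Data.Finite.Perm
import Mathlib.GroupTheory.Index
import Mathlib.GroupTheory.QuotientGroup.Basic
import Mathlib.GroupTheory.Perm.Subgroup
import Mathlib.GroupTheory.FreeGroup.Basic
import Mathlib.GroupTheory.FixedPointFree

/-!
# Groups with a four group of automorphisms with small fixed points

If two commuting involutive automorphisms of a finite group and their product fix at most `n`
elements each, the order of the group is bounded in terms of `n` and its `2`-part.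
-/

set_option autoImplicit false
set_option linter.style.haveILetI false
set_option linter.unusedSectionVars false

namespace CfsgLib.CharApps

universe u

variable {K : Type u} [Group K]

/-- The number of fixed points of an automorphism. -/
noncomputable def fixCard (t : K ≃* K) : ℕ := Nat.card {x : K // t x = x}

/-- A four group of automorphisms with at most `n` fixed points each. -/
structure FourAct (K : Type u) [Group K] (n : ℕ) where
  s : K ≃* K
  t : K ≃* K
  s_inv : ∀ x, s (s x) = x
  t_inv : ∀ x, t (t x) = x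
  comm : ∀ x, s (t x) = t (s x)
  s_le : fixCard s ≤ n
  t_le : fixCard t ≤ n
  st_le : fixCard (t.trans s) ≤ n

theorem fixCard_pos [Finite K] (t : K ≃* K) : 0 < fixCard t := by
  haveI : Nonempty {x : K // t x = x} := ⟨⟨1, map_one t⟩⟩
  exact Nat.card_pos

/-- Restriction of an automorphism to an invariant subgroup. -/
def restrictAut (K₁ : Subgroup K) (t : K ≃* K) (ht : ∀ x, t (t x) = x)
    (h : ∀ x ∈ K₁, t x ∈ K₁) : K₁ ≃* K₁ where
  toFun x := ⟨t x, h x x.2⟩
  invFun x := ⟨t x, h x x.2⟩
  left_inv x := Subtype.ext (ht x)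
  right_inv x := Subtype.ext (ht x)
  map_mul' x y := Subtype.ext (map_mul t (x : K) y)

/-- The automorphism induced on an invariant quotient. -/
noncomputable def quotientAut (K₁ : Subgroup K) [K₁.Normal] (t : K ≃* K) (ht : ∀ x, t (t x) = x)
    (h : ∀ x ∈ K₁, t x ∈ K₁) : K ⧸ K₁ ≃* K ⧸ K₁ :=
  QuotientGroup.congr K₁ K₁ t (by
    ext x
    exact ⟨fun ⟨y, hy, e⟩ => e ▸ h y hy, fun hx => ⟨t x, h x hx, ht x⟩⟩)

theorem quotientAut_mk (K₁ : Subgroup K) [K₁.Normal] (t : K ≃* K) (ht : ∀ x, t (t x) = x)
    (h : ∀ x ∈ K₁, t x ∈ K₁) (x : K) :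
    quotientAut K₁ t ht h (x : K ⧸ K₁) = ((t x : K) : K ⧸ K₁) :=
  QuotientGroup.congr_mk' _ _ _ _ x

section Bounds

variable [Finite K]

theorem fixCard_restrict_le (K₁ : Subgroup K) (t : K₁ ≃* K₁) (T : K ≃* K)
    (h : ∀ x : K₁, (t x : K) = T x) : fixCard t ≤ fixCard T :=
  Nat.card_le_card_of_injective
    (fun x : {x : K₁ // t x = x} => (⟨(x.1 : K), by rw [← h, x.2]⟩ : {x : K // T x = x}))
    fun a b e => Subtype.ext (Subtype.ext (congrArg Subtype.val e :))

/-- The map `x ↦ x⁻¹ t(x)` has fibres no larger than the fixed point set. -/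
theorem card_le_image_mul_fix (t : K ≃* K) (S : Set K) (U : Set K)
    (hU : ∀ x ∈ S, x⁻¹ * t x ∈ U) : Nat.card S ≤ Nat.card U * fixCard t := by
  classical
  haveI : Fintype K := Fintype.ofFinite K
  rw [Nat.card_eq_fintype_card, Nat.card_eq_fintype_card, fixCard, Nat.card_eq_fintype_card,
    ← Set.toFinset_card, ← Set.toFinset_card, Fintype.card_subtype, mul_comm]
  refine Finset.card_le_mul_card_image_of_maps_to (f := fun x => x⁻¹ * t x)
    (fun x hx => Set.mem_toFinset.mpr (hU x (Set.mem_toFinset.mp hx))) _ fun u _ => ?_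
  rcases (S.toFinset.filter fun x => x⁻¹ * t x = u).eq_empty_or_nonempty with h | ⟨y, hy⟩
  · rw [h]; simp
  · refine Finset.card_le_card_of_injOn (fun x => x * y⁻¹) (fun x hx => ?_)
      (mul_left_injective _).injOn
    have h1 := (Finset.mem_filter.mp hy).2
    have h2 := (Finset.mem_filter.mp hx).2
    rw [inv_mul_eq_iff_eq_mul] at h1 h2
    simp [map_mul, map_inv, h1, h2, mul_assoc]

theorem fixCard_quotient_le (K₁ : Subgroup K) [K₁.Normal] (t : K ≃* K) (ht : ∀ x, t (t x) = x)
    (h : ∀ x ∈ K₁, t x ∈ K₁) : fixCard (quotientAut K₁ t ht h) ≤ fixCard t := by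
  have h1 := card_le_image_mul_fix t
    ((QuotientGroup.mk : K → K ⧸ K₁) ⁻¹' {q | quotientAut K₁ t ht h q = q}) (K₁ : Set K) (by
      intro x hx
      rw [Set.mem_preimage, Set.mem_ofPred_eq, quotientAut_mk] at hx
      exact QuotientGroup.eq.mp hx.symm)
  have h2 : Nat.card ((QuotientGroup.mk : K → K ⧸ K₁) ⁻¹'
      {q | quotientAut K₁ t ht h q = q}) =
      Nat.card K₁ * fixCard (quotientAut K₁ t ht h) := by
    rw [Nat.card_congr (QuotientGroup.preimageMkEquivSubgroupProdSet K₁ _), Nat.card_prod]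
    rfl
  rw [h2] at h1
  exact Nat.le_of_mul_le_mul_left h1 Nat.card_pos

variable {n : ℕ} (A : FourAct K n)

theorem st_invol (x : K) : (A.t.trans A.s) ((A.t.trans A.s) x) = x := by
  simp only [MulEquiv.trans_apply]
  rw [← A.comm (A.t x), A.t_inv, A.s_inv]

/-- Invariance under the whole four group. -/
abbrev FourAct.Invariant (K₁ : Subgroup K) : Prop :=
  (∀ x ∈ K₁, A.s x ∈ K₁) ∧ ∀ x ∈ K₁, A.t x ∈ K₁

variable {A} in
theorem FourAct.Invariant.trans_mem {K₁ : Subgroup K} (h : A.Invariant K₁) :
    ∀ x ∈ K₁, (A.t.trans A.s) x ∈ K₁ := fun x hx => by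
  rw [MulEquiv.trans_apply]; exact h.1 _ (h.2 x hx)

/-- The restricted action. -/
def FourAct.res {K₁ : Subgroup K} (h : A.Invariant K₁) : FourAct K₁ n where
  s := restrictAut K₁ A.s A.s_inv h.1
  t := restrictAut K₁ A.t A.t_inv h.2
  s_inv x := Subtype.ext (A.s_inv x)
  t_inv x := Subtype.ext (A.t_inv x)
  comm x := Subtype.ext (A.comm x)
  s_le := (fixCard_restrict_le K₁ _ A.s fun _ => rfl).trans A.s_le
  t_le := (fixCard_restrict_le K₁ _ A.t fun _ => rfl).trans A.t_le
  st_le := (fixCard_restrict_le K₁ _ (A.t.trans A.s) fun _ => rfl).trans A.st_le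

/-- The action on a quotient. -/
noncomputable def FourAct.quot {K₁ : Subgroup K} [K₁.Normal] (h : A.Invariant K₁) :
    FourAct (K ⧸ K₁) n where
  s := quotientAut K₁ A.s A.s_inv h.1
  t := quotientAut K₁ A.t A.t_inv h.2
  s_inv q := by
    obtain ⟨x, rfl⟩ := QuotientGroup.mk_surjective q
    rw [quotientAut_mk, quotientAut_mk, A.s_inv]
  t_inv q := by
    obtain ⟨x, rfl⟩ := QuotientGroup.mk_surjective q
    rw [quotientAut_mk, quotientAut_mk, A.t_inv]
  comm q := by
    obtain ⟨x, rfl⟩ := QuotientGroup.mk_surjective q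
    rw [quotientAut_mk, quotientAut_mk, quotientAut_mk, quotientAut_mk, A.comm]
  s_le := (fixCard_quotient_le K₁ A.s _ h.1).trans A.s_le
  t_le := (fixCard_quotient_le K₁ A.t _ h.2).trans A.t_le
  st_le := by
    have e : (quotientAut K₁ A.t A.t_inv h.2).trans (quotientAut K₁ A.s A.s_inv h.1) =
        quotientAut K₁ (A.t.trans A.s) (st_invol A) h.trans_mem := by
      refine MulEquiv.ext fun q => ?_
      obtain ⟨x, rfl⟩ := QuotientGroup.mk_surjective q
      rw [MulEquiv.trans_apply, quotientAut_mk, quotientAut_mk, quotientAut_mk, MulEquiv.trans_apply]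
    rw [e]
    exact (fixCard_quotient_le K₁ (A.t.trans A.s) _ _).trans A.st_le

include A in
theorem card_le_of_comm (hc : ∀ x y : K, x * y = y * x) : Nat.card K ≤ n ^ 3 := by
  let f : K →* K := MonoidHom.mk' (fun x => x * A.t x) fun x y => by
    rw [map_mul, mul_assoc, mul_assoc]
    congr 1
    rw [← mul_assoc, ← mul_assoc, hc y]
  let g : f.ker →* K := MonoidHom.mk' (fun x => (x : K) * A.s x) fun x y => by
    rw [Subgroup.coe_mul, map_mul, mul_assoc, mul_assoc]
    congr 1
    rw [← mul_assoc, ← mul_assoc, hc (y : K)]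
  have h1 : Nat.card f.range ≤ n :=
    (Nat.card_le_card_of_injective (fun x : f.range => (⟨x.1, by
      obtain ⟨y, hy⟩ := x.2
      rw [← hy]
      show A.t (y * A.t y) = y * A.t y
      rw [map_mul, A.t_inv, hc]⟩ : {x : K // A.t x = x}))
      fun a b e => Subtype.ext (congrArg Subtype.val e :)).trans A.t_le
  have h2 : Nat.card g.range ≤ n :=
    (Nat.card_le_card_of_injective (fun x : g.range => (⟨x.1, by
      obtain ⟨y, hy⟩ := x.2
      rw [← hy]
      show A.s ((y : K) * A.s y) = (y : K) * A.s y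
      rw [map_mul, A.s_inv, hc]⟩ : {x : K // A.s x = x}))
      fun a b e => Subtype.ext (congrArg Subtype.val e :)).trans A.s_le
  have h3 : Nat.card g.ker ≤ n :=
    (Nat.card_le_card_of_injective (fun x : g.ker => (⟨((x : f.ker) : K), by
      have e1 : ((x : f.ker) : K) * A.t (x : f.ker) = 1 := (x : f.ker).2
      have e2 : ((x : f.ker) : K) * A.s (x : f.ker) = 1 := x.2
      rw [mul_eq_one_iff_inv_eq] at e1 e2
      rw [MulEquiv.trans_apply, ← e1, map_inv, ← e2, inv_inv]⟩ :
        {x : K // (A.t.trans A.s) x = x}))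
      fun a b e => Subtype.ext (Subtype.ext (congrArg Subtype.val e :))).trans A.st_le
  have e1 := Subgroup.index_mul_card f.ker
  have e2 := Subgroup.index_mul_card g.ker
  rw [Subgroup.index_ker] at e1 e2
  rw [← e1, ← e2]
  calc Nat.card f.range * (Nat.card g.range * Nat.card g.ker) ≤ n * (n * n) := by gcongr
    _ = n ^ 3 := by ring

/-- Brauer–Fowler counting: a small index centralizer, or a small group. -/
theorem exists_centralizer_small (t : K ≃* K) (ht : ∀ x, t (t x) = x) (c : ℕ)
    (hc : fixCard t ≤ c) :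
    (∃ H : Subgroup K, H ≠ ⊤ ∧ H.index ≤ 2 * c ^ 2) ∨
      Nat.card K ≤ 2 * c * Nat.card (Subgroup.center K) := by
  classical
  haveI : Fintype K := Fintype.ofFinite K
  by_contra hcon
  simp only [not_or, not_exists, not_and, not_le] at hcon
  obtain ⟨hidx, hbig⟩ := hcon
  let T : Finset K := Finset.univ.image fun x => x⁻¹ * t x
  have hTinv : ∀ u ∈ T, t u = u⁻¹ := by
    intro u hu
    obtain ⟨x, -, rfl⟩ := Finset.mem_image.mp hu
    rw [map_mul, map_inv, ht, mul_inv_rev, inv_inv]
  have hT : Nat.card K ≤ T.card * c := by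
    have := card_le_image_mul_fix t Set.univ (T : Set K)
      (fun x _ => Finset.mem_image_of_mem _ (Finset.mem_univ x))
    rw [Nat.card_univ, Nat.card_coe_set_eq, Set.ncard_coe_finset] at this
    exact this.trans (Nat.mul_le_mul_left _ hc)
  -- pairs
  let F : K → Finset K := fun w => T.filter fun u => w⁻¹ * u ∈ T
  have hsum : ∑ w : K, (F w).card = T.card * T.card := by
    simp only [F, Finset.card_filter]
    rw [Finset.sum_comm]
    refine (Finset.sum_congr rfl fun u _ => ?_).trans (by rw [Finset.sum_const, smul_eq_mul])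
    rw [← Finset.card_filter]
    refine Finset.card_nbij' (fun w => w⁻¹ * u) (fun v => u * v⁻¹) ?_ ?_ ?_ ?_ <;>
      intro a ha <;> simp_all
  have hF : ∀ w, (F w).card ≤ Nat.card (Subgroup.centralizer ({w} : Set K)) := by
    intro w
    have key : ∀ u ∈ F w, u * (t w)⁻¹ * u⁻¹ = w := by
      intro u hu
      obtain ⟨hu1, hu2⟩ := Finset.mem_filter.mp hu
      have h := hTinv _ hu2
      rw [map_mul, map_inv, hTinv u hu1, mul_inv_rev, inv_inv] at h
      rw [mul_inv_eq_iff_eq_mul]
      have h' := congrArg (fun z => u * z * u) h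
      simp only [mul_assoc] at h'
      simpa [mul_assoc] using h'
    rcases (F w).eq_empty_or_nonempty with h | ⟨y, hy⟩
    · rw [h]; simp
    · rw [Nat.card_eq_fintype_card, ← Finset.card_univ,
        ← Finset.card_map (Function.Embedding.subtype _)]
      refine Finset.card_le_card_of_injOn (fun u => u * y⁻¹) (fun u hu => ?_)
        (mul_left_injective _).injOn
      simp only [Finset.coe_map, Function.Embedding.coe_subtype, Finset.coe_univ, Set.image_univ,
        Subtype.range_coe_subtype]
      refine Subgroup.mem_centralizer_singleton_iff.mpr ?_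
      have e1 := key u hu
      have e2 := key y hy
      conv_lhs => rw [← e2]
      conv_rhs => rw [← e1]
      simp [mul_assoc]
  have hFT : ∀ w, (F w).card ≤ T.card := fun w => Finset.card_filter_le _ _
  have hnc : ∀ w, w ∉ Subgroup.center K → (F w).card * (2 * c ^ 2 + 1) ≤ Nat.card K := by
    intro w hw
    have hne : Subgroup.centralizer ({w} : Set K) ≠ ⊤ := fun h => hw (Subgroup.mem_center_iff.mpr
      fun g => Subgroup.mem_centralizer_singleton_iff.mp (h ▸ Subgroup.mem_top g))
    rw [← (Subgroup.centralizer ({w} : Set K)).index_mul_card, mul_comm]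
    exact Nat.mul_le_mul (hidx _ hne) (hF w)
  have hsplit := Finset.sum_filter_add_sum_filter_not Finset.univ
    (fun w => w ∈ Subgroup.center K) (fun w => (F w).card)
  rw [hsum] at hsplit
  have h1 : ∑ w ∈ Finset.univ.filter (fun w => w ∈ Subgroup.center K), (F w).card ≤
      Nat.card (Subgroup.center K) * T.card := by
    refine (Finset.sum_le_card_nsmul _ _ _ fun w _ => hFT w).trans (le_of_eq ?_)
    rw [smul_eq_mul, Nat.card_eq_fintype_card, Fintype.card_subtype]
  have h2 : (2 * c ^ 2 + 1) *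
      ∑ w ∈ Finset.univ.filter (fun w => ¬ w ∈ Subgroup.center K), (F w).card ≤
      Nat.card K * Nat.card K := by
    rw [Finset.mul_sum]
    refine (Finset.sum_le_card_nsmul _ _ (Nat.card K) fun w hw => ?_).trans ?_
    · rw [mul_comm]; exact hnc w (Finset.mem_filter.mp hw).2
    · rw [smul_eq_mul, Nat.card_eq_fintype_card]
      exact Nat.mul_le_mul_right _ (Finset.card_le_univ _)
  set k := Nat.card K
  set z := Nat.card (Subgroup.center K)
  set m := T.card
  have h3 : (2 * c ^ 2 + 1) * (m * m) ≤ (2 * c ^ 2 + 1) * (z * m) + k * k := by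
    calc (2 * c ^ 2 + 1) * (m * m) ≤ (2 * c ^ 2 + 1) * (z * m) +
          (2 * c ^ 2 + 1) * ∑ w ∈ Finset.univ.filter (fun w => ¬ w ∈ Subgroup.center K),
            (F w).card := by
          rw [← mul_add]; exact Nat.mul_le_mul_left _ (by omega)
      _ ≤ _ := Nat.add_le_add_left h2 _
  have h4 : k * k ≤ m * m * c ^ 2 := by
    calc k * k ≤ (m * c) * (m * c) := Nat.mul_le_mul hT hT
      _ = m * m * c ^ 2 := by ring
  have hm : 0 < m := by
    refine Finset.card_pos.mpr ⟨_, Finset.mem_image_of_mem _ (Finset.mem_univ (1 : K))⟩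
  have h5 : (c ^ 2 + 1) * m ≤ (2 * c ^ 2 + 1) * z := by
    refine Nat.le_of_mul_le_mul_right ?_ hm
    nlinarith [h3, h4]
  have h6 : 2 * c * z < m * c := lt_of_lt_of_le hbig hT
  have h7 : 2 * z < m := by
    by_contra h
    exact absurd h6 (not_lt.mpr (by nlinarith))
  nlinarith

/-- A small invariant normal subgroup index, or a small group. -/
theorem exists_invariant_small :
    (∃ K₁ : Subgroup K, K₁.Normal ∧ A.Invariant K₁ ∧ K₁ ≠ ⊤ ∧
      K₁.index ≤ Nat.factorial (2 * n ^ 2) ^ 4) ∨ Nat.card K ≤ 2 * n ^ 4 := by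
  rcases exists_centralizer_small A.t A.t_inv n A.t_le with ⟨H, hH, hidx⟩ | h
  · refine Or.inl ?_
    let C := H.normalCore
    have hC : C.index ≤ Nat.factorial (2 * n ^ 2) := by
      rw [show C = (MulAction.toPermHom K (K ⧸ H)).ker from H.normalCore_eq_ker,
        Subgroup.index_ker]
      refine (Subgroup.card_le_card_group _).trans ?_
      rw [Nat.card_perm, ← Subgroup.index]
      exact Nat.factorial_le hidx
    have hmap : ∀ e : K ≃* K, (C.comap e.toMonoidHom).index ≤ Nat.factorial (2 * n ^ 2) :=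
      fun e => by rw [Subgroup.index_comap_of_surjective C (MulEquiv.surjective e)]; exact hC
    refine ⟨C ⊓ C.comap A.s.toMonoidHom ⊓ C.comap A.t.toMonoidHom ⊓
      C.comap (A.t.trans A.s).toMonoidHom, inferInstance, ⟨?_, ?_⟩, ?_, ?_⟩
    · intro x hx
      simp only [Subgroup.mem_inf, Subgroup.mem_comap, MulEquiv.coe_toMonoidHom,
        MulEquiv.trans_apply] at hx ⊢
      obtain ⟨⟨⟨h1, h2⟩, h3⟩, h4⟩ := hx
      refine ⟨⟨⟨h2, ?_⟩, ?_⟩, ?_⟩
      · rwa [A.s_inv]
      · rwa [← A.comm]
      · rwa [← A.comm, A.s_inv]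
    · intro x hx
      simp only [Subgroup.mem_inf, Subgroup.mem_comap, MulEquiv.coe_toMonoidHom,
        MulEquiv.trans_apply] at hx ⊢
      obtain ⟨⟨⟨h1, h2⟩, h3⟩, h4⟩ := hx
      refine ⟨⟨⟨h3, h4⟩, ?_⟩, ?_⟩
      · rwa [A.t_inv]
      · rwa [A.t_inv]
    · intro htop
      refine hH (eq_top_iff.mpr (le_trans ?_ H.normalCore_le))
      rw [← htop]
      exact inf_le_left.trans (inf_le_left.trans inf_le_left)
    · refine (Subgroup.index_inf_le).trans ?_
      refine (Nat.mul_le_mul ((Subgroup.index_inf_le).trans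
        (Nat.mul_le_mul ((Subgroup.index_inf_le).trans (Nat.mul_le_mul hC (hmap _))) (hmap _)))
        (hmap _)).trans (le_of_eq ?_)
      ring
  · refine Or.inr (h.trans ?_)
    have hz : Nat.card (Subgroup.center K) ≤ n ^ 3 := by
      have hinv : A.Invariant (Subgroup.center K) := by
        refine ⟨fun x hx => ?_, fun x hx => ?_⟩ <;>
          refine Subgroup.mem_center_iff.mpr fun g => ?_
        · have e := congrArg A.s (Subgroup.mem_center_iff.mp hx (A.s g))
          rwa [map_mul, map_mul, A.s_inv] at e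
        · have e := congrArg A.t (Subgroup.mem_center_iff.mp hx (A.t g))
          rwa [map_mul, map_mul, A.t_inv] at e
      exact card_le_of_comm (A.res hinv) fun x y =>
        Subtype.ext (Subgroup.mem_center_iff.mp y.2 (x : K))
    calc 2 * n * Nat.card (Subgroup.center K) ≤ 2 * n * n ^ 3 := Nat.mul_le_mul_left _ hz
      _ = 2 * n ^ 4 := by ring

end Bounds

/-- An involutive map of a finite set of odd size has a fixed point. -/
theorem exists_fixed_of_odd {α : Type*} [Finite α] (hodd : Odd (Nat.card α)) (f : α → α)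
    (hf : ∀ a, f (f a) = a) : ∃ a, f a = a := by
  classical
  haveI : Fintype α := Fintype.ofFinite α
  haveI : Fact (Nat.Prime 2) := ⟨Nat.prime_two⟩
  have hσ : (Function.Involutive.toPerm f hf) ^ 2 ^ 1 = 1 := by
    ext x
    simp only [pow_one, sq, Equiv.Perm.mul_apply, Equiv.Perm.one_apply]
    exact hf x
  have h := Equiv.Perm.card_compl_support_modEq hσ
  rw [← Nat.card_eq_fintype_card (α := α)] at h
  obtain ⟨a, ha⟩ : (Equiv.Perm.support (Function.Involutive.toPerm f hf))ᶜ.Nonempty := by
    rw [Finset.nonempty_iff_ne_empty]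
    intro he
    rw [he, Finset.card_empty] at h
    rw [Nat.odd_iff] at hodd
    rw [Nat.ModEq, hodd] at h
    omega
  rw [Finset.mem_compl, Equiv.Perm.mem_support, not_not] at ha
  exact ⟨a, ha⟩

section Odd

variable {n : ℕ}

/-- The fixed points in a group of odd order surject onto those of a quotient. -/
theorem fixCard_lt_of_lift [Finite K] (hodd : Odd (Nat.card K)) {K₁ : Subgroup K} [K₁.Normal]
    (t : K ≃* K) (ht : ∀ x, t (t x) = x) (h : ∀ x ∈ K₁, t x ∈ K₁)
    {q : K ⧸ K₁} (hq : q ≠ 1) (hfix : quotientAut K₁ t ht h q = q) :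
    fixCard (restrictAut K₁ t ht h) < fixCard t := by
  classical
  haveI : Fintype K := Fintype.ofFinite K
  let S := {x : K // (x : K ⧸ K₁) = q}
  have hS : Odd (Nat.card S) := by
    have h2 : Nat.card S = Nat.card K₁ := by
      rw [show Nat.card S = Nat.card ((QuotientGroup.mk : K → K ⧸ K₁) ⁻¹' {q}) from rfl,
        Nat.card_congr (QuotientGroup.preimageMkEquivSubgroupProdSet K₁ _), Nat.card_prod]
      simp
    rw [h2]
    exact hodd.of_dvd_nat (Subgroup.card_subgroup_dvd_card K₁)
  obtain ⟨⟨x, hx⟩, hxt⟩ := exists_fixed_of_odd hS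
    (fun x : S => ⟨t x.1, by rw [← quotientAut_mk K₁ t ht h, x.2, hfix]⟩)
    (fun x => Subtype.ext (ht x.1))
  have hxK : x ∉ K₁ := fun hm => hq (hx ▸ (QuotientGroup.eq_one_iff x).mpr hm)
  let g : {y : K₁ // restrictAut K₁ t ht h y = y} → {y : K // t y = y} :=
    fun y => ⟨(y.1 : K), congrArg Subtype.val y.2⟩
  rw [fixCard, fixCard, Nat.card_eq_fintype_card, Nat.card_eq_fintype_card]
  refine Fintype.card_lt_of_injective_of_notMem g
    (fun a b e => Subtype.ext (Subtype.ext (congrArg Subtype.val e :)))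
    (b := ⟨x, congrArg Subtype.val hxt⟩) ?_
  rintro ⟨y, hy⟩
  have e : (y.1 : K) = x := congrArg Subtype.val hy
  exact hxK (e ▸ y.1.2)

/-- The bound for groups of odd order. -/
theorem exists_bound_odd (n : ℕ) : ∀ m : ℕ, ∃ N : ℕ, ∀ (K : Type u) [Group K] [Finite K]
    (A : FourAct K n), Odd (Nat.card K) →
    fixCard A.s + fixCard A.t + fixCard (A.t.trans A.s) ≤ m → Nat.card K ≤ N := by
  intro m
  induction m with
  | zero => exact ⟨0, fun K _ _ A _ h => by have := fixCard_pos A.s; omega⟩
  | succ m ih =>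
    obtain ⟨N, hN⟩ := ih
    refine ⟨Nat.factorial (2 * n ^ 2) ^ 4 * N + 2 * n ^ 4, fun K _ _ A hodd hm => ?_⟩
    rcases exists_invariant_small A with ⟨K₁, hnorm, hinv, hne, hidx⟩ | h
    · have hlt : fixCard (A.res hinv).s + fixCard (A.res hinv).t +
          fixCard ((A.res hinv).t.trans (A.res hinv).s) ≤ m := by
        have l1 : fixCard (A.res hinv).s ≤ fixCard A.s := fixCard_restrict_le K₁ _ A.s fun _ => rfl
        have l2 : fixCard (A.res hinv).t ≤ fixCard A.t := fixCard_restrict_le K₁ _ A.t fun _ => rfl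
        have l3 : fixCard ((A.res hinv).t.trans (A.res hinv).s) ≤ fixCard (A.t.trans A.s) :=
          fixCard_restrict_le K₁ _ (A.t.trans A.s) fun _ => rfl
        by_cases hs : ∃ q : K ⧸ K₁, q ≠ 1 ∧ (A.quot hinv).s q = q
        · obtain ⟨q, hq, hqs⟩ := hs
          have : fixCard (A.res hinv).s < fixCard A.s :=
            fixCard_lt_of_lift hodd A.s A.s_inv hinv.1 hq hqs
          omega
        by_cases ht : ∃ q : K ⧸ K₁, q ≠ 1 ∧ (A.quot hinv).t q = q
        · obtain ⟨q, hq, hqt⟩ := ht
          have : fixCard (A.res hinv).t < fixCard A.t :=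
            fixCard_lt_of_lift hodd A.t A.t_inv hinv.2 hq hqt
          omega
        -- both act without fixed points, so both invert, and their product is trivial
        have fpf : ∀ e : K ⧸ K₁ ≃* K ⧸ K₁, (∀ x, e (e x) = x) →
            (¬ ∃ q, q ≠ 1 ∧ e q = q) → ∀ x, e x = x⁻¹ := by
          intro e he hno x
          have hfp : MonoidHom.FixedPointFree e := fun g hg => by
            by_contra hg1
            exact hno ⟨g, hg1, hg⟩
          exact congrFun (hfp.coe_eq_inv_of_involutive he) x
        obtain ⟨x, hx⟩ : ∃ x : K, x ∉ K₁ := by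
          by_contra hall
          simp only [not_exists, not_not] at hall
          exact hne (eq_top_iff.mpr fun x _ => hall x)
        have hq1 : ((x : K) : K ⧸ K₁) ≠ 1 := fun h => hx ((QuotientGroup.eq_one_iff x).mp h)
        have hst : (A.quot hinv).s ((A.quot hinv).t (x : K ⧸ K₁)) = (x : K ⧸ K₁) := by
          rw [fpf _ (A.quot hinv).t_inv ht, fpf _ (A.quot hinv).s_inv hs, inv_inv]
        have hst' : quotientAut K₁ (A.t.trans A.s) (st_invol A)
            hinv.trans_mem (x : K ⧸ K₁) = (x : K ⧸ K₁) := by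
          rw [quotientAut_mk]
          simpa [FourAct.quot, quotientAut_mk] using hst
        have : fixCard ((A.res hinv).t.trans (A.res hinv).s) < fixCard (A.t.trans A.s) :=
          lt_of_le_of_lt (le_of_eq rfl)
            (fixCard_lt_of_lift hodd (A.t.trans A.s) (st_invol A) _ hq1 hst')
        omega
      have h1 := hN K₁ (A.res hinv) (hodd.of_dvd_nat (Subgroup.card_subgroup_dvd_card K₁)) hlt
      rw [← K₁.index_mul_card]
      exact (Nat.mul_le_mul hidx h1).trans (Nat.le_add_right _ _)
    · exact h.trans (Nat.le_add_left _ _)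

end Odd

/-- The bound. -/
theorem exists_bound_fourAct (n a : ℕ) : ∃ N : ℕ, ∀ (K : Type u) [Group K] [Finite K]
    (_ : FourAct K n), (Nat.card K).factorization 2 ≤ a → Nat.card K ≤ N := by
  obtain ⟨N₀, hN₀⟩ := exists_bound_odd.{u} n (3 * n)
  have hodd : ∀ (K : Type u) [Group K] [Finite K] (A : FourAct K n), Odd (Nat.card K) →
      Nat.card K ≤ N₀ := fun K _ _ A h => hN₀ K A h (by
    have := A.s_le; have := A.t_le; have := A.st_le; omega)
  induction a with
  | zero =>
    refine ⟨N₀, fun K _ _ A h => hodd K A (Nat.not_even_iff_odd.mp fun he => ?_)⟩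
    have := Nat.prime_two.factorization_pos_of_dvd Nat.card_pos.ne' (even_iff_two_dvd.mp he)
    omega
  | succ a ih =>
    obtain ⟨N, hN⟩ := ih
    refine ⟨N₀ * (Nat.factorial (2 * n ^ 2) ^ 4 * N + 2 * n ^ 4), fun K _ _ A ha => ?_⟩
    haveI : Fact (Nat.Prime 2) := ⟨Nat.prime_two⟩
    -- the subgroup generated by the `2`-elements
    let K₀ : Subgroup K := Subgroup.closure {x | ∃ k, orderOf x = 2 ^ k}
    have hinv0 : ∀ e : K ≃* K, ∀ x ∈ K₀, e x ∈ K₀ := by
      intro e x hx
      have : K₀.map e.toMonoidHom ≤ K₀ := by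
        rw [MonoidHom.map_closure]
        refine Subgroup.closure_mono ?_
        rintro _ ⟨y, ⟨k, hk⟩, rfl⟩
        exact ⟨k, by rw [← hk]; exact MulEquiv.orderOf_eq e y⟩
      exact this (Subgroup.mem_map_of_mem _ hx)
    haveI : K₀.Normal := ⟨fun x hx g => by
      simpa using hinv0 (MulAut.conj g) x hx⟩
    have hA0 : A.Invariant K₀ := ⟨hinv0 A.s, hinv0 A.t⟩
    have hidx0 : K₀.index ≤ N₀ := by
      rw [Subgroup.index_eq_card]
      refine hodd _ (A.quot hA0) (Nat.not_even_iff_odd.mp fun he => ?_)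
      obtain ⟨P⟩ : Nonempty (Sylow 2 K) := inferInstance
      have hP : (P : Subgroup K) ≤ K₀ := fun x hx => by
        obtain ⟨k, hk⟩ := P.isPGroup' ⟨x, hx⟩
        obtain ⟨i, -, hi⟩ := (Nat.dvd_prime_pow Nat.prime_two).mp (orderOf_dvd_of_pow_eq_one hk)
        exact Subgroup.subset_closure ⟨i, by rwa [Subgroup.orderOf_mk] at hi⟩
      rw [← Subgroup.index_eq_card, even_iff_two_dvd] at he
      exact P.not_dvd_index (he.trans (Subgroup.index_dvd_of_le hP))
    rw [← K₀.index_mul_card]
    refine Nat.mul_le_mul hidx0 ?_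
    rcases exists_invariant_small (A.res hA0) with ⟨K₁, hnorm, hinv, hne, hidx⟩ | h
    · have hev : 2 ∣ K₁.index := by
        by_contra hev
        apply hne
        have hall : K₀ ≤ K₁.map K₀.subtype := by
          refine (Subgroup.closure_le _).mpr ?_
          rintro x ⟨k, hk⟩
          have hx0 : x ∈ K₀ := Subgroup.subset_closure ⟨k, hk⟩
          refine ⟨⟨x, hx0⟩, ?_, rfl⟩
          refine (QuotientGroup.eq_one_iff _).mp (orderOf_eq_one_iff.mp ?_)
          have h1 : orderOf ((⟨x, hx0⟩ : K₀) : K₀ ⧸ K₁) ∣ 2 ^ k := by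
            rw [← hk, ← Subgroup.orderOf_mk x hx0]
            exact orderOf_map_dvd (QuotientGroup.mk' K₁) _
          obtain ⟨i, -, hi⟩ := (Nat.dvd_prime_pow Nat.prime_two).mp h1
          rcases Nat.eq_zero_or_pos i with hi0 | hi0
          · rw [hi, hi0, pow_zero]
          · exact absurd (((dvd_pow_self 2 hi0.ne').trans hi.symm.dvd).trans
              (orderOf_dvd_natCard _)) hev
        refine eq_top_iff.mpr fun x _ => ?_
        obtain ⟨y, hy, e⟩ := hall x.2
        exact (Subtype.ext e : y = x) ▸ hy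
      have h1 := hN K₁ ((A.res hA0).res hinv) (by
        have e0 : (Nat.card K₀).factorization 2 ≤ (Nat.card K).factorization 2 :=
          (Nat.factorization_le_iff_dvd Nat.card_pos.ne' Nat.card_pos.ne').mpr
            (Subgroup.card_subgroup_dvd_card K₀) 2
        have e1 : (Nat.card K₀).factorization 2 =
            K₁.index.factorization 2 + (Nat.card K₁).factorization 2 := by
          rw [← K₁.index_mul_card, Nat.factorization_mul Subgroup.index_ne_zero_of_finite
            Nat.card_pos.ne', Finsupp.add_apply]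
        have e2 := Nat.prime_two.factorization_pos_of_dvd Subgroup.index_ne_zero_of_finite hev
        omega)
      rw [← K₁.index_mul_card]
      exact (Nat.mul_le_mul hidx h1).trans (Nat.le_add_right _ _)
    · exact h.trans (Nat.le_add_left _ _)

end CfsgLib.CharApps
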