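import Cfsg.Agent.Lib.Chars.Linear
import Cfsg.Agent.Lib.Chars.Integral
import Cfsg.Agent.Lib.Chars.Irr
import Cfsg.Agent.Lib.Base.FPF

/-!
Finite groups in which every irreducible character is multiplicative on pairs of elements of
prime power orders for two different primes.
-/

open Cfsg CfsgLib.Chars
open scoped commutatorElement

namespace CfsgLib.PrimeMul

universe u

variable {G : Type u} [Group G] [Finite G]

/-- The centralizer order is the number of linear characters plus the nonlinear contributions. -/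
theorem card_centralizer_eq [Fintype (IrrCharacter G)] (g : G) :
    (Nat.card (Subgroup.centralizer ({g} : Set G)) : ℝ) = ((commutator G).index : ℝ) +
      ∑ χ ∈ Finset.univ.filter (fun χ : IrrCharacter G => (χ : G → ℂ) 1 ≠ 1),
        Complex.normSq ((χ : G → ℂ) g) := by
  classical
  have h : ∑ χ : IrrCharacter G, Complex.normSq ((χ : G → ℂ) g) =
      (Nat.card (Subgroup.centralizer ({g} : Set G)) : ℝ) := by
    have h1 := second_orthogonality g g
    rw [if_pos (IsConj.refl g)] at h1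
    have h2 := congrArg Complex.re h1
    rw [Complex.re_sum, Complex.natCast_re] at h2
    rw [← h2]
    refine Finset.sum_congr rfl fun χ _ => ?_
    rw [Complex.mul_conj, Complex.ofReal_re]
  rw [← h, ← Finset.sum_filter_add_sum_filter_not Finset.univ
    (fun χ : IrrCharacter G => (χ : G → ℂ) 1 = 1)]
  congr 1
  rw [← card_degree_one, Nat.card_eq_fintype_card, Fintype.card_subtype,
    Finset.card_eq_sum_ones, Nat.cast_sum]
  refine Finset.sum_congr rfl fun χ hχ => ?_
  obtain ⟨lam, hlam⟩ := exists_hom_of_degree_one (isCharacter_of_irr χ.2)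
    (Finset.mem_filter.1 hχ).2
  have h1 : ((lam g : ℂˣ) : ℂ) ^ orderOf g = 1 := by
    rw [← Units.val_pow_eq_pow_val, ← map_pow, pow_orderOf_eq_one, map_one, Units.val_one]
  rw [hlam, Complex.normSq_eq_norm_sq, Complex.norm_eq_one_of_pow_eq_one h1 (orderOf_pos g).ne']
  norm_num

theorem card_centralizer_of_vanish {g : G}
    (h : ∀ χ : IrrCharacter G, (χ : G → ℂ) 1 ≠ 1 → (χ : G → ℂ) g = 0) :
    Nat.card (Subgroup.centralizer ({g} : Set G)) = (commutator G).index := by
  classical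
  haveI := irrFintype G
  have h1 := card_centralizer_eq g
  rw [Finset.sum_eq_zero (fun χ hχ => by simp [h χ (Finset.mem_filter.1 hχ).2]), add_zero] at h1
  exact_mod_cast h1

theorem vanish_of_card_centralizer_le {g : G}
    (h : Nat.card (Subgroup.centralizer ({g} : Set G)) ≤ (commutator G).index)
    (χ : IrrCharacter G) (hχ : (χ : G → ℂ) 1 ≠ 1) : (χ : G → ℂ) g = 0 := by
  classical
  haveI := irrFintype G
  have h1 := card_centralizer_eq g
  have hle : (Nat.card (Subgroup.centralizer ({g} : Set G)) : ℝ) ≤ ((commutator G).index : ℝ) := by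
    exact_mod_cast h
  have hnn : ∀ ψ ∈ Finset.univ.filter (fun χ : IrrCharacter G => (χ : G → ℂ) 1 ≠ 1),
      0 ≤ Complex.normSq ((ψ : G → ℂ) g) := fun ψ _ => Complex.normSq_nonneg _
  have h2 := Finset.sum_nonneg hnn
  exact Complex.normSq_eq_zero.1 ((Finset.sum_eq_zero_iff_of_nonneg hnn).1 (by linarith) χ
    (by simp [hχ]))

theorem exists_nonlinear (h : ¬ IsMulCommutative G) :
    ∃ χ : IrrCharacter G, (χ : G → ℂ) 1 ≠ 1 := by
  by_contra hne
  push Not at hne
  have h1 := card_centralizer_of_vanish (g := (1 : G)) fun χ hχ => absurd (hne χ) hχ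
  rw [show Subgroup.centralizer ({(1 : G)} : Set G) = ⊤ from
    (Subgroup.eq_top_iff' _).2 fun a => by simp [Subgroup.mem_centralizer_singleton_iff],
    Subgroup.card_top] at h1
  have h2 : commutator G = ⊥ := by
    rw [Subgroup.eq_bot_iff_card]
    have h3 := (commutator G).index_mul_card
    rw [← h1] at h3
    exact mul_left_cancel₀ (Nat.card_pos (α := G)).ne' (h3.trans (mul_one _).symm)
  refine h ⟨⟨fun a b => ?_⟩⟩
  have h4 : ⁅a, b⁆ ∈ commutator G :=
    Subgroup.commutator_mem_commutator (Subgroup.mem_top a) (Subgroup.mem_top b)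
  rw [h2, Subgroup.mem_bot] at h4
  exact commutatorElement_eq_one_iff_mul_comm.1 h4

variable (G) in
/-- The character condition. -/
def Mult : Prop :=
  ∀ (x y : G) (χ : IrrCharacter G), x ≠ 1 → y ≠ 1 →
    (∃ p q a b : ℕ, p.Prime ∧ q.Prime ∧ p ≠ q ∧ orderOf x = p ^ a ∧ orderOf y = q ^ b) →
    (χ : G → ℂ) (x * y) = (χ : G → ℂ) x * (χ : G → ℂ) y

theorem mul_eq_zero_of_mult (hM : Mult G) {χ : IrrCharacter G} (hχ : (χ : G → ℂ) 1 ≠ 1)
    {x y : G} (hx : x ≠ 1) (hy : y ≠ 1) {p q a b : ℕ} (hp : p.Prime) (hq : q.Prime) (hpq : p ≠ q)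
    (hxo : orderOf x = p ^ a) (hyo : orderOf y = q ^ b) :
    (χ : G → ℂ) x = 0 ∨ (χ : G → ℂ) y = 0 := by
  classical
  haveI := Fintype.ofFinite G
  have h1 := sum_translate_class χ.2 x y
  have h2 : ∑ z : G, (if IsConj y z then (χ : G → ℂ) (x * z) else 0) =
      (Nat.card {z : G // IsConj y z} : ℂ) * ((χ : G → ℂ) x * (χ : G → ℂ) y) := by
    rw [Nat.card_eq_fintype_card, Fintype.card_subtype, ← Finset.sum_filter, ← nsmul_eq_mul,
      ← Finset.sum_const]
    refine Finset.sum_congr rfl fun z hz => ?_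
    obtain ⟨c, rfl⟩ := isConj_iff.1 (Finset.mem_filter.1 hz).2
    have ho : orderOf (c * y * c⁻¹) = orderOf y := (SemiconjBy.conj_mk c y).orderOf_eq.symm
    rw [hM x _ χ hx (fun h => hy (by simpa using h))
        ⟨p, q, a, b, hp, hq, hpq, hxo, ho.trans hyo⟩,
      (isClassFunction_of_isCharacter (isCharacter_of_irr χ.2)) y c]
  rw [h2] at h1
  obtain ⟨n, hn, hn1, -⟩ := irr_degree_dvd_card χ.2
  have hn0 : (χ : G → ℂ) 1 ≠ 0 := by
    rw [hn1]; exact_mod_cast hn.ne'
  rw [eq_div_iff hn0] at h1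
  have hk : (Nat.card {z : G // IsConj y z} : ℂ) ≠ 0 := by
    haveI : Nonempty {z : G // IsConj y z} := ⟨⟨y, IsConj.refl y⟩⟩
    exact Nat.cast_ne_zero.2 Nat.card_pos.ne'
  have h3 : ((Nat.card {z : G // IsConj y z} : ℂ) * ((χ : G → ℂ) x * (χ : G → ℂ) y)) *
      ((χ : G → ℂ) 1 - 1) = 0 := by linear_combination h1
  simpa [hk, sub_eq_zero, hχ] using h3

/-- A character vanishing on the nontrivial elements of a subgroup has degree divisible by
its order. -/
theorem card_dvd_degree (Q : Subgroup G) {χ : G → ℂ} (hχ : IsCharacter G χ) {d : ℕ}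
    (hd : χ 1 = d) (hv : ∀ x ∈ Q, x ≠ 1 → χ x = 0) : Nat.card Q ∣ d := by
  classical
  haveI := Fintype.ofFinite Q
  obtain ⟨m, hm⟩ := inner_char_nat (isCharacter_restrict Q hχ) (isCharacter_one (G := Q))
  rw [inner_def, Finset.sum_eq_single (1 : Q) (fun x _ hx => by
      simp [hv x x.2 (fun h => hx (Subtype.ext h))]) (by simp)] at hm
  refine ⟨m, ?_⟩
  have h0 : (Nat.card Q : ℂ) ≠ 0 := Nat.cast_ne_zero.2 Nat.card_pos.ne'
  have : (d : ℂ) = (Nat.card Q : ℂ) * (m : ℂ) := by
    rw [← hm, OneMemClass.coe_one, map_one, mul_one, hd, mul_inv_cancel_left₀ h0]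
  exact_mod_cast this

theorem sq_degree_lt {χ : IrrCharacter G} (hχ : (χ : G → ℂ) 1 ≠ 1) {d : ℕ}
    (hd : (χ : G → ℂ) 1 = d) : d * d < Nat.card G := by
  classical
  haveI := irrFintype G
  have h1 := card_centralizer_eq (G := G) (1 : G)
  rw [show Subgroup.centralizer ({(1 : G)} : Set G) = ⊤ from
    (Subgroup.eq_top_iff' _).2 fun a => by simp [Subgroup.mem_centralizer_singleton_iff],
    Subgroup.card_top] at h1
  have h2 : Complex.normSq ((χ : G → ℂ) 1) ≤
      ∑ χ ∈ Finset.univ.filter (fun χ : IrrCharacter G => (χ : G → ℂ) 1 ≠ 1),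
        Complex.normSq ((χ : G → ℂ) 1) :=
    Finset.single_le_sum (f := fun ψ : IrrCharacter G => Complex.normSq ((ψ : G → ℂ) 1))
      (fun ψ _ => Complex.normSq_nonneg _) (by simp [hχ])
  rw [hd, Complex.normSq_natCast] at h2
  have h3 : (1 : ℝ) ≤ ((commutator G).index : ℝ) := by
    exact_mod_cast Nat.one_le_iff_ne_zero.2 Subgroup.index_ne_zero_of_finite
  have : ((d * d : ℕ) : ℝ) < (Nat.card G : ℝ) := by push_cast; linarith
  exact_mod_cast this

/-- If `χ` vanishes at all nontrivial elements of prime power order prime to `p`, then the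
`p'`-part of the group order is less than the `p`-part. -/
theorem ordCompl_lt {χ : IrrCharacter G} (hχ : (χ : G → ℂ) 1 ≠ 1) (p : ℕ)
    (hv : ∀ r : ℕ, r.Prime → r ≠ p → ∀ x : G, x ≠ 1 → ∀ a : ℕ, orderOf x = r ^ a →
      (χ : G → ℂ) x = 0) :
    Nat.card G / p ^ (Nat.card G).factorization p < p ^ (Nat.card G).factorization p := by
  obtain ⟨d, hd0, hd, -⟩ := irr_degree_dvd_card χ.2
  set n := Nat.card G with hn
  have hn0 : n ≠ 0 := Nat.card_pos.ne'
  have hdvd : n / p ^ n.factorization p ∣ d := by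
    rw [Nat.dvd_iff_prime_pow_dvd_dvd]
    intro r k hr hrk
    rcases Nat.eq_zero_or_pos k with rfl | hk
    · simp
    by_cases hrp : r = p
    · subst hrp
      exact absurd (dvd_trans (dvd_pow_self r hk.ne') hrk) (Nat.not_dvd_ordCompl hr hn0)
    haveI := Fact.mk hr
    obtain ⟨Q⟩ : Nonempty (Sylow r G) := inferInstance
    have hQ : Nat.card Q ∣ d := card_dvd_degree (Q : Subgroup G) (isCharacter_of_irr χ.2) hd
      fun x hx hx1 => by
        obtain ⟨a, ha⟩ := IsPGroup.iff_orderOf.1 Q.2 ⟨x, hx⟩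
        rw [Subgroup.orderOf_mk] at ha
        exact hv r hr hrp x hx1 a ha
    rw [Sylow.card_eq_multiplicity] at hQ
    refine (pow_dvd_pow r ?_).trans hQ
    exact (hr.pow_dvd_iff_le_factorization hn0).1 (hrk.trans (Nat.ordCompl_dvd n p))
  have h1 := Nat.le_of_dvd hd0 hdvd
  have h2 := sq_degree_lt hχ hd
  have h3 := Nat.ordProj_mul_ordCompl_eq_self n p
  by_contra hle
  push Not at hle
  nlinarith [Nat.mul_le_mul h1 h1, Nat.mul_le_mul_right (n / p ^ n.factorization p) hle]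

theorem prime_unique {n p r : ℕ} (hn : n ≠ 0) (hp : p.Prime) (hr : r.Prime)
    (h1 : n / p ^ n.factorization p < p ^ n.factorization p)
    (h2 : n / r ^ n.factorization r < r ^ n.factorization r) : p = r := by
  by_contra hne
  have key : ∀ {a b : ℕ}, a.Prime → b.Prime → a ≠ b →
      b ^ n.factorization b ≤ n / a ^ n.factorization a := by
    intro a b ha hb hab
    refine Nat.le_of_dvd (Nat.ordCompl_pos a hn) ?_
    refine Nat.Coprime.dvd_of_dvd_mul_left
      (((Nat.coprime_primes hb ha).2 (Ne.symm hab)).pow (n.factorization b) (n.factorization a)) ?_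
    rw [Nat.ordProj_mul_ordCompl_eq_self]
    exact Nat.ordProj_dvd n b
  have := key hp hr hne
  have := key hr hp (Ne.symm hne)
  omega

/-- One prime controls the nonlinear characters. -/
theorem exists_prime (hM : Mult G) (hab : ¬ IsMulCommutative G) :
    ∃ p : ℕ, p.Prime ∧ ∀ χ : IrrCharacter G, (χ : G → ℂ) 1 ≠ 1 → ∀ r : ℕ, r.Prime → r ≠ p →
      ∀ x : G, x ≠ 1 → ∀ a : ℕ, orderOf x = r ^ a → (χ : G → ℂ) x = 0 := by
  obtain ⟨χ₀, hχ₀⟩ := exists_nonlinear hab
  have h0 : ∃ p : ℕ, p.Prime ∧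
      Nat.card G / p ^ (Nat.card G).factorization p < p ^ (Nat.card G).factorization p := by
    by_cases hex : ∃ r : ℕ, r.Prime ∧ ∃ x : G, x ≠ 1 ∧ ∃ a, orderOf x = r ^ a ∧
        (χ₀ : G → ℂ) x ≠ 0
    · obtain ⟨p, hp, y, hy1, b, hyo, hy0⟩ := hex
      exact ⟨p, hp, ordCompl_lt hχ₀ p fun r hr hrp x hx a hxo =>
        (mul_eq_zero_of_mult hM hχ₀ hx hy1 hr hp hrp hxo hyo).resolve_right hy0⟩
    · push Not at hex
      exact ⟨2, Nat.prime_two, ordCompl_lt hχ₀ 2 fun r hr _ x hx a hxo => hex r hr x hx a hxo⟩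
  obtain ⟨p, hp, hlt⟩ := h0
  refine ⟨p, hp, fun χ hχ r hr hrp x hx a hxo => ?_⟩
  by_contra hne
  exact hrp (prime_unique Nat.card_pos.ne' hr hp (ordCompl_lt hχ r fun s hs hsr y hy b hyo =>
    (mul_eq_zero_of_mult hM hχ hy hx hs hr hsr hyo hxo).resolve_right hne) hlt)

/-- An element with small centralizer has a whole commutator coset as its class. -/
theorem exists_conj_of_card_centralizer {x : G}
    (hx : Nat.card (Subgroup.centralizer ({x} : Set G)) = (commutator G).index)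
    {d : G} (hd : d ∈ commutator G) : ∃ c : G, c * x * c⁻¹ = x * d := by
  classical
  haveI := Fintype.ofFinite G
  have hcard : Nat.card {y : G // IsConj x y} = Nat.card (commutator G) := by
    have h1 := card_isConj_mul_card_centralizer x
    have h2 := (commutator G).index_mul_card
    rw [hx] at h1
    exact Nat.eq_of_mul_eq_mul_right (Nat.pos_of_ne_zero Subgroup.index_ne_zero_of_finite)
      (h1.trans (h2.symm.trans (mul_comm _ _)))
  have hmem : ∀ y : {y : G // IsConj x y}, x⁻¹ * (y : G) ∈ commutator G := by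
    rintro ⟨y, hy⟩
    obtain ⟨c, rfl⟩ := isConj_iff.1 hy
    have h3 : ⁅x⁻¹, c⁆ ∈ commutator G :=
      Subgroup.commutator_mem_commutator (Subgroup.mem_top _) (Subgroup.mem_top _)
    rwa [commutatorElement_def, inv_inv, show x⁻¹ * c * x * c⁻¹ = x⁻¹ * (c * x * c⁻¹) by group]
      at h3
  let f : {y : G // IsConj x y} → commutator G := fun y => ⟨x⁻¹ * (y : G), hmem y⟩
  have hinj : Function.Injective f := fun a b h =>
    Subtype.ext (mul_left_cancel (congrArg Subtype.val h))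
  obtain ⟨⟨y, hy⟩, hyd⟩ := (hinj.bijective_of_nat_card_le hcard.ge).2 ⟨d, hd⟩
  obtain ⟨c, rfl⟩ := isConj_iff.1 hy
  exact ⟨c, inv_mul_eq_iff_eq_mul.1 (congrArg Subtype.val hyd)⟩

/-- The structural direction. -/
theorem structure_of_mult (hM : Mult G) (hab : ¬ IsMulCommutative G)
    (hnp : ∀ p : ℕ, p.Prime → ¬ IsPGroup p G) :
    ∃ (p : ℕ) (_ : Fact p.Prime) (P : Sylow p G) (A : Subgroup G), (P : Subgroup G).Normal ∧
      IsCyclic ↥A ∧ A ≠ ⊥ ∧ (Nat.card ↥A).Coprime p ∧ A ⊔ (P : Subgroup G) = ⊤ ∧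
      IsMulCommutative ↥((P : Subgroup G) ⊓ Subgroup.centralizer (A : Set G)) ∧
      (⁅A, (P : Subgroup G)⁆).Normal ∧
      ((P : Subgroup G) ⊓ Subgroup.centralizer (A : Set G)) ⊔ ⁅A, (P : Subgroup G)⁆ =
        (P : Subgroup G) ∧
      ((P : Subgroup G) ⊓ Subgroup.centralizer (A : Set G)) ⊓ ⁅A, (P : Subgroup G)⁆ = ⊥ ∧
      ∀ a ∈ A, a ≠ 1 → ∀ d ∈ ⁅A, (P : Subgroup G)⁆, a * d = d * a → d = 1 := by
  obtain ⟨p, hp, hv⟩ := exists_prime hM hab
  haveI hpF : Fact p.Prime := ⟨hp⟩
  -- the class of a nontrivial `p'`-element of prime power order is a coset of `G'`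
  have hC : ∀ x : G, (orderOf x).Prime → orderOf x ≠ p →
      Nat.card (Subgroup.centralizer ({x} : Set G)) = (commutator G).index := fun x hx hxp =>
    card_centralizer_of_vanish fun χ hχ => hv χ hχ _ hx hxp x
      (fun h => hx.ne_one (by rw [h, orderOf_one])) 1 (pow_one _).symm
  have hnot : ∀ x : G, (orderOf x).Prime → orderOf x ≠ p → x ∉ commutator G := by
    intro x hx hxp hmem
    obtain ⟨c, hc⟩ := exists_conj_of_card_centralizer (hC x hx hxp) (inv_mem hmem)
    rw [mul_inv_cancel] at hc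
    exact hx.ne_one (by rw [conj_eq_one_iff.1 hc, orderOf_one])
  have hG'p : IsPGroup p (commutator G) := by
    refine IsPGroup.of_card (n := (Nat.card (commutator G)).primeFactorsList.length) ?_
    refine Nat.eq_prime_pow_of_unique_prime_dvd Nat.card_pos.ne' fun {r} hr hrd => ?_
    by_contra hrp
    haveI := Fact.mk hr
    obtain ⟨x, hx⟩ := exists_prime_orderOf_dvd_card' r hrd
    rw [← Subgroup.orderOf_coe] at hx
    exact hnot x (hx ▸ hr) (hx ▸ hrp) x.2
  obtain ⟨P, hP⟩ := hG'p.exists_le_sylow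
  haveI hPn : (P : Subgroup G).Normal := ⟨fun n hn g => by
    have h3 : ⁅g, n⁆ ∈ commutator G :=
      Subgroup.commutator_mem_commutator (Subgroup.mem_top _) (Subgroup.mem_top _)
    have h4 := mul_mem (hP h3) hn
    rwa [commutatorElement_def, inv_mul_cancel_right] at h4⟩
  obtain ⟨A, hA⟩ := Subgroup.exists_right_complement'_of_coprime P.card_coprime_index
  have hAP : A ⊔ (P : Subgroup G) = ⊤ := by rw [sup_comm]; exact hA.sup_eq_top
  have hAco : (Nat.card A).Coprime p := by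
    rw [hA.symm.index_eq_card.symm]
    exact Nat.coprime_comm.1 (hp.coprime_iff_not_dvd.2 P.not_dvd_index)
  have hinf : ∀ x ∈ A, x ∈ (P : Subgroup G) → x = 1 := fun x hxA hxP =>
    Subgroup.disjoint_def.1 hA.disjoint hxP hxA
  haveI hAc : IsMulCommutative A := ⟨⟨fun x y => by
    have h3 : ⁅(x : G), (y : G)⁆ ∈ commutator G :=
      Subgroup.commutator_mem_commutator (Subgroup.mem_top _) (Subgroup.mem_top _)
    have h4 := hinf _ (mul_mem (mul_mem (mul_mem x.2 y.2) (inv_mem x.2)) (inv_mem y.2)) (hP h3)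
    exact Subtype.ext (commutatorElement_eq_one_iff_mul_comm.1 h4)⟩⟩
  have hAne : A ≠ ⊥ := by
    intro h
    rw [h, bot_sup_eq] at hAP
    refine hnp p hp ?_
    have h5 := P.2
    rw [show (P : Subgroup G) = ⊤ from hAP] at h5
    exact h5.of_equiv Subgroup.topEquiv
  -- prime powers of elements of `A`
  have hprime : ∀ a ∈ A, a ≠ 1 → ∃ b, b ∈ A ∧ (orderOf b).Prime ∧ orderOf b ≠ p ∧
      ∀ w : G, Commute a w → Commute b w := by
    intro a ha ha1
    have h1 : orderOf a ≠ 1 := fun h => ha1 (orderOf_eq_one_iff.1 h)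
    have hr := Nat.minFac_prime h1
    have hrd := Nat.minFac_dvd (orderOf a)
    have hb : orderOf (a ^ (orderOf a / (orderOf a).minFac)) = (orderOf a).minFac :=
      orderOf_pow_orderOf_div (orderOf_pos a).ne' hrd
    refine ⟨_, pow_mem ha _, hb ▸ hr, fun h => ?_, fun w hw => hw.pow_left _⟩
    rw [hb] at h
    exact (hp.coprime_iff_not_dvd.1 (Nat.coprime_comm.1 hAco))
      (h ▸ hrd.trans (Subgroup.orderOf_dvd_natCard A ha))
  have hCG' : ∀ b, (orderOf b).Prime → orderOf b ≠ p → ∀ d ∈ commutator G,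
      b * d = d * b → d = 1 := by
    intro b hb hbp d hd hcomm
    obtain ⟨c, hc⟩ := exists_conj_of_card_centralizer (hC b hb hbp) hd
    obtain ⟨k, hk⟩ := IsPGroup.iff_orderOf.1 hG'p ⟨d, hd⟩
    rw [Subgroup.orderOf_mk] at hk
    have h1 : orderOf (b * d) = orderOf b := by
      rw [← hc]; exact ((SemiconjBy.conj_mk c b).orderOf_eq).symm
    have h2 : (orderOf b).Coprime (orderOf d) := by
      rw [hk]
      exact ((Nat.coprime_primes hb hp).2 hbp).pow_right k
    rw [Commute.orderOf_mul_eq_mul_orderOf_of_coprime hcomm h2] at h1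
    exact orderOf_eq_one_iff.1 (by simpa [(orderOf_pos b).ne'] using h1)
  -- centralizers of elements of prime order of `A` are abelian
  have hCab : ∀ b, (orderOf b).Prime → orderOf b ≠ p → ∀ x y : G, Commute b x → Commute b y →
      Commute x y := by
    intro b hb hbp x y hx hy
    refine commutatorElement_eq_one_iff_mul_comm.1 (hCG' b hb hbp _
      (Subgroup.commutator_mem_commutator (Subgroup.mem_top _) (Subgroup.mem_top _)) ?_)
    exact ((((hx.mul_right hy).mul_right hx.inv_right).mul_right hy.inv_right)).eq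
  have hCA : ∀ a ∈ A, a ≠ 1 → ∀ w : G, Commute a w → w ∈ Subgroup.centralizer (A : Set G) := by
    intro a ha ha1 w hw
    obtain ⟨b, hbA, hb, hbp, hbw⟩ := hprime a ha ha1
    rw [Subgroup.mem_centralizer_iff]
    intro a' ha'
    refine (hCab b hb hbp a' w ?_ (hbw w hw)).eq
    exact congrArg Subtype.val (mul_comm' (⟨b, hbA⟩ : A) ⟨a', ha'⟩)
  obtain ⟨a₀, ha₀, ha₀1⟩ := A.bot_or_exists_ne_one.resolve_left hAne
  obtain ⟨b, hbA, hb, hbp, -⟩ := hprime a₀ ha₀ ha₀1
  have hb1 : b ≠ 1 := fun h => hb.ne_one (by rw [h, orderOf_one])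
  have hD : ⁅A, (P : Subgroup G)⁆ = commutator G := by
    refine le_antisymm (Subgroup.commutator_mono le_top le_top) fun d hd => ?_
    obtain ⟨c, hc⟩ := exists_conj_of_card_centralizer (hC b hb hbp) hd
    have hcm : c ∈ A ⊔ (P : Subgroup G) := hAP ▸ Subgroup.mem_top c
    rw [sup_comm] at hcm
    obtain ⟨u, hu, a, ha, rfl⟩ := Subgroup.mem_sup_of_normal_left.1 hcm
    have hab' : a * b = b * a := congrArg Subtype.val (mul_comm' (⟨a, ha⟩ : A) ⟨b, hbA⟩)
    have : d = ⁅b⁻¹, u⁆ := by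
      rw [commutatorElement_def, inv_inv]
      have h6 : d = b⁻¹ * (u * (a * b) * a⁻¹ * u⁻¹) := by
        rw [eq_inv_mul_iff_mul_eq, ← hc]
        group
      rw [h6, hab']
      group
    rw [this]
    exact Subgroup.commutator_mem_commutator (inv_mem hbA) hu
  have hG'ne : commutator G ≠ ⊥ := by
    intro h
    refine hab ⟨⟨fun x y => commutatorElement_eq_one_iff_mul_comm.1 ?_⟩⟩
    rw [← Subgroup.mem_bot, ← h]
    exact Subgroup.commutator_mem_commutator (Subgroup.mem_top _) (Subgroup.mem_top _)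
  have hfpf : ∀ a ∈ A, a ≠ 1 → ∀ d ∈ commutator G, a * d = d * a → d = 1 := by
    intro a ha ha1 d hd hc
    obtain ⟨b', -, hb', hb'p, hbw⟩ := hprime a ha ha1
    exact hCG' b' hb' hb'p d hd (hbw d hc).eq
  have hF : CfsgLib.Base.IsFPF A (commutator G) := by
    refine ⟨?_, fun a ha ha1 => ?_⟩
    · rw [Subgroup.normalizer_eq_top]; exact le_top
    · rw [Subgroup.eq_bot_iff_forall]
      intro d hd
      obtain ⟨hd1, hd2⟩ := Subgroup.mem_inf.1 hd
      exact hfpf a ha ha1 d hd1 (Subgroup.mem_centralizer_singleton_iff.1 hd2).symm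
  refine ⟨p, hpF, P, A, hPn, hF.isCyclic_of_comm hG'ne, hAne, hAco, hAP, ?_, ?_, ?_, ?_, ?_⟩
  · refine ⟨⟨fun x y => Subtype.ext ?_⟩⟩
    have hx : Commute b (x : G) :=
      Subgroup.mem_centralizer_iff.1 (Subgroup.mem_inf.1 x.2).2 b hbA
    have hy : Commute b (y : G) :=
      Subgroup.mem_centralizer_iff.1 (Subgroup.mem_inf.1 y.2).2 b hbA
    exact (hCab b hb hbp _ _ hx hy).eq
  · rw [hD]; infer_instance
  · rw [hD]
    refine le_antisymm (sup_le inf_le_left hP) fun u hu => ?_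
    have hub : b⁻¹ * (u * b * u⁻¹) ∈ commutator G := by
      have h3 : ⁅b⁻¹, u⁆ ∈ commutator G :=
        Subgroup.commutator_mem_commutator (Subgroup.mem_top _) (Subgroup.mem_top _)
      rwa [commutatorElement_def, inv_inv, show b⁻¹ * u * b * u⁻¹ = b⁻¹ * (u * b * u⁻¹) by group]
        at h3
    -- conjugation by `G'` gives all of the coset
    have hmem : ∀ g : commutator G, b⁻¹ * ((g : G) * b * (g : G)⁻¹) ∈ commutator G := fun g => by
      rw [show b⁻¹ * ((g : G) * b * (g : G)⁻¹) = (b⁻¹ * (g : G) * b⁻¹⁻¹) * (g : G)⁻¹ by group]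
      exact mul_mem ((inferInstance : (commutator G).Normal).conj_mem _ g.2 _) (inv_mem g.2)
    let f : commutator G → commutator G := fun g => ⟨_, hmem g⟩
    have hinj : Function.Injective f := by
      intro g h hgh
      have h1 : (g : G) * b * (g : G)⁻¹ = (h : G) * b * (h : G)⁻¹ :=
        mul_left_cancel (congrArg Subtype.val hgh)
      have h2 := hCG' b hb hbp _ (mul_mem (inv_mem h.2) g.2) (by
        calc b * ((h : G)⁻¹ * g) = (h : G)⁻¹ * ((h : G) * b * (h : G)⁻¹) * g := by group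
          _ = (h : G)⁻¹ * ((g : G) * b * (g : G)⁻¹) * g := by rw [h1]
          _ = (h : G)⁻¹ * g * b := by group)
      exact Subtype.ext (inv_mul_eq_one.1 h2).symm
    obtain ⟨g, hg⟩ := (Finite.injective_iff_surjective.1 hinj) ⟨_, hub⟩
    have h1 : (g : G) * b * (g : G)⁻¹ = u * b * u⁻¹ :=
      mul_left_cancel (congrArg Subtype.val hg)
    have h2 : Commute b ((g : G)⁻¹ * u) := by
      show b * ((g : G)⁻¹ * u) = (g : G)⁻¹ * u * b
      calc b * ((g : G)⁻¹ * u) = (g : G)⁻¹ * ((g : G) * b * (g : G)⁻¹) * u := by group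
        _ = (g : G)⁻¹ * (u * b * u⁻¹) * u := by rw [h1]
        _ = (g : G)⁻¹ * u * b := by group
    have h3 : (g : G)⁻¹ * u ∈ (P : Subgroup G) ⊓ Subgroup.centralizer (A : Set G) :=
      Subgroup.mem_inf.2 ⟨mul_mem (inv_mem (hP g.2)) hu, hCA b hbA hb1 _ h2⟩
    rw [show u = (g : G) * ((g : G)⁻¹ * u) by group]
    exact mul_mem (Subgroup.mem_sup_right g.2) (Subgroup.mem_sup_left h3)
  · rw [hD, Subgroup.eq_bot_iff_forall]
    intro d hd
    obtain ⟨hd1, hd2⟩ := Subgroup.mem_inf.1 hd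
    exact hCG' b hb hbp d hd2 (Subgroup.mem_centralizer_iff.1 (Subgroup.mem_inf.1 hd1).2 b hbA)
  · rw [hD]; exact hfpf

/-- The character direction for the split groups. -/
theorem mult_of_structure {p : ℕ} [hp : Fact p.Prime] (P : Sylow p G) (A : Subgroup G)
    (hPn : (P : Subgroup G).Normal) (hAc : IsMulCommutative A) (hAco : (Nat.card A).Coprime p)
    (hAP : A ⊔ (P : Subgroup G) = ⊤)
    (hCc : IsMulCommutative ↥((P : Subgroup G) ⊓ Subgroup.centralizer (A : Set G)))
    {D : Subgroup G} (hDn : D.Normal) (hDP : D ≤ P)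
    (hsup : ((P : Subgroup G) ⊓ Subgroup.centralizer (A : Set G)) ⊔ D = (P : Subgroup G))
    (hfpf : ∀ a ∈ A, a ≠ 1 → ∀ d ∈ D, a * d = d * a → d = 1) : Mult G := by
  have hdec : ∀ g : G, ∃ a ∈ A, ∃ c ∈ (P : Subgroup G) ⊓ Subgroup.centralizer (A : Set G),
      ∃ e ∈ D, g = a * c * e := by
    intro g
    obtain ⟨a, ha, u, hu, rfl⟩ :=
      Subgroup.mem_sup_of_normal_right.1 (hAP.symm ▸ Subgroup.mem_top g)
    obtain ⟨c, hc, e, he, rfl⟩ := Subgroup.mem_sup_of_normal_right.1 (hsup.symm ▸ hu)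
    exact ⟨a, ha, c, hc, e, he, (mul_assoc _ _ _).symm⟩
  -- `G / D` is abelian
  have hle : commutator G ≤ D := by
    rw [← Subgroup.Normal.quotient_commutative_iff_commutator_le (N := D)]
    refine ⟨⟨fun x y => ?_⟩⟩
    obtain ⟨g, rfl⟩ := QuotientGroup.mk'_surjective D x
    obtain ⟨h, rfl⟩ := QuotientGroup.mk'_surjective D y
    obtain ⟨a, ha, c, hc, e, he, rfl⟩ := hdec g
    obtain ⟨a', ha', c', hc', e', he', rfl⟩ := hdec h
    have he1 : QuotientGroup.mk' D e = 1 := (QuotientGroup.eq_one_iff e).2 he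
    have he2 : QuotientGroup.mk' D e' = 1 := (QuotientGroup.eq_one_iff e').2 he'
    simp only [map_mul, he1, he2, mul_one]
    simp only [← map_mul]
    congr 1
    have h1 : Commute a a' := congrArg Subtype.val (mul_comm' (⟨a, ha⟩ : A) ⟨a', ha'⟩)
    have h2 : Commute a c' := Subgroup.mem_centralizer_iff.1 (Subgroup.mem_inf.1 hc').2 a ha
    have h3 : Commute c a' :=
      (Subgroup.mem_centralizer_iff.1 (Subgroup.mem_inf.1 hc).2 a' ha').symm
    have h4 : Commute c c' := congrArg Subtype.val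
      (mul_comm' (⟨c, hc⟩ : ↥((P : Subgroup G) ⊓ Subgroup.centralizer (A : Set G))) ⟨c', hc'⟩)
    exact ((h1.mul_right h2).mul_left (h3.mul_right h4)).eq
  -- nonlinear characters vanish off `P`
  have hvan : ∀ g : G, g ∉ (P : Subgroup G) → ∀ χ : IrrCharacter G, (χ : G → ℂ) 1 ≠ 1 →
      (χ : G → ℂ) g = 0 := by
    intro g hg χ hχ
    obtain ⟨a, ha, c, hc, e, he, rfl⟩ := hdec g
    obtain ⟨hcP, hcA⟩ := Subgroup.mem_inf.1 hc
    have ha1 : a ≠ 1 := fun h => hg (by rw [h, one_mul]; exact mul_mem hcP (hDP he))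
    have hac : Commute a c := Subgroup.mem_centralizer_iff.1 hcA a ha
    obtain ⟨k, hk⟩ := P.2 ⟨c, hcP⟩
    have hk' : c ^ p ^ k = 1 := congrArg Subtype.val hk
    have hfix : ∀ d ∈ D, Commute (a * c) d → d = 1 := by
      intro d hd hcd
      have h1 := hcd.pow_left (p ^ k)
      rw [hac.mul_pow, hk', mul_one] at h1
      refine hfpf _ (pow_mem ha _) ?_ d hd h1.eq
      intro h2
      refine ha1 (orderOf_eq_one_iff.1 (Nat.eq_one_of_dvd_coprimes (hAco.pow_right k)
        (Subgroup.orderOf_dvd_natCard A ha) (orderOf_dvd_of_pow_eq_one h2)))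
    have hmem : ∀ d : D, (a * c)⁻¹ * (d : G)⁻¹ * (a * c) * d ∈ D := fun d => by
      refine mul_mem ?_ d.2
      simpa using hDn.conj_mem _ (inv_mem d.2) (a * c)⁻¹
    let f : D → D := fun d => ⟨_, hmem d⟩
    have hinj : Function.Injective f := by
      intro d d' h
      have h1 : (d : G)⁻¹ * (a * c) * d = (d' : G)⁻¹ * (a * c) * d' := by
        have h1' := congrArg Subtype.val h
        simp only [f, mul_assoc, mul_right_inj] at h1'
        simpa only [mul_assoc] using h1'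
      have h2 := hfix _ (mul_mem d'.2 (inv_mem d.2)) (by
        show a * c * ((d' : G) * (d : G)⁻¹) = (d' : G) * (d : G)⁻¹ * (a * c)
        calc a * c * ((d' : G) * (d : G)⁻¹)
            = (d' : G) * ((d' : G)⁻¹ * (a * c) * d') * (d : G)⁻¹ := by group
          _ = (d' : G) * ((d : G)⁻¹ * (a * c) * d) * (d : G)⁻¹ := by rw [h1]
          _ = (d' : G) * (d : G)⁻¹ * (a * c) := by group)
      exact Subtype.ext (mul_inv_eq_one.1 h2).symm
    obtain ⟨d₀, hd₀⟩ := (Finite.injective_iff_surjective.1 hinj) ⟨e, he⟩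
    have hg' : a * c * e = (d₀ : G)⁻¹ * (a * c) * d₀ := by
      rw [show e = (a * c)⁻¹ * (d₀ : G)⁻¹ * (a * c) * d₀ from (congrArg Subtype.val hd₀).symm]
      group
    refine vanish_of_card_centralizer_le ?_ χ hχ
    refine le_trans ?_ (Nat.le_of_dvd (Nat.pos_of_ne_zero Subgroup.index_ne_zero_of_finite)
      (Subgroup.index_dvd_of_le hle))
    rw [Subgroup.index_eq_card]
    refine Nat.card_le_card_of_injective
      (fun z : Subgroup.centralizer ({a * c * e} : Set G) => QuotientGroup.mk' D (z : G)) ?_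
    intro z w hzw
    have h1 : (z : G)⁻¹ * w ∈ D := QuotientGroup.eq.1 hzw
    have h2 : Commute (a * c * e) ((z : G)⁻¹ * w) :=
      ((Subgroup.mem_centralizer_singleton_iff.1
        (Subgroup.mul_mem _ (inv_mem z.2) w.2)) : _).symm
    replace h2 : Commute ((d₀ : G)⁻¹ * (a * c) * d₀) ((z : G)⁻¹ * w) := by
      have key : ∀ u : G, Commute (a * c * e) u → Commute ((d₀ : G)⁻¹ * (a * c) * d₀) u :=
        fun u hu => by rwa [← hg']
      exact key _ h2
    have h3 := hfix _ (hDn.conj_mem _ h1 (d₀ : G)) (by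
      show a * c * ((d₀ : G) * ((z : G)⁻¹ * w) * (d₀ : G)⁻¹) =
        (d₀ : G) * ((z : G)⁻¹ * w) * (d₀ : G)⁻¹ * (a * c)
      calc a * c * ((d₀ : G) * ((z : G)⁻¹ * w) * (d₀ : G)⁻¹)
          = (d₀ : G) * ((d₀ : G)⁻¹ * (a * c) * d₀ * ((z : G)⁻¹ * w)) * (d₀ : G)⁻¹ := by group
        _ = (d₀ : G) * (((z : G)⁻¹ * w) * ((d₀ : G)⁻¹ * (a * c) * d₀)) * (d₀ : G)⁻¹ := by
          rw [h2.eq]
        _ = (d₀ : G) * ((z : G)⁻¹ * w) * (d₀ : G)⁻¹ * (a * c) := by group)
    exact Subtype.ext (inv_mul_eq_one.1 (conj_eq_one_iff.1 h3))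
  intro x y χ hx hy
  rintro ⟨r, s, i, j, hr, hs, hrs, hxo, hyo⟩
  by_cases hχ : (χ : G → ℂ) 1 = 1
  · obtain ⟨lam, hlam⟩ := exists_hom_of_degree_one (isCharacter_of_irr χ.2) hχ
    rw [hlam]
    simp
  have hnP : ∀ {z : G} {q n : ℕ}, q.Prime → q ≠ p → z ≠ 1 → orderOf z = q ^ n →
      z ∉ (P : Subgroup G) := by
    intro z q n hq hqp hz hzo hzP
    obtain ⟨k, hk⟩ := IsPGroup.iff_orderOf.1 P.2 ⟨z, hzP⟩
    rw [Subgroup.orderOf_mk] at hk
    exact hz (orderOf_eq_one_iff.1 (Nat.eq_one_of_dvd_coprimes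
      (((Nat.coprime_primes hq hp.out).2 hqp).pow n k) (dvd_of_eq hzo) (dvd_of_eq hk)))
  have hxy : x * y ∉ (P : Subgroup G) := by
    intro h
    haveI := hPn
    have h1 : QuotientGroup.mk' (P : Subgroup G) x * QuotientGroup.mk' (P : Subgroup G) y = 1 := by
      rw [← map_mul]; exact (QuotientGroup.eq_one_iff _).2 h
    have hox := orderOf_map_dvd (QuotientGroup.mk' (P : Subgroup G)) x
    have hoy := orderOf_map_dvd (QuotientGroup.mk' (P : Subgroup G)) y
    have heq : orderOf (QuotientGroup.mk' (P : Subgroup G) x) =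
        orderOf (QuotientGroup.mk' (P : Subgroup G) y) := by
      rw [eq_inv_of_mul_eq_one_left h1, orderOf_inv]
    rw [hxo] at hox
    rw [hyo, ← heq] at hoy
    have h2 := Nat.eq_one_of_dvd_coprimes (((Nat.coprime_primes hr hs).2 hrs).pow i j) hox hoy
    have hxP : x ∈ (P : Subgroup G) := (QuotientGroup.eq_one_iff x).1 (orderOf_eq_one_iff.1 h2)
    have hyP : y ∈ (P : Subgroup G) := by
      have := mul_mem (inv_mem hxP) h
      simpa using this
    by_cases hrp : r = p
    · exact hnP hs (fun h => hrs (hrp.trans h.symm)) hy hyo hyP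
    · exact hnP hr hrp hx hxo hxP
  rw [hvan _ hxy χ hχ]
  by_cases hrp : r = p
  · rw [hvan _ (hnP hs (fun h => hrs (hrp.trans h.symm)) hy hyo) χ hχ, mul_zero]
  · rw [hvan _ (hnP hr hrp hx hxo) χ hχ, zero_mul]

end CfsgLib.PrimeMul
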