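import Cfsg.Agent.Lib.PGroups.UniqueOrderP
import Cfsg.Agent.Lib.CharsMore.TIAbelianBound
import Cfsg.Agent.Lib.CharsMore.ItoDegree
import Cfsg.Agent.Lib.CharApps.PrimeMulChars
import Cfsg.Agent.Lib.CharApps.Basic
import Cfsg.Agent.Lib.Chars.Quotient
import Cfsg.Agent.Lib.Base.Nilpotent

/-!
`p`-groups in which irreducible characters of equal degree are Galois conjugate.
-/

set_option linter.style.haveILetI false
set_option linter.unusedSectionVars false

open Cfsg CfsgLib CfsgLib.CharsMore
open scoped commutatorElement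

namespace CfsgLib.GaloisSame

universe u

/-- Nonlinear irreducible characters of equal degree are Galois conjugate. -/
def Cond (P : Type u) [Group P] : Prop :=
  ∀ χ ψ : IrrCharacter P, charDegree (χ : P → ℂ) ≠ 1 →
    charDegree (χ : P → ℂ) = charDegree (ψ : P → ℂ) →
      ∃ k : ℕ, Nat.Coprime k (Nat.card P) ∧ ∀ g : P, (ψ : P → ℂ) g = (χ : P → ℂ) (g ^ k)

variable {P : Type u} [Group P] [Finite P] {p : ℕ} [hp : Fact p.Prime]

theorem Cond.transfer (h : Cond P) {χ ψ : IrrCharacter P} (hd : charDegree (χ : P → ℂ) ≠ 1)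
    (he : charDegree (χ : P → ℂ) = charDegree (ψ : P → ℂ)) {n : P}
    (hn : (χ : P → ℂ) n = (χ : P → ℂ) 1) : (ψ : P → ℂ) n = (ψ : P → ℂ) 1 := by
  obtain ⟨k, -, hk⟩ := h χ ψ hd he
  obtain ⟨m, ρ, hρ, hρχ⟩ := id χ.2
  rw [hk, hk, one_pow]
  refine (Chars.ker_iff ρ hρχ _).2 ?_
  rw [map_pow, (Chars.ker_iff ρ hρχ n).1 hn, one_pow]

theorem Cond.quotient (h : Cond P) (N : Subgroup P) [N.Normal] : Cond (P ⧸ N) := by
  intro χ ψ hd he
  obtain ⟨k, hk, hk'⟩ := h ⟨_, Chars.isIrrCharacter_inflate N χ.2⟩
    ⟨_, Chars.isIrrCharacter_inflate N ψ.2⟩ hd he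
  refine ⟨k, hk.coprime_dvd_right N.card_quotient_dvd_card, fun x => ?_⟩
  obtain ⟨g, rfl⟩ := QuotientGroup.mk'_surjective N x
  exact hk' g

theorem commutatorElement_mem (a b : P) : ⁅a, b⁆ ∈ commutator P :=
  Subgroup.commutator_mem_commutator (Subgroup.mem_top _) (Subgroup.mem_top _)

/-- A nonlinear character does not kill the derived subgroup. -/
theorem exists_mem_commutator_ne {χ : IrrCharacter P} (hd : charDegree (χ : P → ℂ) ≠ 1) :
    ∃ c ∈ commutator P, (χ : P → ℂ) c ≠ (χ : P → ℂ) 1 := by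
  by_contra hne
  push Not at hne
  obtain ⟨σ, hσ, hσe⟩ := Chars.exists_deflate_irr (commutator P) χ.2 hne
  haveI : IsMulCommutative (P ⧸ commutator P) :=
    (Subgroup.Normal.quotient_commutative_iff_commutator_le (N := commutator P)).2 le_rfl
  refine hd ((CharApps.deg_eq_one_iff χ).1 ?_)
  rw [hσe]
  exact Chars.irr_abelian_degree (fun a b => mul_comm' a b) hσ

/-- A linear character detecting an element outside the derived subgroup. -/
theorem exists_linear {m : P} (hm : m ∉ commutator P) : ∃ μ : P →* ℂˣ, μ m ≠ 1 := by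
  obtain ⟨θ, hθ⟩ : ∃ θ : IrrCharacter (P ⧸ commutator P),
      (θ : P ⧸ commutator P → ℂ) (m : P ⧸ commutator P) ≠ (θ : P ⧸ commutator P → ℂ) 1 := by
    by_contra hne
    push Not at hne
    exact hm ((QuotientGroup.eq_one_iff m).1 (Chars.eq_one_of_forall_irr hne))
  haveI : IsMulCommutative (P ⧸ commutator P) :=
    (Subgroup.Normal.quotient_commutative_iff_commutator_le (N := commutator P)).2 le_rfl
  obtain ⟨l, hl⟩ := Chars.exists_hom_of_degree_one (Chars.isCharacter_of_irr θ.2)
    (Chars.irr_abelian_degree (fun a b => mul_comm' a b) θ.2)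
  refine ⟨l.comp (QuotientGroup.mk' _), fun h => hθ ?_⟩
  rw [hl]
  show (l (m : P ⧸ commutator P) : ℂ) = (l 1 : ℂ)
  rw [map_one]
  exact congrArg Units.val h

theorem exists_irr_deg_ne_one (h : ¬ IsMulCommutative P) :
    ∃ θ : IrrCharacter P, charDegree (θ : P → ℂ) ≠ 1 := by
  obtain ⟨θ, hθ⟩ := PrimeMul.exists_nonlinear h
  exact ⟨θ, fun h1 => hθ ((CharApps.deg_eq_one_iff θ).2 h1)⟩

theorem not_comm_quotient {N : Subgroup P} [N.Normal] (h : ¬ commutator P ≤ N) :
    ¬ IsMulCommutative (P ⧸ N) := fun hc =>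
  h ((Subgroup.Normal.quotient_commutative_iff_commutator_le (N := N)).1 hc)

theorem normal_zpowers_of_central {z : P} (hz : z ∈ Subgroup.center P) :
    (Subgroup.zpowers z).Normal := by
  refine ⟨fun n hn g => ?_⟩
  have hc : n ∈ Subgroup.center P := Subgroup.zpowers_le.2 hz hn
  rwa [Subgroup.mem_center_iff.1 hc g, mul_inv_cancel_right]

/-- A central element of order `p` lies in the derived subgroup. -/
theorem Cond.mem_commutator_of_central (h : Cond P) (hna : ¬ IsMulCommutative P) {m : P}
    (hm : m ∈ Subgroup.center P) (hmp : orderOf m = p) : m ∈ commutator P := by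
  by_contra hmc
  haveI := normal_zpowers_of_central hm
  have hle : ¬ commutator P ≤ Subgroup.zpowers m := by
    intro hle
    have h1 : Nat.card (Subgroup.zpowers m) = p := by rw [Nat.card_zpowers, hmp]
    rcases (Nat.dvd_prime hp.out).1 (h1 ▸ Subgroup.card_dvd_of_le hle) with h2 | h2
    · refine hna ⟨⟨fun a b => commutatorElement_eq_one_iff_mul_comm.1 ?_⟩⟩
      rw [← Subgroup.mem_bot, ← Subgroup.card_eq_one.1 h2]
      exact commutatorElement_mem a b
    · exact hmc (Subgroup.eq_of_le_of_card_ge hle (by rw [h1, h2]) ▸ Subgroup.mem_zpowers m)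
  obtain ⟨θ, hθ⟩ := exists_irr_deg_ne_one (not_comm_quotient hle)
  let χ : IrrCharacter P := ⟨_, Chars.isIrrCharacter_inflate (Subgroup.zpowers m) θ.2⟩
  have hχd : charDegree (χ : P → ℂ) ≠ 1 := hθ
  obtain ⟨μ, hμ⟩ := exists_linear hmc
  let ψ : IrrCharacter P := ⟨_, Chars.isIrrCharacter_linear_mul μ χ.2⟩
  have hχm : (χ : P → ℂ) m = (χ : P → ℂ) 1 := by
    show (θ : P ⧸ Subgroup.zpowers m → ℂ) (m : P ⧸ Subgroup.zpowers m) =
      (θ : P ⧸ Subgroup.zpowers m → ℂ) ((1 : P) : P ⧸ Subgroup.zpowers m)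
    rw [(QuotientGroup.eq_one_iff m).2 (Subgroup.mem_zpowers m)]
    rfl
  have hψd : charDegree (ψ : P → ℂ) = charDegree (χ : P → ℂ) := by
    have h1 : (ψ : P → ℂ) 1 = (χ : P → ℂ) 1 := by
      show (μ 1 : ℂ) * (χ : P → ℂ) 1 = _
      rw [map_one, Units.val_one, one_mul]
    rw [CharApps.deg_eq, CharApps.deg_eq] at h1
    exact_mod_cast h1
  have h2 := h.transfer hχd hψd.symm hχm
  have h3 : (μ m : ℂ) * (χ : P → ℂ) m = (μ 1 : ℂ) * (χ : P → ℂ) 1 := h2
  rw [hχm, map_one, Units.val_one] at h3
  exact hμ (Units.ext (mul_right_cancel₀ (Chars.irr_degree_ne_zero χ.2) h3))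

theorem mem_zpowers_of_dvd {G : Type*} [Group G] [Finite G] [IsCyclic G] {a b : G}
    (h : orderOf a ∣ orderOf b) : a ∈ Subgroup.zpowers b := by
  classical
  haveI := Fintype.ofFinite G
  set s := Finset.univ.filter (fun u : G => u ^ orderOf b = 1) with hs
  have hle : s.card ≤ orderOf b := IsCyclic.card_pow_eq_one_le (orderOf_pos b)
  have hsub : Finset.univ.filter (· ∈ Subgroup.zpowers b) ⊆ s := by
    intro u hu
    obtain ⟨i, rfl⟩ := Subgroup.mem_zpowers_iff.1 (Finset.mem_filter.1 hu).2
    simp only [hs, Finset.mem_filter, Finset.mem_univ, true_and]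
    rw [← zpow_natCast, ← zpow_mul, mul_comm, zpow_mul, zpow_natCast, pow_orderOf_eq_one, one_zpow]
  have heq := Finset.eq_of_subset_of_card_le hsub (hle.trans (le_of_eq (by
    rw [← Nat.card_zpowers, Nat.card_eq_fintype_card, Fintype.card_subtype])))
  have ha : a ∈ s := by
    simp [hs, orderOf_dvd_iff_pow_eq_one.1 h]
  rw [← heq] at ha
  exact (Finset.mem_filter.1 ha).2

theorem comparable_of_isPGroup {G : Type*} [Group G] [Finite G] [IsCyclic G] (hG : IsPGroup p G)
    (a b : G) : a ∈ Subgroup.zpowers b ∨ b ∈ Subgroup.zpowers a := by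
  obtain ⟨i, hi⟩ := IsPGroup.iff_orderOf.1 hG a
  obtain ⟨j, hj⟩ := IsPGroup.iff_orderOf.1 hG b
  rcases le_total i j with h | h
  · exact Or.inl (mem_zpowers_of_dvd (hi ▸ hj ▸ pow_dvd_pow p h))
  · exact Or.inr (mem_zpowers_of_dvd (hi ▸ hj ▸ pow_dvd_pow p h))

/-- In a `p`-group a derived subgroup of order `p` is central. -/
theorem commutator_le_center (hP : IsPGroup p P) (h : Nat.card (commutator P) = p) :
    commutator P ≤ Subgroup.center P := by
  haveI := hP.isNilpotent
  have hne : commutator P ≠ ⊥ := fun h0 => hp.out.ne_one (by rw [← h, h0, Subgroup.card_bot])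
  have h1 := Base.inf_center_ne_bot_of_isNilpotent hne
  have h2 : Nat.card (commutator P ⊓ Subgroup.center P : Subgroup P) = p :=
    ((Nat.dvd_prime hp.out).1 (h ▸ Subgroup.card_dvd_of_le inf_le_left)).resolve_left
      fun h3 => h1 (Subgroup.card_eq_one.1 h3)
  have h3 := Subgroup.eq_of_le_of_card_ge (inf_le_left : commutator P ⊓ Subgroup.center P ≤ _)
    (le_of_eq (by rw [h, h2]))
  exact h3 ▸ inf_le_right

/-- With derived subgroup of order `p` the nonlinear characters live on the centre. -/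
theorem nonlinear_of_card_commutator (hP : IsPGroup p P) (h : Nat.card (commutator P) = p)
    {χ : IrrCharacter P} (hd : charDegree (χ : P → ℂ) ≠ 1) :
    (∀ c ∈ commutator P, c ≠ 1 → (χ : P → ℂ) c ≠ (χ : P → ℂ) 1) ∧
      (∀ g : P, g ∉ Subgroup.center P → (χ : P → ℂ) g = 0) ∧
      charDegree (χ : P → ℂ) * charDegree (χ : P → ℂ) * Nat.card (Subgroup.center P) =
        Nat.card P := by
  classical
  haveI := Fintype.ofFinite P
  obtain ⟨m, ρ, hρ, hρχ⟩ := id χ.2
  have hc : ∀ c ∈ commutator P, c ≠ 1 → (χ : P → ℂ) c ≠ (χ : P → ℂ) 1 := by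
    intro c hc hc1 heq
    obtain ⟨d, hd1, hd2⟩ := exists_mem_commutator_ne hd
    refine hd2 ((Chars.ker_iff ρ hρχ d).2 ?_)
    have ho : orderOf c = p := by
      rcases (Nat.dvd_prime hp.out).1 (h ▸ Subgroup.orderOf_dvd_natCard _ hc) with h1 | h1
      · exact absurd (orderOf_eq_one_iff.1 h1) hc1
      · exact h1
    have h2 : Subgroup.zpowers c = commutator P :=
      Subgroup.eq_of_le_of_card_ge (Subgroup.zpowers_le.2 hc) (by rw [h, Nat.card_zpowers, ho])
    obtain ⟨i, rfl⟩ := Subgroup.mem_zpowers_iff.1 (h2.symm ▸ hd1 : d ∈ Subgroup.zpowers c)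
    have h3 : c ∈ ρ.ker := (Chars.ker_iff ρ hρχ c).1 heq
    exact (zpow_mem h3 i : _)
  have hvan : ∀ g : P, g ∉ Subgroup.center P → (χ : P → ℂ) g = 0 := by
    intro g hg
    obtain ⟨k, hk⟩ : ∃ k, ¬ k * g = g * k := by
      by_contra hne
      push Not at hne
      exact hg (Subgroup.mem_center_iff.2 hne)
    have hz1 : ⁅k, g⁆ ≠ 1 := fun h1 => hk (commutatorElement_eq_one_iff_mul_comm.1 h1)
    have h1 := (central_value χ.2 (commutator_le_center hP h (commutatorElement_mem k g))).1 g
    rw [show ⁅k, g⁆ * g = k * g * k⁻¹ by rw [commutatorElement_def]; group,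
      Chars.isClassFunction_irr χ g k] at h1
    have h2 : ((χ : P → ℂ) ⁅k, g⁆ / (χ : P → ℂ) 1 - 1) * (χ : P → ℂ) g = 0 := by
      linear_combination -h1
    refine (mul_eq_zero.1 h2).resolve_left fun h3 => hc _ (commutatorElement_mem k g) hz1 ?_
    rwa [sub_eq_zero, div_eq_one_iff_eq (Chars.irr_degree_ne_zero χ.2)] at h3
  refine ⟨hc, hvan, ?_⟩
  have h1 := Chars.inner_irr_self χ
  rw [Chars.inner_def, ← Finset.sum_subset (Finset.filter_subset (· ∈ Subgroup.center P) Finset.univ)
    (fun g _ hg => by rw [hvan g (fun h' => hg (Finset.mem_filter.2 ⟨Finset.mem_univ g, h'⟩)),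
      zero_mul])] at h1
  rw [Finset.sum_congr rfl (fun g hg => by
    rw [Complex.mul_conj', (central_value χ.2 (Finset.mem_filter.1 hg).2).2]),
    Finset.sum_const, ← Fintype.card_subtype, ← Nat.card_eq_fintype_card, nsmul_eq_mul,
    inv_mul_eq_one₀ (Chars.card_ne_zero P)] at h1
  have h2 : ((charDegree (χ : P → ℂ) * charDegree (χ : P → ℂ) *
      Nat.card (Subgroup.center P) : ℕ) : ℂ) = (Nat.card P : ℂ) := by
    rw [h1]; push_cast; ring
  exact_mod_cast h2

/-- The reverse direction. -/
theorem cond_of_structure (hP : IsPGroup p P) (hna : ¬ IsMulCommutative P)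
    (hcyc : IsCyclic (Subgroup.center P)) (h : Nat.card (commutator P) = p) : Cond P := by
  classical
  haveI := Fintype.ofFinite P
  intro χ ψ hdχ he
  have hdψ : charDegree (ψ : P → ℂ) ≠ 1 := he ▸ hdχ
  obtain ⟨z, hz⟩ := IsCyclic.exists_generator (α := Subgroup.center P)
  set n := Nat.card (Subgroup.center P) with hn
  have hzo : orderOf z = n := orderOf_eq_card_of_forall_mem_zpowers hz
  have key : ∀ φ : IrrCharacter P, charDegree (φ : P → ℂ) ≠ 1 →
      ∃ ω : ℂ, IsPrimitiveRoot ω n ∧ (∀ i : ℕ,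
        (φ : P → ℂ) ((z : P) ^ i) = (charDegree (φ : P → ℂ) : ℂ) * ω ^ i) := by
    intro φ hφ
    have h1 : (φ : P → ℂ) 1 ≠ 0 := Chars.irr_degree_ne_zero φ.2
    refine ⟨(φ : P → ℂ) z / (φ : P → ℂ) 1, ?_, fun i => ?_⟩
    swap
    · induction i with
      | zero => simp [CharApps.deg_eq]
      | succ i ih =>
        rw [pow_succ', (central_value φ.2 z.2).1, ih]
        ring
    have hpow : ∀ i : ℕ, ((φ : P → ℂ) z / (φ : P → ℂ) 1) ^ i * (φ : P → ℂ) 1 =
        (φ : P → ℂ) ((z : P) ^ i) := by
      intro i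
      induction i with
      | zero => simp
      | succ i ih =>
        rw [pow_succ' (z : P), (central_value φ.2 z.2).1, ← ih]
        ring
    refine ⟨mul_right_cancel₀ h1 ?_, fun l hl => ?_⟩
    · rw [hpow, one_mul, ← SubmonoidClass.coe_pow, ← hzo, pow_orderOf_eq_one, OneMemClass.coe_one]
    by_contra hnl
    have hl1 : (φ : P → ℂ) ((z : P) ^ l) = (φ : P → ℂ) 1 := by rw [← hpow, hl, one_mul]
    have hw : z ^ l ≠ 1 := fun h' => hnl (hzo ▸ orderOf_dvd_of_pow_eq_one h')
    -- the subgroup generated by `z ^ l` contains the derived subgroup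
    haveI : Nontrivial (commutator P) :=
      Finite.one_lt_card_iff_nontrivial.1 (h.symm ▸ hp.out.one_lt)
    obtain ⟨⟨c, hc⟩, hc1⟩ := exists_ne (1 : commutator P)
    have hc1' : c ≠ 1 := fun h' => hc1 (Subtype.ext h')
    refine (nonlinear_of_card_commutator hP h hφ).1 c hc hc1' ?_
    have hcp : c ^ p = 1 := by
      have := pow_card_eq_one' (G := commutator P) (x := ⟨c, hc⟩)
      rw [h] at this
      exact congrArg Subtype.val this
    have hmem : (⟨c, commutator_le_center hP h hc⟩ : Subgroup.center P) ∈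
        Subgroup.zpowers (z ^ l) := by
      refine mem_zpowers_of_dvd ((orderOf_dvd_of_pow_eq_one (n := p) (Subtype.ext hcp)).trans ?_)
      obtain ⟨j, hj⟩ := IsPGroup.iff_orderOf.1 (hP.to_subgroup _) (z ^ l)
      rw [hj]
      refine dvd_pow_self p ?_
      rintro rfl
      exact hw (orderOf_eq_one_iff.1 (by rw [hj, pow_zero]))
    obtain ⟨j, hj⟩ := Subgroup.mem_zpowers_iff.1 hmem
    obtain ⟨m, ρ, hρ, hρφ⟩ := id φ.2
    refine (Chars.ker_iff ρ hρφ c).2 ?_
    have h3 : ((z : P) ^ l) ∈ ρ.ker := (Chars.ker_iff ρ hρφ _).1 hl1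
    have h4 := zpow_mem h3 j
    rw [← SubmonoidClass.coe_pow, ← SubgroupClass.coe_zpow, hj] at h4
    exact h4
  obtain ⟨ω, hω, hχv⟩ := key χ hdχ
  obtain ⟨η, hη, hψv⟩ := key ψ hdψ
  haveI : NeZero n := ⟨Nat.card_pos.ne'⟩
  obtain ⟨k, -, hk, hkη⟩ := (IsPrimitiveRoot.isPrimitiveRoot_iff hω).1 hη
  obtain ⟨a, ha⟩ := hP.exists_card_eq
  have hpn : p ∣ n :=
    h ▸ Subgroup.card_dvd_of_le (commutator_le_center hP h)
  have hco : Nat.Coprime k (Nat.card P) := ha ▸ (hk.coprime_dvd_right hpn).pow_right a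
  refine ⟨k, hco, fun g => ?_⟩
  by_cases hg : g ∈ Subgroup.center P
  · obtain ⟨i, hi⟩ : ∃ i : ℕ, z ^ i = ⟨g, hg⟩ := mem_powers_iff_mem_zpowers.2 (hz ⟨g, hg⟩)
    have hi' : (z : P) ^ i = g := congrArg Subtype.val hi
    rw [← hi', ← pow_mul, hψv, hχv, he, ← hkη, ← pow_mul, mul_comm i k]
  · rw [(nonlinear_of_card_commutator hP h hdψ).2.1 g hg,
      (nonlinear_of_card_commutator hP h hdχ).2.1 _ fun hgk => hg ?_]
    obtain ⟨j, hj⟩ := exists_pow_eq_self_of_coprime (x := g)
      (hco.coprime_dvd_right (orderOf_dvd_natCard g))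
    rw [← hj]
    exact pow_mem hgk j

/-- Inside a cyclic image: two elements are comparable modulo the kernel. -/
theorem comparable_mod {N : Subgroup P} [N.Normal] (hP : IsPGroup p P)
    [IsCyclic (Subgroup.center (P ⧸ N))] {a b : P}
    (ha : QuotientGroup.mk' N a ∈ Subgroup.center (P ⧸ N))
    (hb : QuotientGroup.mk' N b ∈ Subgroup.center (P ⧸ N)) :
    (∃ i : ℤ, a * (b ^ i)⁻¹ ∈ N) ∨ ∃ i : ℤ, b * (a ^ i)⁻¹ ∈ N := by
  have key : ∀ {a b : P} (ha : QuotientGroup.mk' N a ∈ Subgroup.center (P ⧸ N))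
      (hb : QuotientGroup.mk' N b ∈ Subgroup.center (P ⧸ N)),
      (⟨_, ha⟩ : Subgroup.center (P ⧸ N)) ∈ Subgroup.zpowers ⟨_, hb⟩ →
        ∃ i : ℤ, a * (b ^ i)⁻¹ ∈ N := by
    intro a b ha hb hmem
    obtain ⟨i, hi⟩ := Subgroup.mem_zpowers_iff.1 hmem
    refine ⟨i, (QuotientGroup.eq_one_iff _).1 ?_⟩
    have h1 : (QuotientGroup.mk' N b) ^ i = QuotientGroup.mk' N a := congrArg Subtype.val hi
    show QuotientGroup.mk' N (a * (b ^ i)⁻¹) = 1
    rw [map_mul, map_inv, map_zpow, h1, mul_inv_cancel]
  rcases comparable_of_isPGroup ((hP.to_quotient N).to_subgroup (Subgroup.center (P ⧸ N)))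
    (⟨_, ha⟩ : Subgroup.center (P ⧸ N)) ⟨_, hb⟩ with h | h
  · exact Or.inl (key ha hb h)
  · exact Or.inr (key hb ha h)

theorem mk_mem_center_iff {N : Subgroup P} [N.Normal] {a : P} :
    QuotientGroup.mk' N a ∈ Subgroup.center (P ⧸ N) ↔ ∀ g : P, ⁅a, g⁆ ∈ N := by
  rw [Subgroup.mem_center_iff]
  refine ⟨fun h g => ?_, fun h x => ?_⟩
  · rw [← QuotientGroup.eq_one_iff]
    show QuotientGroup.mk' N ⁅a, g⁆ = 1
    rw [map_commutatorElement, commutatorElement_eq_one_iff_mul_comm, h]
  · obtain ⟨g, rfl⟩ := QuotientGroup.mk'_surjective N x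
    refine (commutatorElement_eq_one_iff_mul_comm.1 ?_).symm
    rw [← map_commutatorElement]
    exact (QuotientGroup.eq_one_iff _).2 (h g)

theorem conj_pow_of_central {x y c : P} (hc : c ∈ Subgroup.center P) (h : x * y * x⁻¹ = c * y)
    (i : ℕ) : x ^ i * y * (x ^ i)⁻¹ = c ^ i * y := by
  induction i with
  | zero => simp
  | succ i ih =>
    rw [pow_succ' x, mul_inv_rev, show x * x ^ i * y * ((x ^ i)⁻¹ * x⁻¹) =
      x * (x ^ i * y * (x ^ i)⁻¹) * x⁻¹ by group, ih]
    have h1 : x * c ^ i = c ^ i * x := Subgroup.mem_center_iff.1 (pow_mem hc i) x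
    rw [← mul_assoc, h1, mul_assoc, mul_assoc, ← mul_assoc x y, h, ← mul_assoc, pow_succ]

/-- The forward direction. -/
theorem structure_of_cond (hP : IsPGroup p P) (hna : ¬ IsMulCommutative P) (h : Cond P) :
    IsCyclic (Subgroup.center P) ∧ Nat.card (commutator P) = p := by
  classical
  induction hn : Nat.card P using Nat.strong_induction_on generalizing P with
  | _ n ih =>
  subst hn
  haveI := Fintype.ofFinite P
  haveI := hP.isNilpotent
  set C := commutator P with hC
  have hCne : C ≠ ⊥ := fun h0 => hna ⟨⟨fun a b => commutatorElement_eq_one_iff_mul_comm.1 (by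
    rw [← Subgroup.mem_bot, ← h0]; exact commutatorElement_mem a b)⟩⟩
  obtain ⟨w, hwC, hwZ, hwo⟩ : ∃ w, w ∈ C ∧ w ∈ Subgroup.center P ∧ orderOf w = p := by
    have h1 := Base.inf_center_ne_bot_of_isNilpotent hCne
    have hd : p ∣ Nat.card (C ⊓ Subgroup.center P : Subgroup P) := by
      obtain ⟨j, hj⟩ := (hP.to_subgroup (C ⊓ Subgroup.center P)).exists_card_eq
      cases j with
      | zero => exact absurd (Subgroup.card_eq_one.1 (by rw [hj, pow_zero])) h1
      | succ j => exact hj ▸ dvd_pow_self p j.succ_ne_zero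
    obtain ⟨⟨w, hw12⟩, hw⟩ := exists_prime_orderOf_dvd_card'
      (G := (C ⊓ Subgroup.center P : Subgroup P)) p hd
    exact ⟨w, (Subgroup.mem_inf.1 hw12).1, (Subgroup.mem_inf.1 hw12).2,
      by rwa [Subgroup.orderOf_mk] at hw⟩
  by_cases hcard : Nat.card C = p
  · refine ⟨?_, hcard⟩
    have h2 : Subgroup.zpowers w = C :=
      Subgroup.eq_of_le_of_card_ge (Subgroup.zpowers_le.2 hwC) (by rw [hcard, Nat.card_zpowers, hwo])
    refine PGroups.isCyclic_of_abelian_of_unique (p := p) (hP.to_subgroup _)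
      (z := (⟨w, hwZ⟩ : Subgroup.center P)) (fun y hy => ?_)
      (Subtype.ext (by rw [SubmonoidClass.coe_pow]; exact hwo ▸ pow_orderOf_eq_one w))
    by_cases hy1 : y = 1
    · exact hy1 ▸ one_mem _
    have hym := h.mem_commutator_of_central (p := p) hna y.2
      (by rw [Subgroup.orderOf_coe]; exact orderOf_eq_prime (p := p) hy hy1)
    obtain ⟨i, hi⟩ := Subgroup.mem_zpowers_iff.1 (h2.symm ▸ hym : (y : P) ∈ Subgroup.zpowers w)
    exact Subgroup.mem_zpowers_iff.2 ⟨i, Subtype.ext (by simpa using hi)⟩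
  exfalso
  -- the data of a quotient by a central subgroup of order `p`
  have hquot : ∀ m : P, m ∈ Subgroup.center P → orderOf m = p →
      ∀ [(Subgroup.zpowers m).Normal], IsCyclic (Subgroup.center (P ⧸ Subgroup.zpowers m)) ∧
        Nat.card (commutator (P ⧸ Subgroup.zpowers m)) = p ∧ Nat.card C = p * p ∧
        ¬ C ≤ Subgroup.zpowers m := by
    intro m hm hmo _
    have hmC := h.mem_commutator_of_central (p := p) hna hm hmo
    have hle : Subgroup.zpowers m ≤ C := Subgroup.zpowers_le.2 hmC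
    have hnot : ¬ C ≤ Subgroup.zpowers m := fun h' =>
      hcard (by rw [le_antisymm h' hle, Nat.card_zpowers, hmo])
    have h2 := Subgroup.card_eq_card_quotient_mul_card_subgroup (Subgroup.zpowers m)
    rw [Nat.card_zpowers, hmo] at h2
    have hlt : Nat.card (P ⧸ Subgroup.zpowers m) < Nat.card P := by
      rw [h2]; exact lt_mul_of_one_lt_right Nat.card_pos hp.out.one_lt
    obtain ⟨h3, h4⟩ := ih _ hlt (hP.to_quotient _) (not_comm_quotient hnot) (h.quotient _) rfl
    refine ⟨h3, h4, ?_, hnot⟩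
    have hmap : commutator (P ⧸ Subgroup.zpowers m) = C.map (QuotientGroup.mk' _) := by
      rw [hC, _root_.commutator_def, _root_.commutator_def, Subgroup.map_commutator,
        Subgroup.map_top_of_surjective _ (QuotientGroup.mk'_surjective _)]
    have hidx : (commutator (P ⧸ Subgroup.zpowers m)).index = C.index := by
      rw [hmap]
      exact Subgroup.index_map_eq _ (QuotientGroup.mk'_surjective _)
        (by rw [QuotientGroup.ker_mk']; exact hle)
    have h5 := (commutator (P ⧸ Subgroup.zpowers m)).index_mul_card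
    rw [hidx, h4] at h5
    have h6 := C.index_mul_card
    rw [h2, ← h5, mul_assoc] at h6
    exact mul_left_cancel₀ Subgroup.index_ne_zero_of_finite h6
  haveI hNn := normal_zpowers_of_central hwZ
  set N := Subgroup.zpowers w with hN
  obtain ⟨hcycN, hcardN, hcard2, hnotN⟩ := hquot w hwZ hwo
  haveI := hcycN
  have hCp : ∀ c ∈ C, c ^ p ∈ N := by
    intro c hc
    rw [← QuotientGroup.eq_one_iff]
    show QuotientGroup.mk' N (c ^ p) = 1
    have h1 : QuotientGroup.mk' N c ∈ commutator (P ⧸ N) := by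
      rw [_root_.commutator_def, ← Subgroup.map_top_of_surjective _ (QuotientGroup.mk'_surjective N),
        ← Subgroup.map_commutator]
      exact Subgroup.mem_map_of_mem _ hc
    have h2 := pow_card_eq_one' (G := commutator (P ⧸ N)) (x := ⟨_, h1⟩)
    rw [hcardN] at h2
    rw [map_pow]
    exact congrArg Subtype.val h2
  by_cases hcen : C ≤ Subgroup.center P
  · by_cases huniq : ∀ m : P, m ∈ Subgroup.center P → orderOf m = p → m ∈ N
    · -- a commutator of order `p²`
      obtain ⟨x, y, hxy⟩ : ∃ x y : P, ⁅x, y⁆ ^ p ≠ 1 := by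
        by_contra hne
        push Not at hne
        refine hnotN ?_
        rw [hC, _root_.commutator_def, Subgroup.commutator_le]
        intro a _ b _
        by_cases h1 : ⁅a, b⁆ = 1
        · rw [h1]; exact one_mem _
        exact huniq _ (hcen (commutatorElement_mem a b)) (orderOf_eq_prime (hne a b) h1)
      have hpz : ∀ u : P, QuotientGroup.mk' N (u ^ p) ∈ Subgroup.center (P ⧸ N) := by
        intro u
        refine mk_mem_center_iff.2 fun g => ?_
        have hcc : ⁅u, g⁆ ∈ Subgroup.center P := hcen (commutatorElement_mem u g)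
        have h1 := conj_pow_of_central hcc (x := u) (y := g)
          (by rw [commutatorElement_def]; group) p
        rw [commutatorElement_def, h1, mul_inv_cancel_right]
        exact hCp _ (commutatorElement_mem u g)
      have hcc : ⁅x, y⁆ ∈ Subgroup.center P := hcen (commutatorElement_mem x y)
      have hx' := conj_pow_of_central hcc (x := x) (y := y)
        (by rw [commutatorElement_def]; group) p
      apply hxy
      rcases comparable_mod hP (hpz x) (hpz y) with ⟨i, hi⟩ | ⟨i, hi⟩
      · have hc1 : Commute (x ^ p) y := by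
          have h1 : Commute (x ^ p * ((y ^ p) ^ i)⁻¹) y :=
            (Subgroup.mem_center_iff.1 (Subgroup.zpowers_le.2 hwZ hi) y).symm
          have h2 : Commute ((y ^ p) ^ i) y := ((Commute.refl y).pow_left p).zpow_left i
          have h3 := h1.mul_left h2
          rwa [inv_mul_cancel_right] at h3
        rw [hc1.eq, mul_inv_cancel_right, eq_comm, mul_eq_right] at hx'
        exact hx'
      · have hc1 : Commute (y ^ p) x := by
          have h1 : Commute (y ^ p * ((x ^ p) ^ i)⁻¹) x :=
            (Subgroup.mem_center_iff.1 (Subgroup.zpowers_le.2 hwZ hi) x).symm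
          have h2 : Commute ((x ^ p) ^ i) x := ((Commute.refl x).pow_left p).zpow_left i
          have h3 := h1.mul_left h2
          rwa [inv_mul_cancel_right] at h3
        have hy' := conj_pow_of_central (inv_mem hcc) (x := y) (y := x)
          (by rw [commutatorElement_inv, commutatorElement_def]; group) p
        rw [hc1.eq, mul_inv_cancel_right, eq_comm] at hy'
        rw [inv_pow] at hy'
        simpa using hy'
    · -- two central subgroups of order `p`
      push Not at huniq
      obtain ⟨m, hmZ, hmo, hmN⟩ := huniq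
      haveI := normal_zpowers_of_central hmZ
      set M := Subgroup.zpowers m with hM
      have hinf : N ⊓ M = ⊥ := by
        rw [← Subgroup.card_eq_one]
        have h1 : Nat.card M = p := by rw [hM, Nat.card_zpowers, hmo]
        refine ((Nat.dvd_prime hp.out).1 (h1 ▸ Subgroup.card_dvd_of_le
          (inf_le_right : N ⊓ M ≤ M))).resolve_right fun h2 => hmN ?_
        have h3 := Subgroup.eq_of_le_of_card_ge (inf_le_right : N ⊓ M ≤ M) (by rw [h1, h2])
        exact (Subgroup.mem_inf.1 (h3.symm ▸ Subgroup.mem_zpowers m : m ∈ N ⊓ M)).1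
      -- the derived subgroup has exponent `p` and is the centre
      have hCexp : ∀ c ∈ C, c ^ p = 1 := by
        intro c hc
        obtain ⟨-, hcardM, -, -⟩ := hquot m hmZ hmo
        have h1 : c ^ p ∈ M := by
          rw [← QuotientGroup.eq_one_iff]
          show QuotientGroup.mk' M (c ^ p) = 1
          have h1 : QuotientGroup.mk' M c ∈ commutator (P ⧸ M) := by
            rw [_root_.commutator_def,
              ← Subgroup.map_top_of_surjective _ (QuotientGroup.mk'_surjective M),
              ← Subgroup.map_commutator]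
            exact Subgroup.mem_map_of_mem _ hc
          have h2 := pow_card_eq_one' (G := commutator (P ⧸ M)) (x := ⟨_, h1⟩)
          rw [hcardM] at h2
          rw [map_pow]
          exact congrArg Subtype.val h2
        exact Subgroup.mem_bot.1 (hinf ▸ Subgroup.mem_inf.2 ⟨hCp c hc, h1⟩)
      have hZC : Subgroup.center P ≤ C := by
        intro z hz
        by_contra hzC
        obtain ⟨a, ha⟩ := IsPGroup.iff_orderOf.1 hP z
        -- the first power outside `C` with `p`-th power inside
        obtain ⟨u, hu, huC, hup⟩ : ∃ u, u ∈ Subgroup.center P ∧ u ∉ C ∧ u ^ p ∈ C := by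
          by_contra hne
          push Not at hne
          have h1 : ∀ i, z ^ p ^ i ∉ C := fun i => by
            induction i with
            | zero => simpa using hzC
            | succ i ihi => rw [pow_succ, pow_mul]; exact hne _ (pow_mem hz _) ihi
          exact h1 a (by rw [← ha, pow_orderOf_eq_one]; exact one_mem _)
        by_cases hu1 : u ^ p = 1
        · exact huC (h.mem_commutator_of_central (p := p) hna hu
            (orderOf_eq_prime hu1 fun h' => huC (h' ▸ one_mem _)))
        have hv : orderOf (u ^ p) = p := orderOf_eq_prime (hCexp _ hup) hu1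
        haveI := normal_zpowers_of_central (pow_mem hu p)
        obtain ⟨hcy, hcd, -, hnot'⟩ := hquot _ (pow_mem hu p) hv
        haveI := hcy
        obtain ⟨c, hc, hc'⟩ := SetLike.not_le_iff_exists.1 hnot'
        set V := Subgroup.zpowers (u ^ p)
        have h1 : QuotientGroup.mk' V u ∈ Subgroup.center (P ⧸ V) :=
          mk_mem_center_iff.2 fun g => by
            rw [commutatorElement_eq_one_iff_mul_comm.2 (Subgroup.mem_center_iff.1 hu g).symm]
            exact one_mem _
        have h2 : QuotientGroup.mk' V c ∈ Subgroup.center (P ⧸ V) :=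
          mk_mem_center_iff.2 fun g => by
            rw [commutatorElement_eq_one_iff_mul_comm.2 (Subgroup.mem_center_iff.1 (hcen hc) g).symm]
            exact one_mem _
        have h3 : (⟨_, h1⟩ : Subgroup.center (P ⧸ V)) ∈
            Subgroup.zpowers (⟨_, h2⟩ : Subgroup.center (P ⧸ V)) := by
          refine mem_zpowers_of_dvd ?_
          have e1 : orderOf (⟨_, h2⟩ : Subgroup.center (P ⧸ V)) = p := by
            rw [Subgroup.orderOf_mk]
            refine orderOf_eq_prime ?_ fun h' => hc' ((QuotientGroup.eq_one_iff c).1 h')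
            rw [← map_pow, hCexp c hc, map_one]
          rw [e1, Subgroup.orderOf_mk]
          refine orderOf_dvd_of_pow_eq_one ?_
          rw [← map_pow]
          exact (QuotientGroup.eq_one_iff _).2 (Subgroup.mem_zpowers _)
        obtain ⟨i, hi⟩ := Subgroup.mem_zpowers_iff.1 h3
        have h4 : QuotientGroup.mk' V (c ^ i) = QuotientGroup.mk' V u := by
          rw [map_zpow]; exact congrArg Subtype.val hi
        have h5 : (c ^ i)⁻¹ * u ∈ V := QuotientGroup.eq.1 h4
        have h6 := mul_mem (zpow_mem hc i) ((Subgroup.zpowers_le.2 hup) h5)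
        exact huC (by simpa using h6)
      -- degrees in the two quotients coincide
      have hdeg : ∀ v : P, v ∈ Subgroup.center P → orderOf v = p →
          ∀ [(Subgroup.zpowers v).Normal] (θ : IrrCharacter (P ⧸ Subgroup.zpowers v)),
            charDegree (θ : P ⧸ Subgroup.zpowers v → ℂ) ≠ 1 → ∃ i e : ℕ, (e = 1 ∨ e = 2) ∧
              charDegree (θ : P ⧸ Subgroup.zpowers v → ℂ) = p ^ i ∧
              p ^ (2 * i + e + 1) = Nat.card P := by
        intro v hv hvo _ θ hθ
        obtain ⟨hcy, hcd, -, hnot'⟩ := hquot v hv hvo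
        haveI := hcy
        set V := Subgroup.zpowers v
        have h1 := (nonlinear_of_card_commutator (hP.to_quotient V) hcd hθ).2.2
        obtain ⟨d, -, hd, hdd⟩ := Chars.irr_degree_dvd_card θ.2
        obtain ⟨j, hj⟩ := (hP.to_quotient V).exists_card_eq
        obtain ⟨i, -, rfl⟩ := (Nat.dvd_prime_pow hp.out).1 (hj ▸ hdd)
        have hd' : charDegree (θ : P ⧸ V → ℂ) = p ^ i := by
          rw [CharApps.deg_eq] at hd; exact_mod_cast hd
        obtain ⟨g, hg⟩ := IsCyclic.exists_generator (α := Subgroup.center (P ⧸ V))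
        have hgo : orderOf g = Nat.card (Subgroup.center (P ⧸ V)) :=
          orderOf_eq_card_of_forall_mem_zpowers hg
        have hsq : g ^ (p ^ 2) = 1 := by
          obtain ⟨u, hu⟩ := QuotientGroup.mk'_surjective V (g : P ⧸ V)
          refine Subtype.ext ?_
          rw [SubmonoidClass.coe_pow, ← hu, ← map_pow, OneMemClass.coe_one]
          refine (QuotientGroup.eq_one_iff _).2 ?_
          have hupc : u ^ p ∈ C := hZC (Subgroup.mem_center_iff.2 fun y => by
            have hcc : ⁅u, y⁆ ∈ Subgroup.center P := hcen (commutatorElement_mem u y)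
            have h1 := conj_pow_of_central hcc (x := u) (y := y)
              (by rw [commutatorElement_def]; group) p
            rw [hCexp _ (commutatorElement_mem u y), one_mul, mul_inv_eq_iff_eq_mul] at h1
            exact h1.symm)
          rw [pow_two, pow_mul, hCexp _ hupc]
          exact one_mem _
        obtain ⟨e, he, he'⟩ := (Nat.dvd_prime_pow hp.out).1 (orderOf_dvd_of_pow_eq_one hsq)
        have hne : Nat.card (Subgroup.center (P ⧸ V)) ≠ 1 := fun h0 => by
          have := Subgroup.card_dvd_of_le (commutator_le_center (hP.to_quotient V) hcd)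
          rw [h0, hcd, Nat.dvd_one] at this
          exact hp.out.ne_one this
        have he0 : e ≠ 0 := fun h0 => hne (by rw [← hgo, he', h0, pow_zero])
        refine ⟨i, e, by omega, hd', ?_⟩
        have h2 := Subgroup.card_eq_card_quotient_mul_card_subgroup V
        rw [Nat.card_zpowers, hvo, ← h1, hd', ← hgo, he'] at h2
        rw [h2]
        ring
      obtain ⟨-, -, -, hnotM⟩ := hquot m hmZ hmo
      obtain ⟨θ₁, hθ₁⟩ := exists_irr_deg_ne_one (not_comm_quotient hnotN)
      obtain ⟨θ₂, hθ₂⟩ := exists_irr_deg_ne_one (not_comm_quotient hnotM)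
      obtain ⟨i₁, e₁, he₁, hi₁, hc₁⟩ := hdeg w hwZ hwo θ₁ hθ₁
      obtain ⟨i₂, e₂, he₂, hi₂, hc₂⟩ := hdeg m hmZ hmo θ₂ hθ₂
      have h3 := Nat.pow_right_injective hp.out.two_le (hc₁.trans hc₂.symm)
      have hii : i₁ = i₂ := by omega
      let χ₁ : IrrCharacter P := ⟨_, Chars.isIrrCharacter_inflate N θ₁.2⟩
      let χ₂ : IrrCharacter P := ⟨_, Chars.isIrrCharacter_inflate M θ₂.2⟩
      have heq : charDegree (χ₂ : P → ℂ) = charDegree (χ₁ : P → ℂ) := by
        show charDegree (θ₂ : P ⧸ M → ℂ) = charDegree (θ₁ : P ⧸ N → ℂ)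
        rw [hi₁, hi₂, hii]
      have hm2 : (χ₂ : P → ℂ) m = (χ₂ : P → ℂ) 1 := by
        show (θ₂ : P ⧸ M → ℂ) (m : P ⧸ M) = (θ₂ : P ⧸ M → ℂ) ((1 : P) : P ⧸ M)
        rw [(QuotientGroup.eq_one_iff m).2 (Subgroup.mem_zpowers m)]
        rfl
      have hm1 := h.transfer (χ := χ₂) (ψ := χ₁) hθ₂ heq hm2
      refine (nonlinear_of_card_commutator (hP.to_quotient N) hcardN hθ₁).1
        (QuotientGroup.mk' N m) ?_ (fun h0 => hmN ((QuotientGroup.eq_one_iff m).1 h0)) hm1
      rw [_root_.commutator_def, ← Subgroup.map_top_of_surjective _ (QuotientGroup.mk'_surjective N),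
        ← Subgroup.map_commutator]
      exact Subgroup.mem_map_of_mem _ (h.mem_commutator_of_central (p := p) hna hmZ hmo)
  · -- class three: the centralizer of the derived subgroup is abelian of index `p`
    obtain ⟨c, hc, hcZ⟩ := SetLike.not_le_iff_exists.1 hcen
    have hcN : c ∉ N := fun h' => hcZ (Subgroup.zpowers_le.2 hwZ h')
    have hNC : N ≤ C := Subgroup.zpowers_le.2 hwC
    have hcomC : ∀ a ∈ C, ∀ b ∈ C, a * b = b * a := fun a ha b hb =>
      congrArg Subtype.val (IsPGroup.commutative_of_card_eq_prime_sq (G := C)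
        (by rw [hcard2, pow_two]) ⟨a, ha⟩ ⟨b, hb⟩)
    have hgen : C = N ⊔ Subgroup.zpowers c := by
      refine (Subgroup.eq_of_le_of_card_ge (sup_le hNC (Subgroup.zpowers_le.2 hc)) ?_).symm
      rw [hcard2]
      set J := N ⊔ Subgroup.zpowers c
      have hlt : N < J := lt_of_le_of_ne le_sup_left fun h' =>
        hcN (h'.symm ▸ Subgroup.mem_sup_right (Subgroup.mem_zpowers c))
      have h1 : Nat.card J ∣ p * p := hcard2 ▸ Subgroup.card_dvd_of_le
        (sup_le hNC (Subgroup.zpowers_le.2 hc))
      have h2 : Nat.card N = p := by rw [hN, Nat.card_zpowers, hwo]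
      obtain ⟨j, hj, hj'⟩ := (Nat.dvd_prime_pow hp.out).1
        (show Nat.card J ∣ p ^ 2 by rwa [pow_two])
      rcases Nat.lt_or_ge j 2 with hj2 | hj2
      · exfalso
        refine hlt.ne (Subgroup.eq_of_le_of_card_ge hlt.le ?_)
        rw [hj', h2]
        calc p ^ j ≤ p ^ 1 := Nat.pow_le_pow_right hp.out.pos (by omega)
          _ = p := pow_one p
      · rw [hj', show j = 2 by omega, pow_two]
    set K := Subgroup.centralizer (C : Set P) with hK
    haveI : K.Normal := inferInstance
    have hKc : ∀ g : P, g * c = c * g → g ∈ K := by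
      intro g hg
      refine Subgroup.mem_centralizer_iff.2 fun a ha => ?_
      rw [hgen] at ha
      obtain ⟨u, hu, v, hv, rfl⟩ := Subgroup.mem_sup_of_normal_left.1 ha
      obtain ⟨i, rfl⟩ := Subgroup.mem_zpowers_iff.1 hv
      have h1 : Commute u g := (Subgroup.mem_center_iff.1 (Subgroup.zpowers_le.2 hwZ hu) g).symm
      have h2 : Commute (c ^ i) g := ((show Commute c g from hg.symm)).zpow_left i
      exact (h1.mul_left h2).eq
    have hmemN : ∀ a ∈ C, a ∈ Subgroup.center P → a ∈ N := by
      intro a ha haZ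
      rw [hgen] at ha
      obtain ⟨u, hu, v, hv, rfl⟩ := Subgroup.mem_sup_of_normal_left.1 ha
      obtain ⟨i, rfl⟩ := Subgroup.mem_zpowers_iff.1 hv
      have hci : c ^ i ∈ Subgroup.center P := by
        have := mul_mem (inv_mem (Subgroup.zpowers_le.2 hwZ hu)) haZ
        simpa using this
      by_cases hpi : (p : ℤ) ∣ i
      · obtain ⟨t, rfl⟩ := hpi
        refine mul_mem hu ?_
        rw [zpow_mul, zpow_natCast]
        exact zpow_mem (hCp c hc) t
      · exfalso
        have hco : IsCoprime (p : ℤ) i := (Nat.prime_iff_prime_int.1 hp.out).coprime_iff_not_dvd.2 hpi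
        obtain ⟨s, t, hst⟩ := hco
        refine hcZ ?_
        have e : c = (c ^ p) ^ s * (c ^ i) ^ t := by
          rw [← zpow_natCast, ← zpow_mul, ← zpow_mul, ← zpow_add, mul_comm (p : ℤ), mul_comm i t,
            hst, zpow_one]
        rw [e]
        exact mul_mem (zpow_mem (Subgroup.zpowers_le.2 hwZ (hCp c hc)) s) (zpow_mem hci t)
    -- the centre modulo `N` is `C`
    have hcenN : ∀ g : P, QuotientGroup.mk' N g ∈ Subgroup.center (P ⧸ N) → g ∈ C := by
      intro g hg
      have hgc : QuotientGroup.mk' N c ∈ Subgroup.center (P ⧸ N) :=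
        commutator_le_center (hP.to_quotient N) hcardN (by
          rw [_root_.commutator_def,
            ← Subgroup.map_top_of_surjective _ (QuotientGroup.mk'_surjective N),
            ← Subgroup.map_commutator]
          exact Subgroup.mem_map_of_mem _ hc)
      rcases comparable_mod hP hg hgc with ⟨i, hi⟩ | ⟨i, hi⟩
      · have := mul_mem (hNC hi) (zpow_mem hc i)
        simpa using this
      by_contra hgC
      -- `c` is a `p`-th power modulo `N`
      by_cases hpi : (p : ℤ) ∣ i
      · obtain ⟨t, rfl⟩ := hpi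
        refine hcZ (Subgroup.mem_center_iff.2 fun y => ?_)
        have hgy : ⁅g, y⁆ ∈ N := mk_mem_center_iff.1 hg y
        have h1 := conj_pow_of_central (Subgroup.zpowers_le.2 hwZ hgy) (x := g) (y := y)
          (by rw [commutatorElement_def]; group) p
        have hNp : ∀ a ∈ N, a ^ p = 1 := fun a ha => by
          have h2 := pow_card_eq_one' (G := N) (x := ⟨a, ha⟩)
          rw [show Nat.card N = p by rw [hN, Nat.card_zpowers, hwo]] at h2
          exact congrArg Subtype.val h2
        rw [hNp _ hgy, one_mul, mul_inv_eq_iff_eq_mul] at h1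
        have h2 : Commute ((g ^ p) ^ t) y := (show Commute (g ^ p) y from h1).zpow_left t
        have h3 : Commute (c * (g ^ ((p : ℤ) * t))⁻¹) y :=
          (Subgroup.mem_center_iff.1 (Subgroup.zpowers_le.2 hwZ hi) y).symm
        rw [zpow_mul, zpow_natCast] at h3
        have h4 := h3.mul_left h2
        rw [inv_mul_cancel_right] at h4
        exact h4.eq.symm
      · have hco : IsCoprime (p : ℤ) i :=
          (Nat.prime_iff_prime_int.1 hp.out).coprime_iff_not_dvd.2 hpi
        obtain ⟨s, t, hst⟩ := hco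
        -- then `g` lies in `⟨c⟩ N ⟨g ^ p⟩`, so in `C`
        obtain ⟨a, ha⟩ := IsPGroup.iff_orderOf.1 hP g
        have hgi : g ^ i ∈ C := by
          have := mul_mem (hNC (inv_mem hi)) hc
          simpa [mul_assoc] using this
        have hco2 : IsCoprime ((orderOf g : ℕ) : ℤ) i := by
          rw [ha, Nat.cast_pow]
          exact (show IsCoprime (p : ℤ) i from ⟨s, t, hst⟩).pow_left
        obtain ⟨s', t', hst'⟩ := hco2
        refine hgC ?_
        have e : g = (g ^ i) ^ t' := by
          rw [← zpow_mul, mul_comm]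
          conv_lhs => rw [← zpow_one g, ← hst', zpow_add, mul_comm s', zpow_mul, zpow_natCast,
            pow_orderOf_eq_one, one_zpow, one_mul]
        rw [e]
        exact zpow_mem hgi t'
    obtain ⟨x, hx⟩ : ∃ x : P, x ∉ K := by
      by_contra hne
      push Not at hne
      exact hcZ (Subgroup.mem_center_iff.2 fun y =>
        (Subgroup.mem_centralizer_iff.1 (hne y) c hc).symm)
    -- conjugates of `c`
    have hclass : ∀ g : P, g * c * g⁻¹ * c⁻¹ ∈ N := fun g => by
      have h1 : QuotientGroup.mk' N c ∈ Subgroup.center (P ⧸ N) :=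
        commutator_le_center (hP.to_quotient N) hcardN (by
          rw [_root_.commutator_def,
            ← Subgroup.map_top_of_surjective _ (QuotientGroup.mk'_surjective N),
            ← Subgroup.map_commutator]
          exact Subgroup.mem_map_of_mem _ hc)
      have h2 := inv_mem (mk_mem_center_iff.1 h1 g)
      rwa [commutatorElement_inv, commutatorElement_def] at h2
    have hKidx : K.index = p := by
      have hKcen : K = Subgroup.centralizer ({c} : Set P) := le_antisymm
        (Subgroup.centralizer_le (Set.singleton_subset_iff.2 hc))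
        fun g hg => hKc g (Subgroup.mem_centralizer_singleton_iff.1 hg)
      rw [hKcen, Chars.index_centralizer_eq]
      have h2 : Nat.card {y : P // IsConj c y} ≤ p := by
        refine le_trans (Nat.card_le_card_of_injective (β := N) (fun y => ⟨(y : P) * c⁻¹, ?_⟩)
          fun a b hab => Subtype.ext (mul_right_cancel (congrArg Subtype.val hab))) ?_
        · obtain ⟨g, hg⟩ := isConj_iff.1 y.2
          rw [← hg]
          exact hclass g
        · rw [hN, Nat.card_zpowers, hwo]
      rw [← Chars.index_centralizer_eq] at h2 ⊢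
      obtain ⟨a, ha⟩ := hP.exists_card_eq
      obtain ⟨j, -, hj⟩ := (Nat.dvd_prime_pow hp.out).1
        (ha ▸ (Subgroup.centralizer ({c} : Set P)).index_dvd_card)
      rw [hj] at h2 ⊢
      rcases j with _ | _ | j
      · exfalso
        refine hx ?_
        rw [hKcen, Subgroup.index_eq_one.1 (hj.trans (pow_zero p))]
        trivial
      · rw [pow_one]
      · exfalso
        have : p * p ≤ p ^ (j + 2) := by
          rw [← pow_two]; exact Nat.pow_le_pow_right hp.out.pos (by omega)
        have := hp.out.two_le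
        nlinarith
    -- commutators inside `K` lie in `N`
    have hKK : ∀ a ∈ K, ∀ b ∈ K, ⁅a, b⁆ ∈ N := by
      intro a ha b hb
      refine hmemN _ (commutatorElement_mem a b) (Subgroup.mem_center_iff.2 fun g => ?_)
      have hkey : ∀ a ∈ K, ∀ b ∈ K, ∀ u ∈ C, ⁅u * a, b⁆ = ⁅a, b⁆ ∧ ⁅a, u * b⁆ = ⁅a, b⁆ := by
        intro a ha b hb u hu
        have hua : Commute u a := (Subgroup.mem_centralizer_iff.1 ha u hu)
        have hub : Commute u b := (Subgroup.mem_centralizer_iff.1 hb u hu)
        have hucc : Commute u ⁅a, b⁆ := hcomC u hu _ (commutatorElement_mem a b)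
        constructor
        · calc ⁅u * a, b⁆ = u * ⁅a, b⁆ * (b * u⁻¹ * b⁻¹) := by
                simp only [commutatorElement_def]; group
            _ = u * ⁅a, b⁆ * u⁻¹ := by rw [← hub.inv_left.eq, mul_inv_cancel_right]
            _ = ⁅a, b⁆ := by rw [hucc.eq, mul_inv_cancel_right]
        · calc ⁅a, u * b⁆ = a * u * a⁻¹ * ⁅a, b⁆ * u⁻¹ := by
                simp only [commutatorElement_def]; group
            _ = u * ⁅a, b⁆ * u⁻¹ := by rw [← hua.eq, mul_inv_cancel_right]
            _ = ⁅a, b⁆ := by rw [hucc.eq, mul_inv_cancel_right]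
      have h1 : g * ⁅a, b⁆ * g⁻¹ = ⁅a, b⁆ := by
        rw [show g * ⁅a, b⁆ * g⁻¹ = ⁅⁅g, a⁆ * a, ⁅g, b⁆ * b⁆ by
          simp only [commutatorElement_def]; group]
        have hbK : ⁅g, b⁆ * b ∈ K := by
          rw [commutatorElement_def, inv_mul_cancel_right]
          exact (inferInstance : K.Normal).conj_mem b hb g
        rw [(hkey a ha _ hbK _ (commutatorElement_mem g a)).1,
          (hkey a ha b hb _ (commutatorElement_mem g b)).2]
      calc g * ⁅a, b⁆ = g * ⁅a, b⁆ * g⁻¹ * g := by group
        _ = ⁅a, b⁆ * g := by rw [h1]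
    -- `K` is abelian
    have hKab : ∀ a ∈ K, ∀ b ∈ K, a * b = b * a := by
      intro a ha b hb
      by_cases hbC : b ∈ C
      · exact (Subgroup.mem_centralizer_iff.1 ha b hbC).symm
      -- `[b, x]` generates the derived subgroup of the quotient
      have htop : ∀ g : P, ∃ k ∈ K, ∃ i : ℤ, g = k * x ^ i := by
        intro g
        haveI : Fact (Nat.card (P ⧸ K)).Prime := ⟨by rw [← Subgroup.index_eq_card, hKidx]; exact hp.out⟩
        have hxne : QuotientGroup.mk' K x ≠ 1 := fun h0 => hx ((QuotientGroup.eq_one_iff x).1 h0)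
        obtain ⟨i, hi⟩ := Subgroup.mem_zpowers_iff.1
          (mem_zpowers_of_prime_card (rfl : Nat.card (P ⧸ K) = _) hxne :
            QuotientGroup.mk' K g ∈ Subgroup.zpowers (QuotientGroup.mk' K x))
        refine ⟨g * (x ^ i)⁻¹, ?_, i, by group⟩
        rw [← QuotientGroup.eq_one_iff]
        show QuotientGroup.mk' K (g * (x ^ i)⁻¹) = 1
        rw [map_mul, map_inv, map_zpow, hi, mul_inv_cancel]
      -- being central modulo `N` only needs `x` and `K`
      have hcrit : ∀ d ∈ K, ⁅d, x⁆ ∈ N → d ∈ C := by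
        intro d hd hdx
        refine hcenN d (Subgroup.mem_center_iff.2 fun q => ?_)
        obtain ⟨g, rfl⟩ := QuotientGroup.mk'_surjective N q
        obtain ⟨k, hk, i, rfl⟩ := htop g
        have e1 : Commute (QuotientGroup.mk' N d) (QuotientGroup.mk' N k) :=
          commutatorElement_eq_one_iff_mul_comm.1 (by
            rw [← map_commutatorElement]; exact (QuotientGroup.eq_one_iff _).2 (hKK d hd k hk))
        have e2 : Commute (QuotientGroup.mk' N d) (QuotientGroup.mk' N x) :=
          commutatorElement_eq_one_iff_mul_comm.1 (by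
            rw [← map_commutatorElement]; exact (QuotientGroup.eq_one_iff _).2 hdx)
        rw [map_mul, map_zpow]
        exact (e1.mul_right (e2.zpow_right i)).eq.symm
      haveI : Fact (Nat.card (commutator (P ⧸ N))).Prime := ⟨hcardN.symm ▸ hp.out⟩
      have hmem : ∀ d : P, QuotientGroup.mk' N ⁅d, x⁆ ∈ commutator (P ⧸ N) := fun d => by
        rw [map_commutatorElement]; exact commutatorElement_mem _ _
      have hbne : (⟨_, hmem b⟩ : commutator (P ⧸ N)) ≠ 1 := fun h0 =>
        hbC (hcrit b hb ((QuotientGroup.eq_one_iff _).1 (congrArg Subtype.val h0)))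
      obtain ⟨i, hi⟩ := Subgroup.mem_zpowers_iff.1
        (mem_zpowers_of_prime_card (rfl : Nat.card (commutator (P ⧸ N)) = _) hbne :
          (⟨_, hmem a⟩ : commutator (P ⧸ N)) ∈ Subgroup.zpowers _)
      -- `d ↦ [d, x]` is a homomorphism on `K` modulo `N`
      let f : K →* P ⧸ N :=
        { toFun := fun d => QuotientGroup.mk' N ⁅(d : P), x⁆
          map_one' := by
            rw [OneMemClass.coe_one, commutatorElement_one_left, map_one]
          map_mul' := fun d d' => by
            have e : ⁅(d : P) * (d' : P), x⁆ = (d : P) * ⁅(d' : P), x⁆ * (d : P)⁻¹ * ⁅(d : P), x⁆ := by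
              simp only [commutatorElement_def]; group
            have e' : (d : P) * ⁅(d' : P), x⁆ * (d : P)⁻¹ = ⁅(d' : P), x⁆ := by
              rw [← Subgroup.mem_centralizer_iff.1 d.2 _ (commutatorElement_mem _ _),
                mul_inv_cancel_right]
            rw [Subgroup.coe_mul, e, e', map_mul]
            exact Subgroup.mem_center_iff.1 (commutator_le_center (hP.to_quotient N) hcardN
              (hmem _)) _ }
      have h1 : f ⟨a, ha⟩ = f (⟨b, hb⟩ ^ i) := by
        rw [map_zpow]
        exact (congrArg Subtype.val hi).symm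
      have h2 : f (⟨a, ha⟩ * (⟨b, hb⟩ ^ i)⁻¹) = 1 := by rw [map_mul, map_inv, h1, mul_inv_cancel]
      set d : K := ⟨a, ha⟩ * (⟨b, hb⟩ ^ i)⁻¹ with hd
      have hdC : (d : P) ∈ C := hcrit _ d.2 ((QuotientGroup.eq_one_iff _).1 h2)
      have e3 : a = (d : P) * b ^ i := by rw [hd]; simp
      rw [e3]
      exact ((show Commute (d : P) b from Subgroup.mem_centralizer_iff.1 hb _ hdC).mul_left
        ((Commute.refl b).zpow_left i)).eq
    -- all nonlinear characters have degree `p`
    haveI := Fintype.ofFinite K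
    have hdegp : ∀ φ : IrrCharacter P, charDegree (φ : P → ℂ) ≠ 1 →
        charDegree (φ : P → ℂ) = p := by
      intro φ hφ
      obtain ⟨k, hk, hkd⟩ := ito_degree_dvd (N := K) hKab φ.2
      rw [CharApps.deg_eq] at hk
      have hk' : charDegree (φ : P → ℂ) = k := by exact_mod_cast hk
      rw [hKidx] at hkd
      exact ((Nat.dvd_prime hp.out).1 (hk' ▸ hkd)).resolve_left hφ
    obtain ⟨θ₁, hθ₁⟩ := exists_irr_deg_ne_one (not_comm_quotient hnotN)
    let χ₁ : IrrCharacter P := ⟨_, Chars.isIrrCharacter_inflate N θ₁.2⟩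
    obtain ⟨χ₂, hχ₂⟩ : ∃ χ : IrrCharacter P, (χ : P → ℂ) w ≠ (χ : P → ℂ) 1 := by
      by_contra hne
      push Not at hne
      exact hp.out.ne_one (hwo ▸ orderOf_eq_one_iff.2 (Chars.eq_one_of_forall_irr hne))
    have hχ₂d : charDegree (χ₂ : P → ℂ) ≠ 1 := by
      intro h1
      obtain ⟨l, hl⟩ := Chars.exists_hom_of_degree_one (Chars.isCharacter_of_irr χ₂.2)
        ((CharApps.deg_eq_one_iff χ₂).2 h1)
      refine hχ₂ ?_
      have h2 : w ∈ l.ker := Abelianization.commutator_subset_ker l hwC
      rw [hl]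
      show (l w : ℂ) = (l 1 : ℂ)
      rw [MonoidHom.mem_ker.1 h2, map_one]
    refine hχ₂ (h.transfer (χ := χ₁) hθ₁ ((hdegp χ₁ hθ₁).trans (hdegp χ₂ hχ₂d).symm) ?_)
    show (θ₁ : P ⧸ N → ℂ) (w : P ⧸ N) = (θ₁ : P ⧸ N → ℂ) ((1 : P) : P ⧸ N)
    rw [(QuotientGroup.eq_one_iff w).2 (Subgroup.mem_zpowers w)]
    rfl

end CfsgLib.GaloisSame
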