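import Cfsg.Agent.Lib.CharApps.Basic
import Cfsg.Agent.Lib.BlockOrth.DefectOrder

/-!
# A height zero character has a linear constituent on a defect group
-/

set_option autoImplicit false
set_option linter.style.haveILetI false

namespace CfsgLib.CharApps

open Cfsg CfsgLib.Chars CfsgLib.Blocks CfsgLib.BlockOrth
open scoped ComplexConjugate

universe u v

variable {G : Type u} [Group G] [Fintype G]

/-- If a character is scalar at `z` then so is each constituent, with the same scalar. -/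
theorem constituent_scalar {φ : G → ℂ} (hφ : IsCharacter G φ) {z : G} {c : ℂ} (hc : ‖c‖ = 1)
    (hz : φ z = φ 1 * c) (θ : IrrCharacter G) (hθ : classInner φ θ ≠ 0) :
    (θ : G → ℂ) z = (θ : G → ℂ) 1 * c := by
  classical
  haveI := irrFintype G
  choose n hn using fun χ : IrrCharacter G => inner_irr_right_nat hφ χ
  have hdec := classFun_eq_sum (isClassFunction_of_isCharacter hφ)
  have e : ∀ x : G, φ x = ∑ χ : IrrCharacter G, (n χ : ℂ) * (χ : G → ℂ) x := fun x => by
    conv_lhs => rw [hdec]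
    simp [Finset.sum_apply, hn]
  have hcc : c * conj c = 1 := by
    rw [Complex.mul_conj, Complex.normSq_eq_norm_sq, hc]
    norm_num
  set a : IrrCharacter G → ℝ := fun χ => ((χ : G → ℂ) z * conj c).re
  have hle : ∀ χ : IrrCharacter G, a χ ≤ (charDegree (χ : G → ℂ) : ℝ) := fun χ => by
    refine (Complex.re_le_norm _).trans ?_
    rw [norm_mul, Complex.norm_conj, hc, mul_one]
    refine (char_norm_le (isCharacter_of_irr χ.2) z).trans_eq ?_
    rw [deg_eq, Complex.natCast_re]
  have hsum : ∑ χ : IrrCharacter G, (n χ : ℝ) * ((charDegree (χ : G → ℂ) : ℝ) - a χ) = 0 := by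
    have h1 : φ z * conj c = φ 1 := by rw [hz, mul_assoc, hcc, mul_one]
    rw [e z, e 1, Finset.sum_mul] at h1
    have h2 := congrArg Complex.re h1
    rw [Complex.re_sum, Complex.re_sum] at h2
    simp only [mul_sub, Finset.sum_sub_distrib, sub_eq_zero]
    refine (Finset.sum_congr rfl fun χ _ => ?_).trans (h2.symm.trans (Finset.sum_congr rfl fun χ _ => ?_))
    · rw [deg_eq]; simp
    · rw [mul_assoc]; simp [a]
  have hzero := (Finset.sum_eq_zero_iff_of_nonneg fun χ _ =>
    mul_nonneg (Nat.cast_nonneg (n χ)) (sub_nonneg.mpr (hle χ))).mp hsum θ (Finset.mem_univ θ)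
  have hnθ : (n θ : ℝ) ≠ 0 := by
    intro h0
    exact hθ (by rw [hn θ, Nat.cast_eq_zero.mp h0, Nat.cast_zero])
  have hre : a θ = (charDegree (θ : G → ℂ) : ℝ) :=
    (sub_eq_zero.mp ((mul_eq_zero.mp hzero).resolve_left hnθ)).symm
  have hval : (θ : G → ℂ) z * conj c = (charDegree (θ : G → ℂ) : ℂ) := by
    set w := (θ : G → ℂ) z * conj c with hw
    have hnorm : ‖w‖ ≤ w.re := by
      rw [show w.re = (charDegree (θ : G → ℂ) : ℝ) from hre, hw, norm_mul, Complex.norm_conj, hc,
        mul_one]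
      refine (char_norm_le (isCharacter_of_irr θ.2) z).trans_eq ?_
      rw [deg_eq, Complex.natCast_re]
    have him : w.im = 0 := Complex.abs_re_eq_norm.mp
      (le_antisymm (Complex.abs_re_le_norm w) (hnorm.trans (le_abs_self _)))
    refine Complex.ext ?_ ?_
    · rw [Complex.natCast_re]; exact hre
    · rw [Complex.natCast_im]; exact him
  calc (θ : G → ℂ) z = (θ : G → ℂ) z * conj c * c := by rw [mul_assoc, mul_comm (conj c), hcc, mul_one]
    _ = _ := by rw [hval, deg_eq]

/-- A character with a value outside `p · 𝓞` at a central element has a constituent of degree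
prime to `p`. -/
theorem exists_constituent_not_dvd {p : ℕ} [Fact p.Prime] {M : Ideal AlgInt} [M.IsPrime]
    (hpM : (p : AlgInt) ∈ M) {φ : G → ℂ} (hφ : IsCharacter G φ) {z : G}
    (hz : z ∈ Subgroup.center G) (hv : ¬ MemLocalIdeal M (φ z)) :
    ∃ θ : IrrCharacter G, classInner φ θ ≠ 0 ∧ ¬ p ∣ charDegree (θ : G → ℂ) := by
  classical
  haveI := irrFintype G
  by_contra hcon
  simp only [not_exists, not_and, not_not] at hcon
  apply hv
  choose n hn using fun χ : IrrCharacter G => inner_irr_right_nat hφ χ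
  have e : φ z = ∑ χ : IrrCharacter G, classInner φ χ * (χ : G → ℂ) z := by
    conv_lhs => rw [classFun_eq_sum (isClassFunction_of_isCharacter hφ)]
    simp [Finset.sum_apply]
  rw [e]
  refine MemLocalIdeal.sum' fun θ _ => ?_
  by_cases h0 : classInner φ θ = 0
  · rw [h0, zero_mul]; exact MemLocalIdeal.zero'
  obtain ⟨q, hq⟩ := hcon θ h0
  have hcl : Nat.card {x : G // IsConj z x} = 1 := by
    rw [Nat.card_eq_one_iff_unique]
    refine ⟨⟨fun a b => Subtype.ext ?_⟩, ⟨⟨z, IsConj.refl z⟩⟩⟩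
    have key : ∀ a : {x : G // IsConj z x}, (a : G) = z := fun a => by
      obtain ⟨c, hc⟩ := isConj_iff.mp a.2
      rw [← hc, Subgroup.mem_center_iff.mp hz c, mul_inv_cancel_right]
    rw [key a, key b]
  have hint : IsIntegral ℤ ((θ : G → ℂ) z / (θ : G → ℂ) 1) := by
    have h := irr_isIntegral_centralChar θ.2 z
    rwa [hcl, Nat.cast_one, one_mul] at h
  have heq : classInner φ θ * (θ : G → ℂ) z =
      ((n θ * q : ℕ) : ℂ) * ((θ : G → ℂ) z / (θ : G → ℂ) 1) * (p : ℂ) := by
    have hd : ((θ : G → ℂ) 1) = (p : ℂ) * (q : ℂ) := by rw [deg_eq θ, hq, Nat.cast_mul]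
    have hz0 := deg_ne_zero θ
    rw [hn θ, Nat.cast_mul]
    field_simp
    rw [hd]
    ring
  rw [heq]
  exact MemLocalIdeal.mul_left' (mul_mem (natCast_mem_loc _) (isIntegral_mem_loc hint))
    (memLocalIdeal_prime hpM)

/-- A height zero character in a block with defect group `D`, lying over `lam` on a subgroup `Z`
of `D`, forces `lam` to extend to `D`. -/
theorem exists_linear_extension {p : ℕ} [Fact p.Prime] {M : Ideal AlgInt} [M.IsPrime]
    (hpM : (p : AlgInt) ∈ M) {B : Set (IrrCharacter G)} (hB : IsPBlock M B) {D : Subgroup G}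
    (hD : IsDefectGroup p M B D) {Z : Subgroup G} (hZD : Z ≤ D) (lam : Z →* ℂˣ)
    {χ : IrrCharacter G} (hχ : χ ∈ B)
    (hover : ∀ z : Z, (χ : G → ℂ) z = (χ : G → ℂ) 1 * (lam z : ℂ))
    (h0 : blockHeight p B (χ : G → ℂ) = 0) :
    ∃ μ : D →* ℂˣ, ∀ z : Z, μ ⟨(z : G), hZD z.2⟩ = lam z := by
  classical
  have hDp := IsDefectGroup.isPGroup hD
  obtain ⟨g, hg, S, hS⟩ := hD
  have hcomm : ∀ d ∈ D, Commute d g := by
    intro d hd
    rw [hS] at hd
    obtain ⟨c, -, rfl⟩ := hd
    exact Subgroup.mem_centralizer_singleton_iff.mp c.2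
  have hval : ¬ MemLocalIdeal M ((χ : G → ℂ) g) := by
    intro hv
    refine hg.2.2 χ hχ ?_
    rw [centralChar, BlockOrth.irr_apply_one, mul_div_right_comm]
    refine MemLocalIdeal.mul_left' ?_ hv
    set i := (Subgroup.centralizer ({g} : Set G)).index
    set d := charDegree (χ : G → ℂ)
    have hv1 : i.factorization p = d.factorization p := by
      rw [factorization_index_defectClass hpM hB hg, ← (blockHeight_eq_zero_iff hχ).mp h0]
      rfl
    have hp0 : ((p ^ d.factorization p : ℕ) : ℂ) ≠ 0 :=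
      Nat.cast_ne_zero.mpr (pow_ne_zero _ (Fact.out : p.Prime).ne_zero)
    rw [← Nat.ordProj_mul_ordCompl_eq_self i p, ← Nat.ordProj_mul_ordCompl_eq_self d p,
      hv1, Nat.cast_mul, Nat.cast_mul, mul_div_mul_left _ _ hp0, div_eq_mul_inv]
    exact mul_mem (natCast_mem_loc _) (inv_natCast_mem_loc Fact.out hpM
      (Nat.not_dvd_ordCompl Fact.out (deg_pos χ).ne'))
  let φ : D × Subgroup.zpowers g →* G := D.subtype.noncommCoprod (Subgroup.zpowers g).subtype
    (fun d a => by
      obtain ⟨i, hi⟩ := Subgroup.mem_zpowers_iff.mp a.2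
      show Commute (d : G) (a : G)
      rw [← hi]
      exact (hcomm d d.2).zpow_right i)
  haveI : Fintype (D × Subgroup.zpowers g) := Fintype.ofFinite _
  haveI : Fintype D := Fintype.ofFinite _
  have hψ := isCharacter_comp φ (isCharacter_of_irr χ.2)
  have hgz : ((1, ⟨g, Subgroup.mem_zpowers g⟩) : D × Subgroup.zpowers g) ∈
      Subgroup.center (D × Subgroup.zpowers g) := by
    rw [Subgroup.mem_center_iff]
    rintro ⟨d, a⟩
    refine Prod.ext (by simp) (Subtype.ext ?_)
    obtain ⟨i, hi⟩ := Subgroup.mem_zpowers_iff.mp a.2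
    show (a : G) * g = g * a
    rw [← hi]
    exact ((Commute.refl g).zpow_left i).eq
  obtain ⟨θ, hθ, hθp⟩ := exists_constituent_not_dvd hpM hψ hgz (by
    show ¬ MemLocalIdeal M ((χ : G → ℂ) (φ (1, ⟨g, Subgroup.mem_zpowers g⟩)))
    simpa [φ] using hval)
  have hθc := isCharacter_comp (MonoidHom.inl D (Subgroup.zpowers g)) (isCharacter_of_irr θ.2)
  obtain ⟨μ, hμ, hμp⟩ := exists_constituent_not_dvd hpM hθc (one_mem (Subgroup.center D)) (by
    show ¬ MemLocalIdeal M ((θ : D × Subgroup.zpowers g → ℂ) (MonoidHom.inl D (Subgroup.zpowers g) 1))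
    rw [map_one, deg_eq, memLocalIdeal_natCast_iff Fact.out hpM]
    exact hθp)
  have hμ1 : (μ : D → ℂ) 1 = 1 := by
    obtain ⟨n, hn0, hn, hnD⟩ := irr_degree_dvd_card μ.2
    have hnd : charDegree (μ : D → ℂ) = n := by simp [charDegree, hn]
    obtain ⟨j, hj⟩ := hDp.exists_card_eq
    rw [hj] at hnD
    obtain ⟨i, -, hi⟩ := (Nat.dvd_prime_pow (Fact.out : p.Prime)).mp hnD
    rcases Nat.eq_zero_or_pos i with hi0 | hi0
    · rw [hn, hi, hi0, pow_zero, Nat.cast_one]
    · exact absurd (hnd ▸ hi ▸ dvd_pow_self p hi0.ne') hμp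
  obtain ⟨μhom, hμhom⟩ := exists_hom_of_degree_one (isCharacter_of_irr μ.2) hμ1
  refine ⟨μhom, fun z => Units.ext ?_⟩
  have hnorm : ‖(lam z : ℂ)‖ = 1 := by
    refine Complex.norm_eq_one_of_pow_eq_one ?_ (Nat.card_pos (α := Z)).ne'
    rw [← Units.val_pow_eq_pow_val, ← map_pow, pow_card_eq_one', map_one, Units.val_one]
  have h1 := constituent_scalar hψ (z := ((⟨z, hZD z.2⟩, 1) : D × Subgroup.zpowers g)) hnorm (by
    show (χ : G → ℂ) (φ (⟨z, hZD z.2⟩, 1)) = (χ : G → ℂ) (φ 1) * _
    simpa [φ] using hover z) θ hθ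
  have h2 := constituent_scalar hθc (z := (⟨z, hZD z.2⟩ : D)) hnorm (by
    show (θ : D × Subgroup.zpowers g → ℂ) (⟨z, hZD z.2⟩, 1) = (θ : D × Subgroup.zpowers g → ℂ) 1 * _
    exact h1) μ hμ
  rw [hμ1, one_mul] at h2
  rw [← h2, hμhom]

end CfsgLib.CharApps
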