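import Mathlib

/-!
# Coherent families of signed triples
-/

set_option autoImplicit false

namespace CfsgLib.CharApps

theorem sum_mul_eq_two_agree {ι : Type*} [DecidableEq ι] (I : Finset ι) (f g : ι → ℤ)
    (hcard : I.card ≤ 3) (hf : ∀ x ∈ I, f x = 1 ∨ f x = -1) (hg : ∀ x ∈ I, g x = 1 ∨ g x = -1)
    (h : ∑ x ∈ I, f x * g x = 2) : I.card = 2 ∧ ∀ x ∈ I, f x = g x := by
  have hpm : ∀ x ∈ I, f x * g x = 1 ∨ f x * g x = -1 := fun x hx => by
    rcases hf x hx with e | e <;> rcases hg x hx with e' | e' <;> simp [e, e']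
  have hle : ∀ x ∈ I, f x * g x ≤ 1 := fun x hx => by rcases hpm x hx with e | e <;> omega
  have h1 : (2 : ℤ) ≤ I.card := by
    have := Finset.sum_le_card_nsmul I (fun x => f x * g x) 1 hle
    rw [h, nsmul_eq_mul, mul_one] at this
    exact this
  have hne3 : I.card ≠ 3 := by
    intro h3
    obtain ⟨x, y, z, hxy, hxz, hyz, rfl⟩ := Finset.card_eq_three.mp h3
    rw [Finset.sum_insert (by simp [hxy, hxz]), Finset.sum_insert (by simp [hyz]),
      Finset.sum_singleton] at h
    rcases hpm x (by simp) with ex | ex <;> rcases hpm y (by simp) with ey | ey <;>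
      rcases hpm z (by simp) with ez | ez <;> omega
  have h2 : I.card = 2 := by omega
  refine ⟨h2, fun x hx => ?_⟩
  obtain ⟨a, b, hab, rfl⟩ := Finset.card_eq_two.mp h2
  rw [Finset.sum_pair hab] at h
  have ea : f a * g a = 1 := by
    rcases hpm a (by simp) with e | e <;> rcases hpm b (by simp) with e' | e' <;> omega
  have eb : f b * g b = 1 := by omega
  have key : ∀ y, f y * g y = 1 → (f y = 1 ∨ f y = -1) → f y = g y := fun y hy hy' => by
    rcases hy' with e | e <;> rw [e] at hy ⊢ <;> omega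
  rcases Finset.mem_insert.mp hx with rfl | hx'
  · exact key _ ea (hf _ (by simp))
  · rw [Finset.mem_singleton] at hx'
    subst hx'
    exact key _ eb (hf _ (by simp))

/-- A family of integer vectors of norm `4` with mutual products `3`, all orthogonal to a fixed
positive degree vector, is a sunflower with a common signed pair. -/
theorem sunflower {ι O : Type*} [DecidableEq ι] [Fintype O] (s : Finset ι) (one : ι)
    (hone : one ∈ s) (d : ι → ℕ) (hd : ∀ x ∈ s, 0 < d x) (hd1 : d one = 1)
    (v : O → ι → ℤ) (h1 : ∀ o, v o one = -1)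
    (hnorm : ∀ o, ∑ x ∈ s, v o x ^ 2 = 4)
    (hprod : ∀ o o', o ≠ o' → ∑ x ∈ s, v o x * v o' x = 3)
    (hdeg : ∀ o, ∑ x ∈ s, v o x * (d x : ℤ) = 0)
    (hm : 2 ≤ Fintype.card O) (hm3 : Fintype.card O ≠ 3) :
    ∃ (a b : ι) (sa sb δ : ℤ) (e : O → ι), a ∈ s ∧ b ∈ s ∧ a ≠ one ∧ b ≠ one ∧ a ≠ b ∧
      (∀ o, e o ∈ s ∧ e o ≠ one ∧ e o ≠ a ∧ e o ≠ b) ∧ Function.Injective e ∧
      (sa = 1 ∨ sa = -1) ∧ (sb = 1 ∨ sb = -1) ∧ (δ = 1 ∨ δ = -1) ∧
      (∀ o o', d (e o) = d (e o')) ∧
      ∀ o, ∀ x ∈ s, v o x = if x = one then -1 else if x = a then sa else if x = b then sb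
        else if x = e o then δ else 0 := by
  classical
  set W : O → Finset ι := fun o => (s.erase one).filter (fun x => v o x ≠ 0) with hW
  have hWdef : ∀ o, W o = (s.erase one).filter (fun x => v o x ≠ 0) := fun _ => rfl
  have hW3 : ∀ o, (W o).card = 3 ∧ ∀ x ∈ W o, v o x = 1 ∨ v o x = -1 := by
    intro o
    have h := hnorm o
    rw [← Finset.add_sum_erase _ _ hone, h1] at h
    have hb : ∀ x ∈ s.erase one, v o x = 0 ∨ v o x = 1 ∨ v o x = -1 := by
      intro x hx
      have h2 : v o x ^ 2 ≤ 3 := by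
        have := Finset.single_le_sum (f := fun x => v o x ^ 2) (fun y _ => sq_nonneg _) hx
        linarith
      have h3 : -1 ≤ v o x := by nlinarith
      have h4 : v o x ≤ 1 := by nlinarith
      omega
    have hpm : ∀ x ∈ W o, v o x = 1 ∨ v o x = -1 := fun x hx =>
      (hb x (Finset.mem_filter.mp hx).1).resolve_left (Finset.mem_filter.mp hx).2
    refine ⟨?_, hpm⟩
    have h5 : ∑ x ∈ W o, v o x ^ 2 = 3 := by
      rw [hWdef, Finset.sum_filter_of_ne]
      · linarith
      · intro x _ hx h0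
        exact hx (by rw [h0]; simp)
    rw [Finset.sum_congr rfl (g := fun _ => (1 : ℤ))
      (fun x hx => by rcases hpm x hx with e | e <;> simp [e])] at h5
    rw [Finset.sum_const, nsmul_eq_mul, mul_one] at h5
    exact_mod_cast h5
  have hpair : ∀ o o', o ≠ o' → (W o ∩ W o').card = 2 ∧ ∀ x ∈ W o ∩ W o', v o x = v o' x := by
    intro o o' hne
    refine sum_mul_eq_two_agree _ _ _ ((Finset.card_le_card Finset.inter_subset_left).trans
      (hW3 o).1.le) (fun x hx => (hW3 o).2 x (Finset.mem_inter.mp hx).1)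
      (fun x hx => (hW3 o').2 x (Finset.mem_inter.mp hx).2) ?_
    have h := hprod o o' hne
    rw [← Finset.add_sum_erase _ _ hone, h1, h1] at h
    have e : ∑ x ∈ W o ∩ W o', v o x * v o' x = ∑ x ∈ s.erase one, v o x * v o' x := by
      refine Finset.sum_subset (fun x hx => (Finset.mem_filter.mp (Finset.mem_inter.mp hx).1).1) ?_
      intro x hx hnot
      simp only [hW, Finset.mem_inter, Finset.mem_filter, hx, true_and, not_and_or, not_not] at hnot
      rcases hnot with h0 | h0 <;> simp [h0]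
    rw [e]
    linarith
  have hWsub : ∀ o, ∀ x ∈ W o, x ∈ s ∧ x ≠ one := fun o x hx =>
    ⟨Finset.mem_of_mem_erase (Finset.mem_filter.mp hx).1,
      Finset.ne_of_mem_erase (Finset.mem_filter.mp hx).1⟩
  have hWinj : Function.Injective W := by
    intro o o' he
    by_contra hne
    have := (hpair o o' hne).1
    rw [he, Finset.inter_self, (hW3 o').1] at this
    omega
  have hsumW : ∀ o, ∑ x ∈ W o, v o x * (d x : ℤ) = 1 := by
    intro o
    have h := hdeg o
    rw [← Finset.add_sum_erase _ _ hone, h1, hd1] at h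
    rw [hWdef, Finset.sum_filter_of_ne]
    · push_cast at h
      linarith
    · intro x _ hx h0
      exact hx (by rw [h0, zero_mul])
  obtain ⟨o₁, o₂, h12⟩ := Fintype.one_lt_card_iff.mp hm
  obtain ⟨a, b, hab, hI⟩ := Finset.card_eq_two.mp (hpair o₁ o₂ h12).1
  have haI : a ∈ W o₁ ∩ W o₂ := by rw [hI]; simp
  have hbI : b ∈ W o₁ ∩ W o₂ := by rw [hI]; simp
  have ha1 := (Finset.mem_inter.mp haI).1
  have hb1 := (Finset.mem_inter.mp hbI).1
  have ha2 := (Finset.mem_inter.mp haI).2
  have hb2 := (Finset.mem_inter.mp hbI).2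
  -- everybody contains the common pair
  have hall : ∀ o, a ∈ W o ∧ b ∈ W o := by
    by_contra hcon
    push Not at hcon
    obtain ⟨o₃, ho₃⟩ := hcon
    set U := W o₁ ∪ W o₂ with hU
    have hU4 : U.card = 4 := by
      have := Finset.card_union_add_card_inter (W o₁) (W o₂)
      rw [(hpair o₁ o₂ h12).1, (hW3 o₁).1, (hW3 o₂).1] at this
      rw [hU]; omega
    have hsub : ∀ o, W o ⊆ U ∨ (a ∈ W o ∧ b ∈ W o) := by
      intro o
      by_cases h : a ∈ W o ∧ b ∈ W o
      · exact Or.inr h
      refine Or.inl ?_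
      have hne1 : o ≠ o₁ := fun e => h (e ▸ ⟨ha1, hb1⟩)
      have hne2 : o ≠ o₂ := fun e => h (e ▸ ⟨ha2, hb2⟩)
      have hle : (W o ∩ (W o₁ ∩ W o₂)).card ≤ 1 := by
        by_contra hgt
        apply h
        have hsame : W o ∩ (W o₁ ∩ W o₂) = W o₁ ∩ W o₂ :=
          Finset.eq_of_subset_of_card_le Finset.inter_subset_right
            (by rw [(hpair o₁ o₂ h12).1]; omega)
        exact ⟨(Finset.mem_inter.mp (hsame.symm ▸ haI : a ∈ W o ∩ (W o₁ ∩ W o₂))).1,
          (Finset.mem_inter.mp (hsame.symm ▸ hbI : b ∈ W o ∩ (W o₁ ∩ W o₂))).1⟩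
      have hu : W o ∩ U = (W o ∩ W o₁) ∪ (W o ∩ W o₂) := by rw [hU, Finset.inter_union_distrib_left]
      have hi : (W o ∩ W o₁) ∩ (W o ∩ W o₂) = W o ∩ (W o₁ ∩ W o₂) := by
        rw [← Finset.inter_inter_distrib_left]
      have hcu := Finset.card_union_add_card_inter (W o ∩ W o₁) (W o ∩ W o₂)
      rw [← hu, hi, (hpair o o₁ hne1).1, (hpair o o₂ hne2).1] at hcu
      have hfull : W o ∩ U = W o := Finset.eq_of_subset_of_card_le Finset.inter_subset_left
        (by rw [(hW3 o).1]; omega)
      exact hfull ▸ Finset.inter_subset_right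
    have ho₃U : W o₃ ⊆ U := by
      rcases hsub o₃ with h | h
      · exact h
      · exact absurd h.2 (ho₃ h.1)
    have hallU : ∀ o, W o ⊆ U := by
      intro o
      rcases hsub o with h | ⟨hoa, hob⟩
      · exact h
      intro x hx
      by_contra hxU
      have hne : o₃ ≠ o := fun e => ho₃ (e ▸ hoa) (e ▸ hob)
      have hWo : W o = {a, b, x} := by
        refine (Finset.eq_of_subset_of_card_le ?_ ?_).symm
        · intro y hy
          simp only [Finset.mem_insert, Finset.mem_singleton] at hy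
          rcases hy with rfl | rfl | rfl <;> assumption
        · rw [(hW3 o).1, Finset.card_insert_of_notMem, Finset.card_pair]
          · rintro rfl; exact hxU (Finset.mem_union_left _ hb1)
          · simp only [Finset.mem_insert, Finset.mem_singleton, not_or]
            exact ⟨hab, fun e => hxU (e ▸ Finset.mem_union_left _ ha1)⟩
      have h2 := (hpair o₃ o hne).1
      have hle : (W o₃ ∩ W o).card ≤ 1 := by
        rw [Finset.card_le_one]
        intro y hy z hz
        rw [hWo, Finset.mem_inter] at hy hz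
        simp only [Finset.mem_insert, Finset.mem_singleton] at hy hz
        rcases hy with ⟨hy, rfl | rfl | rfl⟩ <;> rcases hz with ⟨hz, rfl | rfl | rfl⟩ <;>
          first | rfl | exact absurd (ho₃U hy) hxU | exact absurd (ho₃U hz) hxU |
            exact absurd hz (ho₃ hy) | exact absurd hy (ho₃ hz)
      omega
    -- the tetrahedron
    have hcardO : Fintype.card O ≤ 4 := by
      have h := Finset.card_le_card (s := Finset.univ.image W) (t := U.powersetCard 3) (fun X hX => by
        obtain ⟨o, -, rfl⟩ := Finset.mem_image.mp hX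
        exact Finset.mem_powersetCard.mpr ⟨hallU o, (hW3 o).1⟩)
      rw [Finset.card_image_of_injective _ hWinj, Finset.card_powersetCard, hU4,
        Finset.card_univ] at h
      exact h
    have h4 : Fintype.card O = 4 := by
      have : 3 ≤ Fintype.card O := by
        have hcard : ({o₁, o₂, o₃} : Finset O).card = 3 := by
          rw [Finset.card_insert_of_notMem, Finset.card_pair]
          · rintro rfl; exact ho₃ ha2 hb2
          · simp only [Finset.mem_insert, Finset.mem_singleton, not_or]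
            exact ⟨h12, fun e => ho₃ (e ▸ ha1) (e ▸ hb1)⟩
        exact hcard ▸ Finset.card_le_univ _
      omega
    have himg : Finset.univ.image W = U.powersetCard 3 := by
      refine Finset.eq_of_subset_of_card_le (fun X hX => ?_) ?_
      · obtain ⟨o, -, rfl⟩ := Finset.mem_image.mp hX
        exact Finset.mem_powersetCard.mpr ⟨hallU o, (hW3 o).1⟩
      · rw [Finset.card_image_of_injective _ hWinj, Finset.card_powersetCard, hU4,
          Finset.card_univ, h4]
        rfl
    set f : ι → ℤ := fun x => if x ∈ W o₁ then v o₁ x * d x else v o₂ x * d x with hf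
    have hf' : ∀ o, ∀ x ∈ W o, v o x * (d x : ℤ) = f x := by
      intro o x hx
      by_cases hx1 : x ∈ W o₁
      · simp only [hf, if_pos hx1]
        by_cases he : o = o₁
        · rw [he]
        · rw [(hpair o o₁ he).2 x (Finset.mem_inter.mpr ⟨hx, hx1⟩)]
      · simp only [hf, if_neg hx1]
        by_cases he : o = o₂
        · rw [he]
        · have hx2 : x ∈ W o₂ := (Finset.mem_union.mp (hallU o hx)).resolve_left hx1
          rw [(hpair o o₂ he).2 x (Finset.mem_inter.mpr ⟨hx, hx2⟩)]
    have hD : ∀ x ∈ U, f x = ∑ y ∈ U, f y - 1 := by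
      intro x hx
      obtain ⟨o, -, ho⟩ := Finset.mem_image.mp (himg ▸ Finset.mem_powersetCard.mpr
        ⟨Finset.erase_subset x U, by rw [Finset.card_erase_of_mem hx, hU4]⟩ :
        U.erase x ∈ Finset.univ.image W)
      have h := hsumW o
      rw [Finset.sum_congr rfl (hf' o), ho] at h
      rw [← Finset.add_sum_erase _ _ hx]
      linarith
    have htot : ∑ y ∈ U, f y = 4 * (∑ y ∈ U, f y - 1) := by
      conv_lhs => rw [Finset.sum_congr rfl hD, Finset.sum_const, hU4]
      simp
    omega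
  -- the third points
  have he : ∀ o, ∃ x, W o = {a, b, x} ∧ x ≠ a ∧ x ≠ b := by
    intro o
    have hc : ((W o) \ {a, b}).card = 1 := by
      rw [Finset.card_sdiff_of_subset, (hW3 o).1, Finset.card_pair hab]
      intro y hy
      simp only [Finset.mem_insert, Finset.mem_singleton] at hy
      rcases hy with rfl | rfl
      exacts [(hall o).1, (hall o).2]
    obtain ⟨x, hx⟩ := Finset.card_eq_one.mp hc
    have hxW : x ∈ W o ∧ x ≠ a ∧ x ≠ b := by
      have : x ∈ (W o) \ {a, b} := by rw [hx]; simp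
      simpa using this
    refine ⟨x, ?_, hxW.2.1, hxW.2.2⟩
    refine (Finset.eq_of_subset_of_card_le ?_ ?_).symm
    · intro y hy
      simp only [Finset.mem_insert, Finset.mem_singleton] at hy
      rcases hy with rfl | rfl | rfl
      exacts [(hall o).1, (hall o).2, hxW.1]
    · rw [(hW3 o).1, Finset.card_insert_of_notMem, Finset.card_pair hxW.2.2.symm]
      simp only [Finset.mem_insert, Finset.mem_singleton, not_or]
      exact ⟨hab, hxW.2.1.symm⟩
  choose e hWe hea heb using he
  have heW : ∀ o, e o ∈ W o := fun o => by rw [hWe o]; simp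
  have hsame : ∀ o, v o a = v o₁ a ∧ v o b = v o₁ b := by
    intro o
    by_cases ho : o = o₁
    · exact ⟨by rw [ho], by rw [ho]⟩
    · exact ⟨(hpair o o₁ ho).2 a (Finset.mem_inter.mpr ⟨(hall o).1, ha1⟩),
        (hpair o o₁ ho).2 b (Finset.mem_inter.mpr ⟨(hall o).2, hb1⟩)⟩
  have heq : ∀ o, v o (e o) * (d (e o) : ℤ) = 1 - v o₁ a * d a - v o₁ b * d b := by
    intro o
    have h := hsumW o
    rw [hWe o, Finset.sum_insert, Finset.sum_pair (heb o).symm, (hsame o).1, (hsame o).2] at h
    · linarith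
    · simp only [Finset.mem_insert, Finset.mem_singleton, not_or]
      exact ⟨hab, (hea o).symm⟩
  have hδ : ∀ o, v o (e o) = v o₁ (e o₁) ∧ d (e o) = d (e o₁) := by
    intro o
    have h : v o (e o) * (d (e o) : ℤ) = v o₁ (e o₁) * (d (e o₁) : ℤ) :=
      (heq o).trans (heq o₁).symm
    have p1 := hd (e o) (hWsub o _ (heW o)).1
    have p2 := hd (e o₁) (hWsub o₁ _ (heW o₁)).1
    rcases (hW3 o).2 _ (heW o) with c1 | c1 <;> rcases (hW3 o₁).2 _ (heW o₁) with c2 | c2 <;>
      rw [c1, c2] at h ⊢ <;> omega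
  refine ⟨a, b, v o₁ a, v o₁ b, v o₁ (e o₁), e, (hWsub o₁ a ha1).1, (hWsub o₁ b hb1).1,
    (hWsub o₁ a ha1).2, (hWsub o₁ b hb1).2, hab,
    fun o => ⟨(hWsub o _ (heW o)).1, (hWsub o _ (heW o)).2, hea o, heb o⟩,
    fun o o' h => hWinj (by rw [hWe, hWe o', h]),
    (hW3 o₁).2 a ha1, (hW3 o₁).2 b hb1, (hW3 o₁).2 _ (heW o₁),
    fun o o' => (hδ o).2.trans (hδ o').2.symm, fun o x hx => ?_⟩
  split_ifs with h h' h'' h'''
  · rw [h, h1]
  · rw [h', (hsame o).1]
  · rw [h'', (hsame o).2]
  · rw [h''', (hδ o).1]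
  · by_contra hne
    have : x ∈ W o := Finset.mem_filter.mpr ⟨Finset.mem_erase.mpr ⟨h, hx⟩, hne⟩
    rw [hWe o] at this
    simp [h', h'', h'''] at this

end CfsgLib.CharApps
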