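import Cfsg.Agent.Lib.CharApps.InertialThree
import Cfsg.Agent.Lib.CharApps.SignedTriples
import Cfsg.Agent.Lib.CharApps.PrincipalRational

/-!
# The characters of the principal block in the inertial index three case
-/

set_option autoImplicit false
set_option linter.style.haveILetI false
set_option linter.unusedSectionVars false

namespace CfsgLib.CharApps

open Cfsg CfsgLib.Chars CfsgLib.Blocks
open scoped ComplexConjugate

universe u

section Duality

variable {A : Type u} [Group A] [Fintype A] (hc : ∀ a b : A, a * b = b * a)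

include hc in
theorem card_linear_eq_card [Fintype (A →* ℂˣ)] :
    Fintype.card (A →* ℂˣ) = Fintype.card A := by
  rw [← Nat.card_eq_fintype_card, card_monoidHom_units, ← Nat.card_eq_fintype_card]
  have h : commutator A = ⊥ := by
    rw [commutator_def, Subgroup.commutator_eq_bot_iff_le_centralizer]
    exact fun a _ => Subgroup.mem_centralizer_iff.mpr fun b _ => hc b a
  rw [h, Subgroup.index_bot]

theorem sum_linear_apply (ψ : A →* ℂˣ) [Decidable (ψ = 1)] :
    ∑ y : A, (ψ y : ℂ) = if ψ = 1 then (Fintype.card A : ℂ) else 0 := by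
  classical
  split_ifs with h
  · subst h; simp
  · obtain ⟨a, ha⟩ : ∃ a, ψ a ≠ 1 := by
      by_contra hcon
      simp only [not_exists, not_not] at hcon
      exact h (MonoidHom.ext hcon)
    have e : (ψ a : ℂ) * ∑ y : A, (ψ y : ℂ) = ∑ y : A, (ψ y : ℂ) := by
      rw [Finset.mul_sum]
      exact Fintype.sum_equiv (Equiv.mulLeft a) _ _ fun y => by simp
    refine (mul_left_eq_self₀.mp e).resolve_left fun h1 => ha (Units.ext h1)

include hc in
theorem sum_apply_linear [Fintype (A →* ℂˣ)] (y : A) [Decidable (y = 1)] :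
    ∑ ψ : A →* ℂˣ, (ψ y : ℂ) = if y = 1 then (Fintype.card A : ℂ) else 0 := by
  classical
  split_ifs with h
  · subst h; simp [card_linear_eq_card hc]
  · haveI : NeZero (Monoid.exponent A : ℂ) :=
      ⟨Nat.cast_ne_zero.mpr Monoid.exponent_ne_zero_of_finite⟩
    let _ : CommGroup A := { (inferInstance : Group A) with mul_comm := hc }
    obtain ⟨μ, hμ⟩ := CommGroup.exists_apply_ne_one_of_hasEnoughRootsOfUnity A ℂ h
    have e : (μ y : ℂ) * ∑ ψ : A →* ℂˣ, (ψ y : ℂ) = ∑ ψ : A →* ℂˣ, (ψ y : ℂ) := by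
      rw [Finset.mul_sum]
      exact Fintype.sum_equiv (Equiv.mulLeft μ) _ _ fun ψ => by simp
    exact (mul_left_eq_self₀.mp e).resolve_left fun h1 => hμ (Units.ext h1)

theorem conj_linear_apply (ψ : A →* ℂˣ) (y : A) : conj (ψ y : ℂ) = (ψ y⁻¹ : ℂ) :=
  (char_inv (isCharacter_of_irr (isIrrCharacter_linear ψ)) y).symm

end Duality

variable {G : Type u} [Group G] [Fintype G] {p : ℕ} [Fact p.Prime] {P : Sylow p G}

namespace InertialAut

variable (D : InertialAut P)

/-- The action on linear characters. -/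
noncomputable def act (ψ : (P : Subgroup G) →* ℂˣ) : (P : Subgroup G) →* ℂˣ :=
  ψ.comp D.σ.toMonoidHom

theorem act_apply (ψ : (P : Subgroup G) →* ℂˣ) (y : (P : Subgroup G)) :
    D.act ψ y = ψ (D.σ y) := rfl

theorem act_cube (ψ : (P : Subgroup G) →* ℂˣ) : D.act (D.act (D.act ψ)) = ψ :=
  MonoidHom.ext fun y => by rw [act_apply, act_apply, act_apply, D.cube]

theorem act_one : D.act 1 = 1 := rfl

theorem act_injective : Function.Injective D.act := fun a b h => by
  rw [← D.act_cube a, ← D.act_cube b, h]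

theorem eq_one_of_act_eq (hab : IsMulCommutative P) {ψ : (P : Subgroup G) →* ℂˣ}
    (h : D.act ψ = ψ) : ψ = 1 := by
  have hsurj : Function.Surjective fun y : (P : Subgroup G) => D.σ y * y⁻¹ := by
    refine Finite.surjective_of_injective fun a b e => ?_
    have hc := fun u v : (P : Subgroup G) => hab.is_comm.comm u v
    have e' : D.σ a * a⁻¹ = D.σ b * b⁻¹ := e
    have : D.σ (b⁻¹ * a) = b⁻¹ * a := by
      rw [map_mul, map_inv]
      rw [mul_inv_eq_iff_eq_mul] at e'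
      rw [e', ← mul_assoc, ← mul_assoc, inv_mul_cancel, one_mul]
    exact (inv_mul_eq_one.mp (D.fix _ this)).symm
  refine MonoidHom.ext fun y => ?_
  obtain ⟨z, rfl⟩ := hsurj y
  show ψ (D.σ z * z⁻¹) = 1
  rw [map_mul, map_inv, ← D.act_apply, h, mul_inv_cancel]

open scoped Classical in
/-- The orbit of a linear character. -/
noncomputable def orbit (ψ : (P : Subgroup G) →* ℂˣ) : Finset ((P : Subgroup G) →* ℂˣ) :=
  {ψ, D.act ψ, D.act (D.act ψ)}

theorem mem_orbit {ψ φ : (P : Subgroup G) →* ℂˣ} :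
    φ ∈ D.orbit ψ ↔ φ = ψ ∨ φ = D.act ψ ∨ φ = D.act (D.act ψ) := by
  simp [orbit]

theorem self_mem_orbit (ψ : (P : Subgroup G) →* ℂˣ) : ψ ∈ D.orbit ψ := by simp [mem_orbit]

theorem orbit_eq_of_mem {ψ φ : (P : Subgroup G) →* ℂˣ} (h : φ ∈ D.orbit ψ) :
    D.orbit φ = D.orbit ψ := by
  ext μ
  simp only [mem_orbit] at h ⊢
  rcases h with rfl | rfl | rfl <;> simp only [D.act_cube] <;> tauto

theorem ne_one_of_mem_orbit {ψ φ : (P : Subgroup G) →* ℂˣ} (hψ : ψ ≠ 1) (h : φ ∈ D.orbit ψ) :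
    φ ≠ 1 := by
  rintro rfl
  rcases D.mem_orbit.mp h with h | h | h
  · exact hψ h.symm
  · exact hψ (D.act_injective (h.symm.trans D.act_one.symm))
  · exact hψ (D.act_injective (D.act_injective
      (h.symm.trans (by rw [D.act_one, D.act_one]))))

theorem orbit_distinct (hab : IsMulCommutative P) {ψ : (P : Subgroup G) →* ℂˣ} (hψ : ψ ≠ 1) :
    D.act ψ ≠ ψ ∧ D.act (D.act ψ) ≠ ψ ∧ D.act (D.act ψ) ≠ D.act ψ := by
  refine ⟨fun h => hψ (D.eq_one_of_act_eq hab h), fun h => hψ (D.eq_one_of_act_eq hab ?_),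
    fun h => hψ (D.eq_one_of_act_eq hab (D.act_injective h))⟩
  conv_lhs => rw [← h]
  exact D.act_cube ψ

theorem card_orbit (hab : IsMulCommutative P) {ψ : (P : Subgroup G) →* ℂˣ} (hψ : ψ ≠ 1) :
    (D.orbit ψ).card = 3 := by
  classical
  obtain ⟨h1, h2, h3⟩ := D.orbit_distinct hab hψ
  rw [orbit, Finset.card_insert_of_notMem, Finset.card_pair h3.symm]
  simp only [Finset.mem_insert, Finset.mem_singleton, not_or]
  exact ⟨h1.symm, h2.symm⟩

end InertialAut

/-- The structure of the principal block. -/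
structure ThreeBlock (M : Ideal AlgInt) (D : InertialAut P) where
  a : IrrCharacter G
  b : IrrCharacter G
  sa : ℤ
  sb : ℤ
  δ : ℤ
  e : ((P : Subgroup G) →* ℂˣ) → IrrCharacter G
  sa_pm : sa = 1 ∨ sa = -1
  sb_pm : sb = 1 ∨ sb = -1
  δ_pm : δ = 1 ∨ δ = -1
  a_mem : a ∈ principalBlock M G
  b_mem : b ∈ principalBlock M G
  e_mem : ∀ ψ, ψ ≠ 1 → e ψ ∈ principalBlock M G
  a_ne : a ≠ principal G
  b_ne : b ≠ principal G
  ab_ne : a ≠ b
  e_ne : ∀ ψ, ψ ≠ 1 → e ψ ≠ principal G ∧ e ψ ≠ a ∧ e ψ ≠ b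
  e_eq : ∀ ψ φ, ψ ≠ 1 → φ ≠ 1 → (e ψ = e φ ↔ φ ∈ D.orbit ψ)
  e_deg : ∀ ψ φ, ψ ≠ 1 → φ ≠ 1 →
    charDegree (e ψ : G → ℂ) = charDegree (e φ : G → ℂ)
  exhaust : ∀ χ ∈ principalBlock M G, χ = principal G ∨ χ = a ∨ χ = b ∨ ∃ ψ, ψ ≠ 1 ∧ χ = e ψ
  a_val : ∀ y : (P : Subgroup G), y ≠ 1 → (a : G → ℂ) (y : G) = -(sa : ℂ)
  b_val : ∀ y : (P : Subgroup G), y ≠ 1 → (b : G → ℂ) (y : G) = -(sb : ℂ)
  e_val : ∀ ψ, ψ ≠ 1 → ∀ y : (P : Subgroup G), y ≠ 1 →
    (e ψ : G → ℂ) (y : G) = (δ : ℂ) * ∑ φ ∈ D.orbit ψ, (φ y : ℂ)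
  a_deg : ∃ r : ℤ, (charDegree (a : G → ℂ) : ℤ) = (Nat.card P : ℤ) * r - sa
  b_deg : ∃ r : ℤ, (charDegree (b : G → ℂ) : ℤ) = (Nat.card P : ℤ) * r - sb
  deg_mod : ∀ ψ, ψ ≠ 1 → ∃ r : ℕ,
    (charDegree (e ψ : G → ℂ) : ℤ) = (Nat.card P : ℤ) * (r : ℤ) + 3 * δ
  rel : ∀ f : IrrCharacter G → ℂ,
    (∀ y : (P : Subgroup G), y ≠ 1 →
      ∑ᶠ χ ∈ principalBlock M G, f χ * (χ : G → ℂ) (y : G) = 0) →
    ∀ ψ, ψ ≠ 1 → -f (principal G) + (sa : ℂ) * f a + (sb : ℂ) * f b + (δ : ℂ) * f (e ψ) = 0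

theorem exists_threeBlock {M : Ideal AlgInt} [M.IsPrime] (hM : IsPModular p M)
    (hab : IsMulCommutative P) (D : InertialAut P)
    (hfrob : ∀ y : G, y ∈ (P : Subgroup G) → y ≠ 1 →
      Subgroup.centralizer ({y} : Set G) ⊓ Subgroup.normalizer ((P : Subgroup G) : Set G) =
        Subgroup.centralizer ((P : Subgroup G) : Set G))
    (hn4 : 4 < Nat.card P) : Nonempty (ThreeBlock M D) := by
  classical
  haveI := irrFintype G
  haveI : Fintype (P : Subgroup G) := Fintype.ofFinite _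
  haveI : Finite ((P : Subgroup G) →* ℂˣ) := by
    refine Nat.finite_of_card_ne_zero ?_
    rw [card_monoidHom_units]
    exact Subgroup.index_ne_zero_of_finite
  haveI : Fintype ((P : Subgroup G) →* ℂˣ) := Fintype.ofFinite _
  have hc := fun u v : (P : Subgroup G) => hab.is_comm.comm u v
  set n : ℕ := Fintype.card (P : Subgroup G) with hn
  have hnP : Nat.card P = n := Nat.card_eq_fintype_card
  have hn0 : (n : ℂ) ≠ 0 := Nat.cast_ne_zero.mpr Fintype.card_ne_zero
  set B := principalBlock M G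
  set s := Finset.univ.filter (fun χ : IrrCharacter G => χ ∈ B) with hs
  -- multiplicities
  have hmult : ∀ (χ : IrrCharacter G) (ψ : (P : Subgroup G) →* ℂˣ), ∃ m : ℕ,
      (m : ℂ) = (n : ℂ)⁻¹ * ∑ y : (P : Subgroup G), (χ : G → ℂ) (y : G) * conj (ψ y : ℂ) := by
    intro χ ψ
    obtain ⟨m, hm⟩ := inner_irr_right_nat (isCharacter_restrict (P : Subgroup G)
      (isCharacter_of_irr χ.2)) ⟨_, isIrrCharacter_linear ψ⟩
    exact ⟨m, by rw [← hm, inner_def, Nat.card_eq_fintype_card]⟩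
  choose m hm using hmult
  set c : IrrCharacter G → ((P : Subgroup G) →* ℂˣ) → ℤ :=
    fun χ ψ => (m χ ψ : ℤ) - (m χ 1 : ℤ) with hc_def
  have hcval : ∀ χ ψ, (c χ ψ : ℂ) =
      (n : ℂ)⁻¹ * ∑ y : (P : Subgroup G), (χ : G → ℂ) (y : G) * (conj (ψ y : ℂ) - 1) := by
    intro χ ψ
    simp only [hc_def]
    push_cast
    rw [hm, hm, ← mul_sub, ← Finset.sum_sub_distrib]
    refine congrArg _ (Finset.sum_congr rfl fun y _ => ?_)
    simp [mul_sub]
  -- Fourier inversion
  have hfour : ∀ (χ : IrrCharacter G) (y : (P : Subgroup G)),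
      (χ : G → ℂ) (y : G) = ∑ ψ, (m χ ψ : ℂ) * (ψ y : ℂ) := by
    intro χ y
    simp only [hm, mul_assoc, ← Finset.mul_sum, Finset.sum_mul]
    rw [Finset.sum_comm]
    rw [Finset.sum_congr rfl (g := fun x : (P : Subgroup G) => (χ : G → ℂ) (x : G) *
      ∑ ψ : (P : Subgroup G) →* ℂˣ, ((ψ (x⁻¹ * y) : ℂˣ) : ℂ)) (fun x _ => by
        rw [Finset.mul_sum]
        exact Finset.sum_congr rfl fun ψ _ => by
          rw [conj_linear_apply, ← Units.val_mul, ← map_mul])]
    rw [Finset.sum_eq_single y]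
    · rw [inv_mul_cancel, sum_apply_linear hc, if_pos rfl, ← hn,
        mul_comm ((χ : G → ℂ) (y : G)), ← mul_assoc, inv_mul_cancel₀ hn0, one_mul]
    · intro x _ hx
      rw [sum_apply_linear hc, if_neg (fun h => hx (inv_mul_eq_one.mp h)), mul_zero]
    · simp
  have hvalne : ∀ (χ : IrrCharacter G) (y : (P : Subgroup G)), y ≠ 1 →
      (χ : G → ℂ) (y : G) = ∑ ψ ∈ Finset.univ.erase 1, (c χ ψ : ℂ) * (ψ y : ℂ) := by
    intro χ y hy
    rw [hfour χ y, Finset.sum_erase _ (by simp [hc_def])]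
    have h0 := sum_apply_linear hc y
    rw [if_neg hy] at h0
    simp only [hc_def]
    push_cast
    simp only [sub_mul, Finset.sum_sub_distrib, ← Finset.mul_sum, h0, mul_zero, sub_zero]
  have hdegc : ∀ χ : IrrCharacter G, (charDegree (χ : G → ℂ) : ℤ) =
      (n : ℤ) * (m χ 1 : ℤ) + ∑ ψ ∈ Finset.univ.erase 1, c χ ψ := by
    intro χ
    rw [Finset.sum_erase _ (by simp [hc_def])]
    have h := hfour χ 1
    simp only [Subgroup.coe_one, map_one, Units.val_one, mul_one, deg_eq] at h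
    have h' : charDegree (χ : G → ℂ) = ∑ ψ, m χ ψ := by exact_mod_cast h
    simp only [hc_def, Finset.sum_sub_distrib, Finset.sum_const, Finset.card_univ,
      card_linear_eq_card hc, nsmul_eq_mul, ← hn]
    rw [h']
    push_cast
    ring
  -- the columns
  have hS : ∀ y x : (P : Subgroup G), y ≠ 1 →
      ∑ χ ∈ s, (χ : G → ℂ) (y : G) * conj ((χ : G → ℂ) (x : G)) =
      (n : ℂ) * ((if x = y then 1 else 0) + (if x = D.σ y then 1 else 0) +
        (if x = D.σ (D.σ y) then 1 else 0)) := by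
    intro y x hy
    rw [← hnP, ← column_eq hM hab D hfrob y x hy,
      finsum_mem_eq_sum_of_inter_support_eq (t := s) _ (by ext; simp [B, hs])]
  have hT : ∀ φ : (P : Subgroup G) →* ℂˣ, ∀ ψ : (P : Subgroup G) →* ℂˣ,
      ∑ y : (P : Subgroup G), (conj (ψ y : ℂ) - 1) * ((φ y : ℂ) - 1) =
        (n : ℂ) * ((if φ = ψ then 1 else 0) - (if φ = 1 then 1 else 0) -
          (if ψ = 1 then 1 else 0) + 1) := by
    intro φ ψ
    have e : ∀ y : (P : Subgroup G), (conj (ψ y : ℂ) - 1) * ((φ y : ℂ) - 1) =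
        (((ψ⁻¹ * φ) y : ℂˣ) : ℂ) - (φ y : ℂ) - ((ψ⁻¹ y : ℂˣ) : ℂ) + 1 := fun y => by
      rw [conj_linear_apply, map_inv, MonoidHom.mul_apply, MonoidHom.inv_apply, Units.val_mul]
      ring
    rw [Finset.sum_congr rfl (fun y _ => e y), Finset.sum_add_distrib, Finset.sum_sub_distrib,
      Finset.sum_sub_distrib, sum_linear_apply, sum_linear_apply, sum_linear_apply]
    have h1 : ψ⁻¹ = 1 ↔ ψ = 1 := by
      constructor
      · intro h
        refine MonoidHom.ext fun y => ?_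
        have := DFunLike.congr_fun h y
        rw [MonoidHom.inv_apply, MonoidHom.one_apply, inv_eq_one] at this
        exact this
      · rintro rfl
        ext y
        simp
    have h2 : ψ⁻¹ * φ = 1 ↔ φ = ψ := by
      constructor
      · intro h
        refine MonoidHom.ext fun y => ?_
        have := DFunLike.congr_fun h y
        rw [MonoidHom.mul_apply, MonoidHom.inv_apply, MonoidHom.one_apply, inv_mul_eq_one] at this
        exact this.symm
      · rintro rfl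
        ext y
        simp
    simp only [h1, h2, Finset.sum_const, Finset.card_univ, nsmul_eq_mul, mul_one, ← hn]
    split_ifs <;> ring
  have hgram : ∀ ψ φ : (P : Subgroup G) →* ℂˣ, ψ ≠ 1 → φ ≠ 1 →
      ∑ χ ∈ s, c χ ψ * c χ φ = 3 + if φ ∈ D.orbit ψ then 1 else 0 := by
    intro ψ φ hψ hφ
    have h : ((∑ χ ∈ s, c χ ψ * c χ φ : ℤ) : ℂ) =
        ((3 + if φ ∈ D.orbit ψ then 1 else 0 : ℤ) : ℂ) := by
      push_cast
      have e : ∀ χ : IrrCharacter G, (c χ ψ : ℂ) * (c χ φ : ℂ) = (n : ℂ)⁻¹ * (n : ℂ)⁻¹ *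
          ∑ y : (P : Subgroup G), ∑ x : (P : Subgroup G),
            (conj (ψ y : ℂ) - 1) * ((φ x : ℂ) - 1) *
              ((χ : G → ℂ) (y : G) * conj ((χ : G → ℂ) (x : G))) := by
        intro χ
        conv_lhs => rw [← map_intCast (starRingEnd ℂ) (c χ φ), hcval, hcval]
        rw [map_mul, map_inv₀, map_natCast, map_sum]
        simp only [map_mul, map_sub, map_one, Complex.conj_conj, Finset.mul_sum, Finset.sum_mul]
        rw [Finset.sum_comm]
        exact Finset.sum_congr rfl fun y _ => Finset.sum_congr rfl fun x _ => by ring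
      rw [Finset.sum_congr rfl (fun χ _ => e χ), ← Finset.mul_sum, Finset.sum_comm]
      have e2 : ∀ y : (P : Subgroup G), ∑ χ ∈ s, ∑ x : (P : Subgroup G),
          (conj (ψ y : ℂ) - 1) * ((φ x : ℂ) - 1) *
            ((χ : G → ℂ) (y : G) * conj ((χ : G → ℂ) (x : G))) =
          (n : ℂ) * ((conj (ψ y : ℂ) - 1) * ((φ y : ℂ) - 1) +
            (conj (ψ y : ℂ) - 1) * ((D.act φ y : ℂ) - 1) +
            (conj (ψ y : ℂ) - 1) * ((D.act (D.act φ) y : ℂ) - 1)) := by
        intro y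
        by_cases hy : y = 1
        · subst hy; simp
        rw [Finset.sum_comm]
        simp only [← Finset.mul_sum, hS y _ hy, mul_add, add_mul, mul_ite, mul_one, mul_zero,
          Finset.sum_add_distrib, Finset.sum_ite_eq', Finset.mem_univ, if_true,
          InertialAut.act_apply]
        ring
      rw [Finset.sum_congr rfl (fun y _ => e2 y), ← Finset.mul_sum, Finset.sum_add_distrib,
        Finset.sum_add_distrib, hT, hT, hT]
      have hψ1 : D.act φ ≠ 1 := D.ne_one_of_mem_orbit hφ (by simp [D.mem_orbit])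
      have hψ2 : D.act (D.act φ) ≠ 1 := D.ne_one_of_mem_orbit hφ (by simp [D.mem_orbit])
      rw [if_neg hφ, if_neg hψ, if_neg hψ1, if_neg hψ2]
      have horb : (φ ∈ D.orbit ψ) ↔ ψ = φ ∨ ψ = D.act φ ∨ ψ = D.act (D.act φ) := by
        constructor
        · intro h
          exact D.mem_orbit.mp ((D.orbit_eq_of_mem h).symm ▸ D.self_mem_orbit ψ)
        · intro h
          exact (D.orbit_eq_of_mem (D.mem_orbit.mpr h)).symm ▸ D.self_mem_orbit φ
      obtain ⟨n1, n2, n3⟩ := D.orbit_distinct hab hφ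
      field_simp
      by_cases h : φ ∈ D.orbit ψ
      · rw [if_pos h]
        rcases horb.mp h with rfl | rfl | rfl
        · rw [if_pos rfl, if_neg n1, if_neg n2]; ring
        · rw [if_neg n1.symm, if_pos rfl, if_neg n3]; ring
        · rw [if_neg n2.symm, if_neg n3.symm, if_pos rfl]; ring
      · rw [if_neg h]
        rw [horb, not_or, not_or] at h
        rw [if_neg (Ne.symm h.1), if_neg (Ne.symm h.2.1), if_neg (Ne.symm h.2.2)]
        ring
    exact_mod_cast h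
  -- principal coordinate and degrees
  have hone : ∀ ψ : (P : Subgroup G) →* ℂˣ, ψ ≠ 1 → c (principal G) ψ = -1 := by
    intro ψ hψ
    have h := hcval (principal G) ψ
    have e : ∑ y : (P : Subgroup G), (principal G : G → ℂ) (y : G) * (conj (ψ y : ℂ) - 1) =
        -(n : ℂ) := by
      simp only [principal_apply, one_mul, Finset.sum_sub_distrib, ← map_sum, sum_linear_apply,
        if_neg hψ, map_zero, Finset.sum_const, Finset.card_univ, nsmul_eq_mul, mul_one, ← hn,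
        zero_sub]
    rw [e, mul_neg, inv_mul_cancel₀ hn0] at h
    exact_mod_cast h
  have hrel : ∀ f : IrrCharacter G → ℂ,
      (∀ y : (P : Subgroup G), y ≠ 1 → ∑ χ ∈ s, f χ * (χ : G → ℂ) (y : G) = 0) →
      ∀ ψ, ∑ χ ∈ s, (c χ ψ : ℂ) * f χ = 0 := by
    intro f hf ψ
    simp only [hcval, mul_assoc, Finset.mul_sum, Finset.sum_mul]
    rw [Finset.sum_comm]
    refine Finset.sum_eq_zero fun y _ => ?_
    by_cases hy : y = 1
    · subst hy; simp
    rw [Finset.sum_congr rfl (g := fun χ => (n : ℂ)⁻¹ * (conj (ψ y : ℂ) - 1) *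
      (f χ * (χ : G → ℂ) (y : G))) (fun χ _ => by ring), ← Finset.mul_sum, hf y hy, mul_zero]
  have hdeg0 : ∀ ψ, ∑ χ ∈ s, c χ ψ * (charDegree (χ : G → ℂ) : ℤ) = 0 := by
    intro ψ
    have h := hrel (fun χ => (χ : G → ℂ) 1) (fun y hy => by
      rw [Finset.sum_congr rfl (g := fun χ : IrrCharacter G =>
        (χ : G → ℂ) (y : G) * conj ((χ : G → ℂ) 1)) (fun χ _ => by rw [conj_deg, mul_comm]),
        ← finsum_mem_eq_sum_of_inter_support_eq (s := B) (t := s) _ (by ext; simp [hs])]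
      refine principal_column_orth_of_not_isConj hM (isPElt y) ⟨0, by rw [orderOf_one, pow_zero]⟩
        fun h => hy ?_
      exact Subtype.ext (isConj_one_left.mp h)) ψ
    simp only [deg_eq] at h
    exact_mod_cast h
  -- orbits
  set O := (Finset.univ.erase (1 : (P : Subgroup G) →* ℂˣ)).image D.orbit with hO
  have hrep : ∀ o : O, ∃ ψ, ψ ≠ 1 ∧ D.orbit ψ = o.1 := fun o => by
    obtain ⟨ψ, hψ, he⟩ := Finset.mem_image.mp o.2
    exact ⟨ψ, Finset.ne_of_mem_erase hψ, he⟩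
  choose rep hrep1 hrep2 using hrep
  have hOmem : ∀ ψ, ψ ≠ 1 → D.orbit ψ ∈ O := fun ψ hψ =>
    Finset.mem_image_of_mem _ (Finset.mem_erase.mpr ⟨hψ, Finset.mem_univ _⟩)
  have hcount : n - 1 = 3 * Fintype.card O := by
    rw [Fintype.card_coe]
    have h := Finset.card_eq_sum_card_fiberwise (f := D.orbit)
      (s := Finset.univ.erase (1 : (P : Subgroup G) →* ℂˣ)) (t := O)
      (fun x hx => Finset.mem_image_of_mem _ hx)
    rw [Finset.card_erase_of_mem (Finset.mem_univ _), Finset.card_univ, card_linear_eq_card hc,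
      Finset.sum_congr rfl (g := fun _ => 3) (fun o ho => ?_), Finset.sum_const, smul_eq_mul] at h
    · rw [hn]; linarith
    · obtain ⟨ψ, hψ, rfl⟩ := Finset.mem_image.mp ho
      rw [← D.card_orbit hab (Finset.ne_of_mem_erase hψ)]
      congr 1
      ext φ
      simp only [Finset.mem_filter, Finset.mem_erase, Finset.mem_univ, and_true]
      refine ⟨fun h => h.2 ▸ D.self_mem_orbit φ,
        fun h => ⟨D.ne_one_of_mem_orbit (Finset.ne_of_mem_erase hψ) h, D.orbit_eq_of_mem h⟩⟩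
  have hn4' : 4 < n := hnP ▸ hn4
  have hO2 : 2 ≤ Fintype.card O := by omega
  have hO3 : Fintype.card O ≠ 3 := by
    intro h3
    have h10 : n = 10 := by omega
    obtain ⟨k, hk⟩ := P.isPGroup'.exists_card_eq
    rw [hnP, h10] at hk
    have h2 := Nat.prime_two.dvd_of_dvd_pow (hk ▸ (by norm_num : 2 ∣ 10))
    have h5 := (by norm_num : Nat.Prime 5).dvd_of_dvd_pow (hk ▸ (by norm_num : 5 ∣ 10))
    rw [Nat.prime_dvd_prime_iff_eq Nat.prime_two Fact.out] at h2
    rw [Nat.prime_dvd_prime_iff_eq (by norm_num) Fact.out] at h5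
    omega
  have hones : principal G ∈ s :=
    Finset.mem_filter.mpr ⟨Finset.mem_univ _, principal_mem_principalBlock M⟩
  obtain ⟨a, b, sa, sb, δ, e, ha, hb, hane, hbne, habne, he, heinj, hsa, hsb, hδ, hedeg, hv⟩ :=
    sunflower s (principal G) hones (fun χ => charDegree (χ : G → ℂ))
      (fun χ _ => deg_pos χ) ((deg_eq_one_iff (principal G)).mp (principal_apply 1))
      (fun (o : O) χ => c χ (rep o)) (fun o => hone _ (hrep1 o))
      (fun o => by
        simp only [sq]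
        rw [hgram _ _ (hrep1 o) (hrep1 o), if_pos (D.self_mem_orbit _)]
        norm_num)
      (fun o o' hne => by
        rw [hgram _ _ (hrep1 o) (hrep1 o'), if_neg, add_zero]
        intro h
        exact hne (Subtype.ext (by rw [← hrep2 o, ← hrep2 o', D.orbit_eq_of_mem h])))
      (fun o => hdeg0 _) hO2 hO3
  -- `c` is constant on orbits
  have hconst : ∀ χ ψ φ, φ ∈ D.orbit ψ → c χ φ = c χ ψ := by
    have key : ∀ χ ψ, c χ (D.act ψ) = c χ ψ := by
      intro χ ψ
      have h : (c χ (D.act ψ) : ℂ) = (c χ ψ : ℂ) := by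
        rw [hcval, hcval]
        congr 1
        refine Fintype.sum_equiv D.σ.toEquiv _ _ fun y => ?_
        show _ = (χ : G → ℂ) (D.σ y : G) * _
        rw [← (isConj_iff_forall_irr _ _).mp (D.isConj_σ y) χ]
        rfl
      exact_mod_cast h
    intro χ ψ φ h
    rcases D.mem_orbit.mp h with rfl | rfl | rfl <;> simp [key]
  set E : ((P : Subgroup G) →* ℂˣ) → IrrCharacter G :=
    fun ψ => if h : ψ ≠ 1 then e ⟨D.orbit ψ, hOmem ψ h⟩ else principal G with hE
  have hEeq : ∀ ψ (h : ψ ≠ 1), E ψ = e ⟨D.orbit ψ, hOmem ψ h⟩ := fun ψ h => by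
    simp only [hE, dif_pos h]
  have hcv : ∀ ψ, ψ ≠ 1 → ∀ χ ∈ s, c χ ψ = if χ = principal G then -1 else if χ = a then sa
      else if χ = b then sb else if χ = E ψ then δ else 0 := by
    intro ψ hψ χ hχ
    rw [hEeq ψ hψ, ← hv ⟨D.orbit ψ, hOmem ψ hψ⟩ χ hχ]
    refine hconst χ _ _ ?_
    have h := hrep2 ⟨D.orbit ψ, hOmem ψ hψ⟩
    simp only at h
    rw [h]
    exact D.self_mem_orbit ψ
  have hca : ∀ ψ, ψ ≠ 1 → c a ψ = sa := fun ψ hψ => by
    rw [hcv ψ hψ a ha, if_neg hane, if_pos rfl]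
  have hcb : ∀ ψ, ψ ≠ 1 → c b ψ = sb := fun ψ hψ => by
    rw [hcv ψ hψ b hb, if_neg hbne, if_neg habne.symm, if_pos rfl]
  have hce : ∀ ψ φ, ψ ≠ 1 → φ ≠ 1 → c (E ψ) φ = if φ ∈ D.orbit ψ then δ else 0 := by
    intro ψ φ hψ hφ
    obtain ⟨h1, h2, h3, h4⟩ := he ⟨D.orbit ψ, hOmem ψ hψ⟩
    rw [hcv φ hφ _ (hEeq ψ hψ ▸ h1), hEeq ψ hψ, hEeq φ hφ, if_neg h2, if_neg h3, if_neg h4]
    refine if_congr ?_ rfl rfl
    rw [heinj.eq_iff, Subtype.mk.injEq]
    exact ⟨fun h => h.symm ▸ D.self_mem_orbit φ, fun h => (D.orbit_eq_of_mem h).symm⟩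
  have hsingle : ∀ ψ, ψ ≠ 1 → ∀ f : IrrCharacter G → ℂ, ∑ χ ∈ s, (c χ ψ : ℂ) * f χ =
      -f (principal G) + (sa : ℂ) * f a + (sb : ℂ) * f b + (δ : ℂ) * f (E ψ) := by
    intro ψ hψ f
    obtain ⟨h1, h2, h3, h4⟩ := he ⟨D.orbit ψ, hOmem ψ hψ⟩
    rw [← hEeq ψ hψ] at h1 h2 h3 h4
    have hsub : ({principal G, a, b, E ψ} : Finset (IrrCharacter G)) ⊆ s := by
      intro x hx
      simp only [Finset.mem_insert, Finset.mem_singleton] at hx
      rcases hx with rfl | rfl | rfl | rfl <;> assumption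
    rw [← Finset.sum_subset hsub (fun x hx hnot => by
      simp only [Finset.mem_insert, Finset.mem_singleton, not_or] at hnot
      rw [hcv ψ hψ x hx, if_neg hnot.1, if_neg hnot.2.1, if_neg hnot.2.2.1, if_neg hnot.2.2.2,
        Int.cast_zero, zero_mul]),
      Finset.sum_insert, Finset.sum_insert, Finset.sum_pair h4.symm,
      hone ψ hψ, hca ψ hψ, hcb ψ hψ, hce ψ ψ hψ hψ, if_pos (D.self_mem_orbit ψ)]
    · push_cast; ring
    · simp [habne, h3.symm]
    · simp [hane.symm, hbne.symm, h2.symm]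
  have horbsub : ∀ ψ : (P : Subgroup G) →* ℂˣ, ψ ≠ 1 →
      D.orbit ψ ⊆ Finset.univ.erase 1 := fun ψ hψ φ hφ =>
    Finset.mem_erase.mpr ⟨D.ne_one_of_mem_orbit hψ hφ, Finset.mem_univ _⟩
  have hsum1 : ∀ (χ : IrrCharacter G) (t : ℤ), (∀ φ, φ ≠ 1 → c χ φ = t) →
      (∀ y : (P : Subgroup G), y ≠ 1 → (χ : G → ℂ) (y : G) = -(t : ℂ)) ∧
        ∃ r : ℤ, (charDegree (χ : G → ℂ) : ℤ) = (n : ℤ) * r - t := by
    intro χ t ht
    refine ⟨fun y hy => ?_, (m χ 1 : ℤ) + t, ?_⟩
    · rw [hvalne χ y hy, Finset.sum_congr rfl (g := fun ψ : (P : Subgroup G) →* ℂˣ =>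
        (t : ℂ) * (ψ y : ℂ)) (fun ψ hψ => by rw [ht ψ (Finset.ne_of_mem_erase hψ)]),
        ← Finset.mul_sum, Finset.sum_erase_eq_sub (Finset.mem_univ _), sum_apply_linear hc,
        if_neg hy]
      simp
    · rw [hdegc χ, Finset.sum_congr rfl (g := fun _ => t)
        (fun ψ hψ => ht ψ (Finset.ne_of_mem_erase hψ)), Finset.sum_const,
        Finset.card_erase_of_mem (Finset.mem_univ _), Finset.card_univ, card_linear_eq_card hc,
        nsmul_eq_mul, Nat.cast_sub Fintype.card_pos]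
      push_cast
      ring
  refine ⟨⟨a, b, sa, sb, δ, E, hsa, hsb, hδ, (Finset.mem_filter.mp ha).2,
    (Finset.mem_filter.mp hb).2, fun ψ hψ => ?_, hane, hbne, habne, fun ψ hψ => ?_,
    fun ψ φ hψ hφ => ?_, fun ψ φ hψ hφ => ?_, fun χ hχ => ?_, (hsum1 a sa hca).1,
    (hsum1 b sb hcb).1, fun ψ hψ y hy => ?_, hnP ▸ (hsum1 a sa hca).2,
    hnP ▸ (hsum1 b sb hcb).2, fun ψ hψ => ?_, fun f hf ψ hψ => ?_⟩⟩
  · rw [hEeq ψ hψ]; exact (Finset.mem_filter.mp (he _).1).2
  · rw [hEeq ψ hψ]; exact (he _).2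
  · rw [hEeq ψ hψ, hEeq φ hφ, heinj.eq_iff, Subtype.mk.injEq]
    exact ⟨fun h => h.symm ▸ D.self_mem_orbit φ, fun h => (D.orbit_eq_of_mem h).symm⟩
  · rw [hEeq ψ hψ, hEeq φ hφ]; exact hedeg _ _
  · by_contra hcon
    simp only [not_or, not_exists, not_and] at hcon
    obtain ⟨h1, h2, h3, h4⟩ := hcon
    have hχs : χ ∈ s := Finset.mem_filter.mpr ⟨Finset.mem_univ _, hχ⟩
    have hval : ∀ y : (P : Subgroup G), y ≠ 1 → (χ : G → ℂ) (y : G) = 0 := by
      intro y hy
      rw [hvalne χ y hy]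
      refine Finset.sum_eq_zero fun ψ hψ => ?_
      have hψ1 := Finset.ne_of_mem_erase hψ
      rw [hcv ψ hψ1 χ hχs, if_neg h1, if_neg h2, if_neg h3, if_neg (h4 ψ hψ1), Int.cast_zero,
        zero_mul]
    refine (mem_principalBlock_iff_regularSum hM.2.2 χ).mp hχ ?_
    rw [Finset.sum_filter, Finset.sum_congr rfl (g := fun g => (χ : G → ℂ) g)]
    · have h := inner_irr_ne h1
      rw [inner_def, mul_eq_zero_iff_left (inv_ne_zero (card_ne_zero G))] at h
      simpa [principal_apply] using h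
    · intro g _
      split_ifs with hg
      · symm
        obtain ⟨v, hv'⟩ := BlockOrth.exists_isPPrimePart (p := p) g
        obtain ⟨y₀, hy₀, hcomm, hy₀p, hvp⟩ := hv'
        have hy₀1 : y₀ ≠ 1 := by
          rintro rfl
          rw [one_mul] at hy₀
          exact hvp (hy₀ ▸ hg)
        obtain ⟨k, hk⟩ := hy₀p
        have hpg : IsPGroup p (Subgroup.zpowers y₀) :=
          IsPGroup.of_card (n := k) (by rw [Nat.card_zpowers, hk])
        obtain ⟨S, hS'⟩ := hpg.exists_le_sylow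
        obtain ⟨d, hd⟩ := MulAction.exists_smul_eq G S P
        have hmem : d * y₀ * d⁻¹ ∈ (P : Subgroup G) := by
          rw [← hd, Sylow.coe_subgroup_smul]
          exact ⟨y₀, hS' (Subgroup.mem_zpowers y₀), rfl⟩
        have hy1 : (⟨d * y₀ * d⁻¹, hmem⟩ : (P : Subgroup G)) ≠ 1 := fun h =>
          hy₀1 (conj_eq_one_iff.mp (congrArg Subtype.val h))
        rw [← isClassFunction_irr χ g d, apply_eq_of_pPart hM hab hfrob ⟨_, hmem⟩ hy1
          ⟨d * v * d⁻¹, by rw [← hy₀]; group,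
            hcomm.map (MulAut.conj d).toMonoidHom,
            ⟨k, by rw [← hk]; exact (MulEquiv.orderOf_eq (MulAut.conj d) y₀)⟩,
            by rwa [show orderOf (d * v * d⁻¹) = orderOf v from MulEquiv.orderOf_eq (MulAut.conj d) v]⟩
          hχ]
        exact hval _ hy1
      · rfl
  · rw [hvalne _ y hy, Finset.mul_sum]
    rw [← Finset.sum_subset (horbsub ψ hψ) (fun φ hφ hnot => by
      rw [hce ψ φ hψ (Finset.ne_of_mem_erase hφ), if_neg hnot, Int.cast_zero, zero_mul])]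
    exact Finset.sum_congr rfl fun φ hφ => by
      rw [hce ψ φ hψ (D.ne_one_of_mem_orbit hψ hφ), if_pos hφ]
  · refine ⟨m (E ψ) 1, ?_⟩
    rw [hdegc (E ψ), hnP, ← Finset.sum_subset (horbsub ψ hψ) (fun φ hφ hnot => by
      rw [hce ψ φ hψ (Finset.ne_of_mem_erase hφ), if_neg hnot]),
      Finset.sum_congr rfl (g := fun _ => δ) (fun φ hφ => by
        rw [hce ψ φ hψ (D.ne_one_of_mem_orbit hψ hφ), if_pos hφ]),
      Finset.sum_const, D.card_orbit hab hψ]
    push_cast
    ring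
  · rw [← hsingle ψ hψ f]
    refine hrel f (fun y hy => ?_) ψ
    rw [← hf y hy, finsum_mem_eq_sum_of_inter_support_eq (t := s) _ (by ext; simp [B, hs])]

end CfsgLib.CharApps
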