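import Cfsg.Agent.Lib.BlockOrth.Dimension
import Cfsg.Agent.Lib.Blocks.Covering

/-!
# A height zero character of a block of a normal subgroup with stabilizer of index prime to `p`
-/

set_option autoImplicit false
set_option linter.style.haveILetI false
set_option linter.unusedSectionVars false

namespace CfsgLib.CharApps

open Cfsg CfsgLib.Chars CfsgLib.Blocks CfsgLib.BlockOrth
open scoped ComplexConjugate

universe u

variable {G : Type u} [Group G] [Fintype G] {p : ℕ} [Fact p.Prime] {M : Ideal AlgInt} [M.IsPrime]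
  (N : Subgroup G) [N.Normal] [Fintype N] (Q : Sylow p N) [Fintype (Q : Subgroup N)]

/-- The sum of a character over a Sylow subgroup does not change under conjugation. -/
theorem sum_sylow_conjIrr (g : G) (θ : IrrCharacter N) :
    ∑ y : (Q : Subgroup N), (conjIrr N g θ : N → ℂ) (y : N) =
      ∑ y : (Q : Subgroup N), (θ : N → ℂ) (y : N) := by
  have hpg : IsPGroup p ((Q : Subgroup N).map (CharsMore.conjBy N g)) := Q.isPGroup'.map _
  obtain ⟨S, hS⟩ := hpg.exists_le_sylow
  obtain ⟨h, hh⟩ := MulAction.exists_smul_eq N Q S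
  have hmem : ∀ y : (Q : Subgroup N), h⁻¹ * CharsMore.conjBy N g y * h ∈ (Q : Subgroup N) := by
    intro y
    have hy := hS (Subgroup.mem_map_of_mem (CharsMore.conjBy N g) y.2)
    rw [← hh, Sylow.coe_subgroup_smul] at hy
    obtain ⟨q, hq, hq'⟩ := hy
    rw [← hq']
    show h⁻¹ * (h * q * h⁻¹) * h ∈ (Q : Subgroup N)
    rw [show h⁻¹ * (h * q * h⁻¹) * h = q by group]
    exact hq
  let f : ↥(Q : Subgroup N) → ↥(Q : Subgroup N) := fun y =>
    ⟨h⁻¹ * CharsMore.conjBy N g y * h, hmem y⟩
  have hf : Function.Bijective f := by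
    rw [← Finite.injective_iff_bijective]
    intro a b hab
    have h2 := congrArg Subtype.val hab
    simp only [f, mul_left_inj, mul_right_inj] at h2
    exact Subtype.ext ((bijective_conjBy N g).1 h2)
  refine Fintype.sum_bijective f hf _ _ fun y => ?_
  rw [coe_conjIrr]
  show (θ : N → ℂ) (CharsMore.conjBy N g y) = (θ : N → ℂ) (h⁻¹ * CharsMore.conjBy N g y * h)
  have := isClassFunction_irr θ (CharsMore.conjBy N g y) h⁻¹
  rw [inv_inv] at this
  exact this.symm

open scoped Classical in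
/-- A block contains a height zero character whose orbit under its stabilizer has size prime
to `p`. -/
theorem exists_height_zero_orbit (hpM : (p : AlgInt) ∈ M) {b : Set (IrrCharacter N)}
    (hb : IsPBlock M b) (T : Subgroup G) (hT : ∀ g ∈ T, ∀ θ ∈ b, conjIrr N g θ ∈ b) :
    ∃ θ ∈ b, blockHeight p b (θ : N → ℂ) = 0 ∧ ∃ S : Subgroup G, S ≤ T ∧
      (∀ g : G, g ∈ S ↔ g ∈ T ∧ conjIrr N g θ = θ) ∧ ¬ p ∣ S.relIndex T := by
  classical
  haveI := irrFintype N
  have hpp : p.Prime := Fact.out
  obtain ⟨Q⟩ : Nonempty (Sylow p N) := inferInstance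
  haveI := Fintype.ofFinite (Q : Subgroup N)
  choose m hm using fun θ : IrrCharacter N =>
    inner_irr_right_nat (isCharacter_restrict (Q : Subgroup N) (isCharacter_of_irr θ.2))
      (principal (Q : Subgroup N))
  have hm' : ∀ θ : IrrCharacter N, (m θ : ℂ) =
      (Nat.card (Q : Subgroup N) : ℂ)⁻¹ * ∑ y : (Q : Subgroup N), (θ : N → ℂ) (y : N) := by
    intro θ
    rw [← hm, inner_def]
    simp [principal_apply]
  have hminv : ∀ g θ, m (conjIrr N g θ) = m θ := fun g θ => by
    exact_mod_cast (by rw [hm', hm', sum_sylow_conjIrr] :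
      ((m (conjIrr N g θ) : ℂ) = (m θ : ℂ)))
  have hdinv : ∀ g θ, charDegree (conjIrr N g θ : N → ℂ) = charDegree (θ : N → ℂ) := fun g θ => by
    simp only [charDegree, coe_conjIrr, CharsMore.conjFn, map_one]
  set a := (Nat.card N).factorization p with ha
  set v := blockMin p b with hv
  have hQ : Nat.card (Q : Subgroup N) = p ^ a := Q.card_eq_multiplicity
  -- the weighted degree sum
  have hS : (∑ᶠ χ ∈ b, charDegree (χ : N → ℂ) ^ 2) =
      p ^ a * ∑ θ : ↥b, m θ * charDegree (θ.1 : N → ℂ) := by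
    apply Nat.cast_injective (R := ℂ)
    rw [sum_mem_block, ← hQ]
    push_cast
    have hne : (Nat.card (Q : Subgroup N) : ℂ) ≠ 0 := Nat.cast_ne_zero.mpr Nat.card_pos.ne'
    have e : ∀ θ : ↥b, (m θ : ℂ) * (charDegree (θ.1 : N → ℂ) : ℂ) =
        (Nat.card (Q : Subgroup N) : ℂ)⁻¹ * ∑ y : (Q : Subgroup N),
          (θ.1 : N → ℂ) (y : N) * (θ.1 : N → ℂ) 1 := fun θ => by
      rw [hm', ← BlockOrth.irr_apply_one, mul_assoc, Finset.sum_mul]
    rw [Finset.sum_congr rfl (fun θ _ => e θ), ← Finset.mul_sum, ← mul_assoc,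
      mul_inv_cancel₀ hne, one_mul, Finset.sum_comm]
    symm
    rw [Finset.sum_eq_single (1 : (Q : Subgroup N))]
    · rw [← Finset.sum_subtype (p := fun θ => θ ∈ b) (Finset.univ.filter (· ∈ b)) (by simp)
        fun θ : IrrCharacter N => (θ : N → ℂ) (((1 : (Q : Subgroup N)) : N)) * (θ : N → ℂ) 1]
      refine Finset.sum_congr rfl fun θ _ => ?_
      rw [Subgroup.coe_one, BlockOrth.irr_apply_one, sq]
    · intro y _ hy
      have hy' : p ∣ orderOf (y : N) := by
        obtain ⟨k, hk⟩ := Q.isPGroup' y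
        obtain ⟨i, -, hi⟩ := (Nat.dvd_prime_pow hpp).mp (orderOf_dvd_of_pow_eq_one hk)
        rw [Subgroup.orderOf_coe, hi]
        refine dvd_pow_self p ?_
        rintro rfl
        exact hy (orderOf_eq_one_iff.mp (by rw [hi, pow_zero]))
      have h := congrArg (starRingEnd ℂ) (weak_orthogonality hpp hpM hb (x := (1 : N)) (y := (y : N))
        (by simp [hpp.not_dvd_one]) hy')
      rw [sum_mem_block, map_sum, map_zero] at h
      rw [← Finset.sum_subtype (p := fun θ => θ ∈ b) (Finset.univ.filter (· ∈ b)) (by simp)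
        fun θ : IrrCharacter N => (θ : N → ℂ) (y : N) * (θ : N → ℂ) 1]
      rw [← h]
      refine Finset.sum_congr rfl fun θ _ => ?_
      rw [map_mul, Complex.conj_conj, BlockOrth.irr_apply_one, map_natCast, mul_comm]
    · simp
  -- its valuation
  have hfac := sum_degree_sq_factorization (p := p) hpM hb
  rw [hS] at hfac
  set n := ∑ θ : ↥b, m θ * charDegree (θ.1 : N → ℂ) with hn
  have hn0 : n ≠ 0 := by
    intro h
    have h0 : ∑ᶠ χ ∈ b, charDegree (χ : N → ℂ) ^ 2 = 0 := by rw [hS, h, mul_zero]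
    obtain ⟨θ, hθ⟩ := CfsgLib.Blocks.IsPBlock.nonempty hb
    rw [sum_mem_block, Finset.sum_eq_zero_iff] at h0
    exact BlockOrth.irr_charDegree_ne_zero θ
      (eq_zero_of_pow_eq_zero (h0 θ (Finset.mem_filter.mpr ⟨Finset.mem_univ _, hθ⟩)))
  rw [Nat.factorization_mul (pow_ne_zero _ hpp.ne_zero) hn0, Finsupp.add_apply,
    hpp.factorization_pow, Finsupp.single_eq_same, ← ha, ← hv, add_right_inj] at hfac
  -- orbits of the stabilizer
  letI : MulAction T ↥b :=
    { smul := fun g θ => ⟨conjIrr N (g : G)⁻¹ θ.1, hT _ (inv_mem g.2) θ.1 θ.2⟩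
      one_smul := fun θ => Subtype.ext (by
        show conjIrr N ((1 : T) : G)⁻¹ θ.1 = θ.1
        rw [Subgroup.coe_one, inv_one, conjIrr_one])
      mul_smul := fun g h θ => Subtype.ext (by
        show conjIrr N ((g * h : T) : G)⁻¹ θ.1 =
          conjIrr N (g : G)⁻¹ (conjIrr N (h : G)⁻¹ θ.1)
        rw [Subgroup.coe_mul, mul_inv_rev, conjIrr_mul]) }
  by_contra hcon
  have hdiv : p ^ (v + 1) ∣ n := by
    rw [hn, ← Finset.sum_fiberwise Finset.univ
      (fun θ : ↥b => (Quotient.mk'' θ : MulAction.orbitRel.Quotient T ↥b))]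
    refine Finset.dvd_sum fun q _ => ?_
    obtain ⟨θ, rfl⟩ := Quotient.mk''_surjective q
    have hfib : ∀ φ : ↥b, φ ∈ MulAction.orbit T θ ↔
        (Quotient.mk'' φ : MulAction.orbitRel.Quotient T ↥b) = Quotient.mk'' θ := fun φ => by
      rw [Quotient.eq'']; rfl
    rw [Finset.sum_congr rfl (g := fun _ => m θ.1 * charDegree (θ.1 : N → ℂ)) (fun φ hφ => by
      obtain ⟨g, rfl⟩ := (hfib φ).mpr (Finset.mem_filter.mp hφ).2
      show m (conjIrr N (g : G)⁻¹ θ.1) * charDegree (conjIrr N (g : G)⁻¹ θ.1 : N → ℂ) = _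
      rw [hminv, hdinv]), Finset.sum_const, smul_eq_mul]
    rcases eq_or_lt_of_le (blockMin_le (p := p) θ.2) with h | h
    · have hidx : p ∣ (MulAction.stabilizer T θ).index := by
        by_contra hidx
        refine hcon ⟨θ.1, θ.2, (blockHeight_eq_zero_iff θ.2).mpr h.symm,
          (MulAction.stabilizer T θ).map T.subtype, Subgroup.map_subtype_le _, fun g => ?_, ?_⟩
        · constructor
          · rintro ⟨g, hg, rfl⟩
            refine ⟨g.2, ?_⟩
            have e : conjIrr N (g : G)⁻¹ θ.1 = θ.1 := congrArg Subtype.val hg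
            show conjIrr N (g : G) θ.1 = θ.1
            conv_lhs => rw [← e, ← conjIrr_mul, inv_mul_cancel, conjIrr_one]
          · rintro ⟨hg, he⟩
            refine ⟨⟨g, hg⟩, Subtype.ext ?_, rfl⟩
            show conjIrr N g⁻¹ θ.1 = θ.1
            conv_lhs => rw [← he, ← conjIrr_mul, mul_inv_cancel, conjIrr_one]
        · rwa [Subgroup.relIndex, Subgroup.subgroupOf,
            Subgroup.comap_map_eq_self_of_injective (Subgroup.subtype_injective T)]
      have hcard : (Finset.univ.filter fun φ : ↥b =>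
          (Quotient.mk'' φ : MulAction.orbitRel.Quotient T ↥b) = Quotient.mk'' θ).card =
          (MulAction.stabilizer T θ).index := by
        rw [MulAction.index_stabilizer, ← Set.ncard_coe_finset]
        congr 1
        ext φ
        simp [hfib]
      rw [hcard, pow_succ']
      refine mul_dvd_mul hidx (dvd_mul_of_dvd_right ?_ _)
      rw [hv, h]
      exact Nat.ordProj_dvd _ p
    · exact dvd_mul_of_dvd_right (dvd_mul_of_dvd_right
        ((pow_dvd_pow p h).trans (Nat.ordProj_dvd _ p)) _) _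
  rw [hpp.pow_dvd_iff_le_factorization hn0] at hdiv
  omega

end CfsgLib.CharApps
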