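import Cfsg.Agent.Lib.CharApps.AbelianSylow
import Cfsg.Agent.Lib.Blocks.RegularTwist
import Cfsg.Agent.Lib.Blocks.Degree
import Cfsg.Agent.Lib.Chars.Burnside
import Cfsg.Agent.Lib.BlockOrth.PPart
import Cfsg.Agent.Lib.Base.MinimalNormal
import Cfsg.Agent.Lib.Chars.Linear

/-!
# Kazarin's theorem: a class of prime power size generates a solvable normal subgroup

For a minimal counterexample `G = ⟨x^G⟩`, with `N` the minimal normal subgroup and `q ≠ p` a prime
divisor of `|N|`, every character in the principal `q`-block is non-zero at `x` (its central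
character is congruent to `|x^G|`), so those of degree prime to `p` are trivial on `N`, hence
linear; weak block orthogonality at a `q`-element of `N` then makes their number, a power of `q`,
divisible by `p`.
-/

set_option autoImplicit false
set_option linter.style.haveILetI false

namespace CfsgLib.CharApps.Kazarin

open Cfsg CfsgLib.Chars CfsgLib.Blocks Module
open scoped ComplexConjugate

universe u

variable {G : Type u} [Group G] [Finite G]

/-- A root of unity congruent to one has prime power order. -/
theorem exists_pow_eq_one_of_congr {q : ℕ} (hq : q.Prime) {M : Ideal AlgInt} [M.IsPrime]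
    (hqM : (q : AlgInt) ∈ M) {z : ℂ} {n : ℕ} (hn : 0 < n) (hz : z ^ n = 1)
    (h : MemLocalIdeal M (z - 1)) : ∃ j : ℕ, z ^ q ^ j = 1 := by
  obtain ⟨j, m, hm, rfl⟩ := Nat.exists_eq_pow_mul_and_not_dvd hn.ne' q hq.ne_one
  refine ⟨j, by_contra fun hne => ?_⟩
  have hint : IsIntegral ℤ z := IsIntegral.of_pow hn (hz ▸ isIntegral_one)
  have hloc : z ∈ loc M := isIntegral_mem_loc hint
  set w := z ^ q ^ j
  have hw : MemLocalIdeal M (w - 1) := by
    rw [← geom_sum_mul]
    exact MemLocalIdeal.mul_left' (sum_mem fun i _ => pow_mem hloc i) h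
  have hwm : w ^ m = 1 := by rw [← pow_mul]; exact hz
  have hsum : ∑ i ∈ Finset.range m, w ^ i = 0 := by
    have := geom_sum_mul w m
    rw [hwm, sub_self, mul_eq_zero] at this
    exact this.resolve_right (sub_ne_zero.2 hne)
  have hm' : MemLocalIdeal M (∑ i ∈ Finset.range m, (w ^ i - 1)) := by
    refine MemLocalIdeal.sum' fun i _ => ?_
    rw [← geom_sum_mul]
    exact MemLocalIdeal.mul_left' (sum_mem fun k _ => pow_mem (pow_mem hloc _) k) hw
  rw [Finset.sum_sub_distrib, hsum, zero_sub, Finset.sum_const, Finset.card_range, nsmul_eq_mul,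
    mul_one] at hm'
  have h' := MemLocalIdeal.neg' hm'
  rw [neg_neg] at h'
  exact hm ((memLocalIdeal_natCast_iff hq hqM m).1 h')

omit [Finite G] in
theorem exists_conj_mem_normalClosure {x : G} (P : G → Prop) (h1 : P 1)
    (hmul : ∀ a b, P a → P b → P (a * b)) (hinv : ∀ a, P a → P a⁻¹)
    (hconj : ∀ g, P (g * x * g⁻¹)) {y : G} (hy : y ∈ Subgroup.normalClosure ({x} : Set G)) :
    P y := by
  let H : Subgroup G :=
    { carrier := {a | P a}, one_mem' := h1, mul_mem' := fun {a b} => hmul a b,
      inv_mem' := fun {a} => hinv a }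
  have hle : Subgroup.normalClosure ({x} : Set G) ≤ H := by
    rw [Subgroup.normalClosure, Subgroup.closure_le]
    intro a ha
    rw [Group.mem_conjugatesOfSet_iff] at ha
    obtain ⟨b, hb, hab⟩ := ha
    rw [Set.mem_singleton_iff] at hb
    subst hb
    obtain ⟨g, rfl⟩ := isConj_iff.1 hab
    exact hconj g
  exact hle hy

omit [Finite G] in
theorem isSolvable_sup (M N : Subgroup G) [M.Normal] [N.Normal] (hM : Group.IsSolvable M)
    (hN : Group.IsSolvable N) : Group.IsSolvable ↥(M ⊔ N) := by
  haveI : Group.IsSolvable ↥(M.subgroupOf (M ⊔ N)) :=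
    Group.isSolvable_of_surjective (f := (Subgroup.subgroupOfEquivOfLe (le_sup_left (a := M) (b := N))).symm.toMonoidHom)
      (Subgroup.subgroupOfEquivOfLe le_sup_left).symm.surjective
  haveI : Group.IsSolvable (↥(M ⊔ N) ⧸ M.subgroupOf (M ⊔ N)) := by
    haveI := hN
    refine Group.isSolvable_of_surjective
      (f := (QuotientGroup.mk' (M.subgroupOf (M ⊔ N))).comp (Subgroup.inclusion le_sup_right)) ?_
    intro q
    obtain ⟨⟨a, ha⟩, rfl⟩ := QuotientGroup.mk'_surjective _ q
    obtain ⟨m, hm, b, hb, rfl⟩ : ∃ m ∈ M, ∃ b ∈ N, m * b = a := by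
      rwa [← SetLike.mem_coe, Subgroup.normal_mul M N, Set.mem_mul] at ha
    refine ⟨⟨b, hb⟩, ?_⟩
    rw [MonoidHom.comp_apply, QuotientGroup.mk'_apply, QuotientGroup.mk'_apply, QuotientGroup.eq,
      Subgroup.mem_subgroupOf]
    simp only [Subgroup.coe_mul, Subgroup.coe_inv, Subgroup.coe_inclusion]
    simpa [mul_assoc] using (inferInstance : M.Normal).conj_mem m hm b⁻¹
  exact (Group.isSolvable_iff_subgroup_quotient (M.subgroupOf (M ⊔ N))).2 ⟨inferInstance, inferInstance⟩

/-- A normal subgroup all of whose elements are products from solvable normal subgroups. -/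
theorem isSolvable_iSup_normal {ι : Type*} (f : ι → Subgroup G) (hn : ∀ i, (f i).Normal)
    (hs : ∀ i, Group.IsSolvable (f i)) (s : Finset ι) :
    (s.sup f).Normal ∧ Group.IsSolvable ↥(s.sup f) := by
  classical
  induction s using Finset.induction with
  | empty => rw [Finset.sup_empty]; exact ⟨inferInstance, inferInstance⟩
  | insert a s _ ih =>
    rw [Finset.sup_insert]
    haveI := hn a
    haveI := ih.1
    exact ⟨inferInstance, isSolvable_sup _ _ (hs a) ih.2⟩

omit [Finite G] in
theorem isSolvable_map_equiv {H H' : Type*} [Group H] [Group H'] (e : H ≃* H') (S : Subgroup H)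
    (hS : Group.IsSolvable S) : Group.IsSolvable ↥(S.map e.toMonoidHom) := by
  haveI := hS
  exact Group.isSolvable_of_surjective
    (f := (S.equivMapOfInjective e.toMonoidHom e.injective).toMonoidHom)
    (S.equivMapOfInjective e.toMonoidHom e.injective).surjective

/-- If the normal closure of `x` in the normal subgroup `K` is solvable and the conjugates of `x`
generate `K`, then `K` is solvable. -/
theorem isSolvable_of_conjugates_generate (K : Subgroup G) [hKn : K.Normal] (x : G) (hxK : x ∈ K)
    (hK : K ≤ Subgroup.normalClosure ({x} : Set G))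
    (hsol : Group.IsSolvable ↥(Subgroup.normalClosure ({⟨x, hxK⟩} : Set K))) :
    Group.IsSolvable K := by
  classical
  haveI := Fintype.ofFinite G
  let K₁ : G → Subgroup K := fun g =>
    Subgroup.normalClosure ({⟨g * x * g⁻¹, hKn.conj_mem x hxK g⟩} : Set K)
  have hsolv : ∀ g, Group.IsSolvable ↥(K₁ g) := by
    intro g
    have he : (MulAut.conjNormal g : MulAut K) ⟨x, hxK⟩ =
        ⟨g * x * g⁻¹, hKn.conj_mem x hxK g⟩ := Subtype.ext (by simp [MulAut.conjNormal_apply])
    have hmap : (Subgroup.normalClosure ({⟨x, hxK⟩} : Set K)).map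
        ((MulAut.conjNormal g : MulAut K) : K ≃* K).toMonoidHom = K₁ g := by
      refine (Subgroup.map_normalClosure _ _ (MulAut.conjNormal g : MulAut K).surjective).trans ?_
      rw [Set.image_singleton]
      exact congrArg (fun a => Subgroup.normalClosure ({a} : Set K)) he
    rw [← hmap]
    exact isSolvable_map_equiv _ _ hsol
  obtain ⟨-, hS⟩ := isSolvable_iSup_normal K₁ (fun g => Subgroup.normalClosure_normal) hsolv
    Finset.univ
  have htop' : Finset.univ.sup K₁ = ⊤ := by
    rw [eq_top_iff]
    intro a _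
    have key : (a : G) ∈ (Finset.univ.sup K₁).map K.subtype := by
      refine exists_conj_mem_normalClosure (x := x)
        (fun y => y ∈ (Finset.univ.sup K₁).map K.subtype) (one_mem _)
        (fun _ _ => mul_mem) (fun _ => inv_mem) (fun g => ?_) (hK a.2)
      exact ⟨⟨g * x * g⁻¹, hKn.conj_mem x hxK g⟩,
        (Finset.le_sup (f := K₁) (Finset.mem_univ g)) (Subgroup.subset_normalClosure rfl), rfl⟩
    obtain ⟨b, hb, hba⟩ := key
    rwa [← Subtype.ext hba]
  haveI := hS
  exact Group.isSolvable_of_surjective (f := (Finset.univ.sup K₁).subtype)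
    (fun a => ⟨⟨a, htop' ▸ Subgroup.mem_top a⟩, rfl⟩)

/-- The core step: `G` is generated by a class of `p`-power size, has trivial centre and a
nontrivial normal subgroup contained in every other one; then that subgroup is a `p`-group. -/
theorem unique_minimal_isPGroup (x : G) {p k : ℕ} (hp : p.Prime)
    (hx : (Subgroup.centralizer ({x} : Set G)).index = p ^ k)
    (hgen : Subgroup.normalClosure ({x} : Set G) = ⊤) (hxc : x ∉ Subgroup.center G)
    (N : Subgroup G) (hNle : ∀ M : Subgroup G, M.Normal → M ≠ ⊥ → N ≤ M)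
    {q : ℕ} (hq : q.Prime) (hqp : q ≠ p) : ¬ q ∣ Nat.card N := by
  classical
  haveI := Fintype.ofFinite G
  haveI := irrFintype G
  haveI := Fact.mk hq
  intro hqN
  obtain ⟨y, hy⟩ := exists_prime_orderOf_dvd_card' (G := N) q hqN
  have hyord : orderOf (y : G) = q := (Subgroup.orderOf_coe y).trans hy
  obtain ⟨M, hM⟩ := exists_pModular q
  haveI : M.IsPrime := isPrime_of_isPModular hM
  set B := principalBlock M G with hBdef
  have hpk : ¬ MemLocalIdeal M ((p : ℂ) ^ k) := by
    rw [← Nat.cast_pow, memLocalIdeal_natCast_iff hq hM.2.2]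
    exact fun h => hqp ((Nat.prime_dvd_prime_iff_eq hq hp).1 (hq.dvd_of_dvd_pow h))
  -- characters in the block do not vanish at `x`
  have hne : ∀ χ ∈ B, (χ : G → ℂ) x ≠ 0 := by
    intro χ hχ h0
    have h := hχ x
    rw [centralChar, centralChar, hx, h0] at h
    have h' := MemLocalIdeal.neg' h
    refine hpk ?_
    simpa using h
  -- those of degree prime to `p` are linear
  have hlin : ∀ χ ∈ B, ¬ p ∣ charDegree (χ : G → ℂ) →
      ∃ lam : G →* ℂˣ, (χ : G → ℂ) = fun g => (lam g : ℂ) := by
    intro χ hχ hpd
    obtain ⟨⟨_, n, ρ, hρ, rfl⟩, rfl⟩ : ∃ ψ : IrrCharacter G, ψ = χ := ⟨χ, rfl⟩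
    have hn : charDegree ρ.character = n := by simp [charDegree]
    replace hpd : ¬ p ∣ n := by simpa [hn] using hpd
    have hcop : Nat.Coprime (finrank ℂ (Fin n → ℂ))
        (Subgroup.centralizer ({x} : Set G)).index := by
      rw [hx, Module.finrank_fin_fun]
      exact ((Nat.Prime.coprime_iff_not_dvd hp).mpr hpd).symm.pow_right k
    have hnorm := (character_eq_zero_or_norm_eq ρ x hcop).resolve_left (hne _ hχ)
    obtain ⟨ω, hω⟩ := (norm_character_eq_iff ρ x).1 hnorm
    have hscal : ∀ g : G, ∃ c : ℂ, ρ g = c • LinearMap.id := by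
      intro g
      refine exists_conj_mem_normalClosure (x := x)
        (fun a => ∃ c : ℂ, ρ a = c • LinearMap.id) ?_ ?_ ?_ ?_ (hgen ▸ Subgroup.mem_top g)
      · exact ⟨1, by rw [map_one, one_smul]; rfl⟩
      · rintro a b ⟨c, hc⟩ ⟨d, hd⟩
        exact ⟨c * d, by rw [map_mul, hc, hd]; ext; simp [smul_smul, mul_comm]⟩
      · rintro a ⟨c, hc⟩
        refine ⟨c⁻¹, ?_⟩
        have h1 : ρ a⁻¹ * ρ a = 1 := by rw [← map_mul, inv_mul_cancel, map_one]
        rw [hc] at h1
        by_cases hc0 : c = 0
        · subst hc0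
          have hz : (1 : Module.End ℂ (Fin n → ℂ)) = 0 := by
            rw [← h1]; ext; simp
          calc ρ a⁻¹ = ρ a⁻¹ * 1 := (mul_one _).symm
            _ = _ := by rw [hz, mul_zero, inv_zero, zero_smul]
        · have h2 : c • ρ a⁻¹ = 1 := by rw [← h1]; ext; simp
          calc ρ a⁻¹ = c⁻¹ • c • ρ a⁻¹ := by rw [smul_smul, inv_mul_cancel₀ hc0, one_smul]
            _ = c⁻¹ • LinearMap.id := by rw [h2]; rfl
      · intro g
        refine ⟨ω, ?_⟩
        have h1 : ρ g * ρ g⁻¹ = 1 := by rw [← map_mul, mul_inv_cancel, map_one]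
        calc ρ (g * x * g⁻¹) = ρ g * (ω • LinearMap.id) * ρ g⁻¹ := by rw [map_mul, map_mul, hω]
          _ = ω • (ρ g * ρ g⁻¹) := by ext; simp
          _ = _ := by rw [h1]; rfl
    have hmem : ∀ g, ‖ρ.character g‖ = (n : ℝ) := fun g => by
      have := (norm_character_eq_iff ρ g).2 (hscal g)
      rwa [Module.finrank_fin_fun] at this
    have h3 := inner_self_irr ρ
    rw [inner_def] at h3
    have hsum : ∑ g : G, ρ.character g * conj (ρ.character g) = (Nat.card G : ℂ) * ((n : ℂ) * n) := by
      rw [Finset.sum_congr rfl (g := fun _ => (n : ℂ) * n), Finset.sum_const, Finset.card_univ,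
        ← Nat.card_eq_fintype_card, nsmul_eq_mul]
      intro g _
      rw [Complex.mul_conj', hmem g]
      push_cast; ring
    rw [hsum, ← mul_assoc, inv_mul_cancel₀ (card_ne_zero G), one_mul] at h3
    have h4 : n * n = 1 := by exact_mod_cast h3
    obtain ⟨lam, hlam⟩ := exists_hom_of_degree_one
      (isCharacter_of_irr (⟨ρ.character, isIrrCharacter_character ρ⟩ : IrrCharacter G).2)
      (by simp [Nat.eq_one_of_mul_eq_one_right h4])
    exact ⟨lam, hlam⟩
  -- linear characters in the block form a `q`-group
  let L : Subgroup (G →* ℂˣ) :=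
    { carrier := {lam | ∀ g : G, MemLocalIdeal M
        (((Subgroup.centralizer ({g} : Set G)).index : ℂ) * (lam g : ℂ) -
          ((Subgroup.centralizer ({g} : Set G)).index : ℂ))}
      one_mem' := fun g => by simpa using MemLocalIdeal.zero' (M := M)
      mul_mem' := fun {a b} ha hb g => by
        have hloc : (a g : ℂ) ∈ loc M := isIntegral_mem_loc (IsIntegral.of_pow (orderOf_pos g)
          (by rw [← Units.val_pow_eq_pow_val, ← map_pow, pow_orderOf_eq_one, map_one,
            Units.val_one]; exact isIntegral_one))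
        have := MemLocalIdeal.add' (MemLocalIdeal.mul_left' hloc (hb g)) (ha g)
        convert this using 1
        simp only [MonoidHom.mul_apply, Units.val_mul]
        ring
      inv_mem' := fun {a} ha g => by
        have hloc : ((a g)⁻¹ : ℂˣ).1 ∈ loc M := isIntegral_mem_loc (IsIntegral.of_pow (orderOf_pos g)
          (by rw [← Units.val_pow_eq_pow_val, inv_pow, ← map_pow, pow_orderOf_eq_one, map_one,
            inv_one, Units.val_one]; exact isIntegral_one))
        have := MemLocalIdeal.neg' (MemLocalIdeal.mul_left' hloc (ha g))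
        convert this using 1
        simp only [MonoidHom.inv_apply, Units.val_inv_eq_inv_val]
        field_simp
        ring }
  have hLB : ∀ (lam : G →* ℂˣ), lam ∈ L ↔
      (⟨fun g => (lam g : ℂ), isIrrCharacter_linear lam⟩ : IrrCharacter G) ∈ B := by
    intro lam
    show (∀ g : G, _) ↔ ∀ g : G, _
    refine forall_congr' fun g => ?_
    simp only [centralChar, map_one, Units.val_one, div_one, mul_one]
    refine ⟨fun h => ?_, fun h => ?_⟩
    · have := MemLocalIdeal.neg' h; rwa [neg_sub] at this
    · have := MemLocalIdeal.neg' h; rwa [neg_sub] at this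
  have hLq : IsPGroup q L := by
    intro lam
    obtain ⟨lam, hlam⟩ := lam
    have h1 := hlam x
    rw [hx] at h1
    push_cast at h1
    have hzn : (lam x : ℂ) ^ orderOf x = 1 := by
      rw [← Units.val_pow_eq_pow_val, ← map_pow, pow_orderOf_eq_one, map_one, Units.val_one]
    have hloc : (lam x : ℂ) - 1 ∈ loc M := sub_mem (isIntegral_mem_loc
      (IsIntegral.of_pow (orderOf_pos x) (hzn ▸ isIntegral_one))) (one_mem _)
    rw [show (p : ℂ) ^ k * (lam x : ℂ) - (p : ℂ) ^ k = (p : ℂ) ^ k * ((lam x : ℂ) - 1) by ring] at h1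
    have h2 := (MemLocalIdeal.mem_or_mem (pow_mem (natCast_mem_loc p) k) hloc h1).resolve_left hpk
    obtain ⟨j, hj⟩ := exists_pow_eq_one_of_congr hq hM.2.2 (orderOf_pos x) hzn h2
    refine ⟨j, Subtype.ext (MonoidHom.ext fun g => ?_)⟩
    refine exists_conj_mem_normalClosure (x := x) (fun a => (lam ^ q ^ j) a = 1) (map_one _)
      (fun a b ha hb => by rw [map_mul, ha, hb, one_mul]) (fun a ha => by rw [map_inv, ha, inv_one])
      (fun c => ?_) (hgen ▸ Subgroup.mem_top g)
    rw [map_mul, map_mul, map_inv, mul_comm, ← mul_assoc, inv_mul_cancel, one_mul,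
      MonoidHom.pow_apply]
    exact Units.ext (by rw [Units.val_pow_eq_pow_val, hj, Units.val_one])
  haveI : Finite (G →* ℂˣ) := Nat.finite_of_card_ne_zero (by
    rw [card_monoidHom_units]; exact Subgroup.index_ne_zero_of_finite)
  -- weak orthogonality at `y`
  have horth := weak_orthogonality (x := (1 : G)) (y := (y : G)) hq hM.2.2
    (isPBlock_principalBlock (G := G) M) (by simp [hq.ne_one]) (by rw [hyord])
  rw [finsum_mem_eq_sum_of_inter_support_eq (t := Finset.univ.filter (· ∈ B)) _ (by ext; simp [B])]
    at horth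
  rw [← Finset.sum_filter_add_sum_filter_not _ (fun χ : IrrCharacter G =>
    p ∣ charDegree (χ : G → ℂ))] at horth
  set S := (Finset.univ.filter (· ∈ B)).filter (fun χ : IrrCharacter G =>
    ¬ p ∣ charDegree (χ : G → ℂ)) with hS
  have hterm : ∀ χ ∈ S, (χ : G → ℂ) 1 * conj ((χ : G → ℂ) y) = 1 := by
    intro χ hχ
    simp only [hS, Finset.mem_filter, Finset.mem_univ, true_and] at hχ
    obtain ⟨lam, hlam⟩ := hlin χ hχ.1 hχ.2
    have hy1 : lam (y : G) = 1 := by
      have hker : N ≤ lam.ker := hNle _ inferInstance fun hb => hxc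
        (Subgroup.mem_center_iff.2 fun g => (MonoidHom.ker_eq_bot_iff lam).1 hb
          (by rw [map_mul, map_mul, mul_comm]))
      exact hker y.2
    simp [hlam, hy1]
  rw [Finset.sum_congr rfl hterm, Finset.sum_const, nsmul_eq_mul, mul_one] at horth
  have hcard : S.card = Nat.card L := by
    rw [← Nat.card_eq_finsetCard]
    refine (Nat.card_congr (Equiv.ofBijective
      (fun lam : L => (⟨⟨fun g => (lam.1 g : ℂ), isIrrCharacter_linear lam.1⟩, by
        simp only [hS, Finset.mem_filter, Finset.mem_univ, true_and]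
        refine ⟨(hLB lam.1).1 lam.2, ?_⟩
        simp [charDegree, hp.ne_one]⟩ : S)) ⟨?_, ?_⟩)).symm
    · intro a b hab
      refine Subtype.ext (MonoidHom.ext fun g => Units.ext ?_)
      exact congrFun (congrArg (fun s : S => (s.1 : G → ℂ)) hab) g
    · rintro ⟨χ, hχ⟩
      have hχ' := hχ
      simp only [hS, Finset.mem_filter, Finset.mem_univ, true_and] at hχ'
      obtain ⟨lam, hlam⟩ := hlin χ hχ'.1 hχ'.2
      obtain rfl : χ = ⟨fun g => (lam g : ℂ), isIrrCharacter_linear lam⟩ := Subtype.ext hlam
      exact ⟨⟨lam, (hLB lam).2 hχ'.1⟩, rfl⟩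
  have hint : IsIntegral ℤ ((S.card : ℂ) / (p : ℂ)) := by
    rw [eq_neg_of_add_eq_zero_right horth, neg_div, Finset.sum_div]
    refine (IsIntegral.sum _ fun χ hχ => ?_).neg
    obtain ⟨d, hd⟩ := (Finset.mem_filter.1 hχ).2
    have hpC : (p : ℂ) ≠ 0 := Nat.cast_ne_zero.mpr hp.ne_zero
    rw [deg_eq, hd]
    have he : ((p * d : ℕ) : ℂ) * conj ((χ : G → ℂ) y) / (p : ℂ) = (d : ℂ) * conj ((χ : G → ℂ) y) := by
      push_cast; field_simp
    rw [he, ← irr_inv]
    exact (isIntegral_natCast _).mul (char_isIntegral (isCharacter_of_irr χ.2) _)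
  obtain ⟨j, hj⟩ := IsPGroup.iff_card.1 hLq
  have hdvd := dvd_of_isIntegral_div hp.ne_zero hint
  rw [hcard, hj] at hdvd
  exact hqp ((Nat.prime_dvd_prime_iff_eq hp hq).1 (hp.dvd_of_dvd_pow hdvd)).symm

/-- The index of a centralizer inside a normal subgroup divides the index in the group. -/
theorem relIndex_dvd_index (C K : Subgroup G) [K.Normal] : C.relIndex K ∣ C.index := by
  have h1 : (C ⊓ K).relIndex K * K.relIndex (K ⊔ C) = (C ⊓ K).relIndex (K ⊔ C) :=
    Subgroup.relIndex_mul_relIndex _ _ _ inf_le_right le_sup_left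
  have h2 : (C ⊓ K).relIndex C * C.relIndex (K ⊔ C) = (C ⊓ K).relIndex (K ⊔ C) :=
    Subgroup.relIndex_mul_relIndex _ _ _ inf_le_left le_sup_right
  rw [Subgroup.inf_relIndex_right, Subgroup.relIndex_sup_left, ← h2, Subgroup.inf_relIndex_left] at h1
  have h0 : K.relIndex C ≠ 0 := Subgroup.index_ne_zero_of_finite
  have heq : C.relIndex K = C.relIndex (K ⊔ C) := by
    rw [mul_comm] at h1
    exact mul_left_cancel₀ h0 h1
  rw [heq]
  exact Subgroup.relIndex_dvd_index_of_le le_sup_right

theorem isSolvable_normalClosure_aux (n : ℕ) : ∀ (G : Type u) [Group G] [Finite G],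
    Nat.card G = n → ∀ (x : G) (p k : ℕ), p.Prime →
      (Subgroup.centralizer ({x} : Set G)).index = p ^ k →
        Group.IsSolvable ↥(Subgroup.normalClosure ({x} : Set G)) := by
  induction n using Nat.strong_induction_on with
  | _ n ih =>
    intro G _ _ hn x p k hp hx
    set K := Subgroup.normalClosure ({x} : Set G) with hK
    have hxK : x ∈ K := Subgroup.subset_normalClosure rfl
    haveI : K.Normal := Subgroup.normalClosure_normal
    by_cases htop : K = ⊤
    swap
    · -- the normal closure is proper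
      have hlt : Nat.card K < n := by
        rw [← hn]
        exact lt_of_le_of_ne (Subgroup.card_le_card_group K)
          fun e => htop (Subgroup.card_eq_iff_eq_top K |>.1 e)
      have hd : (Subgroup.centralizer ({(⟨x, hxK⟩ : K)} : Set K)).index ∣ p ^ k := by
        rw [← hx]
        have e : Subgroup.centralizer ({(⟨x, hxK⟩ : K)} : Set K) =
            (Subgroup.centralizer ({x} : Set G)).subgroupOf K := by
          ext a
          simp [Subgroup.mem_centralizer_singleton_iff, Subgroup.mem_subgroupOf, Subtype.ext_iff]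
        rw [e]
        exact relIndex_dvd_index _ _
      obtain ⟨j, -, hj⟩ := (Nat.dvd_prime_pow hp).1 hd
      have hsol := ih _ hlt K rfl ⟨x, hxK⟩ p j hp hj
      exact isSolvable_of_conjugates_generate K x hxK le_rfl hsol
    · by_contra hns
      have hGns : ¬ Group.IsSolvable G := fun h => hns inferInstance
      have hquot : ∀ M : Subgroup G, ∀ _ : M.Normal, M ≠ ⊥ → Group.IsSolvable (G ⧸ M) := by
        intro M _ hM
        have hlt : Nat.card (G ⧸ M) < n := by
          rw [← hn, Subgroup.card_eq_card_quotient_mul_card_subgroup M]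
          exact lt_mul_of_one_lt_right Nat.card_pos ((Subgroup.one_lt_card_iff_ne_bot M).2 hM)
        have hle : (Subgroup.centralizer ({x} : Set G)).map (QuotientGroup.mk' M) ≤
            Subgroup.centralizer ({QuotientGroup.mk' M x} : Set (G ⧸ M)) := by
          rintro _ ⟨c, hc, rfl⟩
          rw [Subgroup.mem_centralizer_singleton_iff, ← map_mul, ← map_mul]
          exact congrArg _ (Subgroup.mem_centralizer_singleton_iff.1 hc)
        have hd : (Subgroup.centralizer ({QuotientGroup.mk' M x} : Set (G ⧸ M))).index ∣ p ^ k := by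
          rw [← hx]
          exact (Subgroup.index_dvd_of_le hle).trans
            (Subgroup.index_map_dvd _ (QuotientGroup.mk'_surjective M))
        obtain ⟨j, -, hj⟩ := (Nat.dvd_prime_pow hp).1 hd
        have hsol := ih _ hlt (G ⧸ M) rfl (QuotientGroup.mk' M x) p j hp hj
        have htop2 : Subgroup.normalClosure ({QuotientGroup.mk' M x} : Set (G ⧸ M)) = ⊤ := by
          have := Subgroup.map_normalClosure ({x} : Set G) (QuotientGroup.mk' M)
            (QuotientGroup.mk'_surjective M)
          rw [Set.image_singleton] at this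
          rw [← this, ← hK, htop, Subgroup.map_top_of_surjective _ (QuotientGroup.mk'_surjective M)]
        haveI := hsol
        exact Group.isSolvable_of_surjective
          (f := (Subgroup.normalClosure ({QuotientGroup.mk' M x} : Set (G ⧸ M))).subtype)
          fun a => ⟨⟨a, htop2 ▸ Subgroup.mem_top a⟩, rfl⟩
      have hnosol : ∀ M : Subgroup G, M.Normal → M ≠ ⊥ → ¬ Group.IsSolvable M := by
        intro M hMn hM hs
        haveI := hquot M hMn hM
        exact hGns (Group.isSolvable_of_ker_le_range M.subtype (QuotientGroup.mk' M)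
          (by rw [QuotientGroup.ker_mk', Subgroup.range_subtype]))
      haveI : Nontrivial G := by
        by_contra h
        rw [not_nontrivial_iff_subsingleton] at h
        exact hGns inferInstance
      obtain ⟨N, hN⟩ := CfsgLib.Base.exists_isMinimalNormal (G := G)
      haveI := hN.normal
      have hNle : ∀ M : Subgroup G, M.Normal → M ≠ ⊥ → N ≤ M := by
        intro M hMn hM
        rcases hN.le_or_inf_eq_bot M with h | h
        · exact h
        · exfalso
          haveI := hquot M hMn hM
          haveI := hquot N hN.normal hN.ne_bot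
          refine hGns (Group.isSolvable_of_isSolvable_injective
            (f := (QuotientGroup.mk' N).prod (QuotientGroup.mk' M)) ?_)
          rw [← MonoidHom.ker_eq_bot_iff, MonoidHom.ker_prod, QuotientGroup.ker_mk',
            QuotientGroup.ker_mk']
          exact h
      have hxc : x ∉ Subgroup.center G := fun hc => by
        refine hGns ?_
        have : Subgroup.center G = ⊤ := top_le_iff.1 (htop ▸
          Subgroup.normalClosure_le_normal (Set.singleton_subset_iff.2 hc))
        exact Group.isSolvable_of_comm fun a b =>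
          Subgroup.mem_center_iff.1 (this ▸ Subgroup.mem_top b) a
      refine hnosol N hN.normal hN.ne_bot ?_
      refine isSolvable_of_primeFactors_pair p p fun r hr hrd => Or.inl (by_contra fun hne => ?_)
      exact unique_minimal_isPGroup x hp hx htop hxc N hNle hr hne hrd

/-- **Kazarin's theorem.** -/
theorem isSolvable_normalClosure (x : G) {p k : ℕ} (hp : p.Prime)
    (hx : (Subgroup.centralizer ({x} : Set G)).index = p ^ k) :
    Group.IsSolvable ↥(Subgroup.normalClosure ({x} : Set G)) :=
  isSolvable_normalClosure_aux _ G rfl x p k hp hx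

end CfsgLib.CharApps.Kazarin
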