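import Cfsg.Agent.Lib.CharApps.InvertedColumns
import Cfsg.Agent.Lib.CharApps.ClassCount
import Cfsg.Agent.Lib.Blocks.PrincipalBlock
import Mathlib.GroupTheory.Transfer

/-!
# The principal `2`-block when the Sylow `2`-subgroup has order four and there is no normal
`2`-complement
-/

set_option autoImplicit false
set_option linter.style.haveILetI false
set_option linter.unusedSectionVars false

namespace CfsgLib.CharApps

open Cfsg CfsgLib.Chars CfsgLib.Blocks
open scoped ComplexConjugate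

universe u

variable {G : Type u} [Group G] [Fintype G]

/-- The principal block part at the identity, in a group with a normal `p`-complement. -/
theorem blockPart_principal_one_of_complement {p : ℕ} [Fact p.Prime] {M : Ideal AlgInt}
    [M.IsPrime] (hpM : (p : AlgInt) ∈ M) {N : Subgroup G} [N.Normal] [Fintype N]
    (hN : ¬ p ∣ Nat.card N) {k : ℕ} (hk : N.index = p ^ k) {φ : G → ℂ}
    (hφ : IsClassFunction G φ) :
    blockPart (principalBlock M G) φ 1 = (Nat.card N : ℂ)⁻¹ * ∑ n : N, φ n := by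
  classical
  rw [blockPart_eq_sum _ hφ]
  rw [← eq_blockCoeff (isClassFunction_avgInd N) (B := principalBlock M G) fun χ => ?_]
  · simp only [avgInd_apply, mul_one, ite_mul, zero_mul]
    rw [← Finset.sum_filter, Finset.mul_sum, Finset.sum_subtype (p := fun g => g ∈ N) _ (by simp)]
  · have h := mem_principalBlock_iff_of_pow_index hpM hN hk χ
    rw [← omega_avgInd_eq_one_iff] at h
    rcases omega_avgInd_eq_zero_or_one N χ with h0 | h0
    · rw [h0, if_neg fun hm => zero_ne_one (h0 ▸ h.1 hm)]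
    · rw [h0, if_pos (h.2 h0)]

/-- A Sylow `2`-subgroup of order four and no normal subgroup of index four. -/
structure KleinSetup (P : Sylow 2 G) : Prop where
  card : Nat.card P = 4
  noComplement : ∀ N : Subgroup G, N.Normal → N.index ≠ 4

namespace KleinSetup

variable [Fact (Nat.Prime 2)] {P : Sylow 2 G} (h : KleinSetup P)

include h

theorem comm (a b : (P : Subgroup G)) : a * b = b * a :=
  IsPGroup.commutative_of_card_eq_prime_sq (p := 2) (h.card.trans (by norm_num)) a b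

theorem le_centralizer :
    (P : Subgroup G) ≤ Subgroup.centralizer ((P : Subgroup G) : Set G) := fun x hx =>
  Subgroup.mem_centralizer_iff.mpr fun y hy => congrArg Subtype.val (h.comm ⟨y, hy⟩ ⟨x, hx⟩)

theorem eq_of_four {x a b c : (P : Subgroup G)} (hx : x ≠ 1) (ha : a ≠ 1) (hb : b ≠ 1)
    (hxa : x ≠ a) (hxb : x ≠ b) (hab : a ≠ b) (hc : c ≠ 1) : c = x ∨ c = a ∨ c = b := by
  classical
  haveI := Fintype.ofFinite (P : Subgroup G)
  by_contra hcon
  simp only [not_or] at hcon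
  have h5 : ({1, x, a, b, c} : Finset (P : Subgroup G)).card = 5 := by
    simp [Finset.card_insert_of_notMem, hx.symm, ha.symm, hb.symm, hc.symm, hxa, hxb, hab,
      Ne.symm hcon.1, Ne.symm hcon.2.1, Ne.symm hcon.2.2]
  have h4 := Finset.card_le_univ ({1, x, a, b, c} : Finset (P : Subgroup G))
  rw [h5, ← Nat.card_eq_fintype_card, h.card] at h4
  omega

theorem mem_centralizer_of_fix {n : G}
    (hn : n ∈ Subgroup.normalizer ((P : Subgroup G) : Set G)) {x : (P : Subgroup G)} (hx : x ≠ 1)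
    (hfix : n * x * n⁻¹ = (x : G)) : n ∈ Subgroup.centralizer ((P : Subgroup G) : Set G) := by
  classical
  refine Subgroup.mem_centralizer_iff.mpr fun y hy => ?_
  rw [eq_comm, ← mul_inv_eq_iff_eq_mul]
  by_contra hne
  set z : (P : Subgroup G) := ⟨y, hy⟩ with hz
  let f : ↥(P : Subgroup G) → ↥(P : Subgroup G) := fun w =>
    ⟨n * w * n⁻¹, (Subgroup.mem_normalizer_iff.mp hn w).mp w.2⟩
  have hfinj : Function.Injective f := fun a b e =>
    Subtype.ext (mul_left_cancel (mul_right_cancel (congrArg Subtype.val e)))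
  have hf1 : f 1 = 1 := Subtype.ext (by simp [f])
  have hfx : f x = x := Subtype.ext hfix
  have hfz : f z ≠ z := fun e => hne (congrArg Subtype.val e)
  have hz1 : z ≠ 1 := fun e => hfz (by rw [e, hf1])
  have hzx : z ≠ x := fun e => hfz (by rw [e, hfx])
  have hfz1 : f z ≠ 1 := fun e => hz1 (hfinj (e.trans hf1.symm))
  have hfzx : f z ≠ x := fun e => hzx (hfinj (e.trans hfx.symm))
  have hffz : f (f z) = z := by
    rcases h.eq_of_four hx hz1 hfz1 hzx.symm hfzx.symm hfz.symm
      (c := f (f z)) (fun e => hfz1 (hfinj (e.trans hf1.symm))) with e | e | e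
    · exact absurd (hfinj (e.trans hfx.symm)) hfzx
    · exact e
    · exact absurd (hfinj e) hfz
  -- some odd power of `n` centralizes `P`
  set N := Subgroup.normalizer ((P : Subgroup G) : Set G)
  set C := Subgroup.centralizer ((P : Subgroup G) : Set G)
  haveI : (C.subgroupOf N).Normal := by
    rw [← Subgroup.normalizerMonoidHom_ker]
    exact MonoidHom.normal_ker _
  have hodd : ¬ 2 ∣ (C.subgroupOf N).index := fun hd => P.not_dvd_index
    (hd.trans ((Dvd.intro _ (Subgroup.relIndex_mul_index (Subgroup.centralizer_le_normalizer _))).trans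
      (Subgroup.index_dvd_of_le h.le_centralizer)))
  obtain ⟨j, hj⟩ := Nat.odd_iff.mpr (Nat.two_dvd_ne_zero.mp hodd)
  have hm := Subgroup.pow_index_mem (C.subgroupOf N) (⟨n, hn⟩ : N)
  rw [Subgroup.mem_subgroupOf, Subgroup.coe_pow, hj] at hm
  have hpow : ∀ i : ℕ, n ^ (2 * i) * y * (n ^ (2 * i))⁻¹ = y := by
    intro i
    induction i with
    | zero => simp
    | succ i ih =>
      have e2 : n * (n * y * n⁻¹) * n⁻¹ = y := congrArg Subtype.val hffz
      rw [Nat.mul_succ, pow_add, show (n ^ (2 * i) * n ^ 2) * y * (n ^ (2 * i) * n ^ 2)⁻¹ =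
        n ^ (2 * i) * (n * (n * y * n⁻¹) * n⁻¹) * (n ^ (2 * i))⁻¹ by simp [sq, mul_assoc], e2, ih]
  have h1 : n ^ (2 * j + 1) * y * (n ^ (2 * j + 1))⁻¹ = y := by
    rw [← Subgroup.mem_centralizer_iff.mp hm y hy]
    group
  apply hne
  rw [pow_succ'] at h1
  rw [show n * n ^ (2 * j) * y * (n * n ^ (2 * j))⁻¹ =
    n * (n ^ (2 * j) * y * (n ^ (2 * j))⁻¹) * n⁻¹ by group, hpow] at h1
  exact h1

theorem exists_normalizer_notMem : ∃ n ∈ Subgroup.normalizer ((P : Subgroup G) : Set G),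
    n ∉ Subgroup.centralizer ((P : Subgroup G) : Set G) := by
  by_contra hcon
  simp only [not_exists, not_and, not_not] at hcon
  refine h.noComplement (MonoidHom.transferSylow P hcon).ker inferInstance ?_
  rw [(MonoidHom.ker_transferSylow_isComplement' P hcon).symm.index_eq_card]
  exact h.card

/-- All non-identity elements of `P` are conjugate. -/
theorem isConj (x z : (P : Subgroup G)) (hx : x ≠ 1) (hz : z ≠ 1) : IsConj (x : G) (z : G) := by
  obtain ⟨n, hn, hnC⟩ := h.exists_normalizer_notMem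
  by_cases hxz : x = z
  · rw [hxz]
  let f : ↥(P : Subgroup G) → ↥(P : Subgroup G) := fun w =>
    ⟨n * w * n⁻¹, (Subgroup.mem_normalizer_iff.mp hn w).mp w.2⟩
  have hfinj : Function.Injective f := fun a b e =>
    Subtype.ext (mul_left_cancel (mul_right_cancel (congrArg Subtype.val e)))
  have hf1 : f 1 = 1 := Subtype.ext (by simp [f])
  have hfix : ∀ w, w ≠ 1 → f w ≠ w := fun w hw e =>
    hnC (h.mem_centralizer_of_fix hn hw (congrArg Subtype.val e))
  have hne1 : ∀ w, w ≠ 1 → f w ≠ 1 := fun w hw e => hw (hfinj (e.trans hf1.symm))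
  have hconj : ∀ w : (P : Subgroup G), IsConj (w : G) (f w : G) := fun w => isConj_iff.mpr ⟨n, rfl⟩
  by_cases hfx : f x = z
  · exact hfx ▸ hconj x
  refine (hconj x).trans ?_
  have e : f (f x) = z := by
    rcases h.eq_of_four hx hz (hne1 x hx) hxz (hfix x hx).symm (Ne.symm hfx)
      (c := f (f x)) (hne1 _ (hne1 x hx)) with e | e | e
    · exfalso
      rcases h.eq_of_four hx hz (hne1 x hx) hxz (hfix x hx).symm (Ne.symm hfx)
        (c := f z) (hne1 z hz) with e' | e' | e'
      · exact hfx (hfinj (e'.trans e.symm)).symm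
      · exact hfix z hz e'
      · exact hxz (hfinj e').symm
    · exact e
    · exact absurd e (hfix _ (hne1 x hx))
  exact e ▸ hconj (f x)

theorem orderOf_eq {J : G} (hJ : J ∈ (P : Subgroup G)) (hJ2 : orderOf J = 2) (x : (P : Subgroup G))
    (hx : x ≠ 1) : orderOf (x : G) = 2 := by
  obtain ⟨c, hc⟩ := isConj_iff.mp
    (h.isConj ⟨J, hJ⟩ x (fun e => by simp [Subtype.ext_iff] at e; simp [e] at hJ2) hx)
  rw [← hc, show orderOf (c * J * c⁻¹) = orderOf J from MulEquiv.orderOf_eq (MulAut.conj c) J, hJ2]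

theorem mul_self {J : G} (hJ : J ∈ (P : Subgroup G)) (hJ2 : orderOf J = 2)
    (x : (P : Subgroup G)) : x * x = 1 := by
  by_cases hx : x = 1
  · rw [hx, mul_one]
  · refine Subtype.ext ?_
    have := pow_orderOf_eq_one (x : G)
    rw [h.orderOf_eq hJ hJ2 x hx, sq] at this
    exact this

/-- The centralizer of an involution of `P` has a normal `2`-complement. -/
theorem exists_complement {J : G} (hJ : J ∈ (P : Subgroup G)) (hJ1 : J ≠ 1) :
    ∃ (S : Sylow 2 (Subgroup.centralizer ({J} : Set G)))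
      (K : Subgroup (Subgroup.centralizer ({J} : Set G))),
      K.Normal ∧ ¬ 2 ∣ Nat.card K ∧ K.index = 4 ∧
      (S : Subgroup (Subgroup.centralizer ({J} : Set G))) =
        (P : Subgroup G).subgroupOf (Subgroup.centralizer ({J} : Set G)) ∧
      K.IsComplement' (S : Subgroup (Subgroup.centralizer ({J} : Set G))) := by
  set C := Subgroup.centralizer ({J} : Set G)
  have hPC : (P : Subgroup G) ≤ C := fun x hx => Subgroup.mem_centralizer_singleton_iff.mpr
    (congrArg Subtype.val (h.comm ⟨x, hx⟩ ⟨J, hJ⟩))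
  set S := P.subtype hPC
  have hS : Subgroup.normalizer ((S : Subgroup C) : Set C) ≤
      Subgroup.centralizer ((S : Subgroup C) : Set C) := by
    intro g hg
    have hgN : (g : G) ∈ Subgroup.normalizer ((P : Subgroup G) : Set G) := by
      refine Subgroup.mem_normalizer_iff.mpr fun w => ⟨fun hh => ?_, fun hh => ?_⟩
      · exact (Subgroup.mem_normalizer_iff.mp hg ⟨w, hPC hh⟩).mp hh
      · have h' : w ∈ C := by
          have := mul_mem (mul_mem (inv_mem g.2) (hPC hh)) g.2
          simpa [mul_assoc] using this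
        exact (Subgroup.mem_normalizer_iff.mp hg ⟨w, h'⟩).mpr hh
    have hmem := h.mem_centralizer_of_fix hgN (x := ⟨J, hJ⟩) (fun e => hJ1 (congrArg Subtype.val e))
      (mul_inv_eq_iff_eq_mul.mpr (Subgroup.mem_centralizer_singleton_iff.mp g.2))
    exact Subgroup.mem_centralizer_iff.mpr fun s hs =>
      Subtype.ext (Subgroup.mem_centralizer_iff.mp hmem (s : G) hs)
  have hK := MonoidHom.ker_transferSylow_isComplement' S hS
  refine ⟨S, (MonoidHom.transferSylow S hS).ker, inferInstance, ?_, ?_, rfl, hK⟩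
  · rw [← hK.index_eq_card]
    exact S.not_dvd_index
  · rw [hK.symm.index_eq_card]
    exact (Nat.card_congr (Subgroup.subgroupOfEquivOfLe hPC).toEquiv).trans h.card

end KleinSetup

/-- The order of the group from the principal block, in the form `|G| Σ χ(J)³/χ(1) = 8 s² c(J)`. -/
theorem card_mul_sum_cube {M : Ideal AlgInt} [M.IsPrime] [Fact (Nat.Prime 2)]
    (hM : IsPModular 2 M) {P : Sylow 2 G} (h : KleinSetup P) {J : G}
    (hJ : J ∈ (P : Subgroup G)) (hJ2 : orderOf J = 2) :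
    ∃ s : ℕ, s * Nat.card (Subgroup.centralizer ((P : Subgroup G) : Set G)) =
        Nat.card (Subgroup.centralizer ({J} : Set G)) ∧
      (Nat.card G : ℂ) *
        (∑ᶠ χ ∈ principalBlock M G, (χ : G → ℂ) J ^ 2 / (χ : G → ℂ) 1 * (χ : G → ℂ) J) =
        8 * (s : ℂ) ^ 2 * Nat.card (Subgroup.centralizer ({J} : Set G)) := by
  classical
  haveI := irrFintype G
  have hJ1 : J ≠ 1 := fun e => by simp [e] at hJ2
  set C := Subgroup.centralizer ({J} : Set G) with hC
  set CP := Subgroup.centralizer ((P : Subgroup G) : Set G) with hCP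
  obtain ⟨S, K, hKn, hKodd, hKidx, hSP, hKS⟩ :
      ∃ (S : Sylow 2 C) (K : Subgroup C), K.Normal ∧ ¬ 2 ∣ Nat.card K ∧ K.index = 4 ∧
        (S : Subgroup C) = (P : Subgroup G).subgroupOf C ∧ K.IsComplement' (S : Subgroup C) :=
    h.exists_complement hJ hJ1
  haveI : K.Normal := hKn
  haveI := Fintype.ofFinite C
  haveI := Fintype.ofFinite K
  haveI := Fintype.ofFinite (P : Subgroup G)
  have hPC : (P : Subgroup G) ≤ C := fun x hx => Subgroup.mem_centralizer_singleton_iff.mpr
    (congrArg Subtype.val (h.comm ⟨x, hx⟩ ⟨J, hJ⟩))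
  set Jc : C := ⟨J, hPC hJ⟩ with hJc
  set Jp : (P : Subgroup G) := ⟨J, hJ⟩ with hJp
  have hJp1 : Jp ≠ 1 := fun e => hJ1 (congrArg Subtype.val e)
  have hsq : ∀ x : (P : Subgroup G), x * x = 1 := h.mul_self hJ hJ2
  -- reduction to `C ⧸ K ≅ P`
  let π : ↥(P : Subgroup G) →* C ⧸ K := (QuotientGroup.mk' K).comp (Subgroup.inclusion hPC)
  have hπinj : Function.Injective π := by
    rw [injective_iff_map_eq_one]
    intro x hx
    have hxK : Subgroup.inclusion hPC x ∈ K := (QuotientGroup.eq_one_iff _).mp hx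
    have hxS : Subgroup.inclusion hPC x ∈ (S : Subgroup C) := by rw [hSP]; exact x.2
    exact Subtype.ext (congrArg Subtype.val (Subgroup.mem_bot.mp (hKS.disjoint.le_bot ⟨hxK, hxS⟩)) :)
  have hqcomm : ∀ a b : C ⧸ K, a * b = b * a := by
    have hsur : ∀ q : C ⧸ K, ∃ x, π x = q := by
      intro q
      obtain ⟨w, rfl⟩ := QuotientGroup.mk_surjective q
      obtain ⟨⟨k, y⟩, hky⟩ := hKS.2 w
      have hyP : ((y : C) : G) ∈ (P : Subgroup G) := by
        have : (y : C) ∈ (P : Subgroup G).subgroupOf C := hSP ▸ y.2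
        exact this
      refine ⟨⟨_, hyP⟩, ?_⟩
      show ((⟨((y : C) : G), _⟩ : C) : C ⧸ K) = _
      rw [← hky, QuotientGroup.mk_mul, (QuotientGroup.eq_one_iff (k : C)).mpr k.2, one_mul]
    intro a b
    obtain ⟨a, rfl⟩ := hsur a
    obtain ⟨b, rfl⟩ := hsur b
    rw [← map_mul, ← map_mul, h.comm]
  -- classes of involutions of `C`
  let A : ↥(P : Subgroup G) → Finset G := fun x =>
    Finset.univ.filter fun u => ∃ c ∈ C, c * (x : G) * c⁻¹ = u
  have hA : ∀ x u, u ∈ A x ↔ ∃ c ∈ C, c * (x : G) * c⁻¹ = u := fun x u => by simp [A]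
  have hAC : ∀ x u, u ∈ A x → ∃ huC : u ∈ C, ((⟨u, huC⟩ : C) : C ⧸ K) = π x := by
    intro x u hu
    obtain ⟨c, hc, rfl⟩ := (hA x u).mp hu
    refine ⟨mul_mem (mul_mem hc (hPC x.2)) (inv_mem hc), ?_⟩
    show ((⟨c, hc⟩ * Subgroup.inclusion hPC x * ⟨c, hc⟩⁻¹ : C) : C ⧸ K) = _
    rw [QuotientGroup.mk_mul, QuotientGroup.mk_mul, QuotientGroup.mk_inv,
      hqcomm _ ((Subgroup.inclusion hPC x : C) : C ⧸ K), mul_inv_cancel_right]
    rfl
  have hclass : ∀ u (huC : u ∈ C), orderOf u = 2 → ∃ x, x ≠ 1 ∧ u ∈ A x := by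
    intro u huC hu
    have hord : orderOf (⟨u, huC⟩ : C) = 2 ^ 1 := by rw [Subgroup.orderOf_mk, hu, pow_one]
    obtain ⟨R, hR⟩ := (IsPGroup.of_card (n := 1) (by rw [Nat.card_zpowers, hord]) :
      IsPGroup 2 (Subgroup.zpowers (⟨u, huC⟩ : C))).exists_le_sylow
    obtain ⟨e, he⟩ := MulAction.exists_smul_eq C R S
    have hwS : e * ⟨u, huC⟩ * e⁻¹ ∈ (S : Subgroup C) := by
      rw [← he, Sylow.coe_subgroup_smul]
      exact ⟨_, hR (Subgroup.mem_zpowers _), rfl⟩
    rw [hSP] at hwS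
    refine ⟨⟨_, hwS⟩, fun e1 => ?_, (hA _ _).mpr ⟨(e : G)⁻¹, inv_mem e.2, by simp [mul_assoc]⟩⟩
    have e2 : (e : G) * u * (e : G)⁻¹ = 1 := congrArg Subtype.val e1
    rw [conj_eq_one_iff.mp e2, orderOf_one] at hu
    norm_num at hu
  set s := (A Jp).card with hs0
  -- the class of `x ≠ J`
  have hAcard : ∀ x, x ≠ 1 → x ≠ Jp → (A x).card * Nat.card CP = Nat.card C := by
    intro x hx hxJ
    rw [Nat.card_eq_fintype_card (α := C), ← Finset.card_univ,
      Finset.card_eq_sum_card_fiberwise (f := fun c : C => (c : G) * x * (c : G)⁻¹) (t := A x)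
        (fun c _ => (hA x _).mpr ⟨c, c.2, rfl⟩), ← smul_eq_mul, ← Finset.sum_const]
    refine (Finset.sum_congr rfl fun u hu => ?_).symm
    obtain ⟨c₀, hc₀, rfl⟩ := (hA x u).mp hu
    rw [← Fintype.card_subtype, ← Nat.card_eq_fintype_card]
    have hCPC : CP ≤ C := fun d hd => Subgroup.mem_centralizer_singleton_iff.mpr
      ((Subgroup.mem_centralizer_iff.mp hd J hJ).symm)
    have hmem : ∀ c : C, (c : G) * x * (c : G)⁻¹ = c₀ * x * c₀⁻¹ → c₀⁻¹ * (c : G) ∈ CP := by
      intro c hc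
      have hcC : c₀⁻¹ * (c : G) ∈ C := mul_mem (inv_mem hc₀) c.2
      have hx' : (c₀⁻¹ * (c : G)) * x = x * (c₀⁻¹ * (c : G)) := by
        rw [mul_inv_eq_iff_eq_mul] at hc
        rw [mul_assoc, hc]
        group
      have hJ' := Subgroup.mem_centralizer_singleton_iff.mp hcC
      have hxJne : x * Jp ≠ 1 := fun e => hxJ (by
        rw [mul_eq_one_iff_eq_inv.mp e, inv_eq_of_mul_eq_one_right (hsq Jp)])
      refine Subgroup.mem_centralizer_iff.mpr fun y hy => ?_
      by_cases hy1 : y = 1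
      · simp [hy1]
      rcases h.eq_of_four hx hJp1 hxJne hxJ
          (fun e => hJp1 (mul_left_cancel (e.symm.trans (mul_one x).symm)))
          (fun e => hx (mul_right_cancel (e.symm.trans (one_mul Jp).symm))) (c := ⟨y, hy⟩)
          (fun e => hy1 (congrArg Subtype.val e)) with e | e | e
      · obtain rfl : y = (x : G) := congrArg Subtype.val e
        exact hx'.symm
      · obtain rfl : y = J := congrArg Subtype.val e
        exact hJ'.symm
      · obtain rfl : y = (x : G) * J := congrArg Subtype.val e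
        rw [mul_assoc, ← hJ', ← mul_assoc, ← hx', mul_assoc]
    refine Eq.symm <| Nat.card_congr
      { toFun := fun d => ⟨⟨c₀ * (d : G), mul_mem hc₀ (hCPC d.2)⟩, by
          show c₀ * (d : G) * x * (c₀ * (d : G))⁻¹ = c₀ * x * c₀⁻¹
          rw [mul_assoc c₀, ← Subgroup.mem_centralizer_iff.mp d.2 x x.2]
          group⟩
        invFun := fun c => ⟨c₀⁻¹ * (c.1 : G), hmem c.1 c.2⟩
        left_inv := fun d => Subtype.ext (inv_mul_cancel_left c₀ (d : G))
        right_inv := fun c => Subtype.ext (Subtype.ext (mul_inv_cancel_left c₀ (c.1 : G))) }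
  obtain ⟨a, ha1, haJ⟩ : ∃ a : (P : Subgroup G), a ≠ 1 ∧ a ≠ Jp := by
    by_contra hcon
    simp only [not_exists, not_and, not_not] at hcon
    have hle : (Finset.univ : Finset (P : Subgroup G)) ⊆ {1, Jp} := fun y _ => by
      by_cases hy : y = 1
      · simp [hy]
      · simp [hcon y hy]
    have := (Finset.card_le_card hle).trans Finset.card_le_two
    rw [Finset.card_univ, ← Nat.card_eq_fintype_card, h.card] at this
    omega
  set b := a * Jp with hb
  have hb1 : b ≠ 1 := fun e => haJ (by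
    rw [mul_eq_one_iff_eq_inv.mp e, inv_eq_of_mul_eq_one_right (hsq Jp)])
  have hbJ : b ≠ Jp := fun e => ha1 (mul_right_cancel (e.trans (one_mul Jp).symm))
  have hab : a ≠ b := fun e => hJp1 (mul_left_cancel (e.symm.trans (mul_one a).symm))
  obtain ⟨m, hm⟩ : ∃ m, (A a).card = m := ⟨_, rfl⟩
  have hma : m * Nat.card CP = Nat.card C := hm ▸ hAcard a ha1 haJ
  have hmb : (A b).card = m :=
    Nat.eq_of_mul_eq_mul_right Nat.card_pos ((hAcard b hb1 hbJ).trans hma.symm)
  refine ⟨m, hma, ?_⟩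
  -- pairs with product in `J K`
  let T : Finset (G × G) := Finset.univ.filter fun gh =>
    ∃ huv : gh.1 * J * gh.1⁻¹ * (gh.2 * J * gh.2⁻¹) ∈ C,
      ((⟨_, huv⟩ : C) : C ⧸ K) = π Jp
  have hJ' : J * J = 1 := congrArg Subtype.val (hsq Jp)
  have hmemAC : ∀ gh ∈ T, gh.1 * J * gh.1⁻¹ ∈ C ∧ gh.2 * J * gh.2⁻¹ ∈ C := by
    intro gh hgh
    obtain ⟨huv, hπ⟩ := (Finset.mem_filter.mp hgh).2
    obtain ⟨u, hu⟩ : ∃ u, gh.1 * J * gh.1⁻¹ = u := ⟨_, rfl⟩
    obtain ⟨v, hv⟩ : ∃ v, gh.2 * J * gh.2⁻¹ = v := ⟨_, rfl⟩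
    simp only [hu, hv] at huv hπ ⊢
    have huu : u * u = 1 := by
      rw [← hu, show gh.1 * J * gh.1⁻¹ * (gh.1 * J * gh.1⁻¹) = gh.1 * (J * J) * gh.1⁻¹ by group, hJ']
      group
    have hvv : v * v = 1 := by
      rw [← hv, show gh.2 * J * gh.2⁻¹ * (gh.2 * J * gh.2⁻¹) = gh.2 * (J * J) * gh.2⁻¹ by group, hJ']
      group
    have hk : Jc⁻¹ * (⟨u * v, huv⟩ : C) ∈ K := by
      rw [← QuotientGroup.eq, hπ]
      rfl
    have hflip : u * (u * v) * u⁻¹ = (u * v)⁻¹ := by
      rw [mul_inv_rev, ← mul_assoc, huu, one_mul, inv_eq_of_mul_eq_one_right huu,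
        inv_eq_of_mul_eq_one_right hvv]
    have hJodd : J ^ Nat.card K = J := by
      obtain ⟨j, hj⟩ := Nat.odd_iff.mpr (Nat.two_dvd_ne_zero.mp hKodd)
      rw [hj, pow_succ, pow_mul, sq, hJ', one_pow, one_mul]
    have hpow : (u * v) ^ Nat.card K = J := by
      have e : u * v = J * ((Jc⁻¹ * (⟨u * v, huv⟩ : C) : C) : G) := by simp [hJc]
      have hcm : Commute J ((Jc⁻¹ * (⟨u * v, huv⟩ : C) : C) : G) :=
        (Subgroup.mem_centralizer_singleton_iff.mp (Jc⁻¹ * (⟨u * v, huv⟩ : C)).2).symm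
      rw [e, hcm.mul_pow, hJodd, ← Subgroup.coe_pow]
      have hk1 := congrArg Subtype.val (pow_card_eq_one' (x := (⟨_, hk⟩ : K)))
      rw [Subgroup.coe_pow] at hk1
      rw [hk1, Subgroup.coe_one, Subgroup.coe_one, mul_one]
    have huC : u ∈ C := by
      refine Subgroup.mem_centralizer_singleton_iff.mpr ?_
      rw [← mul_inv_eq_iff_eq_mul, ← hpow, ← conj_pow, hflip, inv_pow, hpow]
      exact inv_eq_of_mul_eq_one_right hJ'
    refine ⟨huC, ?_⟩
    have := mul_mem (inv_mem huC) huv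
    rwa [inv_mul_cancel_left] at this
  have hTeq : T = (Finset.univ.filter fun g : G => g * J * g⁻¹ ∈ A a) ×ˢ
      (Finset.univ.filter fun g : G => g * J * g⁻¹ ∈ A b) ∪
      (Finset.univ.filter fun g : G => g * J * g⁻¹ ∈ A b) ×ˢ
      (Finset.univ.filter fun g : G => g * J * g⁻¹ ∈ A a) := by
    ext ⟨g, k⟩
    simp only [Finset.mem_union, Finset.mem_product, Finset.mem_filter, Finset.mem_univ, true_and]
    constructor
    · intro hgh
      obtain ⟨hgC, hkC⟩ := hmemAC _ hgh
      obtain ⟨huv, hπ⟩ := (Finset.mem_filter.mp hgh).2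
      have ho : ∀ w : G, orderOf (w * J * w⁻¹) = 2 := fun w =>
        (MulEquiv.orderOf_eq (MulAut.conj w) J).trans hJ2
      obtain ⟨x, hx, hxA⟩ := hclass _ hgC (ho g)
      obtain ⟨y, hy, hyA⟩ := hclass _ hkC (ho k)
      obtain ⟨h1, e1⟩ := hAC x _ hxA
      obtain ⟨h2, e2⟩ := hAC y _ hyA
      have hxy : x * y = Jp := hπinj (by
        rw [map_mul, ← e1, ← e2, ← QuotientGroup.mk_mul, ← hπ]
        rfl)
      have hy' : y = x * Jp := by rw [← hxy, ← mul_assoc, hsq, one_mul]
      have hxJ : x ≠ Jp := fun e => hy (by rw [hy', e, hsq])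
      rcases h.eq_of_four ha1 hb1 hJp1 hab haJ hbJ hx (c := x) with e | e | e
      · left; subst e; rw [hy'] at hyA; exact ⟨hxA, hyA⟩
      · right
        subst e
        rw [hy', hb, mul_assoc, hsq, mul_one] at hyA
        exact ⟨hxA, hyA⟩
      · exact absurd e hxJ
    · intro hh
      refine Finset.mem_filter.mpr ⟨Finset.mem_univ _, ?_⟩
      rcases hh with ⟨hgA, hkA⟩ | ⟨hgA, hkA⟩
      · obtain ⟨h1, e1⟩ := hAC a _ hgA
        obtain ⟨h2, e2⟩ := hAC b _ hkA
        refine ⟨mul_mem h1 h2, ?_⟩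
        show ((⟨_, h1⟩ * ⟨_, h2⟩ : C) : C ⧸ K) = _
        rw [QuotientGroup.mk_mul, e1, e2, ← map_mul, hb, ← mul_assoc, hsq, one_mul]
      · obtain ⟨h1, e1⟩ := hAC b _ hgA
        obtain ⟨h2, e2⟩ := hAC a _ hkA
        refine ⟨mul_mem h1 h2, ?_⟩
        show ((⟨_, h1⟩ * ⟨_, h2⟩ : C) : C ⧸ K) = _
        rw [QuotientGroup.mk_mul, e1, e2, ← map_mul, hb, h.comm a Jp, mul_assoc, hsq, mul_one]
  have hpre : ∀ x : (P : Subgroup G), x ≠ 1 →
      (Finset.univ.filter fun g : G => g * J * g⁻¹ ∈ A x).card = (A x).card * Nat.card C := by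
    intro x hx
    rw [Finset.card_eq_sum_card_fiberwise (f := fun g : G => g * J * g⁻¹) (t := A x)
      (s := Finset.univ.filter fun g : G => g * J * g⁻¹ ∈ A x) (fun g hg => (Finset.mem_filter.mp hg).2), ← smul_eq_mul, ← Finset.sum_const]
    refine Finset.sum_congr rfl fun u hu => ?_
    have hconj : IsConj J u := by
      obtain ⟨c, -, rfl⟩ := (hA x u).mp hu
      exact (h.isConj Jp x hJp1 hx).trans (isConj_iff.mpr ⟨c, rfl⟩)
    rw [← card_conj_fiber J hconj, Nat.card_eq_fintype_card, Fintype.card_subtype, Finset.filter_filter]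
    congr 1
    ext g
    simp only [Finset.mem_filter, Finset.mem_univ, true_and]
    exact ⟨fun hh => hh.2, fun hh => ⟨hh ▸ hu, hh⟩⟩
  have hTcard : T.card = 2 * (m * Nat.card C) ^ 2 := by
    rw [hTeq, Finset.card_union_of_disjoint, Finset.card_product, Finset.card_product, hpre a ha1,
      hpre b hb1, hm, hmb]
    · ring
    · rw [Finset.disjoint_left]
      rintro ⟨g, k⟩ h1 h2
      simp only [Finset.mem_product, Finset.mem_filter] at h1 h2
      obtain ⟨_, e1⟩ := hAC a _ h1.1.2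
      obtain ⟨_, e2⟩ := hAC b _ h2.1.2
      exact hab (hπinj (e1.symm.trans e2))
  -- the class function and its block part
  set F : G → ℂ := ∑ χ : IrrCharacter G, ((χ : G → ℂ) J ^ 2 / (χ : G → ℂ) 1) • (χ : G → ℂ) with hF
  have hFcl : IsClassFunction G F :=
    isClassFunction_sum _ fun χ _ => isClassFunction_smul _ (isClassFunction_irr χ)
  have hval : ∀ z : G, (Nat.card G : ℂ) * F z⁻¹ = (Nat.card {ab : G × G //
      (ab.1 * J * ab.1⁻¹) * (ab.2 * J * ab.2⁻¹) = z} : ℂ) := by
    intro z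
    rw [card_conj_mul_conj]
    congr 1
    rw [hF, Finset.sum_apply]
    refine Finset.sum_congr rfl fun χ _ => ?_
    simp only [Pi.smul_apply, smul_eq_mul]
    ring
  have hz : ∃ k, orderOf J = 2 ^ k := ⟨1, by rw [hJ2, pow_one]⟩
  have h1o : ¬ 2 ∣ orderOf (1 : C) := by rw [orderOf_one]; norm_num
  have hbp := blockPart_principalBlock_centralizer hM hFcl hz h1o
  have hk4 : K.index = 2 ^ 2 := hKidx.trans (by norm_num)
  rw [Subgroup.coe_one, mul_one, blockPart_apply_eq_sum,
    blockPart_principal_one_of_complement hM.2.2 hKodd hk4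
      (isClassFunction_mul_left (z := J) hFcl)] at hbp
  have hlhs : ∑ χ ∈ Finset.univ.filter (· ∈ principalBlock M G),
      classInner F (χ : G → ℂ) * (χ : G → ℂ) J =
      ∑ᶠ χ ∈ principalBlock M G, (χ : G → ℂ) J ^ 2 / (χ : G → ℂ) 1 * (χ : G → ℂ) J := by
    rw [finsum_mem_eq_sum_of_inter_support_eq
      (t := Finset.univ.filter (· ∈ principalBlock M G)) _ (by ext; simp)]
    refine Finset.sum_congr rfl fun χ _ => ?_
    congr 1
    rw [hF, Chars.inner_sum_left]
    simp [Chars.inner_smul_left, inner_irr]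
  rw [hlhs] at hbp
  have hTsum : ∑ k : K, (Nat.card {ab : G × G //
      (ab.1 * J * ab.1⁻¹) * (ab.2 * J * ab.2⁻¹) = J * ((k : C) : G)} : ℂ) = (T.card : ℂ) := by
    rw [← Nat.cast_sum]
    congr 1
    rw [Finset.card_eq_sum_card_fiberwise (f := fun gh : G × G =>
      gh.1 * J * gh.1⁻¹ * (gh.2 * J * gh.2⁻¹)) (t := Finset.univ.image fun k : K => J * ((k : C) : G))]
    · rw [Finset.sum_image (fun k _ l _ e => Subtype.ext (Subtype.ext (mul_left_cancel e)))]
      refine Finset.sum_congr rfl fun k _ => ?_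
      rw [Nat.card_eq_fintype_card, Fintype.card_subtype]
      congr 1
      ext gh
      simp only [Finset.mem_filter, Finset.mem_univ, true_and, T]
      refine ⟨fun e => ⟨⟨e ▸ mul_mem (hPC hJ) (k : C).2, ?_⟩, e⟩, fun e => e.2⟩
      show _ = ((Jc : C) : C ⧸ K)
      rw [QuotientGroup.eq]
      have e' : (⟨_, e ▸ mul_mem (hPC hJ) (k : C).2⟩ : C) = Jc * (k : C) := Subtype.ext e
      rw [e', mul_inv_rev, inv_mul_cancel_right]
      exact inv_mem k.2
    · intro gh hgh
      obtain ⟨huv, hπ⟩ := (Finset.mem_filter.mp hgh).2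
      have hk : Jc⁻¹ * (⟨_, huv⟩ : C) ∈ K := by
        rw [← QuotientGroup.eq, hπ]; rfl
      exact Finset.mem_image.mpr ⟨⟨_, hk⟩, Finset.mem_univ _, by simp [hJc]⟩
  have hinv : ∑ k : K, F (J * ((k : C) : G)) = ∑ k : K, F (J * ((k : C) : G))⁻¹ := by
    refine Fintype.sum_equiv (Equiv.inv K) _ _ fun k => ?_
    have hcm : Commute J ((k : C) : G) :=
      (Subgroup.mem_centralizer_singleton_iff.mp (k : C).2).symm
    rw [Equiv.inv_apply, Subgroup.coe_inv, Subgroup.coe_inv, mul_inv_rev, inv_inv,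
      inv_eq_of_mul_eq_one_right hJ', hcm.eq]
  have hCK : (Nat.card C : ℂ) = 4 * Nat.card K := by
    rw [← K.index_mul_card, hKidx]; push_cast; ring
  have hK0 : (Nat.card K : ℂ) ≠ 0 := card_ne_zero _
  rw [hbp, hinv, ← mul_assoc, mul_comm (Nat.card G : ℂ), mul_assoc, Finset.mul_sum,
    Finset.sum_congr rfl fun k _ => hval _, hTsum, hTcard]
  push_cast
  rw [hCK]
  field_simp
  ring

end CfsgLib.CharApps
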