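import Cfsg.Agent.Lib.CharApps.Galois
import Cfsg.Agent.Lib.Chars.Irr
import Cfsg.Agent.Lib.PGroups.MaximalClassTwo
import Cfsg.Agent.Lib.Blocks.PRationalExtension

/-!
# Fields of values and Sylow 2-subgroups of maximal class
-/

set_option linter.unusedSectionVars false
set_option linter.style.haveILetI false

namespace CfsgLib.CharApps.MCField

open Cfsg Subgroup CfsgLib.Chars CfsgLib.Blocks.PrincExt
open scoped IntermediateField commutatorElement

/-- Elements of a cyclotomic field fixed by the automorphisms fixing a set. -/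
theorem mem_adjoin_of_fixed {N : ℕ} [NeZero N] {S : Set ℂ} {x : ℂ}
    (hS : S ⊆ ℚ⟮rootN N⟯) (hx : x ∈ ℚ⟮rootN N⟯)
    (h : ∀ (k : ℕ) (σ : ℂ ≃+* ℂ), k.Coprime N →
      (∀ z : ℂ, z ^ N = 1 → σ z = z ^ k) → (∀ s ∈ S, σ s = s) → σ x = x) :
    x ∈ IntermediateField.adjoin ℚ S := by
  haveI hcyc : IsCyclotomicExtension {N} ℚ ℚ⟮rootN N⟯ :=
    (IntermediateField.isCyclotomicExtension_singleton_iff_eq_adjoin N _ _ _
      (rootN_prim N)).mpr rfl
  haveI := IsCyclotomicExtension.isGalois {N} ℚ ℚ⟮rootN N⟯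
  haveI := IsCyclotomicExtension.finiteDimensional {N} ℚ ℚ⟮rootN N⟯
  have hgen : rootN N ∈ ℚ⟮rootN N⟯ := IntermediateField.mem_adjoin_simple_self ℚ _
  set F : IntermediateField ℚ ℚ⟮rootN N⟯ :=
    IntermediateField.adjoin ℚ {y : ℚ⟮rootN N⟯ | (y : ℂ) ∈ S} with hF
  have hmem : (⟨x, hx⟩ : ℚ⟮rootN N⟯) ∈ F := by
    rw [← IsGalois.fixedField_fixingSubgroup F, IntermediateField.mem_fixedField_iff]
    intro τ hτ
    obtain ⟨σ, hσ⟩ := exists_extend τ
    have hprim : IsPrimitiveRoot (σ (rootN N)) N :=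
      (rootN_prim N).map_of_injective σ.injective
    obtain ⟨k, -, hk⟩ := (rootN_prim N).eq_pow_of_pow_eq_one hprim.pow_eq_one
    have hcop : k.Coprime N := by
      rw [← hk] at hprim
      exact ((rootN_prim N).pow_iff_coprime (NeZero.pos N) k).mp hprim
    have hσN : ∀ z : ℂ, z ^ N = 1 → σ z = z ^ k := by
      intro z hz
      obtain ⟨i, -, rfl⟩ := (rootN_prim N).eq_pow_of_pow_eq_one hz
      rw [map_pow, ← hk, ← pow_mul, ← pow_mul, mul_comm]
    have hfix : ∀ s ∈ S, σ s = s := by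
      intro s hs
      have h1 := (IntermediateField.mem_fixingSubgroup_iff F τ).1 hτ ⟨s, hS hs⟩
        (IntermediateField.subset_adjoin ℚ _ (show ((⟨s, hS hs⟩ : ℚ⟮rootN N⟯) : ℂ) ∈ S from hs))
      have h2 := hσ ⟨s, hS hs⟩
      rw [h1] at h2
      exact h2
    refine Subtype.ext ?_
    have h4 := hσ ⟨x, hx⟩
    rw [h k σ hcop hσN hfix] at h4
    exact h4.symm
  suffices ∀ y ∈ F, ((y : ℚ⟮rootN N⟯) : ℂ) ∈ IntermediateField.adjoin ℚ S from this _ hmem
  intro y hy
  induction hy using IntermediateField.adjoin_induction with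
  | mem y hy => exact IntermediateField.subset_adjoin ℚ S hy
  | algebraMap r =>
    rw [eq_ratCast]
    push_cast
    exact SubfieldClass.ratCast_mem _ r
  | add y z _ _ hy hz => push_cast; exact add_mem hy hz
  | inv y _ hy => push_cast; exact inv_mem hy
  | mul y z _ _ hy hz => push_cast; exact mul_mem hy hz

/-- Automorphisms fixing a set fix the field it generates. -/
theorem fixed_of_mem_adjoin_set {S : Set ℂ} {x : ℂ} {σ : ℂ ≃+* ℂ} (hS : ∀ s ∈ S, σ s = s)
    (hx : x ∈ IntermediateField.adjoin ℚ S) : σ x = x := by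
  induction hx using IntermediateField.adjoin_induction with
  | mem x hx => exact hS x hx
  | algebraMap r => exact map_ratCast σ r
  | add x y _ _ hx hy => rw [map_add, hx, hy]
  | inv x _ hx => rw [map_inv₀, hx]
  | mul x y _ _ hx hy => rw [map_mul, hx, hy]

variable {G : Type*} [Group G] [Finite G]

theorem exists_nat_pow {H : Type*} [Group H] [Finite H] {x y : H} (h : y ∈ zpowers x) :
    ∃ i : ℕ, x ^ i = y := by
  obtain ⟨i, hi⟩ := ((isOfFinOrder_of_finite x).mem_powers_iff_mem_zpowers).2 h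
  exact ⟨i, hi⟩

theorem prim_modEq {ζ : ℂ} {M : ℕ} [NeZero M] (hζ : IsPrimitiveRoot ζ M) {a b : ℕ}
    (h : ζ ^ a = ζ ^ b) : a ≡ b [MOD M] := by
  have hfin : IsOfFinOrder ζ := isOfFinOrder_iff_pow_eq_one.2 ⟨M, NeZero.pos M, hζ.pow_eq_one⟩
  have := (IsOfFinOrder.pow_eq_pow_iff_modEq hfin).1 h
  rwa [← hζ.eq_orderOf] at this

/-- The set of values of the irreducible characters at an element. -/
def valSet (g : G) : Set ℂ := {z : ℂ | ∃ χ : IrrCharacter G, (χ : G → ℂ) g = z}

theorem galois_fix_val_iff (g : G) {k : ℕ} {σ : ℂ ≃+* ℂ}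
    (hσ : ∀ z : ℂ, z ^ Nat.card G = 1 → σ z = z ^ k) :
    (∀ s ∈ valSet g, σ s = s) ↔ IsConj (g ^ k) g := by
  rw [isConj_iff_forall_irr]
  constructor
  · intro h χ
    rw [← galois_apply σ hσ (isCharacter_of_irr χ.2) g pow_card_eq_one']
    exact h _ ⟨χ, rfl⟩
  · rintro h s ⟨χ, rfl⟩
    rw [galois_apply σ hσ (isCharacter_of_irr χ.2) g pow_card_eq_one']
    exact h χ

theorem field_eq_iff (g : G) {a : ℂ} (ha : a ∈ ℚ⟮rootN (Nat.card G)⟯) :
    IntermediateField.adjoin ℚ (valSet g) = IntermediateField.adjoin ℚ ({a} : Set ℂ) ↔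
      ∀ (k : ℕ) (σ : ℂ ≃+* ℂ), k.Coprime (Nat.card G) →
        (∀ z : ℂ, z ^ Nat.card G = 1 → σ z = z ^ k) → (IsConj (g ^ k) g ↔ σ a = a) := by
  haveI : NeZero (Nat.card G) := ⟨Nat.card_pos.ne'⟩
  have hSsub : valSet g ⊆ (ℚ⟮rootN (Nat.card G)⟯ : Set ℂ) := by
    rintro s ⟨χ, rfl⟩
    exact char_mem_cyclo (isCharacter_of_irr χ.2) g pow_card_eq_one'
  constructor
  · intro h k σ _ hσ
    rw [← galois_fix_val_iff g hσ]
    constructor
    · intro hS
      exact fixed_of_mem_adjoin_set hS (h ▸ IntermediateField.mem_adjoin_simple_self ℚ a)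
    · intro hσa s hs
      exact fixed_of_mem_adjoin hσa (h ▸ IntermediateField.subset_adjoin ℚ _ hs)
  · intro h
    refine le_antisymm (IntermediateField.adjoin_le_iff.2 fun s hs => ?_)
      (IntermediateField.adjoin_le_iff.2 fun s hs => ?_)
    · refine mem_adjoin_of_fixed (Set.singleton_subset_iff.2 ha) (hSsub hs)
        fun k σ hk hσ hfix => ?_
      exact (galois_fix_val_iff g hσ).2 ((h k σ hk hσ).2 (hfix a rfl)) s hs
    · rw [Set.mem_singleton_iff.1 hs]
      refine mem_adjoin_of_fixed hSsub ha fun k σ hk hσ hfix => ?_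
      exact (h k σ hk hσ).1 ((galois_fix_val_iff g hσ).1 hfix)

/-- Automorphisms fixing `ζ + ε ζ⁻¹`. -/
theorem fix_iff {ζ ε : ℂ} (hζ : ζ ≠ 0) (hε : ε = 1 ∨ ε = -1) {σ : ℂ ≃+* ℂ} {k : ℕ}
    (hσ : σ ζ = ζ ^ k) :
    σ (ζ + ε * ζ⁻¹) = ζ + ε * ζ⁻¹ ↔ ζ ^ k = ζ ∨ ζ ^ k = ε * ζ⁻¹ := by
  have hσe : σ ε = ε := by rcases hε with rfl | rfl <;> simp
  rw [map_add, map_mul, map_inv₀, hσ, hσe]
  have hu : ζ ^ k ≠ 0 := pow_ne_zero k hζ
  generalize ζ ^ k = u at hu ⊢
  constructor
  · intro h
    have h1 : (u - ζ) * (u - ε * ζ⁻¹) = 0 := by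
      field_simp at h ⊢
      linear_combination h
    rcases mul_eq_zero.1 h1 with h2 | h2
    · exact Or.inl (sub_eq_zero.1 h2)
    · exact Or.inr (sub_eq_zero.1 h2)
  · rintro (rfl | rfl)
    · rfl
    · have he : ε ≠ 0 := by rcases hε with rfl | rfl <;> norm_num
      field_simp
      ring

theorem isMulCommutative_of_mem_center_order {H : Type*} [Group H] [Finite H] {n : ℕ}
    (hn : 1 ≤ n) (hH : Nat.card H = 2 ^ n) {z : H} (hz : z ∈ center H)
    (ho : 2 ^ (n - 1) ∣ orderOf z) : IsMulCommutative H := by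
  by_contra hna
  haveI : Fact (Nat.Prime 2) := ⟨Nat.prime_two⟩
  have h1 := CfsgLib.PGroups.sq_le_index_center (p := 2) (IsPGroup.of_card hH) hna
  have h2 : orderOf z ∣ Nat.card (center H) := Subgroup.orderOf_dvd_natCard _ hz
  have h3 : 2 ^ (n - 1) ≤ Nat.card (center H) := Nat.le_of_dvd Nat.card_pos (ho.trans h2)
  have h4 := (center H).card_mul_index
  rw [hH] at h4
  have h5 : 2 ^ (n - 1) * 2 ^ 2 ≤ 2 ^ n := h4 ▸ Nat.mul_le_mul h3 h1
  rw [← pow_add] at h5
  have := (Nat.pow_le_pow_iff_right (by norm_num : 1 < 2)).1 h5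
  omega

/-- `ζ + ε ζ⁻¹` lies in the cyclotomic field. -/
theorem base_mem {N : ℕ} [NeZero N] {ζ ε : ℂ} (hζ : ζ ^ N = 1) (hε : ε = 1 ∨ ε = -1) :
    ζ + ε * ζ⁻¹ ∈ ℚ⟮rootN N⟯ := by
  have hmem : ζ ∈ ℚ⟮rootN N⟯ := by
    obtain ⟨i, -, rfl⟩ := (rootN_prim N).eq_pow_of_pow_eq_one hζ
    exact pow_mem (IntermediateField.mem_adjoin_simple_self ℚ _) i
  refine add_mem hmem (mul_mem ?_ (inv_mem hmem))
  rcases hε with rfl | rfl
  · exact one_mem _
  · exact neg_mem (one_mem _)

theorem index_commutator_of_field (P : Sylow 2 G) {n : ℕ} (hn : 3 ≤ n)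
    (hP : Nat.card P = 2 ^ n) {ζ ε : ℂ} (hζ : IsPrimitiveRoot ζ (2 ^ (n - 1)))
    (hε : ε = 1 ∨ ε = -1) {g : G} (hg : g ∈ (P : Subgroup G))
    (hidx : 2 ∣ (centralizer ({g} : Set G)).index)
    (hF : IntermediateField.adjoin ℚ (valSet g) =
      IntermediateField.adjoin ℚ ({ζ + ε * ζ⁻¹} : Set ℂ)) :
    (commutator ↥(P : Subgroup G)).index = 4 := by
  haveI : Fact (Nat.Prime 2) := ⟨Nat.prime_two⟩
  haveI : NeZero (Nat.card G) := ⟨Nat.card_pos.ne'⟩
  set g' : ↥(P : Subgroup G) := ⟨g, hg⟩ with hg'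
  have hPdvd : 2 ^ n ∣ Nat.card G := hP ▸ Subgroup.card_subgroup_dvd_card _
  have hζN : ζ ^ Nat.card G = 1 := by
    obtain ⟨c, hc⟩ := (pow_dvd_pow 2 (Nat.sub_le n 1)).trans hPdvd
    rw [hc, pow_mul, hζ.pow_eq_one, one_pow]
  have hζ0 : ζ ≠ 0 := hζ.ne_zero (by positivity)
  have hna : ¬ IsMulCommutative ↥(P : Subgroup G) := by
    intro hc
    have hle : (P : Subgroup G) ≤ centralizer ({g} : Set G) := fun x hx => by
      rw [mem_centralizer_singleton_iff]
      exact congrArg Subtype.val (hc.is_comm.comm ⟨x, hx⟩ g')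
    exact P.not_dvd_index (hidx.trans (Subgroup.index_dvd_of_le hle))
  haveI : Group.IsNilpotent ↥(P : Subgroup G) := (IsPGroup.of_card hP).isNilpotent
  rcases eq_or_lt_of_le hn with h3 | h4
  · -- order eight
    subst h3
    have hc2 : Nat.card (center ↥(P : Subgroup G)) = 2 ∧
        Nat.card (↥(P : Subgroup G) ⧸ center ↥(P : Subgroup G)) = 4 := by
      have h1 := CfsgLib.PGroups.sq_le_index_center (p := 2) (IsPGroup.of_card hP) hna
      have h2 := (center ↥(P : Subgroup G)).card_mul_index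
      rw [hP] at h2
      haveI : Nontrivial (center ↥(P : Subgroup G)) := by
        haveI : Nontrivial ↥(P : Subgroup G) := Finite.one_lt_card_iff_nontrivial.1 (by omega)
        exact (IsPGroup.of_card hP).center_nontrivial
      have h5 : 1 < Nat.card (center ↥(P : Subgroup G)) := Finite.one_lt_card
      rw [← Subgroup.index_eq_card]
      constructor <;> nlinarith
    have hle : commutator ↥(P : Subgroup G) ≤ center ↥(P : Subgroup G) := by
      exact (Subgroup.Normal.quotient_commutative_iff_commutator_le).1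
        (IsPGroup.isMulCommutative_of_card_eq_prime_sq (p := 2) (hc2.2.trans (by norm_num)))
    have hne : commutator ↥(P : Subgroup G) ≠ ⊥ := fun h =>
      hna ⟨⟨fun a b => by
        have ha : a ∈ center ↥(P : Subgroup G) := by
          rw [(commutator_eq_bot_iff_center_eq_top _).1 h]; exact mem_top a
        exact ((Subgroup.mem_center_iff.1 ha) b).symm⟩⟩
    have hd := Subgroup.card_dvd_of_le hle
    rw [hc2.1, Nat.dvd_prime Nat.prime_two] at hd
    rcases hd with hd | hd
    · exact absurd (Subgroup.card_eq_one.1 hd) hne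
    · have := (commutator ↥(P : Subgroup G)).card_mul_index
      rw [hd, hP] at this
      omega
  -- the element has order `2 ^ (n - 1)`
  have hiff := (field_eq_iff g (base_mem hζN hε)).1 hF
  obtain ⟨m, hm, hgm⟩ := (Nat.dvd_prime_pow Nat.prime_two).1 (hP ▸ orderOf_dvd_natCard g')
  have hgo : orderOf g = 2 ^ m := by rw [← hgm, hg', Subgroup.orderOf_mk]
  have hmn : m ≠ n := fun h => by
    have hcyc : IsCyclic ↥(P : Subgroup G) :=
      isCyclic_of_orderOf_eq_card g' (by rw [hgm, h, hP])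
    exact hna inferInstance
  have hodd : ∀ {k : ℕ}, Odd k → ∀ {M : ℕ}, k.Coprime (2 ^ M) := fun hk =>
    ((Nat.coprime_two_right).2 hk).pow_right _
  -- odd exponents extend to exponents prime to the group order
  have hlift : ∀ k : ℕ, Odd k → ∃ k' : ℕ, k'.Coprime (Nat.card G) ∧ k' ≡ k [MOD 2 ^ n] := by
    intro k hk
    haveI : NeZero (2 ^ n) := ⟨by positivity⟩
    obtain ⟨u, hu⟩ := ZMod.unitsMap_surjective hPdvd (ZMod.unitOfCoprime k (hodd hk))
    refine ⟨(u : ZMod (Nat.card G)).val, ZMod.val_coe_unit_coprime u, ?_⟩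
    rw [← ZMod.natCast_eq_natCast_iff]
    have h1 := congrArg (fun w : (ZMod (2 ^ n))ˣ => (w : ZMod (2 ^ n))) hu
    simp only [ZMod.unitsMap_val, ZMod.coe_unitOfCoprime] at h1
    rw [← h1, ZMod.natCast_val]
  have hkey : ∀ k : ℕ, Odd k → (IsConj (g ^ k) g ↔ (ζ ^ k = ζ ∨ ζ ^ k = ε * ζ⁻¹)) := by
    intro k hk
    obtain ⟨k', hk', hmod⟩ := hlift k hk
    obtain ⟨σ, hσ⟩ := exists_galois_pow (Nat.card G) hk'
    have e1 : g ^ k' = g ^ k := pow_eq_pow_iff_modEq.2
      (hgo ▸ hmod.of_dvd (pow_dvd_pow 2 hm))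
    have e2 : ζ ^ k' = ζ ^ k := by
      refine pow_eq_pow_of_modEq (hmod.of_dvd (pow_dvd_pow 2 (Nat.sub_le n 1))) hζ.pow_eq_one
    rw [← e1, hiff k' σ hk' hσ, fix_iff hζ0 hε (hσ ζ hζN), e2]
  have hm1 : m = n - 1 := by
    by_contra hne
    have hlt : m ≤ n - 2 := by omega
    have hk : Odd (1 + 2 ^ (n - 2)) := by
      rw [Nat.odd_add]
      simp [Nat.even_pow]
      omega
    have hg1 : g ^ (1 + 2 ^ (n - 2)) = g := by
      rw [pow_add, pow_one, mul_eq_left, ← orderOf_dvd_iff_pow_eq_one, hgo]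
      exact pow_dvd_pow 2 hlt
    rcases (hkey _ hk).1 (by rw [hg1]) with h | h
    · rw [pow_add, pow_one, mul_eq_left₀ hζ0] at h
      have := (hζ.pow_eq_one_iff_dvd _).1 h
      have := (Nat.pow_dvd_pow_iff_le_right (by norm_num : 1 < 2)).1 this
      omega
    · have h2 : ζ ^ (2 * (2 + 2 ^ (n - 2))) = 1 := by
        have h3 : ζ ^ (2 + 2 ^ (n - 2)) = ε := by
          rw [show 2 + 2 ^ (n - 2) = (1 + 2 ^ (n - 2)) + 1 by ring, pow_succ, h, mul_assoc,
            inv_mul_cancel₀ hζ0, mul_one]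
        rw [mul_comm, pow_mul, h3]
        rcases hε with rfl | rfl <;> norm_num
      have := (hζ.pow_eq_one_iff_dvd _).1 h2
      have h8 : 8 ∣ 2 * (2 + 2 ^ (n - 2)) :=
        ((pow_dvd_pow 2 (by omega : 3 ≤ n - 1)) : 2 ^ 3 ∣ 2 ^ (n - 1)).trans this
      obtain ⟨c, hc⟩ := pow_dvd_pow 2 (by omega : 2 ≤ n - 2)
      omega
  subst hm1
  -- the cyclic subgroup of index two
  set C : Subgroup ↥(P : Subgroup G) := zpowers g' with hC
  have hCc : Nat.card C = 2 ^ (n - 1) := by rw [hC, Nat.card_zpowers, hgm]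
  have hCi : C.index = 2 := by
    have := C.card_mul_index
    rw [hCc, hP, show n = (n - 1) + 1 by omega, pow_succ] at this
    simpa using Nat.eq_of_mul_eq_mul_left (by positivity) this
  haveI hCn : C.Normal := normal_of_index_eq_two hCi
  obtain ⟨t, ht⟩ : ∃ t, t ∉ C := by
    by_contra! h
    rw [(eq_top_iff' C).2 h, index_top] at hCi
    omega
  obtain ⟨k, hk⟩ := exists_nat_pow (hCn.conj_mem g' (mem_zpowers g') t)
  have hne : t * g' * t⁻¹ ≠ g' := by
    intro h
    refine hna ?_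
    have htc : g' ∈ center ↥(P : Subgroup G) :=
      CfsgLib.PGroups.mem_center_of_index_two hCi inferInstance ht (mem_zpowers g')
        (mul_inv_eq_iff_eq_mul.1 h)
    exact isMulCommutative_of_mem_center_order (by omega) hP htc (by rw [hgm])
  have hkodd : Odd k := by
    by_contra he
    rw [Nat.not_odd_iff_even, even_iff_two_dvd] at he
    have h1 : orderOf (g' ^ k) = 2 ^ (n - 1) := by
      rw [hk, ← hgm]
      exact (SemiconjBy.orderOf_eq t (show SemiconjBy t g' (t * g' * t⁻¹) by simp [SemiconjBy])).symm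
    rw [orderOf_pow, hgm] at h1
    have h2 : 2 ∣ (2 ^ (n - 1)).gcd k := Nat.dvd_gcd (dvd_pow_self 2 (by omega)) he
    have h3 := Nat.div_mul_cancel (Nat.gcd_dvd_left (2 ^ (n - 1)) k)
    rw [h1] at h3
    have : (2 ^ (n - 1)).gcd k = 1 := by
      have hpos : 0 < 2 ^ (n - 1) := by positivity
      nlinarith
    omega
  have hconj : IsConj (g ^ k) g := by
    refine isConj_iff.2 ⟨((t : G))⁻¹, ?_⟩
    have := congrArg Subtype.val hk
    simp only [SubmonoidClass.coe_pow, Subgroup.coe_mul, Subgroup.coe_inv, hg'] at this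
    rw [this]
    group
  have hε' : ζ ^ (k + 1) = ε := by
    rcases (hkey k hkodd).1 hconj with h | h
    · refine absurd ?_ hne
      rw [← hk]
      conv_rhs => rw [← pow_one g']
      rw [pow_eq_pow_iff_modEq, hgm]
      have h1 : ζ ^ k = ζ ^ 1 := by rw [h, pow_one]
      exact prim_modEq hζ h1
    · rw [pow_succ, h, mul_assoc, inv_mul_cancel₀ hζ0, mul_one]
  -- the commutator subgroup is generated by the square
  have hk1 : ∃ j : ℕ, Odd j ∧ g'⁻¹ * g' ^ k = (g' ^ 2) ^ j := by
    obtain ⟨i, hi⟩ := hkodd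
    refine ⟨i, ?_, by rw [hi, pow_succ', inv_mul_cancel_left, pow_mul]⟩
    have h4 : ζ ^ (2 * (k + 1)) = 1 := by
      rw [mul_comm, pow_mul, hε']
      rcases hε with rfl | rfl <;> norm_num
    have h5 := (hζ.pow_eq_one_iff_dvd _).1 h4
    have h8 : 8 ∣ 2 * (k + 1) :=
      ((pow_dvd_pow 2 (by omega : 3 ≤ n - 1)) : 2 ^ 3 ∣ 2 ^ (n - 1)).trans h5
    rw [Nat.odd_iff]
    omega
  obtain ⟨j, hj, hjeq⟩ := hk1
  set D : Subgroup ↥(P : Subgroup G) := zpowers (g' ^ 2) with hD
  have hDc : Nat.card D = 2 ^ (n - 2) := by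
    rw [hD, Nat.card_zpowers, orderOf_pow, hgm,
      Nat.gcd_eq_right (dvd_pow_self 2 (by omega : n - 1 ≠ 0)),
      show n - 1 = (n - 2) + 1 by omega, pow_succ, Nat.mul_div_cancel _ (by norm_num)]
  have hDi : D.index = 4 := by
    have := D.card_mul_index
    rw [hDc, hP, show n = (n - 2) + 2 by omega, pow_add] at this
    simpa using Nat.eq_of_mul_eq_mul_left (by positivity) this
  have hDle : D ≤ commutator ↥(P : Subgroup G) := by
    have h1 : (g' ^ 2) ^ j ∈ commutator ↥(P : Subgroup G) := by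
      rw [← hjeq, hk]
      have : g'⁻¹ * (t * g' * t⁻¹) = ⁅g'⁻¹, t⁆ := by simp [commutatorElement_def, mul_assoc]
      rw [this]
      exact commutator_mem_commutator (mem_top _) (mem_top _)
    rw [hD, zpowers_le]
    have hco : (orderOf (g' ^ 2)).Coprime j := by
      rw [← Nat.card_zpowers, ← hD, hDc]
      exact (hodd hj).symm
    obtain ⟨i, hi⟩ := exists_pow_eq_self_of_coprime hco.symm
    rw [← hi]
    exact pow_mem h1 i
  have hDn : D.Normal := by
    refine ⟨fun a ha y => ?_⟩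
    rw [hD] at ha ⊢
    obtain ⟨i, rfl⟩ := mem_zpowers_iff.1 ha
    obtain ⟨l, hl⟩ := mem_zpowers_iff.1 (hCn.conj_mem g' (mem_zpowers g') y)
    refine mem_zpowers_iff.2 ⟨l * i, ?_⟩
    rw [← conj_zpow, ← conj_pow, ← hl]
    simp only [← zpow_natCast, ← zpow_mul]
    congr 1
    ring
  haveI := hDn
  have hle : commutator ↥(P : Subgroup G) ≤ D :=
    (Subgroup.Normal.quotient_commutative_iff_commutator_le).1
      (IsPGroup.isMulCommutative_of_card_eq_prime_sq (p := 2)
        (by rw [← Subgroup.index_eq_card, hDi]; norm_num))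
  rw [le_antisymm hle hDle, hDi]

theorem field_of_index_commutator (P : Sylow 2 G) {n : ℕ} (hn : 3 ≤ n)
    (hP : Nat.card P = 2 ^ n) {ζ : ℂ} (hζ : IsPrimitiveRoot ζ (2 ^ (n - 1)))
    (h : (commutator ↥(P : Subgroup G)).index = 4) :
    ∃ g : G, g ∈ (P : Subgroup G) ∧ 2 ∣ (centralizer ({g} : Set G)).index ∧
      ∃ ε : ℂ, (ε = 1 ∨ ε = -1) ∧ IntermediateField.adjoin ℚ (valSet g) =
        IntermediateField.adjoin ℚ ({ζ + ε * ζ⁻¹} : Set ℂ) := by
  haveI : Fact (Nat.Prime 2) := ⟨Nat.prime_two⟩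
  haveI : NeZero (Nat.card G) := ⟨Nat.card_pos.ne'⟩
  obtain ⟨c, t, hc, ht, hdec, hZ, hw1, -, htc⟩ :=
    CfsgLib.PGroups.maximalClass_two_structure hn hP
      (CfsgLib.PGroups.maximalClass_of_index_commutator hP h)
  have hPdvd : 2 ^ n ∣ Nat.card G := hP ▸ Subgroup.card_subgroup_dvd_card _
  have hζN : ζ ^ Nat.card G = 1 := by
    obtain ⟨c', hc'⟩ := (pow_dvd_pow 2 (Nat.sub_le n 1)).trans hPdvd
    rw [hc', pow_mul, hζ.pow_eq_one, one_pow]
  have hζ0 : ζ ≠ 0 := hζ.ne_zero (by positivity)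
  have hna : ¬ IsMulCommutative ↥(P : Subgroup G) := by
    intro hab
    have hZt : center ↥(P : Subgroup G) = ⊤ :=
      (eq_top_iff' _).2 fun a => mem_center_iff.2 fun b => hab.is_comm.comm b a
    rw [(commutator_eq_bot_iff_center_eq_top _).2 hZt, Subgroup.index_bot, hP] at h
    have : 2 ^ 3 ≤ 2 ^ n := Nat.pow_le_pow_right (by norm_num) hn
    omega
  -- the exponent of the action
  obtain ⟨k, hkodd, hk, hε⟩ : ∃ k : ℕ, Odd k ∧ t * c * t⁻¹ = c ^ k ∧
      (ζ ^ (k + 1) = 1 ∨ ζ ^ (k + 1) = -1) := by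
    have hinv : c⁻¹ = c ^ (2 ^ (n - 1) - 1) := by
      rw [eq_comm, eq_inv_iff_mul_eq_one, ← pow_succ,
        show 2 ^ (n - 1) - 1 + 1 = 2 ^ (n - 1) by
          have : 0 < 2 ^ (n - 1) := by positivity
          omega, ← hc, pow_orderOf_eq_one]
    have hM : 2 ^ (n - 1) = 2 * 2 ^ (n - 2) := by
      rw [show n - 1 = (n - 2) + 1 by omega, pow_succ']
    have hpos : 2 ≤ 2 ^ (n - 2) := by
      calc 2 = 2 ^ 1 := rfl
        _ ≤ _ := Nat.pow_le_pow_right (by norm_num) (by omega)
    have he : 2 ∣ 2 ^ (n - 2) := dvd_pow_self 2 (by omega)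
    rcases htc with h1 | h1
    · refine ⟨2 ^ (n - 1) - 1, by rw [Nat.odd_iff]; omega, h1.trans hinv, Or.inl ?_⟩
      rw [show 2 ^ (n - 1) - 1 + 1 = 2 ^ (n - 1) by omega, hζ.pow_eq_one]
    · refine ⟨2 ^ (n - 2) + (2 ^ (n - 1) - 1), by rw [Nat.odd_iff]; omega,
        by rw [h1, hinv, ← pow_add], Or.inr ?_⟩
      rw [show 2 ^ (n - 2) + (2 ^ (n - 1) - 1) + 1 = 2 ^ (n - 2) + 2 ^ (n - 1) by omega,
        pow_add, hζ.pow_eq_one, mul_one]
      have h2 : (ζ ^ 2 ^ (n - 2)) ^ 2 = 1 := by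
        rw [← pow_mul, mul_comm, ← hM, hζ.pow_eq_one]
      rcases sq_eq_one_iff.1 h2 with h3 | h3
      · exfalso
        have := Nat.le_of_dvd (by positivity) ((hζ.pow_eq_one_iff_dvd _).1 h3)
        omega
      · exact h3
  set g : G := (c : G) with hgdef
  have hgo : orderOf g = 2 ^ (n - 1) := by rw [hgdef, Subgroup.orderOf_coe, hc]
  set C := centralizer ({g} : Set G) with hC
  -- even class
  have hidx : 2 ∣ C.index := by
    by_contra hi
    obtain ⟨Q⟩ := (inferInstance : Nonempty (Sylow 2 ↥C))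
    have hQc : Nat.card ((Q : Subgroup ↥C).map C.subtype : Subgroup G) = 2 ^ n := by
      rw [Nat.card_congr ((Q : Subgroup ↥C).equivMapOfInjective _ C.subtype_injective).toEquiv.symm,
        Q.card_eq_multiplicity, ← hP, P.card_eq_multiplicity]
      congr 1
      rw [← C.card_mul_index, Nat.factorization_mul Nat.card_pos.ne' C.index_ne_zero_of_finite,
        Finsupp.add_apply, Nat.factorization_eq_zero_of_not_dvd hi, add_zero]
    set Q' : Sylow 2 G := Sylow.ofCard ((Q : Subgroup ↥C).map C.subtype) (by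
      rw [hQc, ← hP, P.card_eq_multiplicity]) with hQ'
    have hQ'C : (Q' : Subgroup G) ≤ C := Subgroup.map_subtype_le _
    have hgC : g ∈ C := mem_centralizer_singleton_iff.2 rfl
    have hgQ : g ∈ (Q' : Subgroup G) := by
      set T : Subgroup G := (Q' : Subgroup G) ⊔ zpowers g
      have hnorm : zpowers g ≤ normalizer ((Q' : Subgroup G) : Set G) := by
        rw [zpowers_le]
        refine mem_normalizer_iff.2 fun x => ?_
        constructor
        · intro hx
          rw [← (mem_centralizer_singleton_iff.1 (hQ'C hx)), mul_inv_cancel_right]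
          exact hx
        · intro hx
          have h2 := mem_centralizer_singleton_iff.1 (hQ'C hx)
          have h3 : g * x * g⁻¹ = x := by
            calc g * x * g⁻¹ = g⁻¹ * ((g * x * g⁻¹ * g) : G) * 1 * 1 := by
                  rw [h2]; group
              _ = x := by group
          rw [h3] at hx
          exact hx
      have hT : IsPGroup 2 T :=
        IsPGroup.to_sup_of_normal_left' Q'.isPGroup'
          (IsPGroup.of_card (by rw [Nat.card_zpowers, hgo])) hnorm
      rw [← Q'.3 hT le_sup_left]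
      exact mem_sup_right (mem_zpowers g)
    have hcen : (⟨g, hgQ⟩ : ↥(Q' : Subgroup G)) ∈ center ↥(Q' : Subgroup G) :=
      mem_center_iff.2 fun x => Subtype.ext (mem_centralizer_singleton_iff.1 (hQ'C x.2))
    have hab := isMulCommutative_of_mem_center_order (by omega) hQc hcen
      (dvd_of_eq (hgo.symm.trans
        (orderOf_injective ((Q' : Subgroup G).subtype) (Subgroup.subtype_injective _) ⟨g, hgQ⟩)))
    exact hna ⟨⟨fun a b => (Q'.equiv P).symm.injective (by
      rw [map_mul, map_mul]; exact hab.is_comm.comm _ _)⟩⟩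
  refine ⟨g, c.2, hidx, ζ ^ (k + 1), hε, (field_eq_iff g (base_mem hζN hε)).2 ?_⟩
  intro j σ hj hσ
  rw [fix_iff hζ0 hε (hσ ζ hζN)]
  have hconjk : IsConj (g ^ k) g := by
    refine isConj_iff.2 ⟨((t : G))⁻¹, ?_⟩
    have := congrArg Subtype.val hk
    simp only [SubmonoidClass.coe_pow, Subgroup.coe_mul, Subgroup.coe_inv] at this
    rw [hgdef, ← this]
    group
  have hmod : ∀ i, ζ ^ j = ζ ^ i → g ^ j = g ^ i := by
    intro i hi
    rw [pow_eq_pow_iff_modEq, hgo]
    exact prim_modEq hζ hi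
  constructor
  · intro hconj
    -- the automizer has order at most two
    obtain ⟨x, hx⟩ := isConj_iff.1 hconj.symm
    set N := normalizer (zpowers g : Set G) with hN
    have hmemN : ∀ y : G, (∃ i : ℕ, y * g * y⁻¹ = g ^ i) → y ∈ N := by
      rintro y ⟨i, hi⟩
      refine mem_normalizer_iff_map_conj_eq.2 (Subgroup.eq_of_le_of_card_ge ?_ ?_)
      · rw [MonoidHom.map_zpowers, zpowers_le]
        exact mem_zpowers_iff.2 ⟨i, by rw [zpow_natCast, ← hi]; rfl⟩
      · rw [Nat.card_congr (equivMapOfInjective _ _ (MulAut.conj y).injective).toEquiv.symm]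
    have htN : (t : G) ∈ N := by
      refine hmemN _ ⟨k, ?_⟩
      have := congrArg Subtype.val hk
      simpa using this
    have hCN : C ≤ N := fun y hy => hmemN y ⟨1, by
      rw [pow_one, mem_centralizer_singleton_iff.1 hy, mul_inv_cancel_right]⟩
    haveI hCnorm : (C.subgroupOf N).Normal := by
      refine ⟨fun a ha y => ?_⟩
      rw [mem_subgroupOf] at ha ⊢
      obtain ⟨i, hi⟩ := mem_zpowers_iff.1
        ((mem_normalizer_iff.1 y.2 g).1 (mem_zpowers g))
      obtain ⟨i', hi'⟩ := mem_zpowers_iff.1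
        ((mem_normalizer_iff''.1 y.2 g).1 (mem_zpowers g))
      have hg' : (y : G)⁻¹ * g * y = g ^ i' := hi'.symm
      rw [mem_centralizer_singleton_iff] at ha ⊢
      have hc' : (a : G) * g ^ i' = g ^ i' * a := (Commute.zpow_right ha i').eq
      rw [← hg'] at hc'
      simp only [Subgroup.coe_mul, Subgroup.coe_inv]
      calc (y : G) * a * (y : G)⁻¹ * g = y * (a * ((y : G)⁻¹ * g * y)) * (y : G)⁻¹ := by group
        _ = y * ((y : G)⁻¹ * g * y * a) * (y : G)⁻¹ := by rw [hc']
        _ = g * (y * a * (y : G)⁻¹) := by group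
    have hrel : C.relIndex N ∣ 2 := by
      have h2 : IsPGroup 2 (↥N ⧸ C.subgroupOf N) := by
        intro q
        induction q using QuotientGroup.induction_on with
        | H y =>
          refine ⟨n, ?_⟩
          rw [← QuotientGroup.mk_pow, QuotientGroup.eq_one_iff, mem_subgroupOf,
            mem_centralizer_singleton_iff, SubmonoidClass.coe_pow]
          obtain ⟨i, hi⟩ := exists_nat_pow
            ((mem_normalizer_iff.1 y.2 g).1 (mem_zpowers g))
          have hio : Odd i := by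
            by_contra he
            rw [Nat.not_odd_iff_even, even_iff_two_dvd] at he
            have h1 : orderOf (g ^ i) = 2 ^ (n - 1) := by
              rw [hi, ← hgo]
              exact (SemiconjBy.orderOf_eq (y : G) (show SemiconjBy (y : G) g ((y : G) * g * (y : G)⁻¹) by simp [SemiconjBy])).symm
            rw [orderOf_pow, hgo] at h1
            have h2 : 2 ∣ (2 ^ (n - 1)).gcd i := Nat.dvd_gcd (dvd_pow_self 2 (by omega)) he
            have h3 := Nat.div_mul_cancel (Nat.gcd_dvd_left (2 ^ (n - 1)) i)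
            rw [h1] at h3
            have : (2 ^ (n - 1)).gcd i = 1 := by
              have : 0 < 2 ^ (n - 1) := by positivity
              nlinarith
            omega
          have hpow : ∀ r : ℕ, (y : G) ^ r * g * ((y : G) ^ r)⁻¹ = g ^ (i ^ r) := by
            intro r
            induction r with
            | zero => simp
            | succ r ih =>
              rw [pow_succ', show (y : G) * (y : G) ^ r * g * ((y : G) * (y : G) ^ r)⁻¹ =
                (y : G) * ((y : G) ^ r * g * ((y : G) ^ r)⁻¹) * (y : G)⁻¹ by group, ih,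
                ← conj_pow, ← hi, ← pow_mul]
              ring_nf
          have hmd : i ^ (2 ^ n) ≡ 1 [MOD 2 ^ (n - 1)] := by
            have h1 := Nat.ModEq.pow_totient (x := i) (n := 2 ^ (n - 1)) (hodd2 hio)
            rw [Nat.totient_prime_pow Nat.prime_two (by omega)] at h1
            obtain ⟨d, hd⟩ : 2 ^ (n - 1 - 1) * (2 - 1) ∣ 2 ^ n := by
              simpa using pow_dvd_pow 2 (show n - 1 - 1 ≤ n by omega)
            rw [hd, pow_mul]
            simpa using h1.pow d
          have := hpow (2 ^ n)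
          rw [(pow_eq_pow_iff_modEq.2 (hgo ▸ hmd) : g ^ i ^ 2 ^ n = g ^ 1), pow_one] at this
          exact mul_inv_eq_iff_eq_mul.1 this
      obtain ⟨a, ha⟩ := IsPGroup.iff_card.1 h2
      have hra : C.relIndex N = 2 ^ a := ha
      have hCN2 := C.relIndex_mul_index hCN
      have hgC : 2 ^ (n - 1) ∣ Nat.card C :=
        hgo ▸ Subgroup.orderOf_dvd_natCard _ (mem_centralizer_singleton_iff.2 rfl)
      have hdv : 2 ^ (n - 1) * 2 ^ a ∣ Nat.card G := by
        rw [← C.card_mul_index, ← hra, ← hCN2]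
        exact mul_dvd_mul hgC (dvd_mul_right _ _)
      rw [← pow_add] at hdv
      have h5 := (Nat.Prime.pow_dvd_iff_le_factorization Nat.prime_two Nat.card_pos.ne').1 hdv
      have h6 : (Nat.card G).factorization 2 = n := by
        have := P.card_eq_multiplicity
        rw [hP] at this
        exact (Nat.pow_right_injective (le_refl 2) this).symm
      rw [hra]
      simpa using pow_dvd_pow 2 (by omega : a ≤ 1)
    have htC : (t : G) ∉ C := by
      intro h2
      have h3 := mem_centralizer_singleton_iff.1 h2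
      have h4 : t * c * t⁻¹ = c := Subtype.ext (by
        simp only [Subgroup.coe_mul, Subgroup.coe_inv, ← hgdef]
        rw [h3, mul_inv_cancel_right])
      refine hna (isMulCommutative_of_mem_center_order (by omega) hP (z := c) ?_ (by rw [hc]))
      refine mem_center_iff.2 fun y => ?_
      rcases hdec y with hy | hy
      · obtain ⟨i, rfl⟩ := mem_zpowers_iff.1 hy
        exact ((Commute.refl c).zpow_left i).eq
      · obtain ⟨i, hi⟩ := mem_zpowers_iff.1 hy
        rw [show y = t * c ^ i by rw [hi]; group]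
        have h5 : Commute t c := mul_inv_eq_iff_eq_mul.1 h4
        exact (h5.mul_left ((Commute.refl c).zpow_left i)).eq
    have hxN : x ∈ N := hmemN x ⟨j, hx⟩
    by_cases hxC : x ∈ C
    · left
      have : g ^ j = g ^ 1 := by
        rw [← hx, mem_centralizer_singleton_iff.1 hxC, mul_inv_cancel_right, pow_one]
      rw [pow_eq_pow_iff_modEq, hgo] at this
      rw [pow_eq_pow_of_modEq this hζ.pow_eq_one, pow_one]
    · right
      have hindex : (C.subgroupOf N).index = 2 := by
        rcases (Nat.dvd_prime Nat.prime_two).1 hrel with h2 | h2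
        · exact absurd (Subgroup.relIndex_eq_one.1 h2 htN) htC
        · exact h2
      have hmem : (⟨t, htN⟩ : ↥N)⁻¹ * ⟨x, hxN⟩ ∈ C.subgroupOf N := by
        rw [mul_mem_iff_of_index_two hindex]
        simp [mem_subgroupOf, htC, hxC]
      rw [mem_subgroupOf, mem_centralizer_singleton_iff] at hmem
      simp only [Subgroup.coe_mul, Subgroup.coe_inv] at hmem
      have h2 : g ^ j = g ^ k := by
        have ht' : (t : G) * g * (t : G)⁻¹ = g ^ k := by
          have := congrArg Subtype.val hk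
          simpa using this
        rw [← hx, ← ht']
        have h3 : ((t : G)⁻¹ * x) * g * ((t : G)⁻¹ * x)⁻¹ = g := by
          rw [hmem, mul_inv_cancel_right]
        calc x * g * x⁻¹ = t * (((t : G)⁻¹ * x) * g * ((t : G)⁻¹ * x)⁻¹) * (t : G)⁻¹ := by group
          _ = _ := by rw [h3]
      rw [pow_eq_pow_iff_modEq, hgo] at h2
      rw [pow_eq_pow_of_modEq h2 hζ.pow_eq_one, pow_succ, mul_inv_cancel_right₀ hζ0]
  · rintro (h1 | h1)
    · rw [hmod 1 (h1.trans (pow_one ζ).symm), pow_one]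
    · rw [hmod k (by rw [h1, pow_succ, mul_inv_cancel_right₀ hζ0])]
      exact hconjk
where
  hodd2 {i : ℕ} (h : Odd i) {M : ℕ} : i.Coprime (2 ^ M) :=
    ((Nat.coprime_two_right).2 h).pow_right _

end CfsgLib.CharApps.MCField
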