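import Cfsg.Agent.Lib.CharApps.Basic
import Cfsg.Agent.Lib.Base.Cores
import Cfsg.Agent.Lib.Chars.Linear
import Cfsg.Agent.Lib.CharsMore.Extend

/-!
# A column of the character table with constant offset from the degrees
-/

set_option autoImplicit false
set_option linter.style.haveILetI false
set_option linter.unusedSectionVars false

namespace CfsgLib.CharApps

open Cfsg CfsgLib.Chars
open scoped ComplexConjugate

universe u

variable {G : Type u} [Group G] [Finite G] {u : G} {c : ℂ}

theorem offset_eq_two (hu : u ≠ 1)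
    (hyp : ∀ χ : IrrCharacter G, (χ : G → ℂ) ≠ (fun _ => (1 : ℂ)) →
      ((χ : G → ℂ) 1 - (χ : G → ℂ) u = c ∨ (χ : G → ℂ) u = 0))
    (hnp : commutator G ≠ ⊤) : c = 2 := by
  classical
  haveI := Fintype.ofFinite G
  haveI := irrFintype G
  haveI : Nontrivial (Abelianization G) := QuotientGroup.nontrivial_iff.mpr hnp
  obtain ⟨a, ha⟩ := exists_ne (1 : Abelianization G)
  haveI : NeZero (Monoid.exponent (Abelianization G) : ℂ) :=
    ⟨Nat.cast_ne_zero.mpr Monoid.exponent_ne_zero_of_finite⟩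
  obtain ⟨φ, hφ⟩ := CommGroup.exists_apply_ne_one_of_hasEnoughRootsOfUnity (Abelianization G) ℂ ha
  set μ : G →* ℂˣ := φ.comp Abelianization.of with hμ
  have hne : μ ≠ 1 := fun h => hφ (by
    obtain ⟨g, rfl⟩ := QuotientGroup.mk_surjective a
    exact DFunLike.congr_fun h g)
  have hlin : ∀ ν : G →* ℂˣ, ν ≠ 1 → 1 - (ν u : ℂ) = c := by
    intro ν hν
    rcases hyp ⟨CharsMore.linFun ν, CharsMore.isIrrCharacter_linFun ν⟩ (fun h => hν (MonoidHom.ext
      fun g => Units.ext (congrFun h g))) with h | h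
    · simpa [CharsMore.linFun] using h
    · exact absurd h (ν u).ne_zero
  by_cases h1 : (μ u : ℂ) = 1
  · exfalso
    have hc : c = 0 := by rw [← hlin μ hne, h1, sub_self]
    have hsum := sum_degree_mul u
    rw [if_neg hu] at hsum
    have hpos : (0 : ℝ) < ∑ χ : IrrCharacter G, ((χ : G → ℂ) 1 * (χ : G → ℂ) u).re := by
      refine Finset.sum_pos' (fun χ _ => ?_) ⟨oneIrr G, Finset.mem_univ _, by simp [oneIrr_apply]⟩
      by_cases hχ : (χ : G → ℂ) = fun _ => 1
      · simp [hχ]
      rcases hyp χ hχ with h | h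
      · rw [hc, sub_eq_zero] at h
        rw [← h, deg_eq]
        simp only [Complex.mul_re, Complex.natCast_re, Complex.natCast_im, mul_zero, sub_zero]
        positivity
      · simp [h]
    rw [← Complex.re_sum, hsum] at hpos
    simp at hpos
  · have h2 : μ * μ = 1 := by
      by_contra hne2
      have e := (hlin _ hne2).trans (hlin μ hne).symm
      rw [sub_right_inj, MonoidHom.mul_apply, Units.val_mul] at e
      exact h1 (mul_eq_right₀ (μ u).ne_zero |>.mp e)
    have h3 : (μ u : ℂ) * μ u = 1 := by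
      rw [← Units.val_mul, ← MonoidHom.mul_apply, h2]; simp
    rcases mul_self_eq_one_iff.mp h3 with e | e
    · exact absurd e h1
    · rw [← hlin μ hne, e]; norm_num

theorem structure_of_offset_two (hu : u ≠ 1)
    (hyp : ∀ χ : IrrCharacter G, (χ : G → ℂ) ≠ (fun _ => (1 : ℂ)) →
      ((χ : G → ℂ) 1 - (χ : G → ℂ) u = 2 ∨ (χ : G → ℂ) u = 0)) :
    orderOf u = 2 ∧ Subgroup.zpowers u ⊔ oddCore G = ⊤ ∧
      Subgroup.centralizer ({u} : Set G) = Subgroup.zpowers u := by
  classical
  haveI := Fintype.ofFinite G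
  haveI := irrFintype G
  -- values are integers
  have hval : ∀ χ : IrrCharacter G, χ ≠ oneIrr G → ∃ v : ℤ, (χ : G → ℂ) u = v ∧
      (v = 0 ∨ v = (charDegree (χ : G → ℂ) : ℤ) - 2) := by
    intro χ hχ
    rcases hyp χ (fun h => hχ (Subtype.ext h)) with h | h
    · refine ⟨_, ?_, Or.inr rfl⟩
      rw [deg_eq] at h
      push_cast
      linear_combination -h
    · exact ⟨0, by rw [h, Int.cast_zero], Or.inl rfl⟩
  choose v hv hv2 using hval
  let t : IrrCharacter G → ℤ := fun χ => if h : χ = oneIrr G then 1 else v χ h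
  have ht : ∀ χ : IrrCharacter G, (χ : G → ℂ) u = t χ := fun χ => by
    by_cases h : χ = oneIrr G
    · simp [t, h, oneIrr_apply]
    · simp only [t, dif_neg h]; exact hv χ h
  have hsum : ∑ χ : IrrCharacter G, (charDegree (χ : G → ℂ) : ℤ) * t χ = 0 := by
    have h := sum_degree_mul u
    rw [if_neg hu, Finset.sum_congr rfl fun χ _ => by rw [deg_eq χ, ht χ]] at h
    exact_mod_cast h
  let L := Finset.univ.filter fun χ : IrrCharacter G => χ ≠ oneIrr G ∧ charDegree (χ : G → ℂ) = 1
  have hLv : ∀ χ ∈ L, t χ = -1 := by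
    intro χ hχ
    obtain ⟨hne, hd⟩ := (Finset.mem_filter.mp hχ).2
    simp only [t, dif_neg hne]
    rcases hv2 χ hne with h | h
    · exfalso
      have h1 := hv χ hne
      obtain ⟨ν, hν⟩ := CharsMore.exists_hom_of_linear
        ⟨isCharacter_of_irr χ.2, (deg_eq_one_iff χ).mpr hd⟩
      rw [h, Int.cast_zero, ← hν] at h1
      exact (ν u).ne_zero h1
    · omega
  have hLcard : L.card ≤ 1 := by
    refine Finset.card_le_one.mpr fun χ hχ ψ hψ => ?_
    obtain ⟨hne, hd⟩ := (Finset.mem_filter.mp hχ).2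
    obtain ⟨hne', hd'⟩ := (Finset.mem_filter.mp hψ).2
    obtain ⟨ν, hν⟩ := CharsMore.exists_hom_of_linear
      ⟨isCharacter_of_irr χ.2, (deg_eq_one_iff χ).mpr hd⟩
    obtain ⟨ν', hν'⟩ := CharsMore.exists_hom_of_linear
      ⟨isCharacter_of_irr ψ.2, (deg_eq_one_iff ψ).mpr hd'⟩
    have e1 : (ν u : ℂ) = -1 := by
      rw [show (ν u : ℂ) = (χ : G → ℂ) u from congrFun hν u, ht, hLv χ hχ]; norm_num
    have e2 : (ν' u : ℂ) = -1 := by
      rw [show (ν' u : ℂ) = (ψ : G → ℂ) u from congrFun hν' u, ht, hLv ψ hψ]; norm_num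
    have hprod : ∀ η : G →* ℂˣ, (η u : ℂ) = 1 → η = 1 := by
      intro η hη
      by_contra hne1
      rcases hyp ⟨CharsMore.linFun η, CharsMore.isIrrCharacter_linFun η⟩
        (fun h => hne1 (MonoidHom.ext fun g => Units.ext (congrFun h g))) with h | h
      · simp [CharsMore.linFun, hη] at h
      · exact (η u).ne_zero h
    have h3 : ν * ν' = 1 := hprod _ (by rw [MonoidHom.mul_apply, Units.val_mul, e1, e2]; norm_num)
    have h4 : ν * ν = 1 := hprod _ (by rw [MonoidHom.mul_apply, Units.val_mul, e1]; norm_num)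
    refine Subtype.ext ?_
    rw [← hν, ← hν', mul_left_cancel (h4.trans h3.symm)]
  have hone : oneIrr G ∉ L := by simp [L]
  have hrest : ∀ χ ∈ Finset.univ \ insert (oneIrr G) L,
      0 ≤ (charDegree (χ : G → ℂ) : ℤ) * t χ ∧
        ((charDegree (χ : G → ℂ) : ℤ) * t χ = 0 → t χ = 0) := by
    intro χ hχ
    simp only [Finset.mem_sdiff, Finset.mem_univ, true_and, Finset.mem_insert, not_or, L,
      Finset.mem_filter, not_and] at hχ
    have hd1 := hχ.2 hχ.1
    have hd0 := deg_pos χ
    have h2 : 0 ≤ t χ := by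
      simp only [t, dif_neg hχ.1]
      rcases hv2 χ hχ.1 with h | h <;> omega
    exact ⟨mul_nonneg (by positivity) h2, fun h => (mul_eq_zero.mp h).resolve_left (by omega)⟩
  have hd1 : charDegree (oneIrr G : G → ℂ) = 1 := by simp [charDegree, oneIrr_apply]
  have ht1 : t (oneIrr G) = 1 := by simp [t]
  rw [← Finset.sum_sdiff (Finset.subset_univ (insert (oneIrr G) L)), Finset.sum_insert hone, hd1, ht1,
    Finset.sum_congr (s₁ := L) rfl (fun (χ : IrrCharacter G) hχ => show (charDegree (χ : G → ℂ) : ℤ) * t χ = -1 by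
      rw [(Finset.mem_filter.mp hχ).2.2, hLv χ hχ]; norm_num), Finset.sum_const, nsmul_eq_mul] at hsum
  have hs0 := Finset.sum_nonneg fun χ hχ => (hrest χ hχ).1
  have hL1 : L.card = 1 := by
    push_cast at hsum
    omega
  have hz : ∀ χ ∈ Finset.univ \ insert (oneIrr G) L, t χ = 0 := fun χ hχ => (hrest χ hχ).2
    ((Finset.sum_eq_zero_iff_of_nonneg fun χ hχ => (hrest χ hχ).1).mp (by
      rw [hL1] at hsum; push_cast at hsum; omega) χ hχ)
  have hcard : Nat.card (Subgroup.centralizer ({u} : Set G)) = 2 := by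
    have h := second_orthogonality u u
    rw [if_pos (IsConj.refl u), Finset.sum_congr rfl fun χ _ => by rw [ht χ, map_intCast],
      ← Finset.sum_sdiff (Finset.subset_univ (insert (oneIrr G) L)), Finset.sum_insert hone, ht1,
      Finset.sum_eq_zero (fun χ hχ => by rw [hz χ hχ]; simp),
      Finset.sum_congr (s₁ := L) rfl (fun (χ : IrrCharacter G) hχ => show (t χ : ℂ) * (t χ : ℂ) = 1 by rw [hLv χ hχ]; norm_num),
      Finset.sum_const, hL1] at h
    have h' : ((2 : ℕ) : ℂ) = Nat.card (Subgroup.centralizer ({u} : Set G)) := by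
      rw [← h]; norm_num
    exact_mod_cast h'.symm
  have humem : u ∈ Subgroup.centralizer ({u} : Set G) :=
    Subgroup.mem_centralizer_singleton_iff.mpr rfl
  have hle : Subgroup.zpowers u ≤ Subgroup.centralizer ({u} : Set G) := Subgroup.zpowers_le.mpr humem
  have hord : orderOf u = 2 := by
    have h1 : orderOf u ∣ 2 := by
      rw [← hcard, ← Nat.card_zpowers]; exact Subgroup.card_dvd_of_le hle
    exact ((Nat.dvd_prime Nat.prime_two).mp h1).resolve_left fun h => hu (orderOf_eq_one_iff.mp h)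
  have hCeq : Subgroup.centralizer ({u} : Set G) = Subgroup.zpowers u :=
    (Subgroup.eq_of_le_of_card_ge hle (by rw [hcard, Nat.card_zpowers, hord])).symm
  refine ⟨hord, ?_, hCeq⟩
  haveI : Fact (Nat.Prime 2) := ⟨Nat.prime_two⟩
  obtain ⟨P, hP⟩ := IsPGroup.exists_le_sylow (G := G) (P := Subgroup.zpowers u)
    (IsPGroup.of_card (n := 1) (by rw [Nat.card_zpowers, hord, pow_one]))
  have huP : u ∈ (P : Subgroup G) := hP (Subgroup.mem_zpowers u)
  have hPu : (P : Subgroup G) = Subgroup.zpowers u := by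
    haveI : Nontrivial (P : Subgroup G) := ⟨⟨⟨u, huP⟩, 1, fun h => hu (congrArg Subtype.val h)⟩⟩
    haveI := P.2.center_nontrivial
    obtain ⟨⟨z, hz⟩, hz1⟩ := exists_ne (1 : Subgroup.center (P : Subgroup G))
    have hzu : (z : G) = u := by
      have hzC : (z : G) ∈ Subgroup.centralizer ({u} : Set G) :=
        Subgroup.mem_centralizer_singleton_iff.mpr
          (congrArg Subtype.val (Subgroup.mem_center_iff.mp hz ⟨u, huP⟩)).symm
      rw [hCeq] at hzC
      obtain ⟨i, hi⟩ := hzC
      dsimp only at hi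
      rcases Int.even_or_odd i with ⟨j, rfl⟩ | ⟨j, rfl⟩
      · exfalso
        refine hz1 (Subtype.ext (Subtype.ext ?_))
        show (z : G) = 1
        rw [← hi, ← two_mul, zpow_mul, show u ^ (2 : ℤ) = 1 by
          rw [zpow_ofNat, ← hord, pow_orderOf_eq_one], one_zpow]
      · rw [← hi, zpow_add_one, zpow_mul, show u ^ (2 : ℤ) = 1 by
          rw [zpow_ofNat, ← hord, pow_orderOf_eq_one], one_zpow, one_mul]
    refine le_antisymm (fun y hy => hCeq ▸ Subgroup.mem_centralizer_singleton_iff.mpr ?_) hP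
    rw [← hzu]
    exact congrArg Subtype.val (Subgroup.mem_center_iff.mp hz ⟨y, hy⟩)
  have hN : Subgroup.normalizer ((P : Subgroup G) : Set G) ≤
      Subgroup.centralizer ((P : Subgroup G) : Set G) := by
    intro g hg
    have hgu : g * u * g⁻¹ = u := by
      have h1 : g * u * g⁻¹ ∈ Subgroup.zpowers u := hPu ▸ (Subgroup.mem_normalizer_iff.mp hg u).mp huP
      obtain ⟨i, hi⟩ := h1
      dsimp only at hi
      rw [← zpow_mod_orderOf, hord] at hi
      rcases Int.emod_two_eq i with e | e <;> rw [show ((2 : ℕ) : ℤ) = 2 from rfl, e] at hi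
      · exfalso; rw [zpow_zero, eq_comm, conj_eq_one_iff] at hi; exact hu hi
      · rw [← hi, zpow_one]
    rw [hPu]
    refine Subgroup.mem_centralizer_iff.mpr ?_
    rintro _ ⟨i, rfl⟩
    exact ((show Commute g u from mul_inv_eq_iff_eq_mul.mp hgu).zpow_right i).symm.eq
  set K := (MonoidHom.transferSylow P hN).ker with hK
  have hKodd : Odd (Nat.card K) := by
    rw [← Nat.not_even_iff_odd, even_iff_two_dvd]
    exact MonoidHom.not_dvd_card_ker_transferSylow P hN
  refine top_le_iff.mp ?_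
  rw [← hPu, ← (MonoidHom.ker_transferSylow_isComplement' P hN).sup_eq_top, sup_comm]
  exact sup_le_sup_left (Base.le_oddCore hKodd) _

theorem not_perfect_of_structure (hord : orderOf u = 2)
    (htop : Subgroup.zpowers u ⊔ oddCore G = ⊤) : commutator G ≠ ⊤ := by
  haveI : (oddCore G).Normal := by unfold oddCore; infer_instance
  intro hperf
  have hle : commutator G ≤ oddCore G := by
    rw [commutator_def, Subgroup.commutator_le]
    intro x _ y _
    obtain ⟨_, ⟨i, rfl⟩, a, ha, hx⟩ := Subgroup.mem_sup_of_normal_right.mp (htop ▸ Subgroup.mem_top x)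
    obtain ⟨_, ⟨j, rfl⟩, b, hb, hy⟩ := Subgroup.mem_sup_of_normal_right.mp (htop ▸ Subgroup.mem_top y)
    rw [← QuotientGroup.eq_one_iff, ← hx, ← hy]
    simp only [commutatorElement_def, QuotientGroup.mk_mul, QuotientGroup.mk_inv,
      (QuotientGroup.eq_one_iff a).mpr ha, (QuotientGroup.eq_one_iff b).mpr hb, mul_one,
      QuotientGroup.mk_zpow]
    rw [(Commute.zpow_zpow_self _ i j).eq]
    group
  have hu : u ∈ oddCore G := hle (hperf ▸ Subgroup.mem_top u)
  have h1 : Odd (orderOf u) :=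
    (Base.odd_card_oddCore G).of_dvd_nat ((Subgroup.orderOf_dvd_natCard _ hu))
  rw [hord] at h1
  exact absurd h1 (by decide)

end CfsgLib.CharApps
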