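import Cfsg.Agent.Lib.Glauberman.Count
import Cfsg.Agent.Lib.CharsMore.Gallagher
import Cfsg.Agent.Lib.CharsMore.Clifford
import Cfsg.Agent.Lib.Blocks.Covering
import Cfsg.Agent.Lib.Chars.Linear
import Cfsg.Agent.Lib.Chars.Quotient
import Cfsg.Agent.Lib.BlockOrth.Height
import Cfsg.Agent.Lib.FgsB.Basic
import Cfsg.Agent.S0867

/-!
# A normal `p`-complement and a single irreducible degree divisible by `p`

With `G = N ⋊ P` and `C = C_N(P)`: the irreducible characters of degree prime to `p` number
`|Lin P| k(C)`, and for abelian `P` the classes of size prime to `p` number `|P| k(C)`.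
-/

set_option autoImplicit false
set_option linter.style.haveILetI false
set_option linter.unusedSectionVars false

namespace CfsgLib.CharApps.OnePDegree

open Cfsg CfsgLib.Chars CfsgLib.CharsMore CfsgLib.Glauberman
open scoped Pointwise commutatorElement

universe u

variable {G : Type u} [Group G]

/-- All irreducible characters linear means abelian. -/
theorem isMulCommutative_of_linear {H : Type*} [Group H] [Finite H]
    (h : ∀ β : IrrCharacter H, (β : H → ℂ) 1 = 1) : IsMulCommutative H := by
  classical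
  haveI := Fintype.ofFinite H
  letI := irrFintype H
  have h1 : Nat.card (IrrCharacter H) = (commutator H).index := by
    rw [← card_degree_one]
    exact (Nat.card_congr (Equiv.subtypeUnivEquiv h)).symm
  have h2 : (Nat.card (IrrCharacter H) : ℂ) = Nat.card H := by
    rw [← sum_degree_sq (G := H), Nat.card_eq_fintype_card]
    simp [h]
  have h3 : (commutator H).index = Nat.card H := by
    rw [← h1]
    exact_mod_cast h2
  have h4 : commutator H = ⊥ := by
    refine Subgroup.eq_bot_of_card_eq _ ?_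
    have h5 := Subgroup.card_mul_index (commutator H)
    rw [h3] at h5
    exact Nat.eq_of_mul_eq_mul_right Nat.card_pos (h5.trans (one_mul _).symm)
  refine ⟨⟨fun a b => ?_⟩⟩
  have h6 : ⁅a, b⁆ ∈ commutator H :=
    Subgroup.commutator_mem_commutator (Subgroup.mem_top a) (Subgroup.mem_top b)
  rw [h4, Subgroup.mem_bot] at h6
  exact commutatorElement_eq_one_iff_mul_comm.1 h6

variable [Finite G] {p : ℕ} [Fact p.Prime]

/-- A single irreducible degree divisible by `p`, over a normal `p`-complement. -/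
theorem card_p_classes_eq_one (hnil : ¬ Group.IsNilpotent G) (N : Subgroup G) [N.Normal]
    (hN : ¬ p ∣ Nat.card N) (P : Subgroup G) (hP : IsPGroup p P) (hinf : N ⊓ P = ⊥)
    (hsup : N ⊔ P = ⊤)
    (hone : Nat.card {χ : IrrCharacter G // p ∣ charDegree (χ : G → ℂ)} = 1) :
    Nat.card {D : ConjClasses G // p ∣ Nat.card D.carrier} = 1 := by
  classical
  haveI := Fintype.ofFinite G
  haveI := Fintype.ofFinite N
  haveI := Fintype.ofFinite P
  letI := irrFintype G
  have hidx : N.index = Nat.card P := by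
    have hc : Subgroup.IsComplement' N P := by
      refine Subgroup.isComplement'_of_disjoint_and_mul_eq_univ (disjoint_iff.2 hinf) ?_
      rw [← Subgroup.normal_mul, hsup, Subgroup.coe_top]
    rw [hc.symm.index_eq_card]
  obtain ⟨a, ha⟩ := hP.exists_card_eq
  -- the quotient is `P`
  let q : P →* G ⧸ N := (QuotientGroup.mk' N).comp P.subtype
  have hq : Function.Bijective q := by
    refine ⟨(injective_iff_map_eq_one q).2 fun x hx => Subtype.ext ?_, fun y => ?_⟩
    · have h1 : (x : G) ∈ N := (QuotientGroup.eq_one_iff _).1 hx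
      rw [OneMemClass.coe_one, ← Subgroup.mem_bot, ← hinf]
      exact ⟨h1, x.2⟩
    · obtain ⟨g, rfl⟩ := QuotientGroup.mk_surjective y
      have hg : g ∈ ((N : Set G) * (P : Set G)) := by
        rw [← Subgroup.normal_mul, hsup]
        trivial
      obtain ⟨n, hn, x, hx, rfl⟩ := Set.mem_mul.1 hg
      refine ⟨⟨x, hx⟩, ?_⟩
      show ((x : G) : G ⧸ N) = ((n * x : G) : G ⧸ N)
      rw [QuotientGroup.mk_mul, (QuotientGroup.eq_one_iff n).2 hn, one_mul]
  let e : (G ⧸ N) ≃* P := (MulEquiv.ofBijective q hq).symm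
  have he : ∀ x : P, e ((x : G) : G ⧸ N) = x := fun x => by
    show (MulEquiv.ofBijective q hq).symm (q x) = x
    exact (MulEquiv.ofBijective q hq).symm_apply_apply x
  -- extensions of invariant characters
  have hGinv : ∀ θ : IrrCharacter N, InvBy P N (θ : N → ℂ) →
      ∀ (g : G) (n : N), (θ : N → ℂ) (conjBy N g n) = (θ : N → ℂ) n := by
    intro θ hθ g n
    have hg : g ∈ ((N : Set G) * (P : Set G)) := by
      rw [← Subgroup.normal_mul, hsup]
      trivial
    obtain ⟨m, hm, x, hx, rfl⟩ := Set.mem_mul.1 hg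
    have e1 : conjBy N (m * x) n = (⟨m, hm⟩ : N) * conjBy N x n * (⟨m, hm⟩ : N)⁻¹ :=
      Subtype.ext (by simp [mul_assoc])
    rw [e1, isClassFunction_irr θ]
    exact hθ x hx n _ (coe_conjBy N x n)
  have hext : ∀ θ : IrrCharacter N, InvBy P N (θ : N → ℂ) →
      ∃ χ : IrrCharacter G, ∀ n : N, (χ : G → ℂ) n = (θ : N → ℂ) n := by
    intro θ hθ
    obtain ⟨d, -, hd, hdvd⟩ := irr_degree_dvd_card θ.2
    obtain ⟨k, ρ, hρ, hρe⟩ := θ.2
    have hcop : Nat.Coprime N.index (Nat.card N) := by
      rw [hidx, ha]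
      exact ((Fact.out : p.Prime).coprime_iff_not_dvd.2 hN).pow_left a
    have hord : detOrder (θ : N → ℂ) ∣ Nat.card N := by
      rw [← hρe, detOrder, detChar_eq ρ rfl, orderOf_linFun]
      refine orderOf_dvd_of_pow_eq_one (MonoidHom.ext fun n => ?_)
      rw [MonoidHom.pow_apply, ← map_pow, pow_card_eq_one', map_one]
      rfl
    obtain ⟨χ, ⟨hχ, hres, -⟩, -⟩ := Cfsg.Agent.S0867.result N (θ : N → ℂ) θ.2
      (fun g n => hGinv θ hθ g n) d hd
      ((hcop.coprime_dvd_right hord).mul_right (hcop.coprime_dvd_right hdvd))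
    exact ⟨⟨χ, hχ⟩, hres⟩
  choose X hX using hext
  have hXN : ∀ (θ : IrrCharacter N) (hθ : InvBy P N (θ : N → ℂ)),
      IsIrrCharacter N (fun n : N => (X θ hθ : G → ℂ) n) := fun θ hθ => by
    rw [funext (hX θ hθ)]
    exact θ.2
  have hinfl : ∀ β : IrrCharacter P, IsIrrCharacter G (fun g : G => (β : P → ℂ) (e (g : G ⧸ N))) :=
    fun β => isIrrCharacter_inflate N
      (isIrrCharacter_comp e.toMonoidHom e.surjective β.2)
  have hqmem : ∀ β : IrrCharacter P, (⟨_, hinfl β⟩ : IrrCharacter G) ∈ quotIrr N := fun β =>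
    (mem_quotIrr N).2 fun n hn => CharApps.mem_charKer.2 (by
      show (β : P → ℂ) (e (n : G ⧸ N)) = (β : P → ℂ) (e ((1 : G) : G ⧸ N))
      rw [(QuotientGroup.eq_one_iff n).2 hn, QuotientGroup.mk_one])
  let Inv := {θ : IrrCharacter N // InvBy P N (θ : N → ℂ)}
  let prod : Inv → IrrCharacter P → IrrCharacter G := fun θ β =>
    ⟨_, gallagher_irr N (X θ.1 θ.2).2 (hXN θ.1 θ.2) (hqmem β)⟩
  have hprodN : ∀ θ β (n : N), (prod θ β : G → ℂ) n = (β : P → ℂ) 1 * (θ.1 : N → ℂ) n := by
    intro θ β n
    show (β : P → ℂ) (e ((n : G) : G ⧸ N)) * (X θ.1 θ.2 : G → ℂ) n = _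
    rw [(QuotientGroup.eq_one_iff (n : G)).2 n.2, map_one, hX]
  have hprodinj : ∀ θ θ' β β', prod θ β = prod θ' β' → θ = θ' ∧ β = β' := by
    intro θ θ' β β' h
    have h1 : θ = θ' := by
      have e1 : ((β : P → ℂ) 1 • (θ.1 : N → ℂ)) = (β' : P → ℂ) 1 • (θ'.1 : N → ℂ) := by
        funext n
        rw [Pi.smul_apply, Pi.smul_apply, smul_eq_mul, smul_eq_mul, ← hprodN θ β n, h,
          hprodN θ' β' n]
      have e2 := congrArg (fun f => classInner f (θ.1 : N → ℂ)) e1
      simp only [Chars.inner_smul_left, inner_irr_self, mul_one] at e2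
      by_contra hne
      rw [inner_irr_of_isIrr θ'.1.2 θ.1.2, if_neg fun h' => hne (Subtype.ext (Subtype.ext h'.symm)),
        mul_zero] at e2
      exact irr_degree_ne_zero β.2 e2
    subst h1
    refine ⟨rfl, ?_⟩
    have h0 := gallagher_orthonormal N (X θ.1 θ.2).2 (hXN θ.1 θ.2) (hqmem β) (hqmem β')
    by_contra hne
    rw [if_neg fun h' => hne (Subtype.ext (funext fun x => by
      have := congrFun (congrArg Subtype.val h') (x : G)
      simpa only [he] using this))] at h0
    change classInner (prod θ β : G → ℂ) (prod θ β' : G → ℂ) = 0 at h0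
    rw [← h, inner_irr_self] at h0
    exact one_ne_zero h0
  have hdeg : ∀ θ β, p ∣ charDegree (prod θ β : G → ℂ) ↔ (β : P → ℂ) 1 ≠ 1 := by
    intro θ β
    obtain ⟨d, -, hd, hdvd⟩ := irr_degree_dvd_card θ.1.2
    obtain ⟨b, -, hb, hbdvd⟩ := irr_degree_dvd_card β.2
    have e1 : charDegree (prod θ β : G → ℂ) = b * d := by
      have h1 := hprodN θ β 1
      rw [OneMemClass.coe_one, hb, hd] at h1
      simp [charDegree, h1]
      norm_cast
      exact Nat.floor_natCast _
    rw [e1, (Fact.out : p.Prime).dvd_mul, hb]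
    obtain ⟨i, -, hi⟩ := (Nat.dvd_prime_pow (Fact.out : p.Prime)).1 (ha ▸ hbdvd)
    rw [or_iff_left fun hh => hN (hh.trans hdvd), hi]
    cases i with
    | zero => simp [(Fact.out : p.Prime).not_dvd_one]
    | succ i =>
      refine iff_of_true (dvd_pow_self p (Nat.succ_ne_zero i)) ?_
      exact_mod_cast (Nat.one_lt_pow (Nat.succ_ne_zero i) (Fact.out : p.Prime).one_lt).ne'
  have hcover : ∀ χ : IrrCharacter G, ∀ θ : IrrCharacter N,
      classInner (fun n : N => (χ : G → ℂ) n) (θ : N → ℂ) ≠ 0 →
      (∃ hθ : InvBy P N (θ : N → ℂ), ∃ β, prod ⟨θ, hθ⟩ β = χ) ∨ p ∣ charDegree (χ : G → ℂ) := by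
    intro χ θ hθ
    by_cases hinv : InvBy P N (θ : N → ℂ)
    · left
      refine ⟨hinv, ?_⟩
      obtain ⟨b, hb, hbe⟩ := gallagher_exists N (X θ hinv).2 (hXN θ hinv) χ.2
        (by rw [funext (hX θ hinv)]; exact hθ)
      obtain ⟨γ, hγ, hγe⟩ := exists_deflate_irr N b.2 fun x hx =>
        CharApps.mem_charKer.1 ((mem_quotIrr N).1 hb hx)
      refine ⟨⟨fun x => γ (e.symm x),
        isIrrCharacter_comp e.symm.toMonoidHom e.symm.surjective hγ⟩, Subtype.ext ?_⟩
      rw [hbe]
      funext g
      show γ (e.symm (e (g : G ⧸ N))) * _ = _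
      rw [e.symm_apply_apply, Pi.mul_apply, hγe]
    · right
      have hlt : inertia N (θ : N → ℂ) ≠ ⊤ := fun htop => hinv fun s hs n n' h => by
        have h1 : s ∈ inertia N (θ : N → ℂ) := by rw [htop]; trivial
        rw [show n' = conjBy N s n from Subtype.ext (by rw [h]; rfl)]
        exact (mem_inertia N).1 h1 n
      have hdvd : (inertia N (θ : N → ℂ)).index ∣ N.index :=
        Subgroup.index_dvd_of_le (le_inertia N (isClassFunction_irr θ))
      rw [hidx, ha] at hdvd
      obtain ⟨i, -, hi⟩ := (Nat.dvd_prime_pow (Fact.out : p.Prime)).1 hdvd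
      have hp : p ∣ (inertia N (θ : N → ℂ)).index := by
        rw [hi]
        refine dvd_pow_self p fun h0 => hlt ?_
        rw [← Subgroup.index_eq_one, hi, h0, pow_zero]
      have h1 := clifford_degree N χ.2 θ.2 hθ
      obtain ⟨m, hm⟩ := inner_char_nat (isCharacter_restrict N (isCharacter_of_irr χ.2))
        (isCharacter_of_irr θ.2)
      obtain ⟨d, -, hd, -⟩ := irr_degree_dvd_card θ.2
      rw [hm, hd, BlockOrth.irr_apply_one] at h1
      have h2 : charDegree (χ : G → ℂ) = m * (inertia N (θ : N → ℂ)).index * d := by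
        exact_mod_cast h1
      rw [h2]
      exact (hp.mul_left m).mul_right d
  -- the centralizer in `N`
  set C : Subgroup G := N ⊓ Subgroup.centralizer (P : Set G) with hCdef
  haveI := Fintype.ofFinite C
  have hPN : P ≤ Subgroup.normalizer (N : Set G) := by
    rw [Subgroup.normalizer_eq_top]
    exact le_top
  have hcop : (Nat.card N).Coprime (Nat.card P) := by
    rw [ha]
    exact (((Fact.out : p.Prime).coprime_iff_not_dvd.2 hN).pow_left a).symm
  have hcardInv : Nat.card Inv = Nat.card (ConjClasses C) := by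
    rw [← card_irr_eq_card_classes (G := C)]
    exact card_inv_irr hPN hcop (haveI := hP.isNilpotent; inferInstance)
  have htriv : InvBy P N (principal N : N → ℂ) := fun _ _ _ _ _ => rfl
  -- `P` is abelian
  have hsub : Subsingleton {χ : IrrCharacter G // p ∣ charDegree (χ : G → ℂ)} :=
    (Nat.card_eq_one_iff_unique.1 hone).1
  have hPab : IsMulCommutative P := by
    refine isMulCommutative_of_linear fun β => ?_
    by_contra hβ
    have hθ1 : ∀ θ : Inv, θ = ⟨principal N, htriv⟩ := fun θ =>
      (hprodinj θ _ β β (congrArg Subtype.val (hsub.elim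
        (⟨prod θ β, (hdeg θ β).2 hβ⟩ : {χ : IrrCharacter G // p ∣ charDegree (χ : G → ℂ)})
        ⟨prod ⟨principal N, htriv⟩ β, (hdeg _ β).2 hβ⟩))).1
    obtain ⟨θ, hθ⟩ : ∃ θ : IrrCharacter N, θ ≠ principal N := by
      by_contra hall
      push Not at hall
      haveI : Subsingleton (IrrCharacter N) := ⟨fun x y => by rw [hall x, hall y]⟩
      have h1 : Nat.card (ConjClasses N) = 1 := by
        rw [← card_irr_eq_card_classes]
        exact Nat.card_eq_one_iff_unique.2 ⟨inferInstance, ⟨principal N⟩⟩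
      have hsubN : ∀ n : N, n = 1 := fun n => by
        haveI := (Nat.card_eq_one_iff_unique.1 h1).1
        exact isConj_one_left.1 (ConjClasses.mk_eq_mk_iff_isConj.1
          (Subsingleton.elim (ConjClasses.mk n) (ConjClasses.mk (1 : N))))
      refine hnil ?_
      have hGp : IsPGroup p G := by
        refine IsPGroup.of_card (n := a) ?_
        rw [← Subgroup.card_mul_index N, hidx, ha,
          (Subgroup.eq_bot_iff_forall N).2 fun x hx => congrArg Subtype.val (hsubN ⟨x, hx⟩),
          Subgroup.card_bot, one_mul]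
      exact hGp.isNilpotent
    obtain ⟨χ, hχ⟩ := Blocks.exists_character_over N θ
    rcases hcover χ θ hχ with ⟨hinv, -⟩ | hp
    · exact hθ (congrArg Subtype.val (hθ1 ⟨θ, hinv⟩))
    · have h2 := congrArg Subtype.val (hsub.elim ⟨χ, hp⟩
        (⟨prod ⟨principal N, htriv⟩ β, (hdeg _ β).2 hβ⟩ :
          {χ : IrrCharacter G // p ∣ charDegree (χ : G → ℂ)}))
      have h3 : χ = prod ⟨principal N, htriv⟩ β := h2
      rw [h3, show (fun n : N => (prod ⟨principal N, htriv⟩ β : G → ℂ) n) =
        (β : P → ℂ) 1 • (principal N : N → ℂ) from funext (hprodN _ β), Chars.inner_smul_left,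
        inner_irr, if_neg (Ne.symm hθ), mul_zero] at hχ
      exact hχ rfl
  -- characters of degree prime to `p`
  have hlin : ∀ β : IrrCharacter P, (β : P → ℂ) 1 = 1 := fun β => by
    obtain ⟨f, hf⟩ : ∃ χ : {χ : IrrCharacter P // (χ : P → ℂ) 1 = 1}, χ.1 = β := by
      have hcard : Nat.card {χ : IrrCharacter P // (χ : P → ℂ) 1 = 1} =
          Nat.card (IrrCharacter P) := by
        rw [card_degree_one, card_irr_eq_card_classes]
        haveI := hPab
        letI : CommGroup P := { (inferInstance : Group P) with mul_comm := hPab.is_comm.comm }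
        rw [show commutator P = ⊥ from by
          rw [commutator_def, Subgroup.commutator_eq_bot_iff_le_centralizer]
          exact fun x _ => Subgroup.mem_centralizer_iff.2 fun y _ => mul_comm y x,
          Subgroup.index_bot]
        exact (Nat.card_congr ConjClasses.mkEquiv)
      obtain ⟨c, hc⟩ := ((Nat.bijective_iff_injective_and_card _).2
        ⟨Subtype.val_injective, hcard⟩).2 β
      exact ⟨c, hc⟩
    rw [← hf]
    exact f.2
  have hchars : Nat.card {χ : IrrCharacter G // ¬ p ∣ charDegree (χ : G → ℂ)} =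
      Nat.card (ConjClasses C) * Nat.card (IrrCharacter P) := by
    rw [← hcardInv, ← Nat.card_prod]
    refine (Nat.card_congr (Equiv.ofBijective
      (fun x : Inv × IrrCharacter P =>
        (⟨prod x.1 x.2, fun h => (hdeg x.1 x.2).1 h (hlin x.2)⟩ :
          {χ : IrrCharacter G // ¬ p ∣ charDegree (χ : G → ℂ)}))
      ⟨fun x y h => ?_, fun χ => ?_⟩)).symm
    · obtain ⟨h1, h2⟩ := hprodinj _ _ _ _ (congrArg Subtype.val h)
      exact Prod.ext h1 h2
    · obtain ⟨θ, hθ⟩ := Blocks.exists_constituent_restrict N χ.1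
      rcases hcover χ.1 θ hθ with ⟨hinv, β, hβ⟩ | hp
      · exact ⟨(⟨θ, hinv⟩, β), Subtype.ext hβ⟩
      · exact absurd hp χ.2
  have hPcard : Nat.card (IrrCharacter P) = Nat.card P := by
    rw [card_irr_eq_card_classes]
    letI : CommGroup P := { (inferInstance : Group P) with mul_comm := hPab.is_comm.comm }
    exact (Nat.card_congr ConjClasses.mkEquiv).symm
  -- classes of size prime to `p`
  have hPcent : ∀ x : P, ∀ y ∈ P, y * (x : G) = x * y := fun x y hy =>
    congrArg Subtype.val (hPab.is_comm.comm ⟨y, hy⟩ x)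
  have hNfus : ∀ c d : C, ∀ n ∈ N, n * (c : G) * n⁻¹ = d → IsConj c d := by
    intro c d n hn h
    have hfix := pfix (p := p) hPN hP hN (inf_le_left : C ≤ N)
      (fun g hg => ⟨fun h => h.2, fun h => ⟨hg, h⟩⟩)
    exact hfix.fusion c d (isConj_iff.2 ⟨⟨n, hn⟩, Subtype.ext h⟩)
  let F : C × P → G := fun y => (y.1 : G) * (y.2 : G)
  have hFcomm : ∀ y : C × P, ∀ z ∈ P, z * F y = F y * z := fun y z hz => by
    show z * ((y.1 : G) * (y.2 : G)) = (y.1 : G) * (y.2 : G) * z
    rw [← mul_assoc, Subgroup.mem_centralizer_iff.1 y.1.2.2 z hz, mul_assoc, hPcent y.2 z hz,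
      ← mul_assoc]
  have hclasses : Nat.card {D : ConjClasses G // ¬ p ∣ Nat.card D.carrier} =
      Nat.card (ConjClasses C) * Nat.card P := by
    rw [← Nat.card_prod]
    refine (Nat.card_congr (Equiv.ofBijective
      (fun y : ConjClasses C × P =>
        (⟨ConjClasses.mk (F (Blocks.classRep y.1, y.2)), ?_⟩ :
          {D : ConjClasses G // ¬ p ∣ Nat.card D.carrier}))
      ⟨?_, ?_⟩)).symm
    · rw [FgsB.card_carrier_eq_index]
      intro hd
      have hPle : P ≤ Subgroup.centralizer {F (Blocks.classRep y.1, y.2)} := fun z hz =>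
        Subgroup.mem_centralizer_singleton_iff.2 (hFcomm _ z hz)
      have h1 : p * Nat.card P ∣ Nat.card G := by
        rw [← Subgroup.card_mul_index (Subgroup.centralizer {F (Blocks.classRep y.1, y.2)}), mul_comm]
        exact mul_dvd_mul (Subgroup.card_dvd_of_le hPle) hd
      rw [← Subgroup.card_mul_index N, hidx] at h1
      exact hN ((Nat.mul_dvd_mul_iff_right Nat.card_pos).1 h1)
    · rintro ⟨c, x⟩ ⟨c', x'⟩ h
      obtain ⟨g, hg⟩ := isConj_iff.1 (ConjClasses.mk_eq_mk_iff_isConj.1 (congrArg Subtype.val h))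
      have hNk : ∀ k : C, ((k : G) : G ⧸ N) = 1 := fun k => (QuotientGroup.eq_one_iff _).2 k.2.1
      have hx : x = x' := by
        have h1 := congrArg (fun z : G => e (z : G ⧸ N)) hg
        simp only [F, QuotientGroup.mk_mul, QuotientGroup.mk_inv, hNk, one_mul, map_mul, map_inv,
          he] at h1
        rw [← h1]
        rw [hPab.is_comm.comm (e _) x, mul_inv_cancel_right]
      subst hx
      have hgmem : g ∈ ((N : Set G) * (P : Set G)) := by
        rw [← Subgroup.normal_mul, hsup]
        trivial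
      obtain ⟨n, hn, z, hz, rfl⟩ := Set.mem_mul.1 hgmem
      have h2 : n * F (Blocks.classRep c, x) * n⁻¹ = F (Blocks.classRep c', x) := by
        rw [← hg]
        show _ = n * z * F (Blocks.classRep c, x) * (n * z)⁻¹
        rw [mul_assoc n z, hFcomm _ z hz]
        group
      have hxn : (x : G) * n⁻¹ * (x : G)⁻¹ * n ∈ N := by
        refine mul_mem ?_ hn
        exact (inferInstance : N.Normal).conj_mem _ (inv_mem hn) _
      -- powers separate the two parts
      have hpow : ∀ k : C, ∀ m : ℕ, F (k, x) ^ m = (k : G) ^ m * (x : G) ^ m := fun k m =>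
        Commute.mul_pow (Subgroup.mem_centralizer_iff.1 k.2.2 x x.2).symm m
      obtain ⟨m, hm1, hm2⟩ := Nat.chineseRemainder hcop 1 0
      have hk : ∀ k : C, F (k, x) ^ m = (k : G) := fun k => by
        rw [hpow]
        have e1 : (k : G) ^ m = k := by
          have h3 : (k : G) ^ Nat.card N = 1 :=
            congrArg Subtype.val (pow_card_eq_one' (x := (⟨k, k.2.1⟩ : N)))
          rw [← Nat.mod_add_div m (Nat.card N), pow_add, pow_mul, h3, one_pow, mul_one]
          rcases Nat.eq_zero_or_pos (Nat.card N - 1) with h4 | h4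
          · have h5 : (k : G) = 1 := by
              rwa [show Nat.card N = 1 by have := Nat.card_pos (α := N); omega, pow_one] at h3
            rw [h5, one_pow]
          · rw [show m % Nat.card N = 1 % Nat.card N from hm1, Nat.one_mod_eq_one.2 (by omega),
              pow_one]
        have e2 : (x : G) ^ m = 1 := by
          obtain ⟨r, hr⟩ := Nat.modEq_zero_iff_dvd.1 hm2
          rw [hr, pow_mul, show (x : G) ^ Nat.card P = 1 from
            congrArg Subtype.val (pow_card_eq_one' (x := x)), one_pow]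
        rw [e1, e2, mul_one]
      have h6 : n * ((Blocks.classRep c : C) : G) * n⁻¹ = (Blocks.classRep c' : C) := by
        rw [← hk (Blocks.classRep c), ← hk (Blocks.classRep c'), ← h2, conj_pow]
      refine Prod.ext ?_ rfl
      show c = c'
      rw [← Blocks.mk_classRep c, ← Blocks.mk_classRep c']
      exact ConjClasses.mk_eq_mk_iff_isConj.2 (hNfus _ _ n hn h6)
    · rintro ⟨D, hD⟩
      obtain ⟨g, rfl⟩ := ConjClasses.mk_surjective D
      rw [FgsB.card_carrier_eq_index] at hD
      obtain ⟨S⟩ := (inferInstance : Nonempty (Sylow p (Subgroup.centralizer ({g} : Set G))))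
      have hScard : Nat.card S = Nat.card P := by
        rw [S.card_eq_multiplicity, ha]
        congr 1
        have h1 : (Nat.card G).factorization p = a := by
          rw [← Subgroup.card_mul_index N, hidx, ha,
            Nat.factorization_mul Nat.card_pos.ne' (pow_ne_zero _ (Fact.out : p.Prime).ne_zero),
            Finsupp.add_apply, Nat.factorization_eq_zero_of_not_dvd hN,
            Nat.Prime.factorization_pow (Fact.out : p.Prime)]
          simp
        rw [← h1, ← Subgroup.card_mul_index (Subgroup.centralizer ({g} : Set G)),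
          Nat.factorization_mul Nat.card_pos.ne' Subgroup.index_ne_zero_of_finite,
          Finsupp.add_apply, Nat.factorization_eq_zero_of_not_dvd hD, add_zero]
      let S' : Subgroup G := (S : Subgroup _).map (Subgroup.centralizer ({g} : Set G)).subtype
      have hS' : IsPGroup p S' := S.2.map _
      obtain ⟨Q, hQ⟩ := hS'.exists_le_sylow
      have hPsyl : ∃ P₀ : Sylow p G, P ≤ P₀ := hP.exists_le_sylow
      obtain ⟨P₀, hP₀⟩ := hPsyl
      have hcG : ∀ R : Sylow p G, Nat.card R = Nat.card P := fun R => by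
        rw [R.card_eq_multiplicity, ha, ← Subgroup.card_mul_index N, hidx, ha,
          Nat.factorization_mul Nat.card_pos.ne' (pow_ne_zero _ (Fact.out : p.Prime).ne_zero),
          Finsupp.add_apply, Nat.factorization_eq_zero_of_not_dvd hN,
          Nat.Prime.factorization_pow (Fact.out : p.Prime)]
        simp
      have hPeq : P = (P₀ : Subgroup G) := Subgroup.eq_of_le_of_card_ge hP₀ (hcG P₀).le
      have hSQ : S' = (Q : Subgroup G) := Subgroup.eq_of_le_of_card_ge hQ (by
        rw [Subgroup.card_map_of_injective Subtype.val_injective, hScard]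
        exact (hcG Q).le)
      obtain ⟨y, hy⟩ := MulAction.exists_smul_eq G Q P₀
      have hcent : ∀ z ∈ P, z * (y * g * y⁻¹) = y * g * y⁻¹ * z := by
        intro z hz
        rw [hPeq, ← hy, Sylow.coe_subgroup_smul, ← hSQ] at hz
        obtain ⟨w, ⟨s, hs, rfl⟩, rfl⟩ := hz
        have h1 : (s : G) * g = g * (s : G) := Subgroup.mem_centralizer_singleton_iff.1 s.2
        simp only [MulDistribMulAction.toMonoidEnd_apply, MulDistribMulAction.toMonoidHom_apply,
          MulAut.smul_def, MulAut.conj_apply, Subgroup.coe_subtype]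
        calc y * (s : G) * y⁻¹ * (y * g * y⁻¹) = y * ((s : G) * g) * y⁻¹ := by group
          _ = y * (g * (s : G)) * y⁻¹ := by rw [h1]
          _ = _ := by group
      have hg' : y * g * y⁻¹ ∈ ((N : Set G) * (P : Set G)) := by
        rw [← Subgroup.normal_mul, hsup]
        trivial
      obtain ⟨n, hn, x, hx, hnx⟩ := Set.mem_mul.1 hg'
      have hnC : n ∈ C := ⟨hn, Subgroup.mem_centralizer_iff.2 fun z hz => by
        have h1 := hcent z hz
        rw [← hnx, ← mul_assoc, mul_assoc n x z, ← hPcent ⟨x, hx⟩ z hz, ← mul_assoc] at h1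
        exact mul_right_cancel h1⟩
      refine ⟨(ConjClasses.mk ⟨n, hnC⟩, ⟨x, hx⟩), Subtype.ext ?_⟩
      show ConjClasses.mk (F (Blocks.classRep (ConjClasses.mk (⟨n, hnC⟩ : C)), ⟨x, hx⟩)) =
        ConjClasses.mk g
      obtain ⟨k, hk⟩ := isConj_iff.1 (ConjClasses.mk_eq_mk_iff_isConj.1 (Blocks.mk_classRep
        (ConjClasses.mk (⟨n, hnC⟩ : C))))
      refine ConjClasses.mk_eq_mk_iff_isConj.2 (isConj_iff.2 ⟨y⁻¹ * (k : G), ?_⟩)
      have hk' : (k : G) * (Blocks.classRep (ConjClasses.mk (⟨n, hnC⟩ : C)) : C) * (k : G)⁻¹ = n :=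
        congrArg Subtype.val hk
      show y⁻¹ * (k : G) * (_ * x) * (y⁻¹ * (k : G))⁻¹ = g
      have hkx : x * (k : G)⁻¹ = (k : G)⁻¹ * x :=
        Subgroup.mem_centralizer_iff.1 (Subgroup.inv_mem _ k.2.2) x hx
      calc _ = y⁻¹ * ((k : G) * (Blocks.classRep (ConjClasses.mk (⟨n, hnC⟩ : C)) : C) *
            (x * (k : G)⁻¹)) * y := by group
        _ = y⁻¹ * ((k : G) * (Blocks.classRep (ConjClasses.mk (⟨n, hnC⟩ : C)) : C) * (k : G)⁻¹ * x) *
            y := by rw [hkx]; group
        _ = y⁻¹ * (n * x) * y := by rw [hk']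
        _ = g := by rw [hnx]; group
  -- the count
  have hsplit1 := Nat.card_congr (Equiv.sumCompl
    (fun χ : IrrCharacter G => p ∣ charDegree (χ : G → ℂ))).symm
  have hsplit2 := Nat.card_congr (Equiv.sumCompl
    (fun D : ConjClasses G => p ∣ Nat.card D.carrier)).symm
  rw [Nat.card_sum, hone, hchars, hPcard, card_irr_eq_card_classes] at hsplit1
  rw [Nat.card_sum, hclasses] at hsplit2
  omega

end CfsgLib.CharApps.OnePDegree
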