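import Cfsg.Agent.Lib.CharApps.Galois
import Cfsg.Agent.Lib.Chars.Monomial
import Cfsg.Agent.Lib.Chars.Quotient
import Cfsg.Agent.Lib.CharsMore.Clifford
import Cfsg.Agent.Lib.CharsMore.Extend

/-!
# The order of a `p`-group with a faithful irreducible character and given field of values
-/

set_option autoImplicit false
set_option linter.unusedSectionVars false
set_option linter.style.haveILetI false

namespace CfsgLib.CharApps.FieldBound

open Cfsg CfsgLib.CharsMore
open scoped ComplexConjugate

universe u

/-- The algebraic conjugates of a function on a `p`-group. -/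
def galConj (p : ℕ) {G : Type u} [Group G] (φ : G → ℂ) : Set (G → ℂ) :=
  {ψ | ∃ k : ℕ, ¬ p ∣ k ∧ ψ = fun g => φ (g ^ k)}

theorem galConj_finite (p : ℕ) {G : Type u} [Group G] [Finite G] (φ : G → ℂ) :
    (galConj p φ).Finite := by
  refine (Set.finite_range (fun i : Fin (Nat.card G) => fun g : G => φ (g ^ (i : ℕ)))).subset ?_
  rintro _ ⟨k, -, rfl⟩
  exact ⟨⟨k % Nat.card G, Nat.mod_lt _ Nat.card_pos⟩, funext fun g => by simp only [pow_mod_natCard]⟩

variable {p : ℕ} [hp : Fact p.Prime]

theorem coprime_card {G : Type u} [Group G] [Finite G] (hG : IsPGroup p G) {k : ℕ} (hk : ¬ p ∣ k) :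
    k.Coprime (Nat.card G) := by
  obtain ⟨a, ha⟩ := IsPGroup.iff_card.1 hG
  rw [ha]
  exact Nat.Coprime.pow_right _ (hp.out.coprime_iff_not_dvd.2 hk).symm

theorem isIrr_pow {G : Type u} [Group G] [Finite G] (hG : IsPGroup p G) {k : ℕ} (hk : ¬ p ∣ k)
    {φ : G → ℂ} (hφ : IsIrrCharacter G φ) : IsIrrCharacter G (fun g => φ (g ^ k)) := by
  obtain ⟨σ, hσ⟩ := CharApps.exists_galois_pow (Nat.card G) (coprime_card hG hk)
  have h := CharApps.isIrr_galois ⟨φ, hφ⟩ σ
  rwa [show (fun g => σ (φ g)) = fun g => φ (g ^ k) from funext fun g =>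
    CharApps.galois_apply σ hσ (Chars.isCharacter_of_irr hφ) g pow_card_eq_one'] at h

/-- A nonlinear irreducible character of a `p`-group is induced from a subgroup of index `p`. -/
theorem exists_index_p {G : Type u} [Group G] [Fintype G] (hG : IsPGroup p G) {χ : G → ℂ}
    (hχ : IsIrrCharacter G χ) (h1 : χ 1 ≠ 1) :
    ∃ (N : Subgroup G) (_ : N.Normal), N.index = p ∧ ∀ g, g ∉ N → χ g = 0 := by
  classical
  haveI := hG.isNilpotent
  obtain ⟨H, lam, hχH⟩ := Chars.isMonomial_of_nilpotent hχ
  obtain ⟨a, ha⟩ := IsPGroup.iff_card.1 hG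
  obtain ⟨h, hh⟩ := IsPGroup.iff_card.1 (hG.to_subgroup H)
  have hHt : H ≠ ⊤ := by
    intro he
    apply h1
    haveI := Fintype.ofFinite H
    have hi : H.index = 1 := Subgroup.index_eq_one.2 he
    rw [hχH, Chars.indFun_one_apply, hi, Nat.cast_one, one_mul]
    simp
  have hlt : h < a := by
    have := H.card_mul_index
    rcases Nat.lt_or_ge h a with h0 | h0
    · exact h0
    · exfalso
      apply hHt
      refine Subgroup.eq_top_of_le_card _ ?_
      rw [ha, hh]
      exact Nat.pow_le_pow_right hp.out.pos h0
  obtain ⟨N, hN, hHN⟩ := Sylow.exists_subgroup_card_pow_prime_le p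
    (show p ^ (a - 1) ∣ Nat.card G from ha ▸ Nat.pow_dvd_pow p (Nat.sub_le a 1)) H hh (by omega)
  have hidx : N.index = p := by
    have := N.card_mul_index
    rw [hN, ha, show a = a - 1 + 1 by omega, Nat.add_sub_cancel, pow_succ] at this
    exact Nat.eq_of_mul_eq_mul_left (pow_pos hp.out.pos _) this
  haveI : N.Normal := by
    refine Subgroup.normal_of_index_eq_minFac_card ?_
    rw [hidx, ha, hp.out.pow_minFac (by omega)]
  refine ⟨N, inferInstance, hidx, fun g hg => ?_⟩
  rw [hχH]
  refine mul_eq_zero_of_right _ (Finset.sum_eq_zero fun x _ => Chars.extendByZero_of_not_mem H _ ?_)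
  intro hm
  apply hg
  have := ‹N.Normal›.conj_mem _ (hHN hm) x
  simpa [mul_assoc] using this

theorem bound_aux (k : ℕ) : ∀ {G : Type u} [Group G] [Fintype G], Nat.card G ≤ k → IsPGroup p G →
    ∀ χ : G → ℂ, IsIrrCharacter G χ → (∀ g : G, χ g = χ 1 → g = 1) → ∀ f t : ℕ, χ 1 = f →
    Nat.card (galConj p χ) ≤ (p - 1) * p ^ t →
    (p - 1) * (Nat.card G).factorization p ≤ (f - 1) + (p - 1) * (t + 1) * f := by
  induction k with
  | zero =>
    intro G _ _ hk
    exact absurd hk (by have := Nat.card_pos (α := G); omega)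
  | succ k IH =>
    intro G _ _ hk hG χ hχ hfaith f t hf hD
    classical
    obtain ⟨a, ha⟩ := IsPGroup.iff_card.1 hG
    rw [ha, hp.out.factorization_pow, Finsupp.single_eq_same]
    have hχc := Chars.isCharacter_of_irr hχ
    have hp2 := hp.out.two_le
    by_cases hf1 : f = 1
    · subst hf1
      rw [Nat.sub_self, zero_add, mul_one]
      refine Nat.mul_le_mul_left _ ?_
      rcases Nat.eq_zero_or_pos a with h0 | h0
      · omega
      obtain ⟨μ, hμ⟩ := exists_hom_of_linear ⟨hχc, by rw [hf, Nat.cast_one]⟩
      have hinj : Function.Injective μ := by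
        rw [injective_iff_map_eq_one]
        intro g hg
        exact hfaith g (by rw [← hμ]; simp [linFun, hg])
      haveI : IsCyclic G := isCyclic_of_subgroup_isDomain ((Units.coeHom ℂ).comp μ)
        (Units.val_injective.comp hinj)
      obtain ⟨g, hg⟩ := IsCyclic.exists_ofOrder_eq_natCard (α := G)
      rw [ha] at hg
      -- distinct exponents give distinct conjugates
      have hle : Nat.totient (p ^ a) ≤ Nat.card (galConj p χ) := by
        haveI := (galConj_finite p χ).to_subtype
        have hcop : ∀ i : ℕ, (p ^ a).Coprime i → ¬ p ∣ i := fun i hi hd =>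
          hp.out.ne_one (Nat.eq_one_of_dvd_coprimes hi (dvd_pow_self p h0.ne') hd)
        rw [Nat.totient_eq_card_coprime, ← Nat.card_eq_finsetCard]
        refine Nat.card_le_card_of_injective
          (fun i => (⟨fun y => χ (y ^ (i : ℕ)), (i : ℕ),
            hcop _ (Finset.mem_filter.1 i.2).2, rfl⟩ : galConj p χ)) ?_
        intro i j hij
        have h := congrFun (congrArg Subtype.val hij) g
        simp only [← hμ, linFun] at h
        have h' : g ^ (i : ℕ) = g ^ (j : ℕ) := hinj (Units.ext h)
        rw [pow_eq_pow_iff_modEq, hg] at h'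
        exact Subtype.ext (Nat.ModEq.eq_of_lt_of_lt h'
          (Finset.mem_range.1 (Finset.mem_filter.1 i.2).1)
          (Finset.mem_range.1 (Finset.mem_filter.1 j.2).1))
      rw [Nat.totient_prime_pow hp.out h0] at hle
      have h1 := hle.trans hD
      rw [mul_comm (p - 1)] at h1
      have h2 : p ^ (a - 1) ≤ p ^ t := Nat.le_of_mul_le_mul_right h1 (by omega)
      have := (Nat.pow_le_pow_iff_right hp2).1 h2
      omega
    obtain ⟨N, hN, hidx, hvan⟩ := exists_index_p hG hχ (by rw [hf]; exact_mod_cast hf1)
    haveI := hN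
    haveI := Fintype.ofFinite N
    have hNp : IsPGroup p N := hG.to_subgroup N
    set χN : N → ℂ := fun n => χ n with hχN
    obtain ⟨θI, hθI⟩ := Chars.exists_constituent (Chars.isCharacter_restrict N hχc) fun h0 =>
      Chars.irr_degree_ne_zero hχ (congrFun h0 1)
    set θ : N → ℂ := (θI : N → ℂ) with hθd
    have hθ : IsIrrCharacter N θ := θI.2
    obtain ⟨c, hc⟩ := Chars.inner_char_nat (Chars.isCharacter_restrict N hχc)
      (Chars.isCharacter_of_irr hθ)
    have hnorm : classInner χN χN = (p : ℂ) := by
      have h : classInner χ χ = 1 := Chars.inner_irr_self ⟨χ, hχ⟩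
      rw [Chars.inner_def] at h ⊢
      rw [inv_mul_eq_iff_eq_mul₀ (Nat.cast_ne_zero.2 Nat.card_pos.ne'), mul_one] at h
      rw [inv_mul_eq_iff_eq_mul₀ (Nat.cast_ne_zero.2 Nat.card_pos.ne'), ← Nat.cast_mul,
        ← hidx, N.card_mul_index, ← h]
      refine (Finset.sum_subtype _ (fun x => ?_) (fun x : G => χ x * conj (χ x))).symm.trans
        (Finset.sum_subset (s₁ := Finset.univ.filter (· ∈ N)) (Finset.subset_univ _) fun x _ hx => ?_)
      · simp
      · rw [hvan x (by simpa using hx), zero_mul]
    have hcl := clifford N hχ hθ hθI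
    rw [show classInner (fun n : N => χ n) θ = (c : ℂ) from hc] at hcl
    have hnorm2 : (p : ℂ) = (c : ℂ) * c * (orbitFn N θ).card := by
      rw [← hnorm, show χN = (fun n : N => χ n) from rfl, hcl, Chars.inner_smul_left,
        Chars.inner_smul_right, Chars.inner_sum_left]
      rw [Finset.sum_congr rfl fun ψ hψ => (Chars.inner_sum_right (φ := ψ) (orbitFn N θ) (fun x => x))]
      rw [Finset.sum_congr rfl fun ψ hψ => (Finset.sum_eq_single (f := fun x => classInner ψ x) ψ
        (fun x hx hne => by
          rw [Chars.inner_irr_of_isIrr (orbitFn_irr N hθ hψ) (orbitFn_irr N hθ hx),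
            if_neg (Ne.symm hne)])
        (fun h => absurd hψ h)).trans
          (by rw [Chars.inner_irr_of_isIrr (orbitFn_irr N hθ hψ) (orbitFn_irr N hθ hψ), if_pos rfl])]
      rw [Finset.sum_const, nsmul_eq_mul, mul_one, map_natCast, mul_assoc]
    rw [← Nat.cast_mul, ← Nat.cast_mul, Nat.cast_inj, card_orbitFn] at hnorm2
    have hc1 : c = 1 := by
      have hd : c ∣ p := ⟨c * (inertia N θ).index, by rw [hnorm2]; ring⟩
      rcases (Nat.dvd_prime hp.out).1 hd with h | h
      · exact h
      · exfalso
        have h1 : (inertia N θ).index ≠ 0 := Subgroup.index_ne_zero_of_finite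
        have : p * p ≤ p := by
          calc p * p ≤ c * c * (inertia N θ).index := by
                rw [h]; exact Nat.le_mul_of_pos_right _ (Nat.pos_of_ne_zero h1)
            _ = p := hnorm2.symm
        nlinarith
    rw [hc1, one_mul, one_mul] at hnorm2
    have hsum : ∀ n : N, χ n = ∑ ψ ∈ orbitFn N θ, ψ n := fun n => by
      have := congrFun hcl n
      rwa [hc1, Nat.cast_one, one_smul, Finset.sum_apply] at this
    have horb : (orbitFn N θ).card = p := by rw [card_orbitFn, ← hnorm2]
    obtain ⟨f', hf'⟩ := Chars.character_degree_nat (Chars.isCharacter_of_irr hθ)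
    have hff : f = p * f' := by
      have h := hsum 1
      rw [OneMemClass.coe_one, hf, Finset.sum_congr rfl fun ψ hψ => (show ψ 1 = (f' : ℂ) by
        obtain ⟨g, rfl⟩ := (mem_orbitFn N).1 hψ
        exact (congrArg θ (map_one _)).trans hf'), Finset.sum_const, horb, nsmul_eq_mul,
        ← Nat.cast_mul, Nat.cast_inj] at h
      exact h
    have hf'0 : f' ≠ 0 := fun h => Chars.irr_degree_ne_zero hθ (by rw [hf', h, Nat.cast_zero])
    have hcardN : Nat.card N * p = p ^ a := by rw [← ha, ← N.card_mul_index, hidx]
    -- the kernel and the quotient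
    obtain ⟨d, ρ, hρi, hρ⟩ := hθ
    have hθ : IsIrrCharacter N θ := ⟨d, ρ, hρi, hρ⟩
    set K : Subgroup N := MonoidHom.ker ρ with hK
    have hKmem : ∀ n : N, n ∈ K ↔ θ n = θ 1 := fun n =>
      MonoidHom.mem_ker.trans (Chars.ker_iff ρ hρ n).symm
    obtain ⟨ψ, hψ, hθψ⟩ := Chars.exists_deflate_irr K hθ fun x hx => (hKmem x).1 hx
    have hψf : ∀ g : N ⧸ K, ψ g = ψ 1 → g = 1 := by
      intro g
      induction g using QuotientGroup.induction_on with
      | H g =>
        intro hg
        refine (QuotientGroup.eq_one_iff g).2 ((hKmem g).2 ?_)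
        rw [hθψ]
        exact hg
    haveI := Fintype.ofFinite (N ⧸ K)
    have hQp : IsPGroup p (N ⧸ K) := hNp.to_quotient K
    obtain ⟨a', ha'⟩ := IsPGroup.iff_card.1 hQp
    have hlt : Nat.card (N ⧸ K) ≤ k := by
      have h1 : Nat.card (N ⧸ K) ≤ Nat.card N :=
        Nat.card_le_card_of_surjective _ (QuotientGroup.mk'_surjective K)
      have h2 : Nat.card N * 2 ≤ Nat.card N * p := Nat.mul_le_mul_left _ hp2
      have h3 := Nat.card_pos (α := N)
      rw [hcardN, ← ha] at h2
      omega
    have hψD : Nat.card (galConj p ψ) ≤ Nat.card (galConj p θ) := by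
      haveI := (galConj_finite p θ).to_subtype
      refine Nat.card_le_card_of_injective (fun φ => (⟨fun n : N => φ.1 n, by
        obtain ⟨j, hj, e⟩ := φ.2
        exact ⟨j, hj, funext fun n => by rw [e, hθψ]; rfl⟩⟩ : galConj p θ)) ?_
      intro φ φ' h
      refine Subtype.ext (funext fun q => ?_)
      induction q using QuotientGroup.induction_on with
      | H n => exact congrFun (congrArg Subtype.val h) n
    have hIH : ∀ t', Nat.card (galConj p θ) ≤ (p - 1) * p ^ t' →
        (p - 1) * a' ≤ (f' - 1) + (p - 1) * (t' + 1) * f' := by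
      intro t' ht'
      have := IH hlt hQp ψ hψ hψf f' t' (by rw [← hf', hθψ]; rfl) (hψD.trans ht')
      rwa [ha', hp.out.factorization_pow, Finsupp.single_eq_same] at this
    -- conjugates of χ and θ
    have hcov : ∀ i j : ℕ, ¬ p ∣ i → ¬ p ∣ j → (∀ g : G, χ (g ^ i) = χ (g ^ j)) →
        ∃ x : G, (fun n : N => θ (n ^ j)) = fun n : N => conjFn N x θ (n ^ i) := by
      intro i j hi hj hij
      have hθj := isIrr_pow hNp hj hθ
      by_contra hcon
      push Not at hcon
      have h0 : ∀ m : ℕ, ¬ p ∣ m → classInner (fun n : N => χ ((n : G) ^ m)) (fun n => θ (n ^ j)) =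
          ∑ φ ∈ orbitFn N θ, classInner (fun n : N => φ (n ^ m)) (fun n => θ (n ^ j)) := by
        intro m _
        rw [← Chars.inner_sum_left]
        congr 1
        funext n
        rw [Finset.sum_apply, ← hsum, SubgroupClass.coe_pow]
      have hj1 : classInner (fun n : N => χ ((n : G) ^ j)) (fun n => θ (n ^ j)) = 1 := by
        rw [h0 j hj, Finset.sum_eq_single θ]
        · rw [Chars.inner_irr_of_isIrr hθj hθj, if_pos rfl]
        · intro φ hφ hne
          rw [Chars.inner_irr_of_isIrr (isIrr_pow hNp hj (orbitFn_irr N hθ hφ)) hθj, if_neg]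
          intro he
          apply hne
          funext n
          have hb := (powCoprime (coprime_card hNp hj).symm).surjective n
          obtain ⟨m, rfl⟩ := hb
          exact congrFun he m
        · exact fun h => absurd ((mem_orbitFn N).2 ⟨1, conjFn_one N θ⟩) h
      have hi1 : classInner (fun n : N => χ ((n : G) ^ i)) (fun n => θ (n ^ j)) = 0 := by
        rw [h0 i hi]
        refine Finset.sum_eq_zero fun φ hφ => ?_
        obtain ⟨x, rfl⟩ := (mem_orbitFn N).1 hφ
        rw [Chars.inner_irr_of_isIrr (isIrr_pow hNp hi (orbitFn_irr N hθ hφ)) hθj, if_neg]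
        exact fun he => hcon x he.symm
      have he : (fun n : N => χ ((n : G) ^ i)) = fun n : N => χ ((n : G) ^ j) :=
        funext fun n => hij n
      rw [he, hj1] at hi1
      exact one_ne_zero hi1
    rw [hff]
    by_cases hA : ∀ i j : ℕ, ¬ p ∣ i → ¬ p ∣ j → (∀ g : G, χ (g ^ i) = χ (g ^ j)) →
        ∀ n : N, θ (n ^ i) = θ (n ^ j)
    · -- no growth of the field
      have hDθ : Nat.card (galConj p θ) ≤ Nat.card (galConj p χ) := by
        haveI := (galConj_finite p θ).to_subtype
        haveI := (galConj_finite p χ).to_subtype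
        choose kθ hkθ ekθ using fun φ : galConj p θ => φ.2
        refine Nat.card_le_card_of_injective
          (fun φ => (⟨fun g => χ (g ^ kθ φ), kθ φ, hkθ φ, rfl⟩ : galConj p χ)) ?_
        intro φ φ' h
        refine Subtype.ext ?_
        rw [ekθ φ, ekθ φ']
        exact funext (hA _ _ (hkθ φ) (hkθ φ') (congrFun (congrArg Subtype.val h)))
      have h1 := hIH t (hDθ.trans hD)
      have hcard : Nat.card N ≤ (p ^ a') ^ p := by
        have hinj : Function.Injective (fun (n : N) (q : G ⧸ N) =>
            ((conjBy N q.out n : N) : N ⧸ K)) := by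
          intro n m h
          have hnm : n⁻¹ * m = 1 := by
            refine Subtype.ext (hfaith _ ?_)
            show χ ((n⁻¹ * m : N) : G) = χ ((1 : N) : G)
            rw [hsum, hsum]
            refine Finset.sum_congr rfl fun φ hφ => ?_
            obtain ⟨x, rfl⟩ := (mem_orbitFn N).1 hφ
            -- only the coset of `x` matters
            obtain ⟨y, hy⟩ := QuotientGroup.mk_out_eq_mul N x
            have hq := congrFun h (x : G ⧸ N)
            dsimp only at hq
            rw [QuotientGroup.eq, ← map_inv, ← map_mul, hKmem] at hq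
            have hy' : ((x : G ⧸ N).out) = (x * y * x⁻¹) * x := by rw [hy]; group
            have hyN : x * (y : G) * x⁻¹ ∈ N := hN.conj_mem _ y.2 x
            have hTθ : conjFn N ((x : G ⧸ N).out) θ = conjFn N x θ := by
              rw [hy', conjFn_mul, show conjFn N (x * (y : G) * x⁻¹) θ = θ from
                le_inertia N (Chars.isClassFunction_of_isCharacter (Chars.isCharacter_of_irr hθ))
                  hyN]
            rw [← hTθ]
            show θ (conjBy N _ _) = θ (conjBy N _ 1)
            rw [map_one]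
            exact hq
          exact inv_mul_eq_one.1 hnm
        have h2 := Nat.card_le_card_of_injective _ hinj
        rw [Nat.card_fun, ha', show Nat.card (G ⧸ N) = p from
          (Subgroup.index_eq_card N).symm.trans hidx] at h2
        exact h2
      have h3 : p ^ a ≤ p ^ (a' * p + 1) := by
        rw [← hcardN, pow_succ, pow_mul]
        exact Nat.mul_le_mul_right _ hcard
      have h4 := (Nat.pow_le_pow_iff_right hp2).1 h3
      have h5 : (p - 1) * a ≤ (p - 1) * (a' * p + 1) := Nat.mul_le_mul_left _ h4
      have h6 : (p - 1) * a' * p ≤ ((f' - 1) + (p - 1) * (t + 1) * f') * p :=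
        Nat.mul_le_mul_right _ h1
      obtain ⟨g, rfl⟩ : ∃ g, f' = g + 1 := ⟨f' - 1, by omega⟩
      obtain ⟨P', hP'⟩ : ∃ P', p = P' + 1 := ⟨p - 1, by omega⟩
      subst hP'
      simp only [Nat.add_sub_cancel] at *
      have h7 : (P' + 1) * (g + 1) - 1 = P' * g + P' + g := by
        rw [show (P' + 1) * (g + 1) = P' * g + P' + g + 1 by ring, Nat.add_sub_cancel]
      rw [h7]
      nlinarith
    · -- the field grows: θ is faithful
      push Not at hA
      obtain ⟨i, j, hi, hj, hij, n0, hn0⟩ := hA
      obtain ⟨x, hx⟩ := hcov i j hi hj hij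
      have hxN : x ∉ N := by
        intro hxm
        apply hn0
        have hT := le_inertia N
          (Chars.isClassFunction_of_isCharacter (Chars.isCharacter_of_irr hθ)) hxm
        have h := congrFun hx n0
        simp only [show conjFn N x θ = θ from hT] at h
        exact h.symm
      have hpow : ∀ (m : ℕ), ¬ p ∣ m → ∀ n : N, n ^ m ∈ K ↔ n ∈ K := by
        intro m hm n
        refine ⟨fun h => ?_, fun h => pow_mem h m⟩
        obtain ⟨l, hl⟩ := exists_pow_eq_self_of_coprime
          ((coprime_card hNp hm).coprime_dvd_right (orderOf_dvd_natCard n))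
        exact hl ▸ pow_mem h l
      have hKx : ∀ n : N, conjBy N x n ∈ K ↔ n ∈ K := by
        intro n
        have h := congrFun hx n
        have h1 := congrFun hx 1
        simp only [one_pow] at h1
        have hx1 : conjFn N x θ 1 = θ 1 := congrArg θ (map_one _)
        rw [← hpow j hj n, ← hpow i hi (conjBy N x n), hKmem, hKmem, ← map_pow]
        show conjFn N x θ (n ^ i) = θ 1 ↔ _
        rw [← hx1]
        rw [h, hx1]
      have hKG : K.map N.subtype = ⊥ := by
        have hnorm : (K.map N.subtype).Normal := by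
          rw [← Subgroup.normalizer_eq_top_iff]
          have hle : N ≤ Subgroup.normalizer ((K.map N.subtype : Subgroup G) : Set G) := by
            have h := Subgroup.le_normalizer_map (H := K) N.subtype
            rwa [Subgroup.normalizer_eq_top_iff.2 inferInstance, ← MonoidHom.range_eq_map,
              Subgroup.range_subtype] at h
          have hxn : x ∈ Subgroup.normalizer ((K.map N.subtype : Subgroup G) : Set G) := by
            rw [Subgroup.mem_normalizer_iff]
            intro z
            constructor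
            · rintro ⟨n, hn, rfl⟩
              exact ⟨conjBy N x n, (hKx n).2 hn, by simp [conjBy]⟩
            · rintro ⟨n, hn, hn'⟩
              have hz : z ∈ N := by
                have h1 : x * z * x⁻¹ ∈ N := hn' ▸ n.2
                have := hN.conj_mem _ h1 x⁻¹
                simpa [mul_assoc] using this
              have hzn : conjBy N x ⟨z, hz⟩ = n := Subtype.ext (by simpa [conjBy] using hn'.symm)
              exact ⟨⟨z, hz⟩, (hKx _).1 (hzn ▸ hn), rfl⟩
          by_contra hne
          have hd : (Subgroup.normalizer ((K.map N.subtype : Subgroup G) : Set G)).index ∣ p :=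
            (Subgroup.index_dvd_of_le hle).trans hidx.dvd
          rcases (Nat.dvd_prime hp.out).1 hd with h | h
          · exact hne (Subgroup.index_eq_one.1 h)
          · apply hxN
            have heq := Subgroup.relIndex_mul_index hle
            rw [hidx, h] at heq
            exact Subgroup.relIndex_eq_one.1 (by simpa [hp.out.ne_zero] using heq) hxn
        rw [eq_bot_iff]
        intro z hz
        rw [Subgroup.mem_bot]
        obtain ⟨n, hn, rfl⟩ := hz
        refine hfaith _ ?_
        show χ (n : G) = χ ((1 : N) : G)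
        rw [hsum, hsum]
        refine Finset.sum_congr rfl fun φ hφ => ?_
        obtain ⟨y, rfl⟩ := (mem_orbitFn N).1 hφ
        obtain ⟨m, hm, hme⟩ := hnorm.conj_mem _ (Subgroup.mem_map_of_mem N.subtype hn) y
        show θ (conjBy N y n) = θ (conjBy N y 1)
        rw [map_one, ← hKmem, show conjBy N y n = m from Subtype.ext (by simpa [conjBy] using hme.symm)]
        exact hm
      rw [Subgroup.map_eq_bot_iff_of_injective _ N.subtype_injective] at hKG
      have hNQ : Nat.card N = p ^ a' := by
        rw [← ha', hKG]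
        exact Nat.card_congr (QuotientGroup.quotientBot (G := N)).symm.toEquiv
      have hDθ : Nat.card (galConj p θ) ≤ Nat.card (galConj p χ) * p := by
        haveI := (galConj_finite p θ).to_subtype
        haveI := (galConj_finite p χ).to_subtype
        choose kχ hkχ ekχ using fun φ : galConj p χ => φ.2
        choose kθ hkθ ekθ using fun φ : galConj p θ => φ.2
        have hsurj : ∀ φ : galConj p θ, ∃ c : galConj p χ × orbitFn N θ,
            φ.1 = fun n => (c.2.1) (n ^ kχ c.1) := by
          intro φ
          let cχ : galConj p χ := ⟨fun g => χ (g ^ kθ φ), kθ φ, hkθ φ, rfl⟩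
          obtain ⟨y, hy⟩ := hcov (kχ cχ) (kθ φ) (hkχ cχ) (hkθ φ)
            (fun g => (congrFun (ekχ cχ) g).symm)
          exact ⟨(cχ, ⟨conjFn N y θ, (mem_orbitFn N).2 ⟨y, rfl⟩⟩), (ekθ φ).trans hy⟩
        choose cθ hcθ using hsurj
        refine (Nat.card_le_card_of_injective cθ fun φ φ' h => Subtype.ext
          ((hcθ φ).trans (h ▸ (hcθ φ').symm))).trans_eq ?_
        rw [Nat.card_prod, Nat.card_eq_finsetCard, horb]
      have h1 := hIH (t + 1) (hDθ.trans ((Nat.mul_le_mul_right _ hD).trans_eq (by ring)))
      have ha1 : a = a' + 1 := by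
        rw [hNQ, ← pow_succ] at hcardN
        exact (Nat.pow_right_injective hp2 hcardN).symm
      subst ha1
      obtain ⟨g, rfl⟩ : ∃ g, f' = g + 1 := ⟨f' - 1, by omega⟩
      obtain ⟨P', hP'⟩ : ∃ P', p = P' + 1 := ⟨p - 1, by omega⟩
      subst hP'
      simp only [Nat.add_sub_cancel] at *
      have h7 : (P' + 1) * (g + 1) - 1 = P' * g + P' + g := by
        rw [show (P' + 1) * (g + 1) = P' * g + P' + g + 1 by ring, Nat.add_sub_cancel]
      rw [h7]
      have hP1 : 1 ≤ P' := by omega
      nlinarith [Nat.mul_le_mul (Nat.mul_le_mul hP1 (show 1 ≤ t + 1 by omega)) (le_refl (g + 1)),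
        Nat.zero_le (P' * g), Nat.mul_le_mul_left (P' * (g + 1) * (t + 1)) hP1]

/-- **The bound.** -/
theorem bound {G : Type u} [Group G] [Fintype G] (hG : IsPGroup p G) {χ : G → ℂ}
    (hχ : IsIrrCharacter G χ) (hfaith : ∀ g : G, χ g = χ 1 → g = 1) {f t : ℕ} (hf : χ 1 = f)
    (hD : Nat.card (galConj p χ) ≤ (p - 1) * p ^ t) :
    (p - 1) * (Nat.card G).factorization p ≤ (f - 1) + (p - 1) * (t + 1) * f :=
  bound_aux _ le_rfl hG χ hχ hfaith f t hf hD

/-- The conjugates are no more than the degree of the field of values. -/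
theorem card_galConj_le {G : Type u} [Group G] [Fintype G] (hG : IsPGroup p G) {χ : G → ℂ}
    (hχ : IsIrrCharacter G χ) :
    Nat.card (galConj p χ) ≤
      Module.finrank ℚ (IntermediateField.adjoin ℚ (Set.range χ)) := by
  classical
  set E := IntermediateField.adjoin ℚ (Set.range χ) with hE
  haveI : FiniteDimensional ℚ E := IntermediateField.finiteDimensional_adjoin fun z hz => by
    obtain ⟨g, rfl⟩ := hz
    exact (Chars.char_isIntegral (Chars.isCharacter_of_irr hχ) g).tower_top
  haveI := (galConj_finite p χ).to_subtype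
  choose k hk ek using fun φ : galConj p χ => φ.2
  choose σ hσ using fun φ : galConj p χ =>
    CharApps.exists_galois_pow (Nat.card G) (coprime_card hG (hk φ))
  rw [← AlgHom.card ℚ E ℂ, ← Nat.card_eq_fintype_card]
  refine Nat.card_le_card_of_injective
    (fun φ => (RingHom.toRatAlgHom (σ φ).toRingHom).comp E.val) fun φ φ' h => Subtype.ext ?_
  rw [ek φ, ek φ']
  funext g
  have hg : χ g ∈ E := IntermediateField.subset_adjoin ℚ _ ⟨g, rfl⟩
  have h' : σ φ (χ g) = σ φ' (χ g) := DFunLike.congr_fun h ⟨χ g, hg⟩
  rwa [CharApps.galois_apply (σ φ) (hσ φ) (Chars.isCharacter_of_irr hχ) g pow_card_eq_one',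
    CharApps.galois_apply (σ φ') (hσ φ') (Chars.isCharacter_of_irr hχ) g pow_card_eq_one'] at h'

end CfsgLib.CharApps.FieldBound
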