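import Cfsg.Agent.Lib.CharApps.CoprimeSchur
import Cfsg.Agent.Lib.Coprime.Hall
import Cfsg.Agent.Lib.FgsC.HallHigmanB

/-!
# The index of the `p`-core in a `p`-solvable linear group
-/

set_option autoImplicit false
set_option linter.unusedSectionVars false
set_option linter.style.haveILetI false

namespace CfsgLib.CharApps.PSolvableLinear

open Cfsg

universe u

variable {G : Type u} [Group G] [Finite G] {p : ℕ} [hp : Fact p.Prime]

/-- The reduction to a coprime action. -/
theorem exists_coprime_action (hG : IsPSolvable p G) :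
    ∃ K R : Subgroup G, ¬ p ∣ Nat.card K ∧ IsPGroup p R ∧
      R ≤ Subgroup.normalizer (K : Set G) ∧
      R ⊓ Subgroup.centralizer (K : Set G) ≤ pCore p G ∧
      (pCore p G).index.factorization p = ((pCore p G).relIndex R).factorization p := by
  classical
  set O := pCore p G with hO
  set q := QuotientGroup.mk' O with hq
  set Ob := pPrimeCore p (G ⧸ O) with hOb
  set L := Ob.comap q with hL
  obtain ⟨H0, hH0, hH0'⟩ := Coprime.hallD_compl_of_pSolvable (PLocal.isPSolvable_subgroup hG L)
  obtain ⟨hH0c, m, hH0i⟩ := (Coprime.piHall_compl_iff hp.out).1 hH0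
  set K := H0.map L.subtype with hK
  have hKL : K ≤ L := Subgroup.map_subtype_le _
  have hKs : K.subgroupOf L = H0 := Subgroup.comap_map_eq_self_of_injective L.subtype_injective _
  have hfr : L ⊔ Subgroup.normalizer (K : Set G) = ⊤ :=
    Coprime.HallD.frattini (Coprime.hallD_compl_of_pSolvable (PLocal.isPSolvable_subgroup hG L))
      hKL (hKs.symm ▸ hH0)
  have hKc : (Nat.card K).Coprime p := by
    rw [Nat.card_congr (H0.equivMapOfInjective _ L.subtype_injective).toEquiv.symm]
    exact hH0c
  have hKq : K.map q = Ob := by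
    refine le_antisymm (Subgroup.map_le_iff_le_comap.2 hKL) ?_
    have hLq : L.map q = Ob :=
      Subgroup.map_comap_eq_self_of_surjective (QuotientGroup.mk'_surjective O) Ob
    rw [← hLq, ← Subgroup.relIndex_eq_one]
    refine Nat.eq_one_of_dvd_coprimes (a := p ^ m) (b := Nat.card (L.map q))
      (Nat.Coprime.pow_left _ (by rw [hLq]; exact (Base.pPrimeCore_coprime p (G ⧸ O)).symm)) ?_
      (Subgroup.relIndex_dvd_card _ _)
    rw [← hH0i, ← hKs]
    exact Coprime.relIndex_map_dvd q K L
  set Nz := Subgroup.normalizer (K : Set G) with hNz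
  have hKN : K ≤ Nz := Subgroup.le_normalizer
  have hsurj : Function.Surjective (q.comp Nz.subtype) := by
    rw [← MonoidHom.range_eq_top, MonoidHom.range_comp, Subgroup.range_subtype, eq_top_iff,
      ← Subgroup.map_top_of_surjective q (QuotientGroup.mk'_surjective O), ← hfr, Subgroup.map_sup,
      sup_le_iff]
    refine ⟨?_, le_rfl⟩
    rw [Subgroup.map_comap_eq_self_of_surjective (QuotientGroup.mk'_surjective O), ← hKq]
    exact Subgroup.map_mono hKN
  obtain ⟨P⟩ : Nonempty (Sylow p Nz) := inferInstance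
  set R := (P : Subgroup Nz).map Nz.subtype with hR
  have hRp : IsPGroup p R := P.2.map _
  refine ⟨K, R, (hp.out.coprime_iff_not_dvd.1 hKc.symm), hRp, Subgroup.map_subtype_le _, ?_, ?_⟩
  · rintro r ⟨hr1, hr2⟩
    have h1 : q r ∈ Subgroup.centralizer (Ob : Set (G ⧸ O)) := by
      rw [Subgroup.mem_centralizer_iff, ← hKq]
      rintro _ ⟨k, hk, rfl⟩
      rw [← map_mul, ← map_mul, Subgroup.mem_centralizer_iff.1 hr2 k hk]
    have h2 : q r ∈ R.map q ⊓ Ob :=
      ⟨Subgroup.mem_map_of_mem q hr1, FgsC.HallHigmanB.centralizer_pPrimeCore_le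
        (PLocal.isPSolvable_quotient hG O) (Base.pCore_quotient_pCore p G) h1⟩
    obtain ⟨e, he⟩ := IsPGroup.iff_card.1 (hRp.map q)
    have h3 : R.map q ⊓ Ob = ⊥ := Subgroup.inf_eq_bot_of_coprime (by
      rw [he]; exact Nat.Coprime.pow_left _ (Base.pPrimeCore_coprime p (G ⧸ O)).symm)
    rw [h3, Subgroup.mem_bot] at h2
    exact (QuotientGroup.eq_one_iff r).1 h2
  · have h1 := (P.mapSurjective hsurj).card_eq_multiplicity
    rw [Sylow.coe_mapSurjective, ← Subgroup.map_map, ← hR] at h1
    rw [Subgroup.index_eq_card O]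
    rw [← PLocal.card_map_mk'_eq_relIndex O R, h1, hp.out.factorization_pow, Finsupp.single_eq_same]

/-- The bound on the index of the `p`-core. -/
theorem factorization_index_pCore_le (hG : IsPSolvable p G) {χ : G → ℂ} (hχ : IsCharacter G χ)
    (hfaith : ∀ g : G, χ g = χ 1 → g = 1) {n : ℕ} (hn : χ 1 = n) :
    (pCore p G).index.factorization p ≤ ∑ i ∈ Finset.range (n + 1), n / ((p - 1) * p ^ i) := by
  classical
  obtain ⟨K, R, hK, hR, hRK, hC, hv⟩ := exists_coprime_action hG
  set H := K ⊔ R with hH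
  have hKH : K ≤ H := le_sup_left
  have hRH : R ≤ H := le_sup_right
  haveI : (K.subgroupOf H).Normal :=
    Subgroup.normal_subgroupOf_of_le_normalizer (sup_le Subgroup.le_normalizer hRK)
  haveI := Fintype.ofFinite H
  have hb := CoprimeSchur.factorization_index_le (p := p) (K.subgroupOf H) (R.subgroupOf H)
    (by rwa [Nat.card_congr (Subgroup.subgroupOfEquivOfLe hKH).toEquiv])
    (hR.of_equiv (Subgroup.subgroupOfEquivOfLe hRH).symm)
    (by rw [← Subgroup.subgroupOf_sup hKH hRH, ← hH, Subgroup.subgroupOf_self])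
    (Chars.isCharacter_restrict H hχ)
    (fun g hg => Subtype.ext (hfaith g (by simpa using hg))) (n := n) (by simpa using hn)
  rw [hv]
  refine le_trans ?_ hb
  haveI : ∀ A B : Subgroup G, A.IsFiniteRelIndex B := fun A B =>
    ⟨Nat.pos_of_dvd_of_pos (Subgroup.relIndex_dvd_card A B) Nat.card_pos |>.ne'⟩
  haveI : ∀ A B : Subgroup H, A.IsFiniteRelIndex B := fun A B =>
    ⟨Nat.pos_of_dvd_of_pos (Subgroup.relIndex_dvd_card A B) Nat.card_pos |>.ne'⟩
  refine (Nat.factorization_le_iff_dvd (Subgroup.relIndex_ne_zero) Subgroup.relIndex_ne_zero).2 ?_ p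
  have he : Subgroup.centralizer ((K.subgroupOf H : Subgroup H) : Set H) =
      (Subgroup.centralizer (K : Set G)).subgroupOf H := by
    ext x
    simp only [Subgroup.mem_centralizer_iff, Subgroup.mem_subgroupOf, SetLike.mem_coe]
    exact ⟨fun h y hy => congrArg Subtype.val (h ⟨y, hKH hy⟩ hy),
      fun h y hy => Subtype.ext (h y hy)⟩
  rw [he, Subgroup.relIndex_subgroupOf hRH, ← Subgroup.inf_relIndex_right (Subgroup.centralizer (K : Set G)) R, inf_comm]
  exact Subgroup.relIndex_dvd_of_le_left _ hC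

end CfsgLib.CharApps.PSolvableLinear
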