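import Cfsg.Agent.Lib.CharApps.PSolvableLinear
import Cfsg.Agent.Lib.Chars.Quotient
import Cfsg.Agent.Lib.Coprime.Action

/-!
# `p`-solvable linear groups of degree less than `p`
-/

set_option autoImplicit false
set_option linter.unusedSectionVars false
set_option linter.style.haveILetI false

namespace CfsgLib.CharApps.SmallDegreePSolvable

open Cfsg CfsgLib.CharsMore
open scoped ComplexConjugate

universe u

variable {G : Type u} [Group G] [Finite G] {p : ℕ} [hp : Fact p.Prime]

/-- A non-normal Sylow subgroup gives `O_p` an index divisible by `p`. -/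
theorem factorization_index_pCore_pos (P : Sylow p G) (hP : ¬ (P : Subgroup G).Normal) :
    0 < (pCore p G).index.factorization p := by
  by_contra h
  apply hP
  have h0 : (pCore p G).index.factorization p = 0 := by omega
  have hnd : ¬ p ∣ (pCore p G).index := fun hd => by
    rw [Nat.factorization_eq_zero_iff] at h0
    rcases h0 with h1 | h1 | h1
    · exact h1 hp.out
    · exact h1 hd
    · exact Subgroup.index_ne_zero_of_finite h1
  have hle : (P : Subgroup G) ≤ pCore p G := by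
    obtain ⟨e, he⟩ := IsPGroup.iff_card.1 (P.2.map (QuotientGroup.mk' (pCore p G)))
    have hd : Nat.card ((P : Subgroup G).map (QuotientGroup.mk' (pCore p G))) ∣
        (pCore p G).index :=
      (Subgroup.card_subgroup_dvd_card _).trans (Subgroup.index_eq_card _).symm.dvd
    have he0 : e = 0 := by
      by_contra h1
      exact hnd ((dvd_pow_self p h1).trans (he ▸ hd))
    rw [he0, pow_zero] at he
    have := Subgroup.eq_bot_of_card_eq _ he
    rwa [Subgroup.map_eq_bot_iff, QuotientGroup.ker_mk'] at this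
  have heq : (P : Subgroup G) = pCore p G := le_antisymm hle (Base.pCore_le_sylow P)
  rw [heq]
  infer_instance

/-- A degree less than `p - 1` forces a normal Sylow subgroup. -/
theorem le_degree (hG : IsPSolvable p G) {χ : G → ℂ} (hχ : IsCharacter G χ)
    (hfaith : ∀ g : G, χ g = χ 1 → g = 1) {n : ℕ} (hn : χ 1 = n) (P : Sylow p G)
    (hP : ¬ (P : Subgroup G).Normal) : p ≤ n + 1 := by
  by_contra h
  have hb := PSolvableLinear.factorization_index_pCore_le hG hχ hfaith hn
  have h0 : ∑ i ∈ Finset.range (n + 1), n / ((p - 1) * p ^ i) = 0 :=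
    Finset.sum_eq_zero fun i _ => Nat.div_eq_of_lt (lt_of_lt_of_le (by omega : n < p - 1)
      (Nat.le_mul_of_pos_right _ (pow_pos hp.out.pos i)))
  have := factorization_index_pCore_pos P hP
  omega

/-- A faithful character has a constituent whose image has a non-normal Sylow subgroup. -/
theorem exists_constituent_not_normal [Fintype G] {χ : G → ℂ} (hχ : IsCharacter G χ)
    (hfaith : ∀ g : G, χ g = χ 1 → g = 1) (P : Sylow p G) (hP : ¬ (P : Subgroup G).Normal) :
    ∃ φ : IrrCharacter G, classInner χ (φ : G → ℂ) ≠ 0 ∧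
      ∃ (K : Subgroup G) (_ : K.Normal), (∀ g : G, g ∈ K ↔ (φ : G → ℂ) g = (φ : G → ℂ) 1) ∧
        ∃ Q : Sylow p (G ⧸ K), ¬ (Q : Subgroup (G ⧸ K)).Normal := by
  classical
  by_contra hcon
  push Not at hcon
  apply hP
  haveI := Fintype.ofFinite (IrrCharacter G)
  set M := Subgroup.normalClosure ((P : Subgroup G) : Set G) with hM
  obtain ⟨E, hE⟩ := IsPGroup.iff_card.1 P.2
  have hMp : IsPGroup p M := by
    intro x
    refine ⟨E, Subtype.ext (hfaith _ ?_)⟩
    rw [congrFun (Chars.classFun_eq_sum (Chars.isClassFunction_of_isCharacter hχ)) _,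
      congrFun (Chars.classFun_eq_sum (Chars.isClassFunction_of_isCharacter hχ)) 1,
      Finset.sum_apply, Finset.sum_apply]
    refine Finset.sum_congr rfl fun φ _ => ?_
    rw [Pi.smul_apply, Pi.smul_apply]
    by_cases h0 : classInner χ (φ : G → ℂ) = 0
    · simp [h0]
    congr 1
    obtain ⟨d, ρ, hρ⟩ := Chars.isCharacter_of_irr φ.2
    let K : Subgroup G := MonoidHom.ker ρ
    have hmem : ∀ g : G, g ∈ K ↔ (φ : G → ℂ) g = (φ : G → ℂ) 1 := fun g =>
      MonoidHom.mem_ker.trans (Chars.ker_iff ρ hρ g).symm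
    set Q := P.mapSurjective (QuotientGroup.mk'_surjective K) with hQ
    have hQn : (Q : Subgroup (G ⧸ K)).Normal := hcon φ h0 K inferInstance hmem Q
    have hMle : M ≤ (Q : Subgroup (G ⧸ K)).comap (QuotientGroup.mk' K) := by
      haveI := hQn.comap (QuotientGroup.mk' K)
      refine Subgroup.normalClosure_le_normal fun y hy => ?_
      rw [SetLike.mem_coe, Subgroup.mem_comap, hQ, Sylow.coe_mapSurjective]
      exact Subgroup.mem_map_of_mem _ hy
    have hx : QuotientGroup.mk' K (x : G) ∈ (Q : Subgroup (G ⧸ K)) := hMle x.2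
    have hcard : Nat.card (Q : Subgroup (G ⧸ K)) ∣ p ^ E := by
      rw [hQ, Sylow.coe_mapSurjective, ← hE]
      exact Subgroup.card_map_dvd _ _
    have h1 : (QuotientGroup.mk' K (x : G)) ^ p ^ E = 1 := by
      obtain ⟨c, hc⟩ := hcard
      have h2 := pow_card_eq_one' (x := (⟨_, hx⟩ : (Q : Subgroup (G ⧸ K))))
      rw [Subtype.ext_iff, SubgroupClass.coe_pow, OneMemClass.coe_one] at h2
      rw [hc, pow_mul, h2, one_pow]
    rw [← map_pow] at h1
    exact (hmem _).1 ((QuotientGroup.eq_one_iff _).1 h1)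
  have heq : (P : Subgroup G) = M := (P.3 hMp Subgroup.le_normalClosure).symm
  rw [heq]
  infer_instance

/-- A faithful character of degree less than `p` of a group with non-normal Sylow subgroup. -/
theorem irreducible (hG : IsPSolvable p G) {χ : G → ℂ} (hχ : IsCharacter G χ)
    (hfaith : ∀ g : G, χ g = χ 1 → g = 1) {n : ℕ} (hn : χ 1 = n) (hnp : n + 1 ≤ p)
    (P : Sylow p G) (hP : ¬ (P : Subgroup G).Normal) :
    n + 1 = p ∧ IsIrrCharacter G χ := by
  classical
  haveI := Fintype.ofFinite G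
  haveI := Fintype.ofFinite (IrrCharacter G)
  refine ⟨le_antisymm hnp (le_degree hG hχ hfaith hn P hP), ?_⟩
  obtain ⟨φ, hφ, K, hK, hKmem, Q, hQ⟩ := exists_constituent_not_normal hχ hfaith P hP
  obtain ⟨ψ, hψ, hφψ⟩ := Chars.exists_deflate_irr K φ.2 fun x hx => (hKmem x).1 hx
  obtain ⟨d, hd⟩ := Chars.character_degree_nat (Chars.isCharacter_of_irr φ.2)
  have hψf : ∀ g : G ⧸ K, ψ g = ψ 1 → g = 1 := by
    intro g
    induction g using QuotientGroup.induction_on with
    | H g =>
      intro hg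
      refine (QuotientGroup.eq_one_iff g).2 ((hKmem g).2 ?_)
      rw [hφψ]
      exact hg
  have hd1 : p ≤ d + 1 := le_degree (Coprime.pSolvable_quotient hG K)
    (Chars.isCharacter_of_irr hψ) hψf (by rw [← hd, hφψ]; rfl) Q hQ
  obtain ⟨c, hc⟩ := Chars.inner_char_nat hχ (Chars.isCharacter_of_irr φ.2)
  have hc0 : c ≠ 0 := fun h => hφ (by rw [hc, h, Nat.cast_zero])
  choose m hm using fun χ₁ : IrrCharacter G => Chars.inner_char_nat hχ (Chars.isCharacter_of_irr χ₁.2)
  choose e he using fun χ₁ : IrrCharacter G =>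
    Chars.character_degree_nat (Chars.isCharacter_of_irr χ₁.2)
  have hsum : n = ∑ χ₁ : IrrCharacter G, m χ₁ * e χ₁ := by
    have h := congrFun (Chars.classFun_eq_sum (Chars.isClassFunction_of_isCharacter hχ)) 1
    rw [hn, Finset.sum_apply] at h
    have h' : (n : ℂ) = ((∑ χ₁ : IrrCharacter G, m χ₁ * e χ₁ : ℕ) : ℂ) := by
      rw [h]; push_cast
      exact Finset.sum_congr rfl fun χ₁ _ => by rw [Pi.smul_apply, smul_eq_mul, hm, he]
    exact_mod_cast h'
  have hcm : m φ = c := by exact_mod_cast (hm φ).symm.trans hc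
  have hde : e φ = d := by exact_mod_cast (he φ).symm.trans hd
  rw [← Finset.add_sum_erase _ _ (Finset.mem_univ φ), hcm, hde] at hsum
  have hcd : d ≤ c * d := Nat.le_mul_of_pos_left _ (Nat.pos_of_ne_zero hc0)
  have hdpos : 0 < d := by
    have := hp.out.two_le
    omega
  have hrest : ∑ χ₁ ∈ Finset.univ.erase φ, m χ₁ * e χ₁ = 0 := by omega
  have hc1 : c = 1 := by
    have hceq : c * d = d := by omega
    exact (Nat.mul_eq_right hdpos.ne').1 hceq
  have : χ = (φ : G → ℂ) := by
    rw [Chars.classFun_eq_sum (Chars.isClassFunction_of_isCharacter hχ),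
      Finset.sum_eq_single φ ?_ (fun h => absurd (Finset.mem_univ φ) h)]
    · rw [hc, hc1, Nat.cast_one, one_smul]
    · intro χ₁ _ hne
      have h0 := Finset.sum_eq_zero_iff.1 hrest χ₁ (Finset.mem_erase.2 ⟨hne, Finset.mem_univ _⟩)
      have : e χ₁ ≠ 0 := fun h => Chars.irr_degree_ne_zero χ₁.2 (by rw [he, h, Nat.cast_zero])
      rw [hm, (Nat.mul_eq_zero.1 h0).resolve_right this, Nat.cast_zero, zero_smul]
  rw [this]
  exact φ.2

/-- An element of a `p`-group moving a `p'`-group that carries an invariant constituent. -/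
theorem exists_degree_dvd {H : Type u} [Group H] [Fintype H] (N : Subgroup H) [N.Normal]
    (R : Subgroup H) (hN : ¬ p ∣ Nat.card N) (hR : IsPGroup p R) (hNR : N ⊔ R = ⊤) {χ : H → ℂ}
    (hχ : IsCharacter H χ) (hfaith : ∀ g : H, χ g = χ 1 → g = 1) {n : ℕ} (hn : χ 1 = n)
    (hnp : n + 1 ≤ p) (hmove : ¬ R ≤ Subgroup.centralizer (N : Set H)) :
    ∃ d : ℕ, d ∣ Nat.card N ∧ p ≤ d + 1 ∧ d ≤ n := by
  classical
  haveI := Fintype.ofFinite N
  haveI := Fintype.ofFinite (IrrCharacter N)
  obtain ⟨eR, heR⟩ := IsPGroup.iff_card.1 hR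
  obtain ⟨e, hle, hidx⟩ := (Nat.dvd_prime_pow hp.out).1 (show N.index ∣ p ^ eR by
    rw [← Subgroup.relIndex_top_right, ← hNR, Subgroup.relIndex_sup_left, ← heR]
    exact Subgroup.index_dvd_card _)
  have hcR : (Nat.card N).Coprime (Nat.card R) := by
    rw [heR]; exact Nat.Coprime.pow_right _ ((hp.out.coprime_iff_not_dvd.2 hN).symm)
  rw [SetLike.not_le_iff_exists] at hmove
  obtain ⟨r, hr, hrN⟩ := hmove
  rw [Subgroup.mem_centralizer_iff] at hrN
  push Not at hrN
  obtain ⟨x, hx, hxr⟩ := hrN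
  have hy : x * r * x⁻¹ * r⁻¹ ∈ N := by
    rw [mul_assoc, mul_assoc, ← mul_assoc r]
    exact mul_mem hx (‹N.Normal›.conj_mem _ (inv_mem hx) _)
  set y : N := ⟨_, hy⟩ with hydef
  have hy1 : y ≠ 1 := by
    intro h
    have h' : x * r * x⁻¹ * r⁻¹ = 1 := congrArg Subtype.val h
    rw [mul_inv_eq_one, mul_inv_eq_iff_eq_mul] at h'
    exact hxr h'
  set χN : N → ℂ := fun x => χ x with hχN
  have hχNc : IsCharacter N χN := Chars.isCharacter_restrict N hχ
  obtain ⟨φ, hφ, hφy⟩ : ∃ φ : IrrCharacter N, classInner χN (φ : N → ℂ) ≠ 0 ∧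
      (φ : N → ℂ) y ≠ (φ : N → ℂ) 1 := by
    by_contra hcon
    push Not at hcon
    refine hy1 (Subtype.ext (hfaith _ ?_))
    show χN y = χN 1
    rw [congrFun (Chars.classFun_eq_sum (Chars.isClassFunction_of_isCharacter hχNc)) y,
      congrFun (Chars.classFun_eq_sum (Chars.isClassFunction_of_isCharacter hχNc)) 1,
      Finset.sum_apply, Finset.sum_apply]
    refine Finset.sum_congr rfl fun φ _ => ?_
    rw [Pi.smul_apply, Pi.smul_apply]
    by_cases h0 : classInner χN (φ : N → ℂ) = 0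
    · simp [h0]
    · rw [hcon φ h0]
  -- invariance
  obtain ⟨d, hd⟩ := Chars.character_degree_nat (Chars.isCharacter_of_irr φ.2)
  choose m hm using fun φ₁ : IrrCharacter N => Chars.inner_char_nat hχNc (Chars.isCharacter_of_irr φ₁.2)
  choose f hf using fun φ₁ : IrrCharacter N =>
    Chars.character_degree_nat (Chars.isCharacter_of_irr φ₁.2)
  have hsum : n = ∑ φ₁ : IrrCharacter N, m φ₁ * f φ₁ := by
    have h := congrFun (Chars.classFun_eq_sum (Chars.isClassFunction_of_isCharacter hχNc)) 1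
    rw [show χN 1 = (n : ℂ) from by simpa [hχN] using hn, Finset.sum_apply] at h
    have h' : (n : ℂ) = ((∑ φ₁ : IrrCharacter N, m φ₁ * f φ₁ : ℕ) : ℂ) := by
      rw [h]; push_cast
      exact Finset.sum_congr rfl fun φ₁ _ => by rw [Pi.smul_apply, smul_eq_mul, hm, hf]
    exact_mod_cast h'
  have hpos : ∀ φ₁ : IrrCharacter N, classInner χN (φ₁ : N → ℂ) ≠ 0 →
      1 ≤ m φ₁ * f φ₁ ∧ f φ₁ ≤ m φ₁ * f φ₁ := by
    intro φ₁ h0
    have h1 : m φ₁ ≠ 0 := fun h => h0 (by rw [hm, h, Nat.cast_zero])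
    have h2 : f φ₁ ≠ 0 := fun h => Chars.irr_degree_ne_zero φ₁.2 (by rw [hf, h, Nat.cast_zero])
    exact ⟨Nat.pos_of_ne_zero (mul_ne_zero h1 h2), Nat.le_mul_of_pos_left _ (Nat.pos_of_ne_zero h1)⟩
  have hdn : d ≤ n := by
    have hfd : f φ = d := by exact_mod_cast (hf φ).symm.trans hd
    rw [hsum, ← hfd]
    exact (hpos φ hφ).2.trans
      (Finset.single_le_sum (f := fun φ₁ => m φ₁ * f φ₁) (fun _ _ => Nat.zero_le _) (Finset.mem_univ φ))
  have horb : (orbitFn N (φ : N → ℂ)).card ≤ n := by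
    set T := (Finset.univ : Finset (IrrCharacter N)).filter
      fun φ₁ : IrrCharacter N => classInner χN (φ₁ : N → ℂ) ≠ 0 with hT
    calc (orbitFn N (φ : N → ℂ)).card ≤ (T.image Subtype.val).card := by
          refine Finset.card_le_card fun g hg => Finset.mem_image.2 ?_
          obtain ⟨h, rfl⟩ := (mem_orbitFn N).1 hg
          refine ⟨⟨_, isIrr_conjFn N h φ.2⟩, Finset.mem_filter.2 ⟨Finset.mem_univ _, ?_⟩, rfl⟩
          rw [hχN, inner_restrict_conjFn N (Chars.isClassFunction_of_isCharacter hχ)]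
          exact hφ
      _ ≤ T.card := Finset.card_image_le
      _ = ∑ _φ₁ ∈ T, 1 := Finset.card_eq_sum_ones T
      _ ≤ ∑ φ₁ ∈ T, m φ₁ * f φ₁ :=
          Finset.sum_le_sum fun φ₁ h => (hpos φ₁ (Finset.mem_filter.1 h).2).1
      _ ≤ n := hsum ▸ Finset.sum_le_univ_sum_of_nonneg fun _ => Nat.zero_le _
  have hinv : ∀ g a, (φ : N → ℂ) (conjBy N g a) = (φ : N → ℂ) a := by
    rw [card_orbitFn] at horb
    obtain ⟨e₁, -, he₁⟩ := (Nat.dvd_prime_pow hp.out).1
      (show (inertia N (φ : N → ℂ)).index ∣ p ^ e from hidx ▸ Subgroup.index_dvd_of_le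
        (le_inertia N (Chars.isClassFunction_of_isCharacter (Chars.isCharacter_of_irr φ.2))))
    have h0 : e₁ = 0 := by
      by_contra h0
      have := Nat.le_self_pow h0 p
      omega
    rw [h0, pow_zero, Subgroup.index_eq_one] at he₁
    exact fun g a => (mem_inertia N).1 (he₁ ▸ Subgroup.mem_top g) a
  obtain ⟨F, hF, hFN, hFk⟩ := CoprimeSchur.exists_fixed_ext N hN hidx φ.2 hinv
  have hdN : d ∣ Nat.card N := by
    obtain ⟨k, ρ, hρi, hρ⟩ := φ.2
    have hk : (k : ℂ) = d := by
      rw [← hd, ← hρ, Representation.char_one, Module.finrank_fin_fun]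
    rw [Nat.cast_inj] at hk
    have := (Chars.finrank_dvd_index_center ρ).trans (Subgroup.index_dvd_card _)
    rwa [Module.finrank_fin_fun, hk] at this
  refine ⟨d, hdN, ?_, hdn⟩
  by_contra hlt
  haveI := Fintype.ofFinite R
  have hF1 : F 1 = (d : ℂ) := by
    rw [← hd, ← hFN 1, OneMemClass.coe_one]
  have hgal : ∀ (g : R) (t : ℕ), ¬ p ∣ t → F ((g ^ t : R) : H) = F g := by
    intro g t ht
    obtain ⟨k, hk1, hk2⟩ := Nat.chineseRemainder hcR 1 t
    have hk : k.Coprime (Nat.card H) := by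
      rw [← N.card_mul_index, hidx]
      refine Nat.Coprime.mul_right ((Nat.ModEq.gcd_eq hk1).trans (Nat.gcd_one_left _)) ?_
      rcases Nat.eq_zero_or_pos e with rfl | he0
      · simp
      · refine Nat.Coprime.pow_right _ (hp.out.coprime_iff_not_dvd.2 fun h => ht ?_).symm
        exact ((hk2.of_dvd (heR ▸ dvd_pow_self p (by omega))).dvd_iff dvd_rfl).1 h
    rw [(pow_eq_pow_iff_modEq.2 (hk2.of_dvd (orderOf_dvd_natCard g))).symm, SubgroupClass.coe_pow]
    exact hFk k hk hk1 _
  obtain ⟨j, hj, hval⟩ := SchurBound.exists_nat_value hR (Chars.isCharacter_restrict R hF)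
    (n := d) (by simpa using hF1) hgal ⟨r, hr⟩
  have hj0 : j = 0 := by
    by_contra h0
    have : p - 1 ≤ j * (p - 1) := Nat.le_mul_of_pos_left _ (Nat.pos_of_ne_zero h0)
    omega
  obtain ⟨k, ρ, hρ⟩ := hF
  have hr1 : ρ r = 1 := (Chars.ker_iff ρ hρ r).1 (by
    rw [hF1]; simpa [hj0] using hval)
  have hrinv : ρ r⁻¹ = 1 := by
    conv_rhs => rw [← map_one ρ, ← inv_mul_cancel r, map_mul, hr1, mul_one]
  apply hφy
  rw [← hFN, ← hFN, OneMemClass.coe_one]
  refine (Chars.ker_iff ρ hρ _).2 ?_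
  show ρ (x * r * x⁻¹ * r⁻¹) = 1
  rw [map_mul, map_mul, map_mul, hr1, hrinv, mul_one, mul_one, ← map_mul, mul_inv_cancel, map_one]

/-- The degree is a power of two. -/
theorem pow_two (hG : IsPSolvable p G) {χ : G → ℂ} (hχ : IsCharacter G χ)
    (hfaith : ∀ g : G, χ g = χ 1 → g = 1) {n : ℕ} (hn : χ 1 = n) (hnp : n + 1 = p)
    (P : Sylow p G) (hP : ¬ (P : Subgroup G).Normal) : ∃ k : ℕ, n = 2 ^ k := by
  classical
  rcases hp.out.eq_two_or_odd' with h2 | hodd
  · exact ⟨0, by rw [pow_zero]; omega⟩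
  obtain ⟨K, R, hK, hR, hRK, hC, hv⟩ := PSolvableLinear.exists_coprime_action hG
  have hnc : ¬ R ≤ Subgroup.centralizer (K : Set G) := by
    intro h
    have h1 := factorization_index_pCore_pos P hP
    rw [hv, Subgroup.relIndex_eq_one.2 ((le_inf le_rfl h).trans hC)] at h1
    simp at h1
  have hcop : (Nat.card R).Coprime (Nat.card K) := by
    obtain ⟨e, he⟩ := IsPGroup.iff_card.1 hR
    rw [he]; exact Nat.Coprime.pow_left _ (hp.out.coprime_iff_not_dvd.2 hK)
  obtain ⟨q, hq, Q, hQK, hQq, hRQ, hQm⟩ : ∃ q : ℕ, q.Prime ∧ ∃ Q : Subgroup G, Q ≤ K ∧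
      IsPGroup q Q ∧ R ≤ Subgroup.normalizer (Q : Set G) ∧
      ¬ R ≤ Subgroup.centralizer (Q : Set G) := by
    by_contra hcon
    push Not at hcon
    apply hnc
    rw [Subgroup.le_centralizer_iff]
    have key : (Subgroup.centralizer (R : Set G)).subgroupOf K = ⊤ := by
      refine Subgroup.eq_top_of_card_eq _ (Nat.dvd_antisymm (Subgroup.card_subgroup_dvd_card _) ?_)
      rw [Nat.dvd_iff_prime_pow_dvd_dvd]
      intro q k hq hd
      haveI := Fact.mk hq
      haveI := hR.isNilpotent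
      obtain ⟨S, hS⟩ := Coprime.exists_invariant_sylow (p := q) hRK hcop (Or.inl inferInstance)
      have hle : (S : Subgroup K) ≤ (Subgroup.centralizer (R : Set G)).subgroupOf K := by
        intro s hs
        rw [Subgroup.mem_subgroupOf]
        exact Subgroup.le_centralizer_iff.1 (hcon q hq _ (Subgroup.map_subtype_le _) (S.2.map _) hS)
          (Subgroup.mem_map_of_mem _ hs)
      exact (S.pow_dvd_card_of_pow_dvd_card hd).trans (Subgroup.card_dvd_of_le hle)
    exact Subgroup.subgroupOf_eq_top.1 key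
  set H := Q ⊔ R with hH
  have hQH : Q ≤ H := le_sup_left
  have hRH : R ≤ H := le_sup_right
  haveI : (Q.subgroupOf H).Normal :=
    Subgroup.normal_subgroupOf_of_le_normalizer (sup_le Subgroup.le_normalizer hRQ)
  haveI := Fintype.ofFinite H
  obtain ⟨d, hd, hd1, hd2⟩ := exists_degree_dvd (p := p) (Q.subgroupOf H) (R.subgroupOf H)
    (fun h => hK (h.trans (by
      rw [Nat.card_congr (Subgroup.subgroupOfEquivOfLe hQH).toEquiv]
      exact Subgroup.card_dvd_of_le hQK)))
    (hR.of_equiv (Subgroup.subgroupOfEquivOfLe hRH).symm)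
    (by rw [← Subgroup.subgroupOf_sup hQH hRH, ← hH, Subgroup.subgroupOf_self])
    (Chars.isCharacter_restrict H hχ)
    (fun g hg => Subtype.ext (hfaith g (by simpa using hg))) (n := n) (by simpa using hn) (by omega)
    (fun h => hQm fun r hr => by
      rw [Subgroup.mem_centralizer_iff]
      intro x hx
      exact congrArg Subtype.val (Subgroup.mem_centralizer_iff.1
        (h (show (⟨r, hRH hr⟩ : H) ∈ R.subgroupOf H from hr)) ⟨x, hQH hx⟩ hx))
  haveI := Fact.mk hq
  obtain ⟨a, ha⟩ := IsPGroup.iff_card.1 hQq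
  rw [Nat.card_congr (Subgroup.subgroupOfEquivOfLe hQH).toEquiv, ha,
    Nat.dvd_prime_pow hq] at hd
  obtain ⟨b, -, rfl⟩ := hd
  have hnb : n = q ^ b := by omega
  have heven : 2 ∣ n := by
    obtain ⟨c, hc⟩ := hodd
    exact ⟨c, by omega⟩
  have hq2 : q = 2 := ((Nat.prime_dvd_prime_iff_eq Nat.prime_two hq).1
    (Nat.prime_two.dvd_of_dvd_pow (hnb ▸ heven))).symm
  exact ⟨b, hq2 ▸ hnb⟩

end CfsgLib.CharApps.SmallDegreePSolvable
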