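import Mathlib
import Cfsg.Agent.Lib.Blocks.FreePrincipal
import Cfsg.Agent.Lib.Blocks.DefectOneStructure
import Cfsg.Agent.Lib.Blocks.NilpotentPrincipal
import Cfsg.Agent.Lib.CharApps.ClassCount
import Cfsg.Agent.Lib.CharApps.Galois
import Cfsg.Agent.Lib.CharApps.PrincipalRational
import Cfsg.Agent.Lib.CharApps.AbelianSylow
import Cfsg.Agent.Lib.PLocal.Constrained
import Cfsg.Agent.Lib.PLocal.PSolvable
import Cfsg.Agent.Lib.Transfer.NormalPComplement

/-!
# Pairs of elements of order `p` generating `p`-solvable subgroups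

For an abelian Sylow subgroup with free automizer we count, with the characters of the principal
block, the conjugates `y` of an element `x` of order `p` with `x⁻¹ y` of order prime to `p`.
-/

set_option autoImplicit false
set_option linter.unusedSectionVars false
set_option linter.style.haveILetI false
set_option maxHeartbeats 1600000

namespace CfsgLib.CharApps.PairPSolvable

open Cfsg CfsgLib.Base CfsgLib.Chars CfsgLib.Blocks Finset
open scoped ComplexConjugate

universe u

variable {G : Type u} [Group G] [Fintype G] {p : ℕ} [Fact p.Prime]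

/-- Any two elements of order `p` generate a `p`-solvable subgroup. -/
def Pairs (p : ℕ) (G : Type u) [Group G] : Prop :=
  ∀ x y : G, orderOf x = p → orderOf y = p →
    IsPSolvable p ↥(Subgroup.closure ({x, y} : Set G))

theorem pow_p_eq_one {A : Type*} [Monoid A] {x : A} (hx : orderOf x = p) : x ^ p = 1 := by
  subst hx
  exact pow_orderOf_eq_one x

theorem ne_one_of_order {x : G} (hx : orderOf x = p) : x ≠ 1 := fun h => by
  rw [h, orderOf_one] at hx
  exact (Fact.out : p.Prime).ne_one hx.symm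

/-- A cyclic group has only one subgroup of order `p`. -/
theorem mem_zpowers_of_cyclic {A : Type*} [Group A] [Finite A] [IsCyclic A] {x w : A}
    (hx : orderOf x = p) (hw : w ^ p = 1) : w ∈ Subgroup.zpowers x := by
  classical
  haveI := Fintype.ofFinite A
  have h1 : (univ.filter fun a : A => a ∈ Subgroup.zpowers x) ⊆
      univ.filter fun a : A => a ^ p = 1 := by
    intro a ha
    obtain ⟨j, rfl⟩ := Subgroup.mem_zpowers_iff.1 (mem_filter.1 ha).2
    refine mem_filter.2 ⟨mem_univ _, ?_⟩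
    rw [← zpow_natCast, ← zpow_mul, mul_comm, zpow_mul, zpow_natCast, pow_p_eq_one hx,
      one_zpow]
  have h2 : (univ.filter fun a : A => a ∈ Subgroup.zpowers x).card = p := by
    rw [← Fintype.card_subtype, ← Nat.card_eq_fintype_card]
    exact (Nat.card_zpowers x).trans hx
  have h3 := Finset.eq_of_subset_of_card_le h1
    (by rw [h2]; exact IsCyclic.card_pow_eq_one_le (Fact.out : p.Prime).pos)
  have h4 : w ∈ univ.filter fun a : A => a ^ p = 1 := mem_filter.2 ⟨mem_univ _, hw⟩
  rw [← h3] at h4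
  exact (mem_filter.1 h4).2

theorem singular_of_pow_eq_one {g : G} {k : ℕ} (hg : g ^ p ^ k = 1) (hg1 : g ≠ 1) :
    p ∣ orderOf g := by
  obtain ⟨j, -, hj⟩ := (Nat.dvd_prime_pow (Fact.out : p.Prime)).1 (orderOf_dvd_of_pow_eq_one hg)
  rw [hj]
  refine dvd_pow_self p fun h0 => hg1 (orderOf_eq_one_iff.1 ?_)
  rw [hj, h0, pow_zero]

/-- The conjugates of an abelian Sylow subgroup are abelian. -/
theorem comm_of_isPGroup (S : Sylow p G)
    (hab : ∀ a ∈ (S : Subgroup G), ∀ b ∈ (S : Subgroup G), a * b = b * a) {Q : Subgroup G}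
    (hQ : IsPGroup p Q) {a b : G} (ha : a ∈ Q) (hb : b ∈ Q) : a * b = b * a := by
  obtain ⟨T, hT⟩ := hQ.exists_le_sylow
  obtain ⟨c, hc⟩ := MulAction.exists_smul_eq G T S
  have hmem : ∀ g ∈ Q, c * g * c⁻¹ ∈ (S : Subgroup G) := fun g hg => by
    rw [← hc, Sylow.coe_subgroup_smul]
    exact ⟨g, hT hg, rfl⟩
  have h := hab _ (hmem a ha) _ (hmem b hb)
  apply (MulAut.conj c).injective
  simpa only [map_mul, MulAut.conj_apply] using h

/-! ### The subgroup generated by a pair -/

/-- A `p`-solvable group generated by two elements of order `p`, with abelian Sylow subgroups,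
maps onto an abelian group of exponent `p` with kernel the elements of order prime to `p`. -/
theorem exists_kernel (S : Sylow p G)
    (hab : ∀ a ∈ (S : Subgroup G), ∀ b ∈ (S : Subgroup G), a * b = b * a) (hP : Pairs p G)
    {x y : G} (hx : orderOf x = p) (hy : orderOf y = p) :
    ∃ N : Subgroup ↥(Subgroup.closure ({x, y} : Set G)), ∃ _ : N.Normal,
      (∀ a b : ↥(Subgroup.closure ({x, y} : Set G)) ⧸ N, a * b = b * a) ∧
      (∀ a : ↥(Subgroup.closure ({x, y} : Set G)) ⧸ N, a ^ p = 1) ∧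
      ∀ h : ↥(Subgroup.closure ({x, y} : Set G)),
        (h : ↥(Subgroup.closure ({x, y} : Set G)) ⧸ N) = 1 ↔ ¬ p ∣ orderOf (h : G) := by
  classical
  set H := Subgroup.closure ({x, y} : Set G) with hH
  have hps : IsPSolvable p H := hP x y hx hy
  set N := pPrimeCore p H
  set π := QuotientGroup.mk' N
  have hπ := QuotientGroup.mk'_surjective N
  set R := pCore p (H ⧸ N)
  have hR : IsPGroup p R := isPGroup_pCore p _
  have hcon : Subgroup.centralizer (R : Set (H ⧸ N)) ≤ R :=
    CfsgLib.PLocal.isPConstrained_iff.1 (CfsgLib.PLocal.isPConstrained_of_isPSolvable hps)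
  have hmem : ∀ a : H, orderOf (a : G) = p → π a ∈ R := by
    intro a ha
    have ha' : orderOf a = p := by rwa [← Subgroup.orderOf_coe]
    obtain ⟨T, hT⟩ := (IsPGroup.of_card (p := p) (G := Subgroup.zpowers a) (n := 1)
      (by rw [Nat.card_zpowers, ha', pow_one])).exists_le_sylow
    let T' := T.mapSurjective hπ
    have hRT : R ≤ (T' : Subgroup (H ⧸ N)) := hR.le_sylow_of_normal T'
    refine hcon (Subgroup.mem_centralizer_iff.2 fun r hr => ?_)
    obtain ⟨b, hb, rfl⟩ := hRT hr
    have hc : b * a = a * b := by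
      have h := comm_of_isPGroup S hab (T.2.map H.subtype) (a := (b : G)) (b := (a : G))
        ⟨b, hb, rfl⟩ ⟨a, hT (Subgroup.mem_zpowers a), rfl⟩
      exact Subtype.ext h
    rw [← map_mul, ← map_mul, hc]
  have htop : R = ⊤ := by
    rw [← Subgroup.comap_injective hπ |>.eq_iff, Subgroup.comap_top]
    refine top_le_iff.1 (le_trans (le_of_eq (Subgroup.closure_closure_coe_preimage
      (k := ({x, y} : Set G))).symm) ((Subgroup.closure_le _).2 fun a ha => ?_))
    rcases ha with ha | ha
    · exact hmem a (by rw [ha]; exact hx)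
    · exact hmem a (by rw [Set.mem_singleton_iff.1 ha]; exact hy)
  haveI : Group.IsNilpotent (H ⧸ N) :=
    ((hR.of_equiv ((MulEquiv.subgroupCongr htop).trans Subgroup.topEquiv))).isNilpotent
  have hcomm : ∀ a b : H ⧸ N, a * b = b * a := by
    obtain ⟨T⟩ : Nonempty (Sylow p H) := inferInstance
    have hT : ((T.mapSurjective hπ : Sylow p (H ⧸ N)) : Subgroup (H ⧸ N)) = ⊤ :=
      top_le_iff.1 (htop ▸ hR.le_sylow_of_normal _)
    intro a b
    obtain ⟨a', ha', rfl⟩ := hT.ge (Subgroup.mem_top a)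
    obtain ⟨b', hb', rfl⟩ := hT.ge (Subgroup.mem_top b)
    have h := comm_of_isPGroup S hab (T.2.map H.subtype) (a := (a' : G)) (b := (b' : G))
      ⟨a', ha', rfl⟩ ⟨b', hb', rfl⟩
    rw [← map_mul, ← map_mul, show a' * b' = b' * a' from Subtype.ext h]
  have hexp : ∀ a : H ⧸ N, a ^ p = 1 := by
    intro a
    obtain ⟨h, rfl⟩ := hπ a
    let Ω : Subgroup H :=
      { carrier := {h | π h ^ p = 1}
        one_mem' := by simp
        mul_mem' := fun {u v} hu hv => by
          simp only [Set.mem_setOf_eq] at hu hv ⊢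
          rw [map_mul, (show Commute (π u) (π v) from hcomm (π u) (π v)).mul_pow, hu, hv, one_mul]
        inv_mem' := fun {u} hu => by
          simp only [Set.mem_setOf_eq] at hu ⊢
          rw [map_inv, inv_pow, hu, inv_one] }
    have : (⊤ : Subgroup H) ≤ Ω := by
      refine le_trans (le_of_eq (Subgroup.closure_closure_coe_preimage
        (k := ({x, y} : Set G))).symm) ((Subgroup.closure_le _).2 fun b hb => ?_)
      show π b ^ p = 1
      rw [← map_pow, show b ^ p = 1 from Subtype.ext ?_, map_one]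
      rcases hb with hb | hb
      · rw [SubgroupClass.coe_pow, hb, pow_p_eq_one hx]; rfl
      · rw [SubgroupClass.coe_pow, Set.mem_singleton_iff.1 hb, pow_p_eq_one hy]; rfl
    exact this (Subgroup.mem_top h)
  refine ⟨N, inferInstance, hcomm, hexp, fun h => ?_⟩
  rw [QuotientGroup.eq_one_iff, Subgroup.orderOf_coe]
  constructor
  · intro hh hd
    exact not_dvd_card_pPrimeCore p H (hd.trans (Subgroup.orderOf_dvd_natCard _ hh))
  · intro hd
    rw [← QuotientGroup.eq_one_iff, ← orderOf_eq_one_iff]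
    refine Nat.eq_one_of_dvd_coprimes (((Fact.out : p.Prime).coprime_iff_not_dvd).2 hd)
      (orderOf_dvd_of_pow_eq_one (hexp _)) ?_
    exact orderOf_map_dvd π h

/-- For each conjugate `y` only one power of `x` gives a product of order prime to `p`. -/
theorem regular_unique (S : Sylow p G)
    (hab : ∀ a ∈ (S : Subgroup G), ∀ b ∈ (S : Subgroup G), a * b = b * a) (hP : Pairs p G)
    {x y v v' : G} (hx : orderOf x = p) (hy : orderOf y = p) (hv : v ∈ Subgroup.zpowers x)
    (hv' : v' ∈ Subgroup.zpowers x) (h : ¬ p ∣ orderOf (v⁻¹ * y))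
    (h' : ¬ p ∣ orderOf (v'⁻¹ * y)) : v = v' := by
  set H := Subgroup.closure ({x, y} : Set G) with hH
  obtain ⟨N, hN, hcomm, -, hker⟩ := exists_kernel S hab hP hx hy
  have hxH : x ∈ H := Subgroup.subset_closure (by simp)
  have hyH : y ∈ H := Subgroup.subset_closure (by simp)
  have hvH : v ∈ H := (Subgroup.zpowers_le.2 hxH) hv
  have hvH' : v' ∈ H := (Subgroup.zpowers_le.2 hxH) hv'
  have e1 := (hker ((⟨v, hvH⟩ : H)⁻¹ * ⟨y, hyH⟩)).2 h
  have e2 := (hker ((⟨v', hvH'⟩ : H)⁻¹ * ⟨y, hyH⟩)).2 h'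
  rw [QuotientGroup.mk_mul, QuotientGroup.mk_inv, inv_mul_eq_one] at e1 e2
  have h3 := (hker ((⟨v, hvH⟩ : H)⁻¹ * ⟨v', hvH'⟩)).1
    (by rw [QuotientGroup.mk_mul, QuotientGroup.mk_inv, e1, e2, inv_mul_cancel])
  by_contra hne
  refine h3 (singular_of_pow_eq_one (k := 1) ?_ fun hh => hne (inv_mul_eq_one.1 hh))
  obtain ⟨i, rfl⟩ := Subgroup.mem_zpowers_iff.1 hv
  obtain ⟨j, rfl⟩ := Subgroup.mem_zpowers_iff.1 hv'
  show ((x ^ i)⁻¹ * x ^ j) ^ p ^ 1 = 1
  rw [pow_one, ← zpow_neg, ← zpow_add, ← zpow_natCast, ← zpow_mul, mul_comm, zpow_mul,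
    zpow_natCast, pow_p_eq_one hx, one_zpow]

/-- The `p`-part of `x⁻¹ y` has order dividing `p`. -/
theorem section_absurd (S : Sylow p G)
    (hab : ∀ a ∈ (S : Subgroup G), ∀ b ∈ (S : Subgroup G), a * b = b * a) (hP : Pairs p G)
    {x y z k : G} (hx : orderOf x = p) (hy : orderOf y = p) (hzk : Commute z k)
    (hk : ¬ p ∣ orderOf k) (hz : ∃ n : ℕ, z ^ p ^ n = 1) (hzp : z ^ p ≠ 1)
    (h : x⁻¹ * y = z * k) : False := by
  obtain ⟨N, hN, -, hexp, hker⟩ := exists_kernel S hab hP hx hy
  set H := Subgroup.closure ({x, y} : Set G)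
  have hwH : z * k ∈ H := h ▸ mul_mem (inv_mem (Subgroup.subset_closure (by simp)))
    (Subgroup.subset_closure (by simp))
  have h1 := (hker ((⟨z * k, hwH⟩ : H) ^ p)).1 (by rw [QuotientGroup.mk_pow]; exact hexp _)
  refine h1 ?_
  show p ∣ orderOf ((z * k) ^ p)
  obtain ⟨n, hn⟩ := hz
  have hdvd : p ∣ orderOf (z ^ p) := singular_of_pow_eq_one (k := n)
    (by rw [← pow_mul, mul_comm, pow_mul, hn, one_pow]) hzp
  have hcop : (orderOf (z ^ p)).Coprime (orderOf (k ^ p)) := by
    refine Nat.Coprime.coprime_dvd_left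
      (orderOf_dvd_of_pow_eq_one (n := p ^ n) (by rw [← pow_mul, mul_comm, pow_mul, hn, one_pow]))
      (Nat.Coprime.pow_left n ?_)
    exact ((Fact.out : p.Prime).coprime_iff_not_dvd).2 fun hd => hk (hd.trans (orderOf_pow_dvd p))
  rw [hzk.mul_pow, (hzk.pow_pow p p).orderOf_mul_eq_mul_orderOf_of_coprime hcop]
  exact hdvd.mul_right _

/-- With a cyclic Sylow subgroup, some power of `x` conjugate to `y` gives a regular product. -/
theorem exists_regular (S : Sylow p G) (hS : IsCyclic (S : Subgroup G)) (hP : Pairs p G)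
    {x y : G} (hx : orderOf x = p) (hy : orderOf y = p) :
    ∃ v ∈ Subgroup.zpowers x, ¬ p ∣ orderOf (v⁻¹ * y) ∧ IsConj y v := by
  classical
  have hab : ∀ a ∈ (S : Subgroup G), ∀ b ∈ (S : Subgroup G), a * b = b * a := fun a ha b hb =>
    congrArg Subtype.val (IsCyclic.commGroup.mul_comm (⟨a, ha⟩ : (S : Subgroup G)) ⟨b, hb⟩)
  set H := Subgroup.closure ({x, y} : Set G) with hH
  obtain ⟨N, hN, hcomm, -, hker⟩ := exists_kernel S hab hP hx hy
  have hxH : x ∈ H := Subgroup.subset_closure (by simp)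
  have hyH : y ∈ H := Subgroup.subset_closure (by simp)
  obtain ⟨T⟩ : Nonempty (Sylow p H) := inferInstance
  have hTc : IsCyclic ((T : Subgroup H).map H.subtype) := by
    obtain ⟨R, hR⟩ := (T.2.map H.subtype).exists_le_sylow
    haveI := hS
    haveI : IsCyclic (R : Subgroup G) :=
      isCyclic_of_surjective (R.equiv S).symm.toMonoidHom (R.equiv S).symm.surjective
    exact isCyclic_of_injective (Subgroup.inclusion hR) (Subgroup.inclusion_injective hR)
  have key : ∀ a : H, orderOf (a : G) = p → ∃ c : H, c * a * c⁻¹ ∈ (T : Subgroup H) := by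
    intro a ha
    obtain ⟨T', hT'⟩ := (IsPGroup.of_card (p := p) (G := Subgroup.zpowers a) (n := 1)
      (by rw [Nat.card_zpowers, ← Subgroup.orderOf_coe, ha, pow_one])).exists_le_sylow
    obtain ⟨c, hc⟩ := MulAction.exists_smul_eq H T' T
    exact ⟨c, by rw [← hc, Sylow.coe_subgroup_smul]; exact ⟨a, hT' (Subgroup.mem_zpowers a), rfl⟩⟩
  obtain ⟨c, hc⟩ := key ⟨x, hxH⟩ hx
  obtain ⟨c', hc'⟩ := key ⟨y, hyH⟩ hy
  set x' : G := (c : G) * x * (c : G)⁻¹ with hx'
  set y' : G := (c' : G) * y * (c' : G)⁻¹ with hy'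
  have hox : orderOf x' = p := by
    rw [hx', ← hx]; exact orderOf_injective (MulAut.conj (c : G)).toMonoidHom (MulAut.conj (c : G)).injective x
  have hoy : orderOf y' = p := by
    rw [hy', ← hy]; exact orderOf_injective (MulAut.conj (c' : G)).toMonoidHom (MulAut.conj (c' : G)).injective y
  have hx'T : x' ∈ (T : Subgroup H).map H.subtype := ⟨_, hc, rfl⟩
  have hy'T : y' ∈ (T : Subgroup H).map H.subtype := ⟨_, hc', rfl⟩
  have hmem : y' ∈ Subgroup.zpowers x' := by
    haveI := hTc
    let A := (T : Subgroup H).map H.subtype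
    haveI : IsCyclic A := hTc
    obtain ⟨j, hj⟩ := Subgroup.mem_zpowers_iff.1 (mem_zpowers_of_cyclic (p := p)
      (x := (⟨x', hx'T⟩ : A)) (w := ⟨y', hy'T⟩) (by rw [← Subgroup.orderOf_coe]; exact hox)
      (Subtype.ext (by show y' ^ p = 1; exact pow_p_eq_one hoy)))
    exact Subgroup.mem_zpowers_iff.2 ⟨j, by simpa using congrArg Subtype.val hj⟩
  obtain ⟨j, hj⟩ := Subgroup.mem_zpowers_iff.1 hmem
  refine ⟨x ^ j, Subgroup.zpow_mem _ (Subgroup.mem_zpowers x) j, ?_, ?_⟩
  · refine (hker (((⟨x, hxH⟩ : H) ^ j)⁻¹ * ⟨y, hyH⟩)).1 ?_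
    have e : (c' * ⟨y, hyH⟩ * c'⁻¹ : H) = (c * ⟨x, hxH⟩ * c⁻¹ : H) ^ j := by
      refine Subtype.ext ?_
      push_cast
      exact hj.symm
    have e2 := congrArg (QuotientGroup.mk' N) e
    simp only [map_mul, map_inv, map_zpow, QuotientGroup.mk'_apply] at e2
    rw [hcomm _ (⟨y, hyH⟩ : H), mul_inv_cancel_right, hcomm _ (⟨x, hxH⟩ : H),
      mul_inv_cancel_right] at e2
    simp only [QuotientGroup.mk_mul, QuotientGroup.mk_inv, QuotientGroup.mk_zpow]
    rw [e2, inv_mul_cancel]
  · refine (isConj_iff.2 ⟨(c' : G), rfl⟩ : IsConj y y').trans (IsConj.symm ?_)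
    exact isConj_iff.2 ⟨(c : G), by rw [← conj_zpow, ← hj]⟩

/-! ### The free automizer -/

variable {M : Ideal AlgInt} [M.IsPrime]

/-- The `p`-regular elements of a centralizer form a complement. -/
theorem exists_complement (S : Sylow p G)
    (hab : ∀ a ∈ (S : Subgroup G), ∀ b ∈ (S : Subgroup G), a * b = b * a)
    (hfree : ∀ g ∈ Subgroup.normalizer ((S : Subgroup G) : Set G), ∀ x ∈ (S : Subgroup G), x ≠ 1 →
      g * x * g⁻¹ = x → g ∈ Subgroup.centralizer ((S : Subgroup G) : Set G))
    {u : G} (hu : u ∈ (S : Subgroup G)) (hu1 : u ≠ 1) :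
    ∃ K : Subgroup (Subgroup.centralizer ({u} : Set G)), K.Normal ∧ ¬ p ∣ Nat.card K ∧
      (∃ n, K.index = p ^ n) ∧ K.index = Nat.card (S : Subgroup G) ∧
      ∀ c : Subgroup.centralizer ({u} : Set G), c ∈ K ↔ ¬ p ∣ orderOf (c : G) := by
  set C := Subgroup.centralizer ({u} : Set G)
  haveI : Fintype C := Fintype.ofFinite _
  have hSC : (S : Subgroup G) ≤ C := fun a ha =>
    Subgroup.mem_centralizer_singleton_iff.2 (hab a ha u hu)
  let T : Sylow p C := S.subtype hSC
  have hT : (T : Subgroup C) = (S : Subgroup G).subgroupOf C := S.coe_subtype hSC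
  have hN : Subgroup.normalizer ((T : Subgroup C) : Set C) ≤
      Subgroup.centralizer ((T : Subgroup C) : Set C) := by
    intro c hc
    have hc' : (c : G) ∈ Subgroup.normalizer ((S : Subgroup G) : Set G) := by
      have h1 := Subgroup.mem_normalizer_iff.1 hc
      rw [Subgroup.mem_normalizer_iff]
      intro a
      constructor
      · intro ha
        have h2 := (h1 ⟨a, hSC ha⟩).1 (show (⟨a, hSC ha⟩ : C) ∈ (T : Subgroup C) by rw [hT]; exact ha)
        rw [hT] at h2
        exact h2
      · intro ha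
        have hm : a ∈ C := by
          have := C.mul_mem (C.mul_mem (C.inv_mem c.2) (hSC ha)) c.2
          simpa [mul_assoc] using this
        have h2 := (h1 ⟨a, hm⟩).2 (show c * (⟨a, hm⟩ : C) * c⁻¹ ∈ (T : Subgroup C) by rw [hT]; exact ha)
        rw [hT] at h2
        exact h2
    have hcc := hfree c hc' u hu hu1
      (by rw [Subgroup.mem_centralizer_singleton_iff.1 c.2, mul_inv_cancel_right])
    intro a ha
    rw [hT] at ha
    exact Subtype.ext (hcc (a : G) ha)
  set K := (MonoidHom.transferSylow T hN).ker with hK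
  have hKP := MonoidHom.ker_transferSylow_isComplement' T hN
  have hKn : ¬ p ∣ Nat.card K := MonoidHom.not_dvd_card_ker_transferSylow T hN
  have hKi : K.index = Nat.card (S : Subgroup G) := by
    rw [hK, hKP.symm.index_eq_card, hT]
    exact Nat.card_congr (Subgroup.subgroupOfEquivOfLe hSC).toEquiv
  obtain ⟨n, hn⟩ := IsPGroup.iff_card.1 S.2
  refine ⟨K, inferInstance, hKn, ⟨n, hKi.trans hn⟩, hKi, fun c => ?_⟩
  rw [Subgroup.orderOf_coe]
  exact ⟨fun hc hd => hKn (hd.trans (Subgroup.orderOf_dvd_natCard _ hc)),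
    index_eq_pow_mem_of_regular (hKi.trans hn)⟩

/-- Each nontrivial class of `p`-elements meets an abelian Sylow subgroup with free automizer in
as many elements as the automizer has. -/
theorem card_conj_inter (S : Sylow p G)
    (hab : ∀ a ∈ (S : Subgroup G), ∀ b ∈ (S : Subgroup G), a * b = b * a)
    (hfree : ∀ g ∈ Subgroup.normalizer ((S : Subgroup G) : Set G), ∀ x ∈ (S : Subgroup G), x ≠ 1 →
      g * x * g⁻¹ = x → g ∈ Subgroup.centralizer ((S : Subgroup G) : Set G))
    (u : (S : Subgroup G)) (hu1 : u ≠ 1) :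
    Function.Bijective fun σ : (S : Subgroup G).normalizerMonoidHom.range =>
      (⟨(σ : MulAut (S : Subgroup G)) u, by
        obtain ⟨n, hn⟩ := σ.2
        rw [← hn]
        exact isConj_iff.2 ⟨(n : G), rfl⟩⟩ : {v : (S : Subgroup G) // IsConj (u : G) v}) := by
  have hu' : (u : G) ≠ 1 := fun h => hu1 (Subtype.ext h)
  constructor
  · rintro ⟨_, ⟨m, hm⟩, rfl⟩ ⟨_, ⟨n, hn⟩, rfl⟩ h
    have h1 : m * (u : G) * m⁻¹ = n * (u : G) * n⁻¹ :=
      congrArg (fun v : {v : (S : Subgroup G) // IsConj (u : G) v} => (v.1 : G)) h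
    have hmn : m⁻¹ * n ∈ Subgroup.centralizer ((S : Subgroup G) : Set G) := by
      refine hfree _ (mul_mem (inv_mem hm) hn) u u.2 hu' ?_
      calc m⁻¹ * n * (u : G) * (m⁻¹ * n)⁻¹ = m⁻¹ * (n * u * n⁻¹) * m := by group
        _ = u := by rw [← h1]; group
    refine Subtype.ext ((MonoidHom.eq_iff _).2 ?_)
    rw [Subgroup.normalizerMonoidHom_ker, Subgroup.mem_subgroupOf]
    simpa using inv_mem hmn
  · rintro ⟨v, hv⟩
    obtain ⟨T⟩ : Nonempty (Sylow p (Subgroup.centralizer ({(u : G)} : Set G))) := inferInstance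
    have hT : Nat.card T ≤ Nat.card (S : Subgroup G) := by
      obtain ⟨T', hT'⟩ := (isPGroup_sylow_map _ T).exists_le_sylow
      have h2 := Subgroup.card_le_of_le hT'
      rw [Base.card_map_subtype, Sylow.card_eq_multiplicity T', ← Sylow.card_eq_multiplicity S] at h2
      exact h2
    have hle := le_centralizer_of_abelian (P := (S : Subgroup G)) le_rfl hab
    obtain ⟨m, hm, hmuv⟩ := exists_normalizer_conj S.2 hT (IsConj.refl _) hv (hle u.2) (hle v.2)
    exact ⟨⟨_, ⟨⟨m, hm⟩, rfl⟩⟩, Subtype.ext (Subtype.ext hmuv)⟩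

theorem card_conj_inter' (S : Sylow p G)
    (hab : ∀ a ∈ (S : Subgroup G), ∀ b ∈ (S : Subgroup G), a * b = b * a)
    (hfree : ∀ g ∈ Subgroup.normalizer ((S : Subgroup G) : Set G), ∀ x ∈ (S : Subgroup G), x ≠ 1 →
      g * x * g⁻¹ = x → g ∈ Subgroup.centralizer ((S : Subgroup G) : Set G))
    (u : (S : Subgroup G)) (hu1 : u ≠ 1) :
    Nat.card {v : (S : Subgroup G) // IsConj (u : G) v} =
      Nat.card (S : Subgroup G).normalizerMonoidHom.range :=
  (Nat.card_eq_of_bijective _ (card_conj_inter S hab hfree u hu1)).symm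

open scoped Classical in
/-- Summing a principal block character over the `p`-singular elements. -/
theorem singular_sum (hM : IsPModular p M) (S : Sylow p G)
    (hab : ∀ a ∈ (S : Subgroup G), ∀ b ∈ (S : Subgroup G), a * b = b * a)
    (hfree : ∀ g ∈ Subgroup.normalizer ((S : Subgroup G) : Set G), ∀ x ∈ (S : Subgroup G), x ≠ 1 →
      g * x * g⁻¹ = x → g ∈ Subgroup.centralizer ((S : Subgroup G) : Set G))
    {χ : IrrCharacter G} (hχ : χ ∈ principalBlock M G) :
    (Nat.card (S : Subgroup G) : ℂ) *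
        (Nat.card (S : Subgroup G).normalizerMonoidHom.range : ℂ) *
        ∑ w ∈ univ.filter (fun w : G => p ∣ orderOf w), (χ : G → ℂ) w =
      (Nat.card G : ℂ) *
        ∑ u ∈ univ.filter (fun u : (S : Subgroup G) => u ≠ 1), (χ : G → ℂ) u := by
  set q := Nat.card (S : Subgroup G)
  set e := Nat.card (S : Subgroup G).normalizerMonoidHom.range
  have hord : ∀ u : (S : Subgroup G), ∃ k : ℕ, orderOf (u : G) = p ^ k := fun u => by
    obtain ⟨k, hk⟩ := S.2.exists_card_eq
    obtain ⟨j, -, hj⟩ := (Nat.dvd_prime_pow (Fact.out : p.Prime)).1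
      (hk ▸ Subgroup.orderOf_dvd_natCard (S : Subgroup G) u.2)
    exact ⟨j, hj⟩
  -- the normal complements
  have hK : ∀ u : (S : Subgroup G), u ≠ 1 → ∃ n : ℕ, n ≠ 0 ∧
      Nat.card (Subgroup.centralizer ({(u : G)} : Set G)) = q * n ∧
      (univ.filter fun k : G => Commute (u : G) k ∧ ¬ p ∣ orderOf k).card = n := by
    intro u hu
    obtain ⟨K, -, -, -, hKi, hKmem⟩ :=
      exists_complement S hab hfree u.2 fun h => hu (Subtype.ext h)
    refine ⟨Nat.card K, Nat.card_pos.ne', ?_, ?_⟩
    · rw [← K.card_mul_index, hKi, mul_comm]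
    · rw [← Fintype.card_subtype, ← Nat.card_eq_fintype_card]
      exact Nat.card_congr
        { toFun := fun k => ⟨⟨k.1, Subgroup.mem_centralizer_singleton_iff.2 k.2.1.eq.symm⟩,
            (hKmem _).2 k.2.2⟩
          invFun := fun c => ⟨(c.1 : G),
            (Subgroup.mem_centralizer_singleton_iff.1 c.1.2).symm, (hKmem _).1 c.2⟩
          left_inv := fun k => rfl
          right_inv := fun c => rfl }
  choose n hn0 hnC hnK using hK
  -- weighted double count of the triples `(u, k, c)` with `c u k c⁻¹ = w`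
  let W : ↥(S : Subgroup G) → ℂ := fun u => if hu : u ≠ 1 then ((n u hu : ℂ))⁻¹ else 0
  let T : Finset (↥(S : Subgroup G) × G × G) := univ.filter fun t =>
    t.1 ≠ 1 ∧ Commute (t.1 : G) t.2.1 ∧ ¬ p ∣ orderOf t.2.1
  have hval : ∀ u : (S : Subgroup G), u ≠ 1 → ∀ k : G, Commute (u : G) k → ¬ p ∣ orderOf k →
      (χ : G → ℂ) ((u : G) * k) = (χ : G → ℂ) u := fun u hu k hk hk' =>
    (principal_column (M := M) hM S hab hfree u.2 fun h => hu (Subtype.ext h)).1 χ hχ k hk hk'
  -- first count
  have h1 : ∑ t ∈ T, W t.1 * (χ : G → ℂ) (t.2.2 * ((t.1 : G) * t.2.1) * t.2.2⁻¹) =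
      (Nat.card G : ℂ) *
        ∑ u ∈ univ.filter (fun u : (S : Subgroup G) => u ≠ 1), (χ : G → ℂ) u := by
    rw [Finset.mul_sum, Finset.sum_filter, Finset.sum_filter, Fintype.sum_prod_type]
    refine Finset.sum_congr rfl fun u _ => ?_
    rw [Fintype.sum_prod_type]
    by_cases hu : u = 1
    · subst hu; simp
    rw [if_pos hu]
    have e1 : ∀ k : G, (∑ c : G, if u ≠ 1 ∧ Commute (u : G) k ∧ ¬ p ∣ orderOf k then
        W u * (χ : G → ℂ) (c * ((u : G) * k) * c⁻¹) else 0) =
        if Commute (u : G) k ∧ ¬ p ∣ orderOf k then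
          (Nat.card G : ℂ) * (W u * (χ : G → ℂ) u) else 0 := by
      intro k
      split_ifs with ha hb hb
      · rw [Finset.sum_congr rfl (g := fun _ => W u * (χ : G → ℂ) u) (fun c _ => by
          rw [isClassFunction_irr χ _ c, hval u hu k hb.1 hb.2]), Finset.sum_const,
          Finset.card_univ, nsmul_eq_mul, Nat.card_eq_fintype_card]
      · exact absurd ha.2 hb
      · exact absurd ⟨hu, hb⟩ ha
      · simp
    rw [Finset.sum_congr rfl fun k _ => e1 k, ← Finset.sum_filter, Finset.sum_const,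
      hnK u hu, nsmul_eq_mul]
    simp only [W, dif_pos (show u ≠ 1 from hu)]
    field_simp [show (n u hu : ℂ) ≠ 0 from Nat.cast_ne_zero.2 (hn0 u hu)]
  -- second count
  have hmaps : ∀ t ∈ T, t.2.2 * ((t.1 : G) * t.2.1) * t.2.2⁻¹ ∈
      univ.filter fun w : G => p ∣ orderOf w := by
    intro t ht
    obtain ⟨hu, hc, hk⟩ := (mem_filter.1 ht).2
    refine mem_filter.2 ⟨mem_univ _, ?_⟩
    rw [show orderOf (t.2.2 * ((t.1 : G) * t.2.1) * t.2.2⁻¹) = orderOf ((t.1 : G) * t.2.1) from
      orderOf_injective (MulAut.conj t.2.2).toMonoidHom (MulAut.conj t.2.2).injective _]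
    obtain ⟨j, hj⟩ := hord t.1
    have hcop : (orderOf (t.1 : G)).Coprime (orderOf t.2.1) := by
      rw [hj]
      exact Nat.Coprime.pow_left j (((Fact.out : p.Prime).coprime_iff_not_dvd).2 hk)
    rw [hc.orderOf_mul_eq_mul_orderOf_of_coprime hcop]
    exact (singular_of_pow_eq_one (by rw [← hj]; exact pow_orderOf_eq_one _)
      fun h => hu (Subtype.ext h)).mul_right _
  have h2 : ∀ w ∈ univ.filter (fun w : G => p ∣ orderOf w),
      ∑ t ∈ T.filter (fun t => t.2.2 * ((t.1 : G) * t.2.1) * t.2.2⁻¹ = w),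
        W t.1 * (χ : G → ℂ) (t.2.2 * ((t.1 : G) * t.2.1) * t.2.2⁻¹) =
      (q : ℂ) * (e : ℂ) * (χ : G → ℂ) w := by
    intro w hw
    rw [Finset.sum_congr rfl (g := fun t => W t.1 * (χ : G → ℂ) w)
      (fun t ht => by rw [(mem_filter.1 ht).2]), ← Finset.sum_mul]
    congr 1
    obtain ⟨y, hy⟩ := BlockOrth.exists_isPPrimePart (p := p) w
    obtain ⟨a, ha, hay, hapow, hyreg⟩ := hy
    obtain ⟨R, hR⟩ := (IsPGroup.of_card (p := p) (G := Subgroup.zpowers a) (n := hapow.choose)
      (by rw [Nat.card_zpowers]; exact hapow.choose_spec)).exists_le_sylow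
    obtain ⟨c₀, hc₀⟩ := MulAction.exists_smul_eq G R S
    have ha1 : a ≠ 1 := fun h => hyreg (by
      have hw' := (mem_filter.1 hw).2
      rw [← ha, h, one_mul] at hw'
      exact hw')
    let u₀ : (S : Subgroup G) := ⟨c₀ * a * c₀⁻¹, by
      rw [← hc₀, Sylow.coe_subgroup_smul]; exact ⟨a, hR (Subgroup.mem_zpowers a), rfl⟩⟩
    have hu₀ : u₀ ≠ 1 := fun h => ha1 (by
      have h' : c₀ * a * c₀⁻¹ = 1 := congrArg Subtype.val h
      exact conj_eq_one_iff.1 h')
    have hiff : ∀ (u : (S : Subgroup G)) (k c : G),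
        (u ≠ 1 ∧ Commute (u : G) k ∧ ¬ p ∣ orderOf k) ∧ c * ((u : G) * k) * c⁻¹ = w ↔
          c * (u : G) * c⁻¹ = a ∧ k = c⁻¹ * y * c := by
      intro u k c
      constructor
      · rintro ⟨⟨-, hc, hk⟩, hcw⟩
        have h3 : BlockOrth.IsPPrimePart p w (c * k * c⁻¹) := by
          rw [← hcw]
          exact BlockOrth.IsPPrimePart.conj ⟨(u : G), rfl, hc, hord u, hk⟩ c
        have h4 : c * k * c⁻¹ = y := h3.unique ⟨a, ha, hay, hapow, hyreg⟩
        refine ⟨mul_right_cancel (b := y) ?_, by rw [← h4]; group⟩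
        rw [ha, ← hcw, ← h4]
        group
      · rintro ⟨hca, rfl⟩
        refine ⟨⟨fun h => ha1 (by rw [← hca, h]; simp), ?_, ?_⟩, ?_⟩
        · have e3 : (u : G) = c⁻¹ * a * c := by rw [← hca]; group
          rw [e3]
          show c⁻¹ * a * c * (c⁻¹ * y * c) = c⁻¹ * y * c * (c⁻¹ * a * c)
          calc _ = c⁻¹ * (a * y) * c := by group
            _ = c⁻¹ * (y * a) * c := by rw [hay.eq]
            _ = _ := by group
        · rwa [show orderOf (c⁻¹ * y * c) = orderOf y by
            simpa using orderOf_injective (MulAut.conj c⁻¹).toMonoidHom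
              (MulAut.conj c⁻¹).injective y]
        · rw [← ha, ← hca]; group
    have e2 : ∑ t ∈ T.filter (fun t => t.2.2 * ((t.1 : G) * t.2.1) * t.2.2⁻¹ = w), W t.1 =
        ∑ u : (S : Subgroup G), ∑ c : G, if c * (u : G) * c⁻¹ = a then W u else 0 := by
      rw [Finset.filter_filter, Finset.sum_filter, Fintype.sum_prod_type]
      refine Finset.sum_congr rfl fun u _ => ?_
      rw [Fintype.sum_prod_type, Finset.sum_comm]
      refine Finset.sum_congr rfl fun c _ => ?_
      rw [Finset.sum_congr rfl (g := fun k => if c * (u : G) * c⁻¹ = a ∧ k = c⁻¹ * y * c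
        then W u else 0) (fun k _ => if_congr (hiff u k c) rfl rfl)]
      simp [ite_and]
    rw [e2]
    have e4 : ∀ u : (S : Subgroup G), (∑ c : G, if c * (u : G) * c⁻¹ = a then W u else 0) =
        if IsConj (u₀ : G) u then (q : ℂ) else 0 := by
      intro u
      have hua : IsConj (u₀ : G) u ↔ IsConj (u : G) a :=
        ⟨fun h => h.symm.trans (isConj_iff.2 ⟨c₀, rfl⟩).symm,
          fun h => ((isConj_iff.2 ⟨c₀, rfl⟩ : IsConj a (u₀ : G)).symm.trans h.symm)⟩
      rw [← Finset.sum_filter, Finset.sum_const, ← Fintype.card_subtype,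
        ← Nat.card_eq_fintype_card, nsmul_eq_mul]
      split_ifs with h
      · have hu : u ≠ 1 := fun hh => by
          rw [hh] at h
          exact hu₀ (Subtype.ext (isConj_one_left.1 (by simpa using h)))
        rw [card_conj_fiber _ (hua.1 h), hnC u hu]
        simp only [W, dif_pos hu]
        push_cast
        field_simp [show (n u hu : ℂ) ≠ 0 from Nat.cast_ne_zero.2 (hn0 u hu)]
      · haveI : IsEmpty {c : G // c * (u : G) * c⁻¹ = a} :=
          ⟨fun c => h (hua.2 (isConj_iff.2 ⟨c.1, c.2⟩))⟩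
        simp
    rw [Finset.sum_congr rfl fun u _ => e4 u, ← Finset.sum_filter, Finset.sum_const,
      ← Fintype.card_subtype, ← Nat.card_eq_fintype_card, card_conj_inter' S hab hfree u₀ hu₀,
      nsmul_eq_mul, mul_comm]
  rw [← h1, Finset.mul_sum, ← Finset.sum_fiberwise_of_maps_to hmaps]
  exact Finset.sum_congr rfl fun w hw => (h2 w hw).symm

open scoped Classical in
/-- The number of `b` with `x⁻¹ (b v b⁻¹)` of order prime to `p`, by characters of the principal
block. -/
theorem regular_count (hM : IsPModular p M) (S : Sylow p G)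
    (hab : ∀ a ∈ (S : Subgroup G), ∀ b ∈ (S : Subgroup G), a * b = b * a)
    (hfree : ∀ g ∈ Subgroup.normalizer ((S : Subgroup G) : Set G), ∀ x ∈ (S : Subgroup G), x ≠ 1 →
      g * x * g⁻¹ = x → g ∈ Subgroup.centralizer ((S : Subgroup G) : Set G))
    [Fintype {χ : IrrCharacter G // χ ∈ principalBlock M G}] (x v : G) :
    (Nat.card (S : Subgroup G) : ℂ) *
        (Nat.card (S : Subgroup G).normalizerMonoidHom.range : ℂ) *
        (Nat.card {b : G // ¬ p ∣ orderOf (x⁻¹ * (b * v * b⁻¹))} : ℂ) =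
      (Nat.card G : ℂ) * ∑ i : {χ : IrrCharacter G // χ ∈ principalBlock M G},
        conj ((i.1 : G → ℂ) x) * (i.1 : G → ℂ) v / (i.1 : G → ℂ) 1 *
          ((if i.1 = principal G then (Nat.card (S : Subgroup G) : ℂ) *
              (Nat.card (S : Subgroup G).normalizerMonoidHom.range : ℂ) else 0) -
            ∑ u ∈ univ.filter (fun u : (S : Subgroup G) => u ≠ 1), (i.1 : G → ℂ) u) := by
  haveI := irrFintype G
  -- the count as a sum over the regular values
  have hG0 := card_ne_zero G
  have h1 : (Nat.card G : ℂ) *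
      (Nat.card {b : G // ¬ p ∣ orderOf (x⁻¹ * (b * v * b⁻¹))} : ℂ) =
      (Nat.card G : ℂ) * ∑ χ : IrrCharacter G, (χ : G → ℂ) x⁻¹ * (χ : G → ℂ) v / (χ : G → ℂ) 1 *
        ∑ w ∈ univ.filter (fun w : G => ¬ p ∣ orderOf w), (χ : G → ℂ) w⁻¹ := by
    calc (Nat.card G : ℂ) * (Nat.card {b : G // ¬ p ∣ orderOf (x⁻¹ * (b * v * b⁻¹))} : ℂ)
        = ∑ ab : G × G, if ¬ p ∣ orderOf ((ab.1 * x⁻¹ * ab.1⁻¹) * (ab.2 * v * ab.2⁻¹))
            then (1 : ℂ) else 0 := by
          rw [Fintype.sum_prod_type, Finset.sum_congr rfl (g := fun _ =>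
            (Nat.card {b : G // ¬ p ∣ orderOf (x⁻¹ * (b * v * b⁻¹))} : ℂ)) (fun a _ => ?_),
            Finset.sum_const, Finset.card_univ, nsmul_eq_mul, Nat.card_eq_fintype_card (α := G)]
          rw [← Finset.sum_filter, Finset.sum_const, nsmul_eq_mul, mul_one,
            ← Fintype.card_subtype, ← Nat.card_eq_fintype_card]
          refine congrArg _ (Nat.card_congr (Equiv.subtypeEquiv (Equiv.mulLeft a⁻¹) fun b => ?_))
          rw [Equiv.coe_mulLeft, not_iff_not]
          rw [show x⁻¹ * (a⁻¹ * b * v * (a⁻¹ * b)⁻¹) =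
            a⁻¹ * ((a * x⁻¹ * a⁻¹) * (b * v * b⁻¹)) * a by group]
          rw [show orderOf (a⁻¹ * ((a * x⁻¹ * a⁻¹) * (b * v * b⁻¹)) * a) =
            orderOf ((a * x⁻¹ * a⁻¹) * (b * v * b⁻¹)) by
              simpa using orderOf_injective (MulAut.conj a⁻¹).toMonoidHom
                (MulAut.conj a⁻¹).injective ((a * x⁻¹ * a⁻¹) * (b * v * b⁻¹))]
      _ = ∑ w ∈ univ.filter (fun w : G => ¬ p ∣ orderOf w), (Nat.card {ab : G × G //
            (ab.1 * x⁻¹ * ab.1⁻¹) * (ab.2 * v * ab.2⁻¹) = w} : ℂ) := by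
          rw [← Finset.sum_filter, Finset.sum_const, nsmul_eq_mul, mul_one,
            Finset.card_eq_sum_card_fiberwise (f := fun ab : G × G =>
              (ab.1 * x⁻¹ * ab.1⁻¹) * (ab.2 * v * ab.2⁻¹))
              (t := univ.filter (fun w : G => ¬ p ∣ orderOf w))
              (fun ab hab => mem_filter.2 ⟨mem_univ _, (mem_filter.1 hab).2⟩), Nat.cast_sum]
          refine Finset.sum_congr rfl fun w hw => ?_
          rw [Nat.card_eq_fintype_card, Fintype.card_subtype, Finset.filter_filter]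
          congr 2
          refine Finset.filter_congr fun ab _ => ⟨fun h => h.2, fun h => ⟨?_, h⟩⟩
          simp only at h ⊢
          rw [h]
          exact (mem_filter.1 hw).2
      _ = _ := by
          rw [Finset.sum_congr rfl fun w _ => card_conj_mul_conj x⁻¹ v w, ← Finset.mul_sum,
            Finset.sum_comm]
          refine congrArg _ (Finset.sum_congr rfl fun χ _ => ?_)
          rw [Finset.mul_sum]
          exact Finset.sum_congr rfl fun w _ => by ring
  rw [mul_left_cancel₀ hG0 h1]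
  -- only the principal block contributes
  have hreg : ∀ χ : IrrCharacter G,
      ∑ w ∈ univ.filter (fun w : G => ¬ p ∣ orderOf w), (χ : G → ℂ) w⁻¹ =
        ∑ w ∈ univ.filter (fun w : G => ¬ p ∣ orderOf w), (χ : G → ℂ) w :=
    fun χ => Finset.sum_nbij' (fun w => w⁻¹) (fun w => w⁻¹) (fun w hw => by simpa using hw)
      (fun w hw => by simpa using hw) (fun w _ => inv_inv w) (fun w _ => inv_inv w) fun w _ => rfl
  rw [← Finset.sum_subtype (univ.filter (· ∈ principalBlock M G)) (fun χ => by simp)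
    (fun χ : IrrCharacter G => conj ((χ : G → ℂ) x) * (χ : G → ℂ) v / (χ : G → ℂ) 1 *
      ((if χ = principal G then (Nat.card (S : Subgroup G) : ℂ) *
          (Nat.card (S : Subgroup G).normalizerMonoidHom.range : ℂ) else 0) -
        ∑ u ∈ univ.filter (fun u : (S : Subgroup G) => u ≠ 1), (χ : G → ℂ) u)),
    Finset.mul_sum, Finset.mul_sum, Finset.sum_filter]
  refine Finset.sum_congr rfl fun χ _ => ?_
  rw [hreg, irr_inv]
  by_cases hχ : χ ∈ principalBlock M G
  swap
  · rw [if_neg hχ]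
    rw [show ∑ w ∈ univ.filter (fun w : G => ¬ p ∣ orderOf w), (χ : G → ℂ) w = 0 by
      by_contra h; exact hχ ((CfsgLib.CharApps.mem_principalBlock_iff_regularSum hM.2.2 χ).2 h)]
    ring
  rw [if_pos hχ]
  have hall : ∑ w : G, (χ : G → ℂ) w = if χ = principal G then (Nat.card G : ℂ) else 0 := by
    have h := inner_irr χ (principal G)
    rw [inner_def, inv_mul_eq_iff_eq_mul₀ hG0] at h
    rw [Finset.sum_congr rfl (g := fun w => (χ : G → ℂ) w * conj ((principal G : G → ℂ) w))
      (fun w _ => by simp [principal_apply]), h]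
    split_ifs <;> simp
  rw [← Finset.sum_filter_add_sum_filter_not univ (fun w : G => ¬ p ∣ orderOf w)] at hall
  simp only [not_not] at hall
  have hsing := singular_sum hM S hab hfree hχ
  split_ifs at hall ⊢ with h
  · linear_combination (conj ((χ : G → ℂ) x) * (χ : G → ℂ) v / (χ : G → ℂ) 1) *
      ((Nat.card (S : Subgroup G) : ℂ) *
        (Nat.card (S : Subgroup G).normalizerMonoidHom.range : ℂ) * hall - hsing)
  · linear_combination (conj ((χ : G → ℂ) x) * (χ : G → ℂ) v / (χ : G → ℂ) 1) *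
      ((Nat.card (S : Subgroup G) : ℂ) *
        (Nat.card (S : Subgroup G).normalizerMonoidHom.range : ℂ) * hall - hsing)

/-- Outside the principal block the sum over a `p`-section vanishes. -/
theorem section_vanish (hM : IsPModular p M) (S : Sylow p G)
    (hab : ∀ a ∈ (S : Subgroup G), ∀ b ∈ (S : Subgroup G), a * b = b * a)
    (hfree : ∀ g ∈ Subgroup.normalizer ((S : Subgroup G) : Set G), ∀ x ∈ (S : Subgroup G), x ≠ 1 →
      g * x * g⁻¹ = x → g ∈ Subgroup.centralizer ((S : Subgroup G) : Set G))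
    [DecidableEq G] {z : G} (hz : z ∈ (S : Subgroup G)) (hz1 : z ≠ 1) {χ : IrrCharacter G}
    (hχ : χ ∉ principalBlock M G) :
    ∑ k ∈ univ.filter (fun k : G => k * z = z * k ∧ ¬ p ∣ orderOf k), (χ : G → ℂ) (z * k) = 0 := by
  classical
  set C := Subgroup.centralizer ({z} : Set G) with hC
  obtain ⟨K, hKn, hKp, ⟨n, hKi⟩, -, hKmem⟩ := exists_complement S hab hfree hz hz1
  have hzord : ∃ j, orderOf z = p ^ j := by
    obtain ⟨j, hj⟩ := S.2.exists_card_eq
    obtain ⟨i, -, hi⟩ := (Nat.dvd_prime_pow (Fact.out : p.Prime)).1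
      (hj ▸ Subgroup.orderOf_dvd_natCard (S : Subgroup G) hz)
    exact ⟨i, hi⟩
  have h1 : ¬ p ∣ orderOf (1 : C) := by
    rw [orderOf_one]; exact (Fact.out : p.Prime).not_dvd_one
  haveI : Fintype C := Fintype.ofFinite _
  have h := blockPart_principalBlock_centralizer hM (isClassFunction_irr χ) hzord (y := (1 : C)) h1
  rw [blockPart_eq_sum _ (isClassFunction_irr χ), sum_mul_blockCoeff, if_neg hχ,
    blockPart_eq_sum _ (isClassFunction_mul_left (z := z) (isClassFunction_irr χ))] at h
  have hb : blockCoeff (principalBlock M C) = avgInd K := by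
    refine (eq_blockCoeff (isClassFunction_avgInd K) fun ξ => ?_).symm
    have h' := mem_principalBlock_iff_of_pow_index hM.2.2 hKp hKi ξ
    rw [← omega_avgInd_eq_one_iff] at h'
    rcases omega_avgInd_eq_zero_or_one K ξ with h0 | h0
    · rw [h0, if_neg fun hm => zero_ne_one (h0 ▸ h'.1 hm)]
    · rw [h0, if_pos (h'.2 h0)]
  rw [hb] at h
  simp only [avgInd_apply, mul_one, ite_mul, zero_mul] at h
  rw [← Finset.sum_filter, ← Finset.mul_sum, eq_comm, mul_eq_zero] at h
  replace h := h.resolve_left (inv_ne_zero (Nat.cast_ne_zero.2 Nat.card_pos.ne'))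
  rw [← h]
  refine Finset.sum_bij'
    (fun k hk => (⟨k, Subgroup.mem_centralizer_singleton_iff.2 (mem_filter.1 hk).2.1⟩ : C))
    (fun c _ => (c : G)) (fun k hk => mem_filter.2 ⟨mem_univ _, (hKmem _).2 (mem_filter.1 hk).2.2⟩)
    (fun c hc => mem_filter.2 ⟨mem_univ _, Subgroup.mem_centralizer_singleton_iff.1 c.2,
      (hKmem _).1 (mem_filter.1 hc).2⟩) (fun _ _ => rfl) (fun _ _ => rfl) fun _ _ => rfl

open scoped Classical in
/-- The relation coming from an element of order above `p`. -/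
theorem section_relation (hM : IsPModular p M) (S : Sylow p G)
    (hab : ∀ a ∈ (S : Subgroup G), ∀ b ∈ (S : Subgroup G), a * b = b * a)
    (hfree : ∀ g ∈ Subgroup.normalizer ((S : Subgroup G) : Set G), ∀ x ∈ (S : Subgroup G), x ≠ 1 →
      g * x * g⁻¹ = x → g ∈ Subgroup.centralizer ((S : Subgroup G) : Set G))
    (hP : Pairs p G) [Fintype {χ : IrrCharacter G // χ ∈ principalBlock M G}]
    {x z : G} (hx : orderOf x = p) (hz : z ∈ (S : Subgroup G)) (hzp : z ^ p ≠ 1) :
    ∑ i : {χ : IrrCharacter G // χ ∈ principalBlock M G},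
      conj ((i.1 : G → ℂ) x) * (i.1 : G → ℂ) x * conj ((i.1 : G → ℂ) z) / (i.1 : G → ℂ) 1 = 0 := by
  haveI := irrFintype G
  have hz1 : z ≠ 1 := fun h => hzp (by rw [h, one_pow])
  have hzk : ∀ χ ∈ principalBlock M G, ∀ k : G, k * z = z * k → ¬ p ∣ orderOf k →
      (χ : G → ℂ) (z * k) = (χ : G → ℂ) z := fun χ hχ k hk hk' =>
    (principal_column (M := M) hM S hab hfree hz hz1).1 χ hχ k hk.symm hk'
  obtain ⟨j, hj⟩ := S.2 ⟨z, hz⟩
  have hzj : z ^ p ^ j = 1 := by simpa using congrArg Subtype.val hj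
  have h0 : ∀ k : G, k * z = z * k → ¬ p ∣ orderOf k →
      ∑ χ : IrrCharacter G,
        (χ : G → ℂ) x⁻¹ * (χ : G → ℂ) x * conj ((χ : G → ℂ) (z * k)) / (χ : G → ℂ) 1 = 0 := by
    intro k hk hk'
    have hc := card_conj_mul_conj x⁻¹ x (z * k)
    haveI : IsEmpty {ab : G × G //
        (ab.1 * x⁻¹ * ab.1⁻¹) * (ab.2 * x * ab.2⁻¹) = z * k} := ⟨fun ab => by
      have hoa : ∀ a : G, orderOf (a * x * a⁻¹) = p := fun a => by
        rw [← hx]; exact orderOf_injective (MulAut.conj a).toMonoidHom (MulAut.conj a).injective x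
      exact section_absurd S hab hP (hoa ab.1.1) (hoa ab.1.2) hk.symm hk' ⟨j, hzj⟩ hzp
        (Eq.trans (by group) ab.2)⟩
    rw [Nat.card_of_isEmpty, Nat.cast_zero, eq_comm, mul_eq_zero] at hc
    rw [← hc.resolve_left (card_ne_zero G)]
    exact Finset.sum_congr rfl fun χ _ => by rw [irr_inv χ (z * k)]
  obtain ⟨K0, hK0⟩ : ∃ K0 : Finset G,
      K0 = univ.filter (fun k : G => k * z = z * k ∧ ¬ p ∣ orderOf k) := ⟨_, rfl⟩
  have h1 : ∑ k ∈ K0, ∑ χ : IrrCharacter G,
      (χ : G → ℂ) x⁻¹ * (χ : G → ℂ) x * conj ((χ : G → ℂ) (z * k)) / (χ : G → ℂ) 1 = 0 :=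
    Finset.sum_eq_zero fun k hk => by
      rw [hK0] at hk
      exact h0 k (mem_filter.1 hk).2.1 (mem_filter.1 hk).2.2
  rw [Finset.sum_comm] at h1
  have h2 : ∀ χ : IrrCharacter G, ∑ k ∈ K0,
      (χ : G → ℂ) x⁻¹ * (χ : G → ℂ) x * conj ((χ : G → ℂ) (z * k)) / (χ : G → ℂ) 1 =
      (K0.card : ℂ) * if χ ∈ principalBlock M G then
        conj ((χ : G → ℂ) x) * (χ : G → ℂ) x * conj ((χ : G → ℂ) z) / (χ : G → ℂ) 1 else 0 := by
    intro χ
    rw [irr_inv, ← Finset.sum_div, ← Finset.mul_sum, ← map_sum, hK0]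
    by_cases hχ : χ ∈ principalBlock M G
    · rw [if_pos hχ, Finset.sum_congr rfl fun k hk =>
        hzk χ hχ k (mem_filter.1 hk).2.1 (mem_filter.1 hk).2.2, Finset.sum_const, nsmul_eq_mul,
        map_mul, map_natCast]
      ring
    · rw [if_neg hχ, section_vanish hM S hab hfree hz hz1 hχ, map_zero]
      simp
  rw [Finset.sum_congr rfl fun χ _ => h2 χ, ← Finset.mul_sum, mul_eq_zero, ← Finset.sum_filter,
    Finset.sum_subtype (univ.filter (· ∈ principalBlock M G))
      (p := (· ∈ principalBlock M G)) (fun χ => by simp)] at h1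
  refine h1.resolve_left (Nat.cast_ne_zero.2 (Finset.card_ne_zero.2 ⟨1, ?_⟩))
  rw [hK0]
  simp [(Fact.out : p.Prime).ne_one]

/-! ### Nontrivial characters of a simple group -/

theorem irr_apply_ne_degree [IsSimpleGroup G] {χ : IrrCharacter G} (hχ : χ ≠ principal G) {u : G}
    (hu : u ≠ 1) : (χ : G → ℂ) u ≠ (χ : G → ℂ) 1 := by
  classical
  intro h
  rcases (charKer_normal χ).eq_bot_or_eq_top with hb | ht
  · exact hu (Subgroup.mem_bot.1 (hb ▸ (mem_charKer.2 h : u ∈ charKer χ)))
  · refine irr_degree_ne_zero χ.2 ?_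
    have h1 := inner_irr χ (principal G)
    rw [if_neg hχ, inner_def, mul_eq_zero] at h1
    have h2 := h1.resolve_left (inv_ne_zero (card_ne_zero G))
    rw [Finset.sum_congr rfl (g := fun _ => (χ : G → ℂ) 1) (fun g _ => by
      rw [principal_apply, map_one, mul_one, mem_charKer.1 (ht ▸ Subgroup.mem_top g)]),
      Finset.sum_const, nsmul_eq_mul, Finset.card_univ] at h2
    exact (mul_eq_zero.1 h2).resolve_left (Nat.cast_ne_zero.2 Fintype.card_ne_zero)

/-- An integral value is at most the degree, and smaller unless the element is in the kernel. -/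
theorem int_value_lt [IsSimpleGroup G] {χ : IrrCharacter G} (hχ : χ ≠ principal G) {u : G}
    (hu : u ≠ 1) {a : ℤ} (ha : (χ : G → ℂ) u = (a : ℂ)) :
    a < (charDegree (χ : G → ℂ) : ℤ) := by
  have hd := deg_eq χ
  have hle := char_norm_le (isCharacter_of_irr χ.2) u
  rw [ha, hd, Complex.norm_intCast, Complex.natCast_re] at hle
  refine lt_of_le_of_ne ?_ fun h => irr_apply_ne_degree hχ hu ?_
  · exact_mod_cast (le_abs_self (a : ℝ)).trans hle
  · rw [ha, hd, h, Int.cast_natCast]

/-! ### One class -/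

open scoped Classical in
/-- A simple group with an abelian Sylow subgroup of odd order with free automizer transitive on
its nontrivial elements has two elements of order `p` generating a non `p`-solvable subgroup. -/
theorem one_class_false [IsSimpleGroup G] (S : Sylow p G) (hp : p ≠ 2)
    (hab : ∀ a ∈ (S : Subgroup G), ∀ b ∈ (S : Subgroup G), a * b = b * a)
    (hfree : ∀ g ∈ Subgroup.normalizer ((S : Subgroup G) : Set G), ∀ x ∈ (S : Subgroup G), x ≠ 1 →
      g * x * g⁻¹ = x → g ∈ Subgroup.centralizer ((S : Subgroup G) : Set G))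
    (hS : (S : Subgroup G) ≠ ⊥)
    (hone : ∀ u v : (S : Subgroup G), u ≠ 1 → v ≠ 1 → IsConj (u : G) v)
    (hP : Pairs p G) : False := by
  obtain ⟨M, hM⟩ := exists_pModular p
  haveI : M.IsPrime := hM.2.1.isPrime
  haveI := irrFintype G
  set q := Nat.card (S : Subgroup G) with hq
  set e := Nat.card (S : Subgroup G).normalizerMonoidHom.range
  obtain ⟨k, hk⟩ := IsPGroup.iff_card.1 S.2
  have hk0 : k ≠ 0 := fun h => hS ((Subgroup.card_eq_one).1 (by rw [hk, h, pow_zero]))
  have hp3 : 3 ≤ p := by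
    have := (Fact.out : p.Prime).two_le; omega
  have hpq : p ≤ q := by rw [hq, hk]; exact Nat.le_self_pow hk0 p
  obtain ⟨x, hx⟩ := exists_prime_orderOf_dvd_card' p ((dvd_pow_self p hk0).trans hk.symm.dvd)
  have hx1 : x ≠ 1 := fun h => by rw [h, orderOf_one] at hx; omega
  have hxG : orderOf (x : G) = p := by rwa [Subgroup.orderOf_coe]
  have hxG1 : (x : G) ≠ 1 := fun h => hx1 (Subtype.ext h)
  -- the automizer has order `q - 1`
  have he : e + 1 = q := by
    have h1 := card_conj_inter' S hab hfree x hx1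
    rw [Nat.card_congr (Equiv.subtypeEquivRight (q := fun v : (S : Subgroup G) => v ≠ 1)
      (fun v => ⟨fun h hv => hxG1 (by simpa [hv] using h), hone x v hx1⟩)),
      Nat.card_eq_fintype_card, Fintype.card_subtype_compl, Fintype.card_subtype_eq,
      ← Nat.card_eq_fintype_card] at h1
    have : 0 < q := Nat.card_pos
    omega
  haveI : Fintype {χ : IrrCharacter G // χ ∈ principalBlock M G} := Fintype.ofFinite _
  set ι := {χ : IrrCharacter G // χ ∈ principalBlock M G}
  let P0 : ι := ⟨principal G, principal_mem_principalBlock M⟩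
  -- the values are integers
  have hconst : ∀ (i : ι) (u : (S : Subgroup G)), u ≠ 1 → (i.1 : G → ℂ) u = (i.1 : G → ℂ) x := by
    intro i u hu
    obtain ⟨c, hc⟩ := isConj_iff.1 (hone x u hx1 hu)
    rw [← hc, isClassFunction_irr i.1]
  have hsum : ∀ i : ι, ∑ u ∈ univ.filter (fun u : (S : Subgroup G) => u ≠ 1), (i.1 : G → ℂ) u =
      (e : ℂ) * (i.1 : G → ℂ) x := by
    intro i
    rw [Finset.sum_congr rfl fun u hu => hconst i u (mem_filter.1 hu).2, Finset.sum_const,
      nsmul_eq_mul, Finset.filter_ne', Finset.card_erase_of_mem (mem_univ _), Finset.card_univ,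
      ← Nat.card_eq_fintype_card]
    congr 2
    omega
  have hint : ∀ i : ι, ∃ v m : ℤ, (i.1 : G → ℂ) x = (v : ℂ) ∧
      (charDegree (i.1 : G → ℂ) : ℤ) = (q : ℤ) * m + v := by
    intro i
    haveI := irrFintype (S : Subgroup G)
    obtain ⟨m0, hm0⟩ := inner_irr_right_nat
      (isCharacter_restrict (S : Subgroup G) (isCharacter_of_irr i.1.2)) (principal (S : Subgroup G))
    rw [inner_def, inv_mul_eq_iff_eq_mul₀ (card_ne_zero _)] at hm0
    simp only [principal_apply, map_one, mul_one] at hm0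
    rw [← Finset.add_sum_erase _ _ (mem_univ (1 : (S : Subgroup G))), ← Finset.filter_ne', hsum,
      Subgroup.coe_one, deg_eq] at hm0
    have he0 : (e : ℂ) ≠ 0 := Nat.cast_ne_zero.2 Nat.card_pos.ne'
    obtain ⟨v, hv⟩ := exists_int_of_rat (char_isIntegral (isCharacter_of_irr i.1.2) (x : G))
      ⟨((q : ℚ) * m0 - charDegree (i.1 : G → ℂ)) / e, by
        push_cast; rw [div_eq_iff he0]; linear_combination -hm0⟩
    refine ⟨v, (m0 : ℤ) - v, hv.symm, ?_⟩
    rw [← hv] at hm0
    have h' : (charDegree (i.1 : G → ℂ) : ℤ) + e * v = (q : ℤ) * m0 := by exact_mod_cast hm0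
    have heq : (e : ℤ) + 1 = q := by exact_mod_cast he
    linear_combination h' - v * heq
  choose v m hv hdeg using hint
  have hv0 : v P0 = 1 := by
    have := hv P0
    simp only [P0, principal_apply] at this
    exact_mod_cast this.symm
  have hd0 : charDegree (principal G : G → ℂ) = 1 := (deg_eq_one_iff (principal G)).mp (principal_apply 1)
  -- orthogonality
  have hsq : ∑ i : ι, v i * v i = (q : ℤ) := by
    have h := principal_orth hM S hab hfree (u := x) (v := x) hx1 hx1
    rw [Finset.card_eq_one.2 ⟨1, ?_⟩, Nat.cast_one, mul_one] at h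
    · simp only [hv, map_intCast] at h
      exact_mod_cast h
    · refine Finset.eq_singleton_iff_unique_mem.2 ⟨mem_filter.2 ⟨mem_univ _, rfl⟩, fun σ hσ => ?_⟩
      refine (card_conj_inter S hab hfree x hx1).1 (Subtype.ext ?_)
      show (σ : MulAut (S : Subgroup G)) x = x
      exact (mem_filter.1 hσ).2
  have hlin : ∑ i : ι, (charDegree (i.1 : G → ℂ) : ℤ) * v i = 0 := by
    have h := principal_deg (M := M) hM (g := (1 : G)) (u := (x : G))
      (by simp [(Fact.out : p.Prime).ne_one]) ⟨1, by rw [pow_one]; exact pow_p_eq_one hxG⟩ hxG1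
    simp only [deg_eq, hv] at h
    exact_mod_cast h
  -- the count
  set N := Nat.card {b : G // ¬ p ∣ orderOf ((x : G)⁻¹ * (b * (x : G) * b⁻¹))}
  have hN : (p - 1) * N ≤ Nat.card G := by
    let V := {w : G // w ∈ Subgroup.zpowers (x : G) ∧ w ≠ 1}
    have hVS : ∀ w : V, (w.1 : G) ∈ (S : Subgroup G) := fun w =>
      (Subgroup.zpowers_le.2 x.2) w.2.1
    have hV : ∀ w : V, Nat.card {b : G // ¬ p ∣ orderOf (w.1⁻¹ * (b * (x : G) * b⁻¹))} = N := by
      intro w
      obtain ⟨c, hc⟩ := isConj_iff.1 (hone x ⟨w.1, hVS w⟩ hx1 fun h => w.2.2 (congrArg Subtype.val h))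
      refine Nat.card_congr (Equiv.subtypeEquiv (Equiv.mulLeft c⁻¹) fun b => ?_)
      rw [Equiv.coe_mulLeft, not_iff_not, show (w.1 : G) = c * x * c⁻¹ from hc.symm]
      rw [show (c * (x : G) * c⁻¹)⁻¹ * (b * x * b⁻¹) =
        c * ((x : G)⁻¹ * (c⁻¹ * b * x * (c⁻¹ * b)⁻¹)) * c⁻¹ by group]
      rw [show orderOf (c * ((x : G)⁻¹ * (c⁻¹ * b * x * (c⁻¹ * b)⁻¹)) * c⁻¹) =
        orderOf ((x : G)⁻¹ * (c⁻¹ * b * x * (c⁻¹ * b)⁻¹)) from
          orderOf_injective (MulAut.conj c).toMonoidHom (MulAut.conj c).injective _]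
    have hcardV : Nat.card V = p - 1 := by
      rw [Nat.card_congr (Equiv.subtypeSubtypeEquivSubtypeInter (fun w => w ∈ Subgroup.zpowers (x : G))
        (fun w => w ≠ 1)).symm, Nat.card_eq_fintype_card,
        show Fintype.card {w : {w // w ∈ Subgroup.zpowers (x : G)} // (w : G) ≠ 1} =
          Fintype.card {w : Subgroup.zpowers (x : G) // w ≠ 1} from
          Fintype.card_congr (Equiv.subtypeEquivRight fun w => not_congr
            ⟨fun h => Subtype.ext h, fun h => congrArg Subtype.val h⟩),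
        Fintype.card_subtype_compl, Fintype.card_subtype_eq, ← Nat.card_eq_fintype_card,
        Nat.card_zpowers, hxG]
    haveI : Fintype V := Fintype.ofFinite _
    have h1 : Nat.card (Σ w : V, {b : G // ¬ p ∣ orderOf (w.1⁻¹ * (b * (x : G) * b⁻¹))}) ≤
        Nat.card G := by
      refine Nat.card_le_card_of_injective (fun s => s.2.1) fun s t hst => ?_
      obtain ⟨w, b, hb⟩ := s
      obtain ⟨w', b', hb'⟩ := t
      dsimp only at hst
      subst hst
      obtain rfl : w = w' := Subtype.ext (regular_unique S hab hP hxG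
        ((orderOf_injective (MulAut.conj b).toMonoidHom (MulAut.conj b).injective (x : G)).trans hxG) w.2.1 w'.2.1 hb hb')
      rfl
    rw [Nat.card_sigma, Finset.sum_congr rfl fun w _ => hV w, Finset.sum_const, Finset.card_univ,
      smul_eq_mul, ← Nat.card_eq_fintype_card, hcardV] at h1
    exact h1
  have hcount := regular_count hM S hab hfree (x : G) (x : G)
  simp only [hsum, hv, map_intCast, deg_eq] at hcount
  -- in real numbers
  set d : ι → ℝ := fun i => ((charDegree (i.1 : G → ℂ) : ℕ) : ℝ) with hd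
  have hdpos : ∀ i, 0 < d i := fun i => Nat.cast_pos.2 (deg_pos i.1)
  have hcount' : (q : ℝ) * e * N = (Nat.card G : ℝ) *
      ((q : ℝ) * e - e * ∑ i : ι, (v i : ℝ) ^ 3 / d i) := by
    apply Complex.ofReal_injective
    push_cast
    rw [hcount]
    congr 1
    rw [Finset.mul_sum]
    have : (q : ℂ) * e = ∑ i : ι, if i = P0 then (q : ℂ) * e else 0 := by
      rw [Fintype.sum_eq_single P0 (fun b hb => if_neg hb), if_pos rfl]
    conv_rhs => arg 1; rw [this]
    rw [← Finset.sum_sub_distrib]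
    refine Finset.sum_congr rfl fun i _ => ?_
    simp only [hd, Complex.ofReal_natCast, ← deg_eq]
    by_cases hi : i = P0
    · subst hi
      rw [if_pos rfl, if_pos rfl, show (P0.1 : G → ℂ) 1 = 1 from principal_apply 1, hv0]
      push_cast
      ring
    · rw [if_neg hi, if_neg fun h => hi (Subtype.ext h)]
      ring
  -- the bound on the nontrivial characters
  rw [← Finset.add_sum_erase _ _ (mem_univ P0), hv0] at hsq hlin
  rw [← Finset.add_sum_erase _ _ (mem_univ P0), hv0, show d P0 = 1 by simp [hd, P0, hd0]] at hcount'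
  set T := univ.erase P0
  have hq3 : (3 : ℝ) ≤ q := by exact_mod_cast hp3.trans hpq
  have hterm : ∀ i ∈ T, (v i : ℝ) ^ 3 / d i ≤ ((q : ℝ) - 1) / (3 * q - 1) * ((v i * v i : ℤ) : ℝ) := by
    intro i hi
    have hi0 : i ≠ P0 := (mem_erase.1 hi).1
    have hlt := int_value_lt (fun h => hi0 (Subtype.ext h)) hxG1 (hv i)
    rw [hdeg i] at hlt
    have hv2 : 2 * v i ≤ (q : ℤ) - 1 := by
      have hle := Finset.single_le_sum (f := fun j => v j * v j)
        (fun j _ => mul_self_nonneg _) hi
      nlinarith [sq_nonneg ((q : ℤ) - 2)]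
    rw [div_le_iff₀ (hdpos i)]
    have hdi : d i = (q : ℝ) * (m i) + v i := by
      simp only [hd]; exact_mod_cast hdeg i
    rw [div_mul_eq_mul_div, div_mul_eq_mul_div, le_div_iff₀ (by linarith)]
    rcases le_or_gt (v i) 0 with h | h
    · have h' : (v i : ℝ) ≤ 0 := by exact_mod_cast h
      have h1 : (v i : ℝ) ^ 3 * (3 * q - 1) ≤ 0 := by
        refine mul_nonpos_of_nonpos_of_nonneg ?_ (by linarith)
        nlinarith [sq_nonneg (v i : ℝ)]
      refine h1.trans (mul_nonneg (mul_nonneg (by linarith) ?_) (hdpos i).le)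
      exact_mod_cast mul_self_nonneg (v i)
    · have hm : (1 : ℤ) ≤ m i := by nlinarith
      have hm' : (1 : ℝ) ≤ m i := by exact_mod_cast hm
      have h' : (0 : ℝ) < v i := by exact_mod_cast h
      have hv2' : 2 * (v i : ℝ) ≤ q - 1 := by exact_mod_cast hv2
      rw [hdi]
      push_cast
      have hkey : 0 ≤ ((q : ℝ) - 1) * (q * m i + v i) - v i * (3 * q - 1) := by
        nlinarith [mul_le_mul_of_nonneg_left hm'
            (mul_nonneg (by linarith : (0 : ℝ) ≤ q) (by linarith : (0 : ℝ) ≤ (q : ℝ) - 1)),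
          mul_le_mul_of_nonneg_left hv2' (by linarith : (0 : ℝ) ≤ q)]
      nlinarith [mul_nonneg hkey (mul_nonneg h'.le h'.le)]
  have hneg : ∃ i ∈ T, v i < 0 := by
    by_contra hcon
    push Not at hcon
    have := Finset.sum_nonneg (s := T) (f := fun i => (charDegree (i.1 : G → ℂ) : ℤ) * v i)
      fun i hi => mul_nonneg (Int.natCast_nonneg _) (hcon i hi)
    simp only [P0, hd0] at hlin
    push_cast at hlin
    linarith
  have hstrict : ∑ i ∈ T, (v i : ℝ) ^ 3 / d i <
      ((q : ℝ) - 1) / (3 * q - 1) * ((q : ℝ) - 1) := by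
    have hsum' : ∑ i ∈ T, ((v i * v i : ℤ) : ℝ) = (q : ℝ) - 1 := by
      have : ∑ i ∈ T, v i * v i = (q : ℤ) - 1 := by linarith
      rw [← Int.cast_sum, this]; push_cast; ring
    conv_rhs => arg 2; rw [← hsum']
    rw [Finset.mul_sum]
    obtain ⟨i, hi, hineg⟩ := hneg
    refine Finset.sum_lt_sum hterm ⟨i, hi, ?_⟩
    have h' : (v i : ℝ) < 0 := by exact_mod_cast hineg
    refine lt_of_lt_of_le (div_neg_of_neg_of_pos ?_ (hdpos i)) ?_
    · nlinarith [mul_pos_of_neg_of_neg h' h']
    · refine mul_nonneg (div_nonneg (by linarith) (by linarith)) ?_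
      exact_mod_cast mul_self_nonneg (v i)
  have heq : (e : ℝ) + 1 = q := by exact_mod_cast he
  have hN' : ((p : ℝ) - 1) * N ≤ Nat.card G := by
    rw [← Nat.cast_one, ← Nat.cast_sub (by omega)]
    exact_mod_cast hN
  have hG : (0 : ℝ) < Nat.card G := by exact_mod_cast Nat.card_pos
  have he0 : (0 : ℝ) < e := by linarith
  have hN'' : (q : ℝ) * N = Nat.card G * ((q : ℝ) - (1 + ∑ i ∈ T, (v i : ℝ) ^ 3 / d i)) := by
    refine mul_left_cancel₀ he0.ne' ?_
    push_cast at hcount'
    linear_combination hcount'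
  have hp3' : (3 : ℝ) ≤ p := by exact_mod_cast hp3
  generalize ∑ i ∈ T, (v i : ℝ) ^ 3 / d i = s at *
  have h3 : ((p : ℝ) - 1) * ((q : ℝ) - 1 - s) ≤ q := by
    by_contra hcon
    nlinarith [mul_lt_mul_of_pos_left (lt_of_not_ge hcon) hG]
  have h4 : s * (3 * q - 1) < ((q : ℝ) - 1) * (q - 1) := by
    rw [div_mul_eq_mul_div, lt_div_iff₀ (by linarith)] at hstrict
    exact hstrict
  have h5 : ((q : ℝ) - 1 - s) * (3 * q - 1) > 2 * q * (q - 1) := by nlinarith
  have h6 : (2 : ℝ) * ((q : ℝ) - 1 - s) ≤ q := by nlinarith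
  nlinarith

/-! ### Cyclic Sylow subgroups -/

theorem free_of_cyclic (S : Sylow p G) (hS : IsCyclic (S : Subgroup G)) :
    ∀ g ∈ Subgroup.normalizer ((S : Subgroup G) : Set G), ∀ x ∈ (S : Subgroup G), x ≠ 1 →
      g * x * g⁻¹ = x → g ∈ Subgroup.centralizer ((S : Subgroup G) : Set G) := by
  intro g hg x hx hx1 hfix
  have hp : p.Prime := Fact.out
  obtain ⟨⟨s, hs⟩, hgen⟩ := IsCyclic.exists_generator (α := (S : Subgroup G))
  obtain ⟨r, hr⟩ := Subgroup.mem_zpowers_iff.1
    (hgen ⟨g * s * g⁻¹, (Subgroup.mem_normalizer_iff.1 hg s).1 hs⟩)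
  replace hr : s ^ r = g * s * g⁻¹ := by simpa using congrArg Subtype.val hr
  obtain ⟨i, hi⟩ := Subgroup.mem_zpowers_iff.1 (hgen ⟨x, hx⟩)
  replace hi : s ^ i = x := by simpa using congrArg Subtype.val hi
  obtain ⟨n, hn⟩ := S.2 ⟨s, hs⟩
  have hsn : s ^ p ^ n = 1 := by simpa using congrArg Subtype.val hn
  -- `r ≡ 1 (mod p)`
  have h1 : x ^ r = x := by
    calc x ^ r = (s ^ r) ^ i := by rw [← hi, ← zpow_mul, ← zpow_mul, mul_comm]
      _ = g * s ^ i * g⁻¹ := by rw [hr, conj_zpow]
      _ = x := by rw [hi, hfix]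
  have hpr : (p : ℤ) ∣ r - 1 := by
    have h2 : x ^ (r - 1) = 1 := by rw [zpow_sub_one, h1, mul_inv_cancel]
    obtain ⟨k, hk⟩ := S.2 ⟨x, hx⟩
    have hxk : x ^ p ^ k = 1 := by simpa using congrArg Subtype.val hk
    exact dvd_trans (Int.natCast_dvd_natCast.2 (singular_of_pow_eq_one hxk hx1))
      (orderOf_dvd_iff_zpow_eq_one.2 h2)
  have hpow : ∀ j : ℕ, g ^ j * s * (g ^ j)⁻¹ = s ^ (r ^ j) := by
    intro j
    induction j with
    | zero => simp
    | succ j ih =>
      calc g ^ (j + 1) * s * (g ^ (j + 1))⁻¹ = g * (g ^ j * s * (g ^ j)⁻¹) * g⁻¹ := by group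
        _ = g * s ^ (r ^ j) * g⁻¹ := by rw [ih]
        _ = (g * s * g⁻¹) ^ (r ^ j) := by rw [conj_zpow]
        _ = _ := by rw [← hr, ← zpow_mul, pow_succ']
  have hgp : g ^ p ^ n ∈ Subgroup.centralizer ((S : Subgroup G) : Set G) := by
    have h2 : g ^ p ^ n * s * (g ^ p ^ n)⁻¹ = s := by
      rw [hpow]
      have hd : ((orderOf s : ℕ) : ℤ) ∣ r ^ (p ^ n) - 1 := by
        have h3 := dvd_sub_pow_of_dvd_sub (R := ℤ) (p := p) (a := r) (b := 1) hpr n
        rw [one_pow] at h3
        refine dvd_trans ?_ h3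
        rw [← Nat.cast_pow]
        exact Int.natCast_dvd_natCast.2
          ((orderOf_dvd_of_pow_eq_one hsn).trans (pow_dvd_pow p (Nat.le_succ n)))
      have h4 := orderOf_dvd_iff_zpow_eq_one.1 hd
      rwa [zpow_sub_one, mul_inv_eq_one] at h4
    intro a ha
    obtain ⟨j, hj⟩ := Subgroup.mem_zpowers_iff.1 (hgen ⟨a, ha⟩)
    replace hj : s ^ j = a := by simpa using congrArg Subtype.val hj
    have : Commute (g ^ p ^ n) s := mul_inv_eq_iff_eq_mul.1 h2
    rw [← hj]
    exact ((this.zpow_right j).eq).symm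
  set C := Subgroup.centralizer ((S : Subgroup G) : Set G)
  set N := Subgroup.normalizer ((S : Subgroup G) : Set G)
  haveI : (C.subgroupOf N).Normal := by
    rw [← Subgroup.normalizerMonoidHom_ker]; infer_instance
  have hidx : ¬ p ∣ (C.subgroupOf N).index := by
    intro hd
    have hSC : (S : Subgroup G) ≤ C := fun a ha b hb => congrArg Subtype.val
      (IsCyclic.commGroup.mul_comm (⟨b, hb⟩ : (S : Subgroup G)) ⟨a, ha⟩)
    refine S.not_dvd_index (hd.trans ?_)
    refine dvd_trans ?_ (Subgroup.index_dvd_of_le hSC)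
    have hCN : C ≤ N := fun c hc => Subgroup.mem_normalizer_iff.2 fun a => by
      constructor
      · intro ha
        rwa [← hc a ha, mul_inv_cancel_right]
      · intro ha
        have h3 := hc _ ha
        have : a = c * a * c⁻¹ := by
          calc a = c⁻¹ * (c * a * c⁻¹ * c) := by group
            _ = c⁻¹ * (c * (c * a * c⁻¹)) := by rw [h3]
            _ = _ := by group
        rwa [this]
    exact Subgroup.relIndex_dvd_index_of_le hCN |>.trans dvd_rfl
  have h5 := Subgroup.pow_index_mem (C.subgroupOf N) (⟨g, hg⟩ : N)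
  have h6 : g ^ Nat.gcd (p ^ n) (C.subgroupOf N).index ∈ C := by
    rw [← zpow_natCast, Nat.gcd_eq_gcd_ab, zpow_add, zpow_mul, zpow_mul, zpow_natCast, zpow_natCast]
    exact C.mul_mem (C.zpow_mem hgp _) (C.zpow_mem (Subgroup.mem_subgroupOf.1 h5) _)
  rwa [((hp.coprime_iff_not_dvd.2 hidx).pow_left n).gcd_eq_one, pow_one] at h6

open scoped Classical in
/-- A nonabelian simple group with cyclic Sylow `p`-subgroups has two elements of order `p`
generating a non `p`-solvable subgroup. -/
theorem cyclic_false [IsSimpleGroup G] (hG : ¬ IsMulCommutative G) (S : Sylow p G)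
    (hS : IsCyclic (S : Subgroup G)) (hS1 : (S : Subgroup G) ≠ ⊥) (hP : Pairs p G) : False := by
  have hab : ∀ a ∈ (S : Subgroup G), ∀ b ∈ (S : Subgroup G), a * b = b * a := fun a ha b hb =>
    congrArg Subtype.val (IsCyclic.commGroup.mul_comm (⟨a, ha⟩ : (S : Subgroup G)) ⟨b, hb⟩)
  have hfree := free_of_cyclic S hS
  have hpp : p.Prime := Fact.out
  obtain ⟨M, hM⟩ := exists_pModular p
  haveI : M.IsPrime := hM.2.1.isPrime
  haveI := irrFintype G
  haveI := irrFintype (S : Subgroup G)
  set q := Nat.card (S : Subgroup G) with hq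
  set E := (S : Subgroup G).normalizerMonoidHom.range
  set e := Nat.card E with he
  obtain ⟨k, hk⟩ := IsPGroup.iff_card.1 S.2
  have hk0 : k ≠ 0 := fun h => hS1 ((Subgroup.card_eq_one).1 (by rw [hk, h, pow_zero]))
  obtain ⟨x, hx⟩ := exists_prime_orderOf_dvd_card' p ((dvd_pow_self p hk0).trans hk.symm.dvd)
  have hx1 : x ≠ 1 := fun h => by rw [h, orderOf_one] at hx; exact hpp.ne_one hx.symm
  have hxG : orderOf (x : G) = p := by rwa [Subgroup.orderOf_coe]
  have hxG1 : (x : G) ≠ 1 := fun h => hx1 (Subtype.ext h)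
  have huniq : ∀ w : (S : Subgroup G), w ^ p = 1 → w ∈ Subgroup.zpowers x := by
    intro w hw
    rcases eq_or_ne w 1 with rfl | hw1
    · exact one_mem _
    haveI := hS
    exact mem_zpowers_of_cyclic hx hw
  have hsub : ∀ w : {v : (S : Subgroup G) // IsConj (x : G) v},
      w.1 ∈ Subgroup.zpowers x ∧ w.1 ≠ 1 := by
    intro w
    obtain ⟨c, hc⟩ := isConj_iff.1 w.2
    have ho : orderOf w.1 = p := by
      rw [← Subgroup.orderOf_coe, ← hc]
      exact (orderOf_injective (MulAut.conj c).toMonoidHom (MulAut.conj c).injective (x : G)).trans hxG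
    exact ⟨huniq _ (pow_p_eq_one ho), fun h => hpp.ne_one (by rw [← ho, h, orderOf_one])⟩
  let toZ : {v : (S : Subgroup G) // IsConj (x : G) v} → {w : Subgroup.zpowers x // w ≠ 1} :=
    fun v => ⟨⟨v.1, (hsub v).1⟩, fun h => (hsub v).2 (congrArg Subtype.val h)⟩
  have htoZ : Function.Injective toZ := fun a b h => Subtype.ext
    (congrArg (fun w : {w : Subgroup.zpowers x // w ≠ 1} => (w.1 : (S : Subgroup G))) h)
  have hZcard : Nat.card {w : Subgroup.zpowers x // w ≠ 1} = p - 1 := by
    rw [Nat.card_eq_fintype_card, Fintype.card_subtype_compl, Fintype.card_subtype_eq,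
      ← Nat.card_eq_fintype_card, Nat.card_zpowers, hx]
  have hle : e ≤ p - 1 := by
    have h := Nat.card_le_card_of_injective toZ htoZ
    rwa [hZcard, card_conj_inter' S hab hfree x hx1] at h
  -- the automizer is nontrivial
  have he2 : 2 ≤ e := by
    by_contra hlt
    have he1 : e = 1 := by have := (Nat.card_pos (α := E)); omega
    have hN : Subgroup.normalizer ((S : Subgroup G) : Set G) ≤
        Subgroup.centralizer ((S : Subgroup G) : Set G) := by
      intro g hg
      have h := card_range_normalizerMonoidHom (S : Subgroup G)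
      rw [show Nat.card (S : Subgroup G).normalizerMonoidHom.range = 1 from he1, eq_comm,
        Subgroup.relIndex_eq_one] at h
      exact h hg
    obtain ⟨T, N, hN', hc⟩ := CfsgLib.Transfer.hasNormalPComplement_of_normalizer_le_centralizer S hN
    rcases hN'.eq_bot_or_eq_top with rfl | rfl
    · rw [Subgroup.isComplement'_bot_left] at hc
      refine hG ⟨⟨fun a b => comm_of_isPGroup S hab (Q := ⊤) ?_ (Subgroup.mem_top a)
        (Subgroup.mem_top b)⟩⟩
      rw [← hc]
      exact T.2
    · rw [Subgroup.isComplement'_top_left] at hc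
      have := (T.equiv S).toEquiv
      have h1 : Nat.card (S : Subgroup G) = 1 := by
        rw [← Nat.card_congr (T.equiv S).toEquiv, hc]; exact Subgroup.card_bot
      exact hS1 (Subgroup.card_eq_one.1 h1)
  have hp : p ≠ 2 := by
    intro h2
    omega
  -- one class when `q = p` and `e = p - 1`
  rcases Decidable.em (k = 1 ∧ e = p - 1) with ⟨hk1, hee⟩ | hnot
  · refine one_class_false S hp hab hfree hS1 (fun u v hu hv => ?_) hP
    have key : ∀ w : (S : Subgroup G), w ≠ 1 → IsConj (x : G) w := by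
      intro w hw
      have hbij : Function.Bijective toZ :=
        (Nat.bijective_iff_injective_and_card toZ).2 ⟨htoZ, by
          rw [hZcard, card_conj_inter' S hab hfree x hx1]; exact hee⟩
      have hwp : w ^ p = 1 := by
        calc w ^ p = w ^ q := by rw [show q = p by rw [hq, hk, hk1, pow_one]]
          _ = 1 := pow_card_eq_one'
      obtain ⟨w', hw'⟩ := hbij.2 ⟨⟨w, huniq w hwp⟩, fun h => hw (congrArg Subtype.val h)⟩
      have hw'' : w'.1 = w := congrArg
        (fun w : {w : Subgroup.zpowers x // w ≠ 1} => (w.1 : (S : Subgroup G))) hw'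
      exact hw'' ▸ w'.2
    exact (key u hu).symm.trans (key v hv)
  haveI : Fintype {χ : IrrCharacter G // χ ∈ principalBlock M G} := Fintype.ofFinite _
  set ι := {χ : IrrCharacter G // χ ∈ principalBlock M G}
  let P0 : ι := ⟨principal G, principal_mem_principalBlock M⟩
  have hA : ∀ a b : (S : Subgroup G), a * b = b * a := fun a b => Subtype.ext (hab a a.2 b b.2)
  have hq2 : 1 < q := lt_of_lt_of_le hpp.one_lt (by rw [hq, hk]; exact Nat.le_self_pow hk0 p)
  have hfreeE : ∀ σ ∈ E, ∀ u : (S : Subgroup G), u ≠ 1 → σ u = u → σ = 1 := by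
    intro σ hσ u hu hfix
    exact congrArg Subtype.val ((card_conj_inter S hab hfree u hu).1
      (a₁ := ⟨σ, hσ⟩) (a₂ := 1) (Subtype.ext hfix))
  have horth : ∀ u v : (S : Subgroup G), u ≠ 1 → v ≠ 1 →
      ∑ i : ι, (i.1 : G → ℂ) u * conj ((i.1 : G → ℂ) v) =
        (q : ℂ) * ((univ.filter fun σ : E => (σ : MulAut (S : Subgroup G)) u = v).card : ℂ) :=
    fun u v hu hv => by convert principal_orth hM S hab hfree hu hv
  have hdeg0 : ∀ u : (S : Subgroup G), u ≠ 1 →
      ∑ i : ι, (charDegree (i.1 : G → ℂ) : ℂ) * (i.1 : G → ℂ) u = 0 := by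
    intro u hu
    obtain ⟨j, hj⟩ := S.2 u
    rw [Finset.sum_congr rfl fun i _ => by rw [← deg_eq]]
    exact principal_deg (M := M) hM (g := (1 : G)) (by simp [hpp.ne_one])
      ⟨j, by simpa using congrArg Subtype.val hj⟩ fun h => hu (Subtype.ext h)
  have hgen : ∀ i : ι, IsGeneralizedCharacter (S : Subgroup G)
      (fun u : (S : Subgroup G) => (i.1 : G → ℂ) u) := fun i =>
    ⟨_, 0, isCharacter_restrict (S : Subgroup G) (isCharacter_of_irr i.1.2), isCharacter_zero,
      (sub_zero _).symm⟩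
  have hne : ∀ i : ι, ∃ u : (S : Subgroup G), u ≠ 1 ∧ (i.1 : G → ℂ) u ≠ 0 := fun i =>
    ⟨x, hx1, (principal_column (M := M) hM S hab hfree x.2 hxG1).2.1 i.1 i.2⟩
  have hco := free_coherence (A := ↥(S : Subgroup G)) hA hq2 E hfreeE (ι := ι)
    (fun (i : ι) (u : ↥(S : Subgroup G)) => (i.1 : G → ℂ) (u : G)) hgen
    (fun u v hu hv => by convert horth u v hu hv) hne
    (fun i : ι => charDegree (i.1 : G → ℂ)) (fun i => deg_pos i.1) hdeg0
  obtain ⟨y, ε, r, a, hε, hy, hval₀, ha, ht, hnorm, hψ⟩ := hco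
  have hval : ∀ l : IrrCharacter (S : Subgroup G), l ≠ principal _ → ∀ u : (S : Subgroup G), u ≠ 1 →
      ((y l).1 : G → ℂ) (u : G) =
        (r : ℂ) + (ε : ℂ) * ∑ σ : E, (l : ↥(S : Subgroup G) → ℂ) ((σ : MulAut (S : Subgroup G)) u) :=
    fun l hl u hu => by convert hval₀ l hl u hu
  set t := Nat.card {i // ∃ l : IrrCharacter (S : Subgroup G), l ≠ principal _ ∧ y l = i} with htdef
  set T := univ.filter (fun i : ι => ∀ l : IrrCharacter (S : Subgroup G),
    l ≠ principal _ → y l ≠ i) with hT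
  have ht2 : 2 ≤ t := by
    by_contra hlt
    have hqpk : q = p ^ k := hk
    rcases (show t = 0 ∨ t = 1 by omega) with h0 | h0 <;> rw [h0] at ht
    · omega
    · -- `q - 1 = e ≤ p - 1`
      have hqp : q ≤ p := by omega
      have hk1 : k = 1 := by
        by_contra h1
        have : p ^ 2 ≤ p ^ k := Nat.pow_le_pow_right hpp.pos (by omega)
        nlinarith [hpp.two_le]
      refine hnot ⟨hk1, ?_⟩
      rw [hk1, pow_one] at hqpk
      omega
  have hε2 : ε * ε = 1 := by rcases hε with h | h <;> simp [h]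
  -- the principal character is not exceptional
  have hP0 : P0 ∈ T := by
    rw [hT, mem_filter]
    refine ⟨mem_univ _, fun l hl hyl => ?_⟩
    obtain ⟨i1, i2, hne⟩ : ∃ i1 i2 : {i // ∃ l : IrrCharacter (S : Subgroup G),
        l ≠ principal _ ∧ y l = i}, i1 ≠ i2 := by
      haveI : Nontrivial {i // ∃ l : IrrCharacter (S : Subgroup G), l ≠ principal _ ∧ y l = i} :=
        Finite.one_lt_card_iff_nontrivial.1 (htdef ▸ ht2)
      exact exists_pair_ne _
    obtain ⟨m, hm, hym⟩ : ∃ m, m ≠ principal _ ∧ y m ≠ y l := by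
      obtain ⟨_, l1, hl1, h1⟩ := i1
      obtain ⟨_, l2, hl2, h2⟩ := i2
      by_cases h : y l1 = y l
      · exact ⟨l2, hl2, fun h' => hne (Subtype.ext (h1.symm.trans (h.trans (h'.symm.trans h2))))⟩
      · exact ⟨l1, hl1, h⟩
    refine orbitSum_not_const E hA hl hm (fun σ hσ => hym ?_) ((ε : ℂ) * (1 - r)) fun u hu => ?_
    · exact ((hy l m hl hm).2 ⟨σ, hσ⟩).symm
    · have h := hval l hl u hu
      rw [hyl] at h
      simp only [P0, principal_apply] at h
      have hε2' : (ε : ℂ) * ε = 1 := by exact_mod_cast hε2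
      linear_combination (ε : ℂ) * h.symm - (∑ σ : E, (l : ↥(S : Subgroup G) → ℂ)
        ((σ : MulAut (S : Subgroup G)) u)) * hε2'
  have haval : ∀ i ∈ T, ∀ u : (S : Subgroup G), u ≠ 1 → (i.1 : G → ℂ) u = (a i : ℂ) :=
    fun i hi => (ha i (mem_filter.1 hi).2).2
  have ha0 : a P0 = 1 := by
    have h := haval P0 hP0 x hx1
    simp only [P0, principal_apply] at h
    exact_mod_cast h.symm
  obtain ⟨A, hAdef⟩ : ∃ A : ℤ, A = ∑ i ∈ T, a i * a i := ⟨_, rfl⟩
  replace hnorm : A + (t : ℤ) * r * r - 2 * ε * r = (e : ℤ) := by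
    rw [hAdef, hT]; convert hnorm
  have hAsplit : A = 1 + ∑ i ∈ T.erase P0, a i * a i := by
    rw [hAdef, ← Finset.add_sum_erase _ _ hP0, ha0, mul_one]
  have hA1 : 1 ≤ A := by
    have := Finset.sum_nonneg (s := T.erase P0) (f := fun i => a i * a i)
      fun i _ => mul_self_nonneg _
    linarith
  -- the exceptional characters
  obtain ⟨l₀, hl₀⟩ : ∃ l : IrrCharacter (S : Subgroup G), l ≠ principal _ := by
    obtain ⟨⟨_, l, hl, -⟩⟩ : Nonempty {i // ∃ l : IrrCharacter (S : Subgroup G),
        l ≠ principal _ ∧ y l = i} := (Nat.card_ne_zero.1 (by omega : t ≠ 0)).1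
    exact ⟨l, hl⟩
  set D : ℂ := (charDegree ((y l₀).1 : G → ℂ) : ℂ) with hD
  have hD0 : D ≠ 0 := Nat.cast_ne_zero.2 (deg_pos (y l₀).1).ne'
  obtain ⟨hDY, hDrel⟩ := hψ (fun i => (charDegree (i.1 : G → ℂ) : ℂ))
    (fun u hu => hdeg0 u hu) l₀ hl₀
  have hYd : ∀ i : ι, i ∉ T → (i.1 : G → ℂ) 1 = D ∧
      ∃ l : IrrCharacter (S : Subgroup G), l ≠ principal _ ∧ y l = i := by
    intro i hi
    rw [hT, mem_filter] at hi
    simp only [mem_univ, true_and, not_forall, not_not] at hi
    obtain ⟨l, hl, hli⟩ := hi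
    refine ⟨?_, l, hl, hli⟩
    rw [← hli, deg_eq, hD]
    exact hDY l hl
  have hsplit : ∀ f : ι → ℂ, ∑ i, f i = ∑ i ∈ T, f i + ∑ i ∈ univ \ T, f i := fun f => by
    rw [add_comm]
    exact (Finset.sum_sdiff (subset_univ T)).symm
  have hYmem : ∀ i ∈ univ \ T, i ∉ T := fun i hi => (mem_sdiff.1 hi).2
  have hsumS : ∀ (i : ι), i ∈ T → ∑ u ∈ univ.filter (fun u : (S : Subgroup G) => u ≠ 1),
      (i.1 : G → ℂ) u = ((q : ℂ) - 1) * a i := fun i hi => by
    rw [Finset.sum_congr rfl fun u hu => haval i hi u (mem_filter.1 hu).2, Finset.sum_const,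
      nsmul_eq_mul, Finset.filter_ne', Finset.card_erase_of_mem (mem_univ _), Finset.card_univ,
      ← Nat.card_eq_fintype_card, Nat.cast_sub Nat.card_pos, Nat.cast_one]
  have hsumY : ∀ i ∈ univ \ T, ∑ u ∈ univ.filter (fun u : (S : Subgroup G) => u ≠ 1),
      (i.1 : G → ℂ) u = ((q : ℂ) - 1) * r - ε * e := by
    intro i hi
    obtain ⟨-, l, hl, rfl⟩ := hYd i (hYmem i hi)
    rw [Finset.sum_congr rfl fun u hu => hval l hl u (mem_filter.1 hu).2, Finset.sum_add_distrib,
      Finset.sum_const, ← Finset.mul_sum, Finset.sum_comm]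
    have hl1 : ∀ σ : E, ∑ u ∈ univ.filter (fun u : (S : Subgroup G) => u ≠ 1),
        (l : ↥(S : Subgroup G) → ℂ) ((σ : MulAut (S : Subgroup G)) u) = -1 := by
      intro σ
      have h := inner_irr l (principal (S : Subgroup G))
      rw [if_neg hl, inner_def, mul_eq_zero] at h
      replace h := h.resolve_left (inv_ne_zero (card_ne_zero _))
      simp only [principal_apply, map_one, mul_one] at h
      rw [← (σ : MulAut (S : Subgroup G)).toEquiv.sum_comp, ← Finset.add_sum_erase _ _
        (mem_univ (1 : (S : Subgroup G)))] at h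
      simp only [MulEquiv.toEquiv_eq_coe, EquivLike.coe_coe, map_one, irr_one_of_comm hA] at h
      rw [Finset.filter_ne']
      linear_combination h
    rw [Finset.sum_congr rfl fun σ _ => hl1 σ, Finset.sum_const, Finset.card_univ, nsmul_eq_mul,
      nsmul_eq_mul, Finset.filter_ne', Finset.card_erase_of_mem (mem_univ _), Finset.card_univ,
      ← Nat.card_eq_fintype_card, ← Nat.card_eq_fintype_card, Nat.cast_sub Nat.card_pos,
      Nat.cast_one, ← he]
    ring
  have hpairY : ∀ u v : (S : Subgroup G), u ≠ 1 → v ≠ 1 →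
      ∑ i ∈ univ \ T, conj ((i.1 : G → ℂ) u) * (i.1 : G → ℂ) v =
        (q : ℂ) * ((univ.filter fun σ : E => (σ : MulAut (S : Subgroup G)) v = u).card : ℂ) - A := by
    intro u v hu hv
    have h := horth v u hv hu
    rw [hsplit, Finset.sum_congr rfl (s₁ := T) fun i hi => by
      rw [haval i hi u hu, haval i hi v hv, map_intCast]] at h
    rw [← h, hAdef, Finset.sum_congr rfl fun i _ => mul_comm _ ((i.1 : G → ℂ) v)]
    push_cast
    ring
  -- the sum over the constant characters
  obtain ⟨K, hK⟩ : ∃ K : ℝ, K = ∑ i ∈ T.erase P0,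
      (a i : ℝ) ^ 3 / (charDegree (i.1 : G → ℂ) : ℝ) := ⟨_, rfl⟩
  have hKlt : (T.erase P0).Nonempty → K < ((A - 1 : ℤ) : ℝ) := by
    intro hne
    rw [hK, show A - 1 = ∑ i ∈ T.erase P0, a i * a i by linarith, Int.cast_sum]
    refine Finset.sum_lt_sum_of_nonempty hne fun i hi => ?_
    obtain ⟨hi0, hiT⟩ := mem_erase.1 hi
    have hlt := int_value_lt (fun h => hi0 (Subtype.ext h)) hxG1 (haval i hiT x hx1)
    have hdp : (0 : ℝ) < charDegree (i.1 : G → ℂ) := Nat.cast_pos.2 (deg_pos i.1)
    have hne0 : (a i : ℝ) ≠ 0 := by exact_mod_cast (ha i (mem_filter.1 hiT).2).1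
    have hlt' : (a i : ℝ) < charDegree (i.1 : G → ℂ) := by exact_mod_cast hlt
    rw [div_lt_iff₀ hdp]
    push_cast
    calc (a i : ℝ) ^ 3 = (a i : ℝ) * a i * a i := by ring
      _ < _ := mul_lt_mul_of_pos_left hlt' (mul_self_pos.2 hne0)
  -- the character formula for the count
  have hmain : ∀ v : (S : Subgroup G), v ≠ 1 → (q : ℂ) * e *
      (Nat.card {b : G // ¬ p ∣ orderOf ((x : G)⁻¹ * (b * (v : G) * b⁻¹))} : ℂ) =
      (Nat.card G : ℂ) * ((q : ℂ) * e - ((q : ℂ) - 1) * (1 + (K : ℂ)) -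
        (((q : ℂ) - 1) * r - ε * e) / D *
          ((q : ℂ) * ((univ.filter fun σ : E => (σ : MulAut (S : Subgroup G)) v = x).card : ℂ) - A)) := by
    intro v hv
    rw [regular_count hM S hab hfree (x : G) (v : G), hsplit, ← hpairY x v hx1 hv, hK]
    congr 1
    rw [Finset.sum_congr rfl (s₁ := univ \ T) (g := fun i =>
        -((((q : ℂ) - 1) * r - ε * e) / D * (conj ((i.1 : G → ℂ) x) * (i.1 : G → ℂ) v)))
      (fun i hi => by
        rw [hsumY i hi, (hYd i (hYmem i hi)).1, if_neg fun h : i.1 = principal G =>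
          hYmem i hi (by rwa [show i = P0 from Subtype.ext h])]
        ring), Finset.sum_neg_distrib, ← Finset.mul_sum, ← sub_eq_add_neg]
    congr 1
    rw [← Finset.add_sum_erase _ _ hP0, Complex.ofReal_sum, mul_add, Finset.mul_sum, sub_add_eq_sub_sub,
      sub_eq_add_neg (_ - _), ← Finset.sum_neg_distrib]
    congr 1
    · rw [hsumS P0 hP0, ha0, if_pos rfl]
      simp only [P0, principal_apply, map_one, Int.cast_one, ← hq, ← he]
      ring
    · refine Finset.sum_congr rfl fun i hi => ?_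
      obtain ⟨hi0, hiT⟩ := mem_erase.1 hi
      rw [hsumS i hiT, if_neg fun h => hi0 (Subtype.ext h), haval i hiT x hx1, haval i hiT v hv,
        deg_eq, map_intCast]
      push_cast
      ring
  -- the count at `x` itself
  have hNx : (e : ℕ) * Nat.card {b : G // ¬ p ∣ orderOf ((x : G)⁻¹ * (b * (x : G) * b⁻¹))} =
      Nat.card G := by
    haveI : Fintype {v : (S : Subgroup G) // IsConj (x : G) v} := Fintype.ofFinite _
    have h1 : Nat.card (Σ w : {v : (S : Subgroup G) // IsConj (x : G) v},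
        {b : G // ¬ p ∣ orderOf ((w.1 : G)⁻¹ * (b * (x : G) * b⁻¹))}) = Nat.card G := by
      refine Nat.card_eq_of_bijective (fun s => s.2.1) ⟨fun s t hst => ?_, fun b => ?_⟩
      · obtain ⟨w, b, hb⟩ := s
        obtain ⟨w', b', hb'⟩ := t
        dsimp only at hst
        subst hst
        have hz : ∀ v : {v : (S : Subgroup G) // IsConj (x : G) v},
            (v.1 : G) ∈ Subgroup.zpowers (x : G) := fun v => by
          obtain ⟨j, hj⟩ := Subgroup.mem_zpowers_iff.1 (hsub v).1
          exact Subgroup.mem_zpowers_iff.2 ⟨j, by simpa using congrArg Subtype.val hj⟩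
        obtain rfl : w = w' := Subtype.ext (Subtype.ext (regular_unique S hab hP hxG
          ((orderOf_injective (MulAut.conj b).toMonoidHom (MulAut.conj b).injective (x : G)).trans hxG) (hz w) (hz w') hb hb'))
        rfl
      · have hoy : orderOf (b * (x : G) * b⁻¹) = p := by
          exact (orderOf_injective (MulAut.conj b).toMonoidHom (MulAut.conj b).injective
            (x : G)).trans hxG
        obtain ⟨w, hw, hreg, hconj⟩ := exists_regular S hS hP hxG hoy
        exact ⟨⟨⟨⟨w, (Subgroup.zpowers_le.2 x.2) hw⟩,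
          (isConj_iff.2 ⟨b, rfl⟩ : IsConj (x : G) (b * x * b⁻¹)).trans hconj⟩, b, hreg⟩, rfl⟩
    rw [← h1, Nat.card_sigma, Finset.sum_congr rfl fun w _ => ?_, Finset.sum_const, Finset.card_univ,
      smul_eq_mul, ← Nat.card_eq_fintype_card, card_conj_inter' S hab hfree x hx1]
    obtain ⟨c, hc⟩ := isConj_iff.1 w.2
    refine Nat.card_congr (Equiv.subtypeEquiv (Equiv.mulLeft c⁻¹) fun b => ?_)
    rw [Equiv.coe_mulLeft, not_iff_not, ← hc]
    rw [show (c * (x : G) * c⁻¹)⁻¹ * (b * x * b⁻¹) =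
      c * ((x : G)⁻¹ * (c⁻¹ * b * x * (c⁻¹ * b)⁻¹)) * c⁻¹ by group]
    rw [show orderOf (c * ((x : G)⁻¹ * (c⁻¹ * b * x * (c⁻¹ * b)⁻¹)) * c⁻¹) =
      orderOf ((x : G)⁻¹ * (c⁻¹ * b * x * (c⁻¹ * b)⁻¹)) from
        orderOf_injective (MulAut.conj c).toMonoidHom (MulAut.conj c).injective _]
  have hone1 : (univ.filter fun σ : E => (σ : MulAut (S : Subgroup G)) x = x).card = 1 :=
    Finset.card_eq_one.2 ⟨1, Finset.eq_singleton_iff_unique_mem.2
      ⟨mem_filter.2 ⟨mem_univ _, rfl⟩, fun σ hσ => Subtype.ext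
        (hfreeE σ σ.2 x hx1 (mem_filter.1 hσ).2)⟩⟩
  have hG0 := card_ne_zero G
  have eq1 : (q : ℂ) = (q : ℂ) * e - ((q : ℂ) - 1) * (1 + (K : ℂ)) -
      (((q : ℂ) - 1) * r - ε * e) / D * ((q : ℂ) - A) := by
    have h := hmain x hx1
    rw [hone1, Nat.cast_one, mul_one, mul_assoc, ← Nat.cast_mul, hNx] at h
    exact mul_left_cancel₀ hG0 (by linear_combination h)
  by_cases hee : e = p - 1
  swap
  · -- some power of `x` is not conjugate to `x`
    obtain ⟨⟨⟨v, hv⟩, hv1⟩, hvn⟩ : ∃ w, w ∉ Set.range toZ := by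
      by_contra hcon
      push Not at hcon
      refine hee ?_
      rw [← hZcard, ← Nat.card_eq_of_bijective toZ ⟨htoZ, hcon⟩]
      exact card_conj_inter' S hab hfree x hx1 |>.symm
    have hv1' : v ≠ 1 := fun h => hv1 (Subtype.ext h)
    have hnc : ¬ IsConj (x : G) v := fun h => hvn ⟨⟨v, h⟩, rfl⟩
    have hzero : Nat.card {b : G // ¬ p ∣ orderOf ((x : G)⁻¹ * (b * (v : G) * b⁻¹))} = 0 := by
      haveI : IsEmpty {b : G // ¬ p ∣ orderOf ((x : G)⁻¹ * (b * (v : G) * b⁻¹))} := ⟨fun b => by
        have hvp : orderOf v = p := by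
          refine orderOf_eq_prime ?_ hv1'
          obtain ⟨j, rfl⟩ := Subgroup.mem_zpowers_iff.1 hv
          rw [← zpow_natCast, ← zpow_mul, mul_comm, zpow_mul, zpow_natCast, pow_p_eq_one hx, one_zpow]
        have hoy : orderOf (b.1 * (v : G) * b.1⁻¹) = p := by
          exact (orderOf_injective (MulAut.conj b.1).toMonoidHom (MulAut.conj b.1).injective
            (v : G)).trans ((Subgroup.orderOf_coe v).trans hvp)
        obtain ⟨w, hw, hreg, hconj⟩ := exists_regular S hS hP hxG hoy
        have hwx : w = x := regular_unique S hab hP hxG hoy hw (Subgroup.mem_zpowers _) hreg b.2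
        exact hnc (hwx ▸ hconj.symm.trans (isConj_iff.2 ⟨b.1, rfl⟩ :
          IsConj (v : G) (b.1 * v * b.1⁻¹)).symm)⟩
      exact Nat.card_of_isEmpty
    have hempty : (univ.filter fun σ : E => (σ : MulAut (S : Subgroup G)) v = x).card = 0 := by
      rw [Finset.card_eq_zero, Finset.filter_eq_empty_iff]
      intro σ _ hσ
      obtain ⟨n, hn⟩ := σ.2
      rw [← hn] at hσ
      exact hnc (isConj_iff.2 ⟨(n : G), congrArg Subtype.val hσ⟩).symm
    have h := hmain v hv1'
    rw [hzero, hempty, Nat.cast_zero, mul_zero, mul_zero, zero_sub] at h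
    have h0 := ((mul_eq_zero.1 h.symm).resolve_left hG0)
    obtain ⟨c0, hc0⟩ : ∃ c0, c0 = (((q : ℂ) - 1) * r - ε * e) / D := ⟨_, rfl⟩
    rw [← hc0] at h0 eq1
    have hqC : (q : ℂ) ≠ 0 := Nat.cast_ne_zero.2 (by omega)
    have hc : c0 = -1 := by
      refine mul_left_cancel₀ hqC ?_
      linear_combination eq1 + h0
    rw [hc] at h0
    have hreal : (q : ℝ) * e - ((q : ℝ) - 1) * (1 + K) - A = 0 := by
      apply Complex.ofReal_injective
      push_cast
      linear_combination h0
    -- `A ≤ e`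
    have hAe : A ≤ (e : ℤ) := by
      have h1 : (2 : ℤ) ≤ t := by exact_mod_cast ht2
      have : 0 ≤ (t : ℤ) * r * r - 2 * ε * r := by
        have h3 : 0 ≤ r * r - ε * r := by
          rcases hε with h | h <;> subst h <;> rcases le_or_gt r 0 with hr | hr <;>
            rcases eq_or_ne r 0 with h0 | h0 <;> first | (subst h0; norm_num) | nlinarith
        nlinarith [mul_self_nonneg r]
      linarith
    have hK' : K ≤ ((A - 1 : ℤ) : ℝ) := by
      rcases (T.erase P0).eq_empty_or_nonempty with h | h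
      · rw [hK, h, Finset.sum_empty]
        exact_mod_cast (by linarith : (0 : ℤ) ≤ A - 1)
      · exact (hKlt h).le
    push_cast at hK'
    have hAe' : (A : ℝ) ≤ e := by exact_mod_cast hAe
    have hq' : (2 : ℝ) ≤ q := by exact_mod_cast hq2
    rcases (T.erase P0).eq_empty_or_nonempty with h | h
    · rw [hK, h, Finset.sum_empty] at hreal
      have hA' : (A : ℝ) = 1 := by rw [hAsplit, h, Finset.sum_empty]; norm_num
      have he2' : (2 : ℝ) ≤ e := by exact_mod_cast he2
      nlinarith
    · have hK'' := hKlt h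
      push_cast at hK''
      nlinarith
  -- the automizer is everything
  have hk2 : 2 ≤ k := by
    rcases (show k = 1 ∨ 2 ≤ k by omega) with h | h
    · exact absurd ⟨h, hee⟩ hnot
    · exact h
  have hte : p + 1 ≤ t := by
    have h1 : p ^ 2 ≤ q := by rw [hq, hk]; exact Nat.pow_le_pow_right hpp.pos hk2
    by_contra hlt
    have h2 : t * e ≤ p * (p - 1) := Nat.mul_le_mul (by omega) hle
    rw [Nat.mul_sub_one, ← pow_two] at h2
    have := hpp.two_le
    have ht' : t * e + 1 = q := ht
    have := Nat.le_self_pow (show 2 ≠ 0 by omega) p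
    omega
  have hr : r = 0 := by
    by_contra hr
    have h1 : (p : ℤ) + 1 ≤ t := by exact_mod_cast hte
    have h2 : (e : ℤ) + 1 = p := by
      have := hpp.one_le
      omega
    rcases hε with h | h <;> subst h <;> rcases lt_or_gt_of_ne hr with hr' | hr' <;>
      nlinarith [mul_le_mul_of_nonneg_right h1 (mul_self_nonneg r),
        mul_self_pos.2 hr]
  subst hr
  have hAe : A = (e : ℤ) := by linarith
  obtain ⟨z, hzp⟩ : ∃ z : (S : Subgroup G), z ^ p ≠ 1 := by
    by_contra hcon
    push Not at hcon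
    have h1 : (⊤ : Subgroup (S : Subgroup G)) ≤ Subgroup.zpowers x := fun w _ => huniq w (hcon w)
    have h2 := Subgroup.card_le_of_le h1
    rw [Subgroup.card_top, Nat.card_zpowers, hx, hk] at h2
    have : p ^ 2 ≤ p ^ k := Nat.pow_le_pow_right hpp.pos hk2
    nlinarith [hpp.two_le]
  have hz1 : z ≠ 1 := fun h => hzp (by rw [h, one_pow])
  -- the exceptional values at `x`
  have hquad : ∀ i ∈ univ \ T, conj ((i.1 : G → ℂ) x) * (i.1 : G → ℂ) x =
      (ε : ℂ) * ((e : ℂ) - 1) * (i.1 : G → ℂ) x + (e : ℂ) := by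
    intro i hi
    obtain ⟨-, l, hl, rfl⟩ := hYd i (hYmem i hi)
    rw [hval l hl x hx1]
    have himg : ∑ σ : E, (l : ↥(S : Subgroup G) → ℂ) ((σ : MulAut (S : Subgroup G)) x) =
        ∑ w : {w : Subgroup.zpowers x // w ≠ 1}, (l : ↥(S : Subgroup G) → ℂ) (w.1 : (S : Subgroup G)) := by
      have hbij : Function.Bijective toZ :=
        (Nat.bijective_iff_injective_and_card toZ).2 ⟨htoZ, by
          rw [hZcard, card_conj_inter' S hab hfree x hx1]; exact hee⟩
      exact Fintype.sum_bijective _ (hbij.comp (card_conj_inter S hab hfree x hx1)) _ _ fun σ => rfl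
    have hsplit1 : ∑ w : {w : Subgroup.zpowers x // w ≠ 1},
        (l : ↥(S : Subgroup G) → ℂ) (w.1 : (S : Subgroup G)) =
        ∑ w : Subgroup.zpowers x, (l : ↥(S : Subgroup G) → ℂ) (w : (S : Subgroup G)) - 1 := by
      rw [← Finset.add_sum_erase _ _ (mem_univ (1 : Subgroup.zpowers x)), Subgroup.coe_one,
        irr_one_of_comm hA, add_sub_cancel_left]
      exact (Finset.sum_subtype (univ.erase (1 : Subgroup.zpowers x)) (fun w => by simp)
        (fun w => (l : ↥(S : Subgroup G) → ℂ) (w : (S : Subgroup G)))).symm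
    obtain ⟨s, hs, hss⟩ : ∃ s : ℂ, s = ∑ σ : E,
        (l : ↥(S : Subgroup G) → ℂ) ((σ : MulAut (S : Subgroup G)) x) ∧ (s = e ∨ s = -1) := by
      refine ⟨_, rfl, ?_⟩
      rw [himg, hsplit1]
      by_cases hl1 : (l : ↥(S : Subgroup G) → ℂ) x = 1
      · left
        rw [Finset.sum_congr rfl (g := fun _ => (1 : ℂ)) fun w _ => ?_, Finset.sum_const,
          Finset.card_univ, nsmul_eq_mul, mul_one, ← Nat.card_eq_fintype_card, Nat.card_zpowers, hx,
          hee, Nat.cast_sub hpp.one_le, Nat.cast_one]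
        obtain ⟨j, hj⟩ := (isOfFinOrder_of_finite x).mem_powers_iff_mem_zpowers.2 w.2
        rw [← hj]
        show (l : ↥(S : Subgroup G) → ℂ) (x ^ j) = 1
        clear hj
        induction j with
        | zero => rw [pow_zero, irr_one_of_comm hA]
        | succ j ih => rw [pow_succ, irr_mul_of_comm hA, ih, hl1, mul_one]
      · right
        have hsum0 : ∑ w : Subgroup.zpowers x, (l : ↥(S : Subgroup G) → ℂ) (w : (S : Subgroup G)) = 0 := by
          refine (mul_left_eq_self₀.1 ?_).resolve_left hl1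
          rw [Finset.mul_sum]
          exact Fintype.sum_equiv (Equiv.mulLeft (⟨x, Subgroup.mem_zpowers x⟩ : Subgroup.zpowers x))
            _ _ fun w => (irr_mul_of_comm hA l x _).symm
        rw [hsum0, zero_sub]
    rw [← hs]
    have hε2' : (ε : ℂ) * ε = 1 := by exact_mod_cast hε2
    rcases hss with h | h <;> subst h <;>
      simp only [Int.cast_zero, zero_add, map_mul, map_intCast, map_natCast, map_neg, map_one]
    · linear_combination (e : ℂ) * hε2'
    · linear_combination (e : ℂ) * hε2'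
  have hlinY : ∑ i ∈ univ \ T, (i.1 : G → ℂ) z = -(ε : ℂ) := by
    have h := hdeg0 z hz1
    rw [hsplit, Finset.sum_congr rfl (s₁ := T) fun i hi => by rw [haval i hi z hz1],
      Finset.sum_congr rfl (s₁ := univ \ T) (g := fun i => D * (i.1 : G → ℂ) z)
        (fun i hi => by rw [← deg_eq, (hYd i (hYmem i hi)).1]), ← Finset.mul_sum] at h
    replace hDrel : (∑ i ∈ T, (a i : ℂ) * (charDegree (i.1 : G → ℂ) : ℂ)) +
        ((t : ℂ) * ((0 : ℤ) : ℂ) - ε) * D = 0 := by
      rw [hT, hD]; convert hDrel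
    simp only [Int.cast_zero, mul_zero, zero_sub] at hDrel
    rw [Finset.sum_congr rfl fun i _ => mul_comm _ (a i : ℂ)] at h
    refine mul_left_cancel₀ hD0 ?_
    linear_combination h - hDrel
  have hpairz : ∑ i ∈ univ \ T, conj ((i.1 : G → ℂ) z) * (i.1 : G → ℂ) x = -(A : ℂ) := by
    rw [hpairY z x hz1 hx1, show (univ.filter fun σ : E =>
      (σ : MulAut (S : Subgroup G)) x = z).card = 0 from ?_]
    · simp
    rw [Finset.card_eq_zero, Finset.filter_eq_empty_iff]
    intro σ _ hσ
    refine hzp ?_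
    rw [← hσ, ← map_pow, pow_p_eq_one hx, map_one]
  have eq0 : 1 + (K : ℂ) + (-(ε : ℂ) * ((e : ℂ) * e)) / D = 0 := by
    have h := section_relation hM S hab hfree hP hxG z.2 (fun h => hzp (Subtype.ext (by simpa using h)))
    rw [hsplit] at h
    rw [Finset.sum_congr rfl (s₁ := univ \ T) (g := fun i =>
      ((ε : ℂ) * ((e : ℂ) - 1) * (conj ((i.1 : G → ℂ) z) * (i.1 : G → ℂ) x) +
        (e : ℂ) * conj ((i.1 : G → ℂ) z)) / D) (fun i hi => by
          rw [hquad i hi, (hYd i (hYmem i hi)).1]; ring),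
      ← Finset.sum_div, Finset.sum_add_distrib, ← Finset.mul_sum, ← Finset.mul_sum, hpairz,
      ← map_sum, hlinY, map_neg, map_intCast, hAe] at h
    rw [← h, ← Finset.add_sum_erase _ _ hP0, hK, Complex.ofReal_sum]
    congr 1
    · congr 1
      · simp only [P0, principal_apply, map_one]; ring
      · refine Finset.sum_congr rfl fun i hi => ?_
        obtain ⟨hi0, hiT⟩ := mem_erase.1 hi
        rw [haval i hiT x hx1, haval i hiT z hz1, deg_eq, map_intCast]
        push_cast
        ring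
    · push_cast
      ring
  rw [hAe] at eq1
  push_cast at eq1
  have hqe : (q : ℂ) * ((e : ℂ) - 1) ≠ 0 :=
    mul_ne_zero (Nat.cast_ne_zero.2 (by omega)) (sub_ne_zero.2 (by exact_mod_cast (by omega : e ≠ 1)))
  have hDe : D = (ε : ℂ) * e := by
    refine mul_left_cancel₀ hqe ?_
    field_simp at eq0 eq1
    linear_combination -eq1 + ((q : ℂ) - 1) * eq0
  have hKe : (K : ℂ) = (e : ℂ) - 1 := by
    rw [hDe] at eq0
    have he0 : (e : ℂ) ≠ 0 := Nat.cast_ne_zero.2 (by omega)
    have hεC : (ε : ℂ) ≠ 0 := by rcases hε with h | h <;> simp [h]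
    field_simp at eq0
    linear_combination eq0
  have hKe' : K = (e : ℝ) - 1 := Complex.ofReal_injective (by push_cast; exact hKe)
  rcases (T.erase P0).eq_empty_or_nonempty with h | h
  · rw [h, Finset.sum_empty] at hAsplit
    omega
  · have := hKlt h
    rw [hKe', hAe] at this
    push_cast at this
    linarith

/-! ### Reduction to a simple group -/

/-- A group with cyclic Sylow subgroups and a nontrivial normal `p`-subgroup is `p`-solvable. -/
theorem isPSolvable_of_pCore (S : Sylow p G) (hS : IsCyclic (S : Subgroup G))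
    (h : pCore p G ≠ ⊥) : IsPSolvable p G := by
  set R := pCore p G
  haveI : R.Normal := inferInstance
  have hR : IsPGroup p R := isPGroup_pCore p G
  have hRS : R ≤ (S : Subgroup G) := hR.le_sylow_of_normal S
  haveI : IsCyclic R := by
    haveI := hS
    exact isCyclic_of_injective (Subgroup.inclusion hRS) (Subgroup.inclusion_injective hRS)
  obtain ⟨r, hr, hr1⟩ := ((Subgroup.bot_or_exists_ne_one _).resolve_left h)
  have hab : ∀ a ∈ (S : Subgroup G), ∀ b ∈ (S : Subgroup G), a * b = b * a := fun a ha b hb =>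
    congrArg Subtype.val (IsCyclic.commGroup.mul_comm (⟨a, ha⟩ : (S : Subgroup G)) ⟨b, hb⟩)
  -- `C(R)` has a normal complement
  set C := Subgroup.centralizer (R : Set G)
  haveI hCn : C.Normal := inferInstance
  obtain ⟨K, hKn, hKp, ⟨n, hKi⟩, -, -⟩ :=
    exists_complement S hab (free_of_cyclic S hS) (hRS hr) hr1
  have h1 : IsPSolvable p (Subgroup.centralizer ({r} : Set G)) := by
    haveI := hKn
    refine CfsgLib.PLocal.isPSolvable_of_normal K (CfsgLib.PLocal.isPSolvable_of_coprime ?_)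
      (CfsgLib.PLocal.isPSolvable_of_isPGroup (IsPGroup.of_card (n := n) ?_))
    · exact ((Fact.out : p.Prime).coprime_iff_not_dvd.2 hKp).symm
    · rw [← Subgroup.index_eq_card, hKi]
  have h2 : IsPSolvable p C := by
    refine CfsgLib.PLocal.isPSolvable_of_le (fun c hc => ?_) h1
    exact Subgroup.mem_centralizer_singleton_iff.2 (hc r hr).symm
  refine CfsgLib.PLocal.isPSolvable_of_normal C h2 ?_
  -- `G / C(R)` is abelian
  let f : G →* MulAut R := MulAut.conjNormal
  have hker : f.ker = C := by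
    ext g
    constructor
    · intro hg a ha
      have h3 := congrArg Subtype.val (DFunLike.congr_fun (MonoidHom.mem_ker.1 hg) ⟨a, ha⟩)
      simp only [f, MulAut.conjNormal_apply, MulAut.one_apply] at h3
      exact (mul_inv_eq_iff_eq_mul.1 h3).symm
    · intro hg
      refine MonoidHom.mem_ker.2 (MulEquiv.ext fun a => Subtype.ext ?_)
      simp only [f, MulAut.conjNormal_apply, MulAut.one_apply]
      exact mul_inv_eq_iff_eq_mul.2 (hg a a.2).symm
  haveI : Group.IsSolvable (MulAut R) :=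
    Group.isSolvable_of_comm fun a b => (IsCyclic.mulAutMulEquiv R).injective (by
      rw [map_mul, map_mul, mul_comm])
  haveI : Group.IsSolvable (G ⧸ f.ker) := solvable_of_solvable_injective
    (QuotientGroup.kerLift_injective f)
  exact (CfsgLib.PLocal.isPSolvable_congr (QuotientGroup.quotientMulEquivOfEq hker)).1
    CfsgLib.PLocal.isPSolvable_of_isSolvable

/-- With cyclic Sylow subgroups, `p`-solvability is detected by pairs of elements of order `p`. -/
theorem isPSolvable_of_pairs : ∀ (n : ℕ) {H : Type u} [Group H] [Fintype H] (S : Sylow p H),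
    Nat.card H ≤ n → IsCyclic (S : Subgroup H) → Pairs p H → IsPSolvable p H := by
  intro n
  induction n with
  | zero => intro H _ _ S hn; exact absurd hn (not_le.2 Nat.card_pos)
  | succ n ih =>
    intro H _ _ S hn hS hP
    by_cases hSb : (S : Subgroup H) = ⊥
    · refine CfsgLib.PLocal.isPSolvable_of_coprime ?_
      have h := S.not_dvd_index
      rw [hSb, Subgroup.index_bot] at h
      exact ((Fact.out : p.Prime).coprime_iff_not_dvd.2 h).symm
    by_cases hcore : pPrimeCore p H = ⊥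
    swap
    · -- factor out `O_{p'}`
      set N := pPrimeCore p H
      haveI : Fintype (H ⧸ N) := Fintype.ofFinite _
      have hN : IsPSolvable p N :=
        CfsgLib.PLocal.isPSolvable_of_coprime (pPrimeCore_coprime p H)
      refine CfsgLib.PLocal.isPSolvable_of_normal N hN
        (ih (S.mapSurjective (QuotientGroup.mk'_surjective N)) ?_ ?_ ?_)
      · have h1 := Subgroup.card_eq_card_quotient_mul_card_subgroup N
        have h2 : 2 ≤ Nat.card N := by
          rcases Nat.lt_or_ge (Nat.card N) 2 with h | h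
          · exact absurd (Subgroup.card_eq_one.1 (by have := Nat.card_pos (α := N); omega)) hcore
          · exact h
        have : 0 < Nat.card (H ⧸ N) := Nat.card_pos
        nlinarith
      · haveI := hS
        exact isCyclic_of_surjective _ ((QuotientGroup.mk' N).subgroupMap_surjective (S : Subgroup H))
      · intro a b ha hb
        have lift : ∀ c : H ⧸ N, orderOf c = p → ∃ c' : H, QuotientGroup.mk' N c' = c ∧
            orderOf c' = p := by
          intro c hc
          obtain ⟨c₀, rfl⟩ := QuotientGroup.mk'_surjective N c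
          obtain ⟨y, u, hu, hcomm, ⟨j, hj⟩, hy⟩ := BlockOrth.exists_isPPrimePart (p := p) c₀
          have hyN : QuotientGroup.mk' N y = 1 := by
            obtain ⟨i, hi⟩ := BlockOrth.IsPPrimePart.exists_pow
              (⟨u, hu, hcomm, ⟨j, hj⟩, hy⟩ : BlockOrth.IsPPrimePart p c₀ y)
            refine orderOf_eq_one_iff.1 (Nat.eq_one_of_dvd_coprimes
              (((Fact.out : p.Prime).coprime_iff_not_dvd).2 hy) ?_ (orderOf_map_dvd _ y))
            refine (?_ : _ ∣ orderOf (QuotientGroup.mk' N c₀)).trans hc.dvd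
            rw [← hi, map_pow]
            exact orderOf_pow_dvd i
          refine ⟨u, by rw [← hu, map_mul, hyN, mul_one], ?_⟩
          have hup : u ^ p ∈ N := by
            rw [← QuotientGroup.eq_one_iff, QuotientGroup.mk_pow]
            have : (u : H ⧸ N) = QuotientGroup.mk' N c₀ := by
              rw [← hu, map_mul, hyN, mul_one]; rfl
            rw [this]; exact pow_p_eq_one hc
          have hu1 : u ≠ 1 := fun h => ne_one_of_order hc (by rw [← hu, h, map_mul, map_one, hyN, mul_one])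
          refine orderOf_eq_prime (orderOf_eq_one_iff.1 (Nat.eq_one_of_dvd_coprimes
            (Nat.Coprime.pow_left j (pPrimeCore_coprime p H).symm) ?_
            (Subgroup.orderOf_dvd_natCard _ hup))) hu1
          rw [← hj]
          exact orderOf_pow_dvd p
        obtain ⟨a', rfl, ha'⟩ := lift a ha
        obtain ⟨b', rfl, hb'⟩ := lift b hb
        have h1 := CfsgLib.PLocal.isPSolvable_map (QuotientGroup.mk' N) (hP a' b' ha' hb')
        rwa [MonoidHom.map_closure, Set.image_insert_eq, Set.image_singleton] at h1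
    by_cases hsimple : IsSimpleGroup H
    · by_cases hc : IsMulCommutative H
      · haveI : Group.IsSolvable H := Group.isSolvable_of_comm fun a b => hc.is_comm.comm a b
        exact CfsgLib.PLocal.isPSolvable_of_isSolvable
      · exact (cyclic_false hc S hS hSb hP).elim
    -- a proper nontrivial normal subgroup
    haveI : Nontrivial H := by
      obtain ⟨s, -, hs⟩ := ((Subgroup.bot_or_exists_ne_one _).resolve_left hSb)
      exact ⟨⟨s, 1, hs⟩⟩
    obtain ⟨N, hN, hNb, hNt⟩ : ∃ N : Subgroup H, N.Normal ∧ N ≠ ⊥ ∧ N ≠ ⊤ := by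
      by_contra hcon
      push Not at hcon
      exact hsimple ⟨fun N hN => or_iff_not_imp_left.2 fun hb => hcon N hN hb⟩
    haveI : Fintype N := Fintype.ofFinite _
    obtain ⟨T⟩ : Nonempty (Sylow p N) := inferInstance
    have hNs : IsPSolvable p N := by
      refine ih T ?_ ?_ ?_
      · have : Nat.card N < Nat.card H := by
          by_contra hge
          exact hNt (Subgroup.eq_top_of_le_card _ (not_lt.1 hge))
        omega
      · obtain ⟨R, hR⟩ := (T.2.map N.subtype).exists_le_sylow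
        haveI := hS
        haveI : IsCyclic (R : Subgroup H) :=
          isCyclic_of_surjective (R.equiv S).symm.toMonoidHom (R.equiv S).symm.surjective
        haveI : IsCyclic ((T : Subgroup N).map N.subtype) :=
          isCyclic_of_injective (Subgroup.inclusion hR) (Subgroup.inclusion_injective hR)
        exact isCyclic_of_surjective
          ((T : Subgroup N).equivMapOfInjective N.subtype N.subtype_injective).symm.toMonoidHom
          ((T : Subgroup N).equivMapOfInjective N.subtype N.subtype_injective).symm.surjective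
      · intro a b ha hb
        have h1 := hP a b (by rwa [Subgroup.orderOf_coe]) (by rwa [Subgroup.orderOf_coe])
        refine CfsgLib.PLocal.isPSolvable_of_injective
          ((N.subtype.comp (Subgroup.closure ({a, b} : Set N)).subtype).codRestrict
            (Subgroup.closure ({(a : H), (b : H)} : Set H)) fun c => ?_) ?_ h1
        · have : ((Subgroup.closure ({a, b} : Set N)).map N.subtype) =
              Subgroup.closure ({(a : H), (b : H)} : Set H) := by
            rw [MonoidHom.map_closure, Set.image_insert_eq, Set.image_singleton]; rfl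
          rw [← this]
          exact ⟨c, c.2, rfl⟩
        · intro c d hcd
          exact Subtype.ext (Subtype.ext (congrArg (fun z : ↥(Subgroup.closure ({(a : H), (b : H)} : Set H)) => (z : H)) hcd))
    haveI : Nontrivial N := (Subgroup.nontrivial_iff_ne_bot N).2 hNb
    rcases CfsgLib.PLocal.pCore_ne_bot_or_pPrimeCore_ne_bot hNs with h | h
    · refine isPSolvable_of_pCore S hS fun hb => h ?_
      rw [← Subgroup.map_eq_bot_iff_of_injective _ N.subtype_injective, ← le_bot_iff, ← hb]
      exact map_pCore_le_of_isSubnormal (Subgroup.Normal.isSubnormal hN)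
    · refine absurd hcore fun hb => h ?_
      rw [← Subgroup.map_eq_bot_iff_of_injective _ N.subtype_injective, ← le_bot_iff, ← hb]
      exact map_pPrimeCore_le_of_isSubnormal (Subgroup.Normal.isSubnormal hN)

end CfsgLib.CharApps.PairPSolvable
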