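import Cfsg.Agent.Lib.CharApps.FrobeniusSchur
import Cfsg.Agent.Lib.CharApps.NormalSum

/-!
# Indicators of the constituents of a permutation character
-/

set_option autoImplicit false
set_option linter.style.haveILetI false

namespace CfsgLib.CharApps

open Cfsg CfsgLib.Chars
open scoped ComplexConjugate

universe u

variable {G : Type u} [Group G] [Fintype G]

omit [Fintype G] in
theorem extendByZero_one (H : Subgroup G) (g : G) [Decidable (g ∈ H)] :
    extendByZero H (fun _ : H => (1 : ℂ)) g = if g ∈ H then 1 else 0 := by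
  split_ifs with h
  · exact Function.Injective.extend_apply Subtype.val_injective _ _ (⟨g, h⟩ : H)
  · refine Function.extend_apply' _ _ _ ?_
    rintro ⟨a, rfl⟩
    exact h a.2

theorem indFun_one_apply (H : Subgroup G) [DecidablePred (· ∈ H)] (g : G) :
    indFun H (fun _ : H => (1 : ℂ)) g =
      (Nat.card H : ℂ)⁻¹ * ∑ x : G, if x⁻¹ * g * x ∈ H then (1 : ℂ) else 0 :=
  congrArg _ (Finset.sum_congr rfl fun _ _ => extendByZero_one H _)

/-- Reciprocity for the permutation character. -/
theorem inner_perm (H : Subgroup G) [Fintype H] {χ : G → ℂ} (hχ : IsClassFunction G χ) :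
    classInner (indFun H (fun _ : H => (1 : ℂ))) χ =
      (Nat.card H : ℂ)⁻¹ * ∑ h : H, conj (χ h) := by
  classical
  have e1 : ∀ g : G, indFun H (fun _ : H => (1 : ℂ)) g * conj (χ g) =
      (Nat.card H : ℂ)⁻¹ * ∑ x : G, if x⁻¹ * g * x ∈ H then conj (χ g) else 0 := fun g => by
    rw [indFun_one_apply, mul_assoc, Finset.sum_mul]
    simp [ite_mul]
  rw [inner_def, Finset.sum_congr rfl fun g _ => e1 g, ← Finset.mul_sum, Finset.sum_comm,
    ← mul_assoc, mul_comm ((Nat.card G : ℂ)⁻¹), mul_assoc]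
  refine congrArg _ ?_
  rw [Finset.sum_congr rfl (g := fun _ => ∑ h : H, conj (χ h)) (fun x _ => ?_), Finset.sum_const,
    nsmul_eq_mul, Finset.card_univ, ← Nat.card_eq_fintype_card, ← mul_assoc,
    inv_mul_cancel₀ (card_ne_zero G), one_mul]
  rw [← Finset.sum_filter, ← Finset.sum_subtype (Finset.univ.filter (· ∈ H)) (fun g => by simp)
    (fun g => conj (χ g)), Finset.sum_filter, Finset.sum_filter]
  refine Fintype.sum_equiv (MulAut.conj x⁻¹).toEquiv _ _ fun g => ?_
  simp only [MulEquiv.toEquiv_eq_coe, MulEquiv.coe_toEquiv, MulAut.conj_apply, inv_inv]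
  have h3 : χ (x⁻¹ * g * x) = χ g := by simpa using hχ g x⁻¹
  rw [h3]

theorem inner_perm_nat (H : Subgroup G) (χ : IrrCharacter G) :
    ∃ m : ℕ, classInner (indFun H (fun _ : H => (1 : ℂ))) (χ : G → ℂ) = m := by
  haveI := Fintype.ofFinite H
  obtain ⟨m, hm⟩ := inner_char_nat (G := H) isCharacter_one
    (isCharacter_restrict H (isCharacter_of_irr χ.2))
  refine ⟨m, ?_⟩
  rw [inner_perm H (isClassFunction_irr χ), ← hm, inner_def]
  simp

/-- Constituents of a permutation character have the core in their kernel. -/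
theorem core_le_ker_of_inner_perm (H : Subgroup G) (χ : IrrCharacter G)
    (h : classInner (indFun H (fun _ : H => (1 : ℂ))) (χ : G → ℂ) ≠ 0) :
    H.normalCore ≤ charKer χ := by
  classical
  haveI := Fintype.ofFinite H
  haveI := Fintype.ofFinite H.normalCore
  by_contra hle
  refine h ?_
  rw [inner_perm H (isClassFunction_irr χ), ← map_sum]
  have key : (Nat.card H.normalCore : ℂ) * ∑ x : H, (χ : G → ℂ) x = 0 := by
    have e : ∑ x : H, ∑ n : H.normalCore, (χ : G → ℂ) ((n : G) * x) = 0 :=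
      Finset.sum_eq_zero fun x _ => sum_coset_eq_zero H.normalCore χ hle x
    have e2 : ∀ n : H.normalCore, ∑ x : H, (χ : G → ℂ) ((n : G) * x) = ∑ x : H, (χ : G → ℂ) x :=
      fun n => Fintype.sum_equiv (Equiv.mulLeft (⟨(n : G), H.normalCore_le n.2⟩ : H)) _ _
        fun x => rfl
    rw [Finset.sum_comm, Finset.sum_congr rfl fun n _ => e2 n] at e
    rw [Finset.sum_const, nsmul_eq_mul, Finset.card_univ, ← Nat.card_eq_fintype_card] at e
    exact e
  rw [(mul_eq_zero.mp key).resolve_left (Nat.cast_ne_zero.mpr Nat.card_pos.ne'), map_zero,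
    mul_zero]

/-- The weighted indicator sum counts the elements with square in `H`. -/
theorem sum_ind_mult (H : Subgroup G) [Fintype (IrrCharacter G)] :
    ∑ χ : IrrCharacter G,
      fsInd (χ : G → ℂ) * classInner (indFun H (fun _ : H => (1 : ℂ))) (χ : G → ℂ) =
      (Nat.card {g : G // g * g ∈ H} : ℂ) / Nat.card H := by
  classical
  haveI := Fintype.ofFinite H
  have h1 : ∑ h : H, (Nat.card {u : G // u * u = (h : G)} : ℂ) =
      (Nat.card {g : G // g * g ∈ H} : ℂ) := by
    rw [← Nat.cast_sum, ← Nat.card_sigma]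
    refine congrArg Nat.cast (Nat.card_congr
      ⟨fun a => ⟨a.2.1, by rw [a.2.2]; exact a.1.2⟩,
        fun g => ⟨⟨g.1 * g.1, g.2⟩, ⟨g.1, rfl⟩⟩, ?_, fun g => rfl⟩)
    rintro ⟨⟨h, hh⟩, ⟨u, hu⟩⟩
    have hu' : u * u = h := hu
    subst hu'
    rfl
  rw [← h1, Finset.sum_congr rfl fun (h : H) (_ : h ∈ (Finset.univ : Finset H)) =>
    card_sqrt_eq (G := G) (h : G), Finset.sum_comm, Finset.sum_div]
  refine Finset.sum_congr rfl fun χ _ => ?_
  rw [inner_perm H (isClassFunction_irr χ), div_eq_inv_mul, ← Finset.mul_sum, mul_left_comm]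
  refine congrArg _ (congrArg _ ?_)
  refine Fintype.sum_equiv (Equiv.inv H) _ _ fun x => ?_
  rw [Equiv.inv_apply, Subgroup.coe_inv, irr_inv]

/-- In a quotient of odd order squaring loses nothing. -/
theorem fsInd_eq_zero_of_odd (χ : IrrCharacter G) (hχ : χ ≠ oneIrr G) (K : Subgroup G) [K.Normal]
    (hK : K ≤ charKer χ) (hodd : Odd K.index) : fsInd (χ : G → ℂ) = 0 := by
  classical
  haveI := Fintype.ofFinite K
  let F : G ⧸ K → ℂ := Quotient.lift (fun g => (χ : G → ℂ) g) (by
    intro a b hab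
    have hab' : a⁻¹ * b ∈ charKer χ := hK (QuotientGroup.leftRel_apply.mp hab)
    show (χ : G → ℂ) a = (χ : G → ℂ) b
    have h := (char_mul_of_mem_ker (isCharacter_of_irr χ.2) hab' a).2
    rw [mul_inv_cancel_left] at h
    exact h.symm)
  have hF : ∀ g : G, F (g : G ⧸ K) = (χ : G → ℂ) g := fun _ => rfl
  have hfib : ∀ f : G ⧸ K → ℂ, ∑ g : G, f (g : G ⧸ K) = (Nat.card K : ℂ) * ∑ q : G ⧸ K, f q := by
    intro f
    rw [← Finset.sum_fiberwise Finset.univ (fun g : G => (g : G ⧸ K))
      (fun g : G => f (g : G ⧸ K)), Finset.mul_sum]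
    refine Finset.sum_congr rfl fun q _ => ?_
    rw [Finset.sum_congr rfl (g := fun _ => f q) (fun g hg => by rw [(Finset.mem_filter.mp hg).2]),
      Finset.sum_const, nsmul_eq_mul]
    obtain ⟨a, rfl⟩ := QuotientGroup.mk_surjective q
    refine congrArg (· * _) (congrArg Nat.cast ?_)
    rw [Nat.card_eq_fintype_card, ← Finset.card_univ]
    symm
    refine Finset.card_bij (fun (k : K) _ => a * (k : G)) ?_ ?_ ?_
    · intro k _
      simp [QuotientGroup.mk_mul, (QuotientGroup.eq_one_iff (k : G)).mpr k.2]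
    · intro k _ l _ hkl
      exact Subtype.ext (mul_left_cancel hkl)
    · intro b hb
      exact ⟨⟨a⁻¹ * b, QuotientGroup.eq.mp (Finset.mem_filter.mp hb).2.symm⟩,
        Finset.mem_univ _, mul_inv_cancel_left a b⟩
  have hbij : Function.Bijective (fun q : G ⧸ K => q * q) := by
    rw [Subgroup.index_eq_card] at hodd
    have h := (powCoprime (G := G ⧸ K) (Nat.coprime_two_right.mpr hodd)).bijective
    convert h using 1
    funext q
    simp [pow_two]
  have h0 := sum_irr_eq χ
  rw [if_neg hχ] at h0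
  rw [fsInd]
  have h1 : ∑ g : G, (χ : G → ℂ) (g * g) = ∑ g : G, (χ : G → ℂ) g := by
    simp only [← hF, QuotientGroup.mk_mul]
    rw [hfib (fun q => F (q * q)), hfib F]
    exact congrArg _ (Fintype.sum_bijective _ hbij _ _ fun q => rfl)
  rw [h1, h0, mul_zero]

end CfsgLib.CharApps
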