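import Cfsg.Agent.Lib.CharApps.Basic
import Cfsg.Agent.Lib.Chars.Integral
import Cfsg.Agent.Lib.Small.Order7920Tools

/-!
# Lower bounds for the character norm carried by classes of elements of prime order
-/

set_option autoImplicit false
set_option linter.style.haveILetI false
set_option linter.unusedSectionVars false

namespace CfsgLib.CharApps

open Cfsg CfsgLib.Chars
open scoped ComplexConjugate

universe u

variable {G : Type u} [Group G] [Fintype G]

/-- Sum and square sum of a character over the powers of an element. -/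
theorem exists_zpowers_sums (χ : IrrCharacter G) {x : G} {q : ℕ} (hx : orderOf x = q) :
    ∃ m Z : ℕ, (∑ j ∈ Finset.range q, (χ : G → ℂ) (x ^ j)) = (q : ℂ) * m ∧
      (∑ j ∈ Finset.range q, (χ : G → ℂ) (x ^ j) * conj ((χ : G → ℂ) (x ^ j))) = (q : ℂ) * Z := by
  classical
  set X := Subgroup.zpowers x
  haveI := Fintype.ofFinite X
  have hq : Nat.card X = q := by rw [Nat.card_zpowers, hx]
  have hχ : IsCharacter X (fun y : X => (χ : G → ℂ) y) :=
    isCharacter_restrict X (isCharacter_of_irr χ.2)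
  obtain ⟨m, hm⟩ := inner_char_nat hχ (isCharacter_of_irr (oneIrr X).2)
  obtain ⟨Z, hZ⟩ := inner_char_nat hχ hχ
  have hq0 : (q : ℂ) ≠ 0 := Nat.cast_ne_zero.2 (hq ▸ Nat.card_pos.ne')
  have key : ∀ f : G → ℂ, ∑ y : X, f y = ∑ j ∈ Finset.range q, f (x ^ j) := by
    intro f
    rw [← Fin.sum_univ_eq_sum_range (fun j => f (x ^ j))]
    refine (Fintype.sum_equiv ((finCongr hx.symm).trans
      (finEquivZPowers (isOfFinOrder_of_finite x))) _ _ fun j => ?_).symm
    simp [finEquivZPowers_apply]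
  rw [classInner, hq, inv_mul_eq_iff_eq_mul₀ hq0] at hm hZ
  refine ⟨m, Z, ?_, ?_⟩
  · rw [← hm, ← key]
    simp [oneIrr_apply]
  · rw [← hZ, ← key fun g => (χ : G → ℂ) g * conj ((χ : G → ℂ) g)]

theorem isIntegral_conj_irr (χ : IrrCharacter G) (g : G) :
    IsIntegral ℤ (conj ((χ : G → ℂ) g)) := by
  rw [← irr_inv]
  exact char_isIntegral (isCharacter_of_irr χ.2) g⁻¹

/-- If every power of an element `x` of odd prime order `q` is conjugate to `x` or to its inverse,
twice the real part and the square norm of `χ x` are integers congruent to `2 χ(1)` and `χ(1)^2`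
modulo `q`. -/
theorem exists_trace_norm (χ : IrrCharacter G) {x : G} {q : ℕ} [hq : Fact q.Prime]
    (hq2 : q ≠ 2) (hx : orderOf x = q)
    (hconj : ∀ j < q, j ≠ 0 → IsConj (x ^ j) x ∨ IsConj (x ^ j) x⁻¹) :
    ∃ S n : ℤ, (S : ℂ) = (χ : G → ℂ) x + conj ((χ : G → ℂ) x) ∧
      (n : ℂ) = (χ : G → ℂ) x * conj ((χ : G → ℂ) x) ∧
      (q : ℤ) ∣ S - 2 * charDegree (χ : G → ℂ) ∧
      (q : ℤ) ∣ n - (charDegree (χ : G → ℂ) : ℤ) ^ 2 ∧ S ^ 2 ≤ 4 * n := by
  classical
  obtain ⟨m, Z, hm, hZ⟩ := exists_zpowers_sums χ hx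
  set d := charDegree (χ : G → ℂ)
  set a := (χ : G → ℂ) x with ha
  have hcf := isClassFunction_irr χ
  have hval : ∀ j < q, j ≠ 0 → (χ : G → ℂ) (x ^ j) = a ∨ (χ : G → ℂ) (x ^ j) = conj a := by
    intro j hj hj0
    rcases hconj j hj hj0 with h | h
    · exact Or.inl (Blocks.classFun_of_isConj hcf h)
    · exact Or.inr (by rw [Blocks.classFun_of_isConj hcf h, irr_inv])
  set T := (Finset.range q).erase 0 with hT
  have h0 : (0 : ℕ) ∈ Finset.range q := Finset.mem_range.2 hq.out.pos
  have hTc : T.card = q - 1 := by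
    rw [hT, Finset.card_erase_of_mem h0, Finset.card_range]
  have hTmem : ∀ j ∈ T, j < q ∧ j ≠ 0 := fun j hj =>
    ⟨Finset.mem_range.1 (Finset.mem_erase.1 hj).2, (Finset.mem_erase.1 hj).1⟩
  rw [← Finset.add_sum_erase _ _ h0, pow_zero, deg_eq, ← hT] at hm hZ
  rw [map_natCast] at hZ
  have hn : ((q - 1 : ℕ) : ℂ) * (a * conj a) = (q : ℂ) * Z - (d : ℂ) * d := by
    rw [← hZ, add_sub_cancel_left, ← hTc, ← nsmul_eq_mul, ← Finset.sum_const]
    refine Finset.sum_congr rfl fun j hj => ?_
    obtain ⟨h1, h2⟩ := hTmem j hj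
    rcases hval j h1 h2 with h | h <;> rw [h]
    rw [Complex.conj_conj, mul_comm]
  have hS : ((q - 1 : ℕ) : ℂ) * (a + conj a) = 2 * ((q : ℂ) * m - d) := by
    have hc : ∑ j ∈ T, conj ((χ : G → ℂ) (x ^ j)) = (q : ℂ) * m - d := by
      have := congrArg conj hm
      rw [map_add, map_sum, map_mul, map_natCast, map_natCast, map_natCast] at this
      rw [← this, add_sub_cancel_left]
    rw [two_mul]
    nth_rw 2 [← hc]
    rw [← hm, add_sub_cancel_left, ← Finset.sum_add_distrib, ← hTc, ← nsmul_eq_mul,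
      ← Finset.sum_const]
    refine Finset.sum_congr rfl fun j hj => ?_
    obtain ⟨h1, h2⟩ := hTmem j hj
    rcases hval j h1 h2 with h | h <;> rw [h]
    rw [Complex.conj_conj, add_comm]
  have hq1 : ((q - 1 : ℕ) : ℂ) ≠ 0 := Nat.cast_ne_zero.2 (by have := hq.out.two_le; omega)
  obtain ⟨n, hn'⟩ := exists_int_of_isIntegral_rat (((q : ℚ) * Z - (d : ℚ) * d) / ((q - 1 : ℕ) : ℚ))
    (by
      push_cast
      rw [← hn, mul_div_cancel_left₀ _ hq1]
      exact (char_isIntegral (isCharacter_of_irr χ.2) x).mul (isIntegral_conj_irr χ x))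
  obtain ⟨S, hS'⟩ := exists_int_of_isIntegral_rat ((2 * ((q : ℚ) * m - d)) / ((q - 1 : ℕ) : ℚ))
    (by
      push_cast
      rw [← hS, mul_div_cancel_left₀ _ hq1]
      exact (char_isIntegral (isCharacter_of_irr χ.2) x).add (isIntegral_conj_irr χ x))
  have hq1' : ((q - 1 : ℕ) : ℚ) ≠ 0 := Nat.cast_ne_zero.2 (by have := hq.out.two_le; omega)
  have hnC : (n : ℂ) = a * conj a := by
    have h := congrArg (fun r : ℚ => (r : ℂ)) hn'
    push_cast at h
    rw [← h, ← hn, mul_div_cancel_left₀ _ hq1]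
  have hSC : (S : ℂ) = a + conj a := by
    have h := congrArg (fun r : ℚ => (r : ℂ)) hS'
    push_cast at h
    rw [← h, ← hS, mul_div_cancel_left₀ _ hq1]
  refine ⟨S, n, hSC, hnC, ?_, ?_, ?_⟩
  · rw [div_eq_iff hq1', Nat.cast_sub hq.out.one_le] at hS'
    push_cast at hS'
    have h : 2 * ((q : ℤ) * m - d) = S * ((q : ℤ) - 1) := by exact_mod_cast hS'
    exact ⟨S - 2 * m, by linarith⟩
  · rw [div_eq_iff hq1', Nat.cast_sub hq.out.one_le] at hn'
    push_cast at hn'
    have h : (q : ℤ) * Z - d * d = n * ((q : ℤ) - 1) := by exact_mod_cast hn'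
    exact ⟨n - Z, by linarith⟩
  · have h1 : (S : ℝ) = 2 * a.re := by
      have := congrArg Complex.re hSC
      simp at this
      linarith
    have h2 : (n : ℝ) = a.re * a.re + a.im * a.im := by
      have := congrArg Complex.re hnC
      simp at this
      linarith
    have h3 : (S : ℝ) ^ 2 ≤ 4 * (n : ℝ) := by rw [h1, h2]; nlinarith [sq_nonneg a.im]
    exact_mod_cast h3

/-- If all powers of `x` are conjugate to `x` then `χ x` is an integer. -/
theorem exists_int_of_rational (χ : IrrCharacter G) {x : G} {q : ℕ} [hq : Fact q.Prime]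
    (hx : orderOf x = q) (hconj : ∀ j < q, j ≠ 0 → IsConj (x ^ j) x) :
    ∃ v : ℤ, (v : ℂ) = (χ : G → ℂ) x ∧ (q : ℤ) ∣ v - charDegree (χ : G → ℂ) := by
  classical
  obtain ⟨m, -, hm, -⟩ := exists_zpowers_sums χ hx
  set a := (χ : G → ℂ) x with ha
  have h0 : (0 : ℕ) ∈ Finset.range q := Finset.mem_range.2 hq.out.pos
  rw [← Finset.add_sum_erase _ _ h0, pow_zero, deg_eq, Finset.sum_congr rfl (g := fun _ => a)
    (fun j hj => Blocks.classFun_of_isConj (isClassFunction_irr χ)
      (hconj j (Finset.mem_range.1 (Finset.mem_erase.1 hj).2) (Finset.mem_erase.1 hj).1)),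
    Finset.sum_const, Finset.card_erase_of_mem h0, Finset.card_range, nsmul_eq_mul] at hm
  have hq1 : ((q - 1 : ℕ) : ℂ) ≠ 0 := Nat.cast_ne_zero.2 (by have := hq.out.two_le; omega)
  have hv : a = (((((q : ℚ) * m - (charDegree (χ : G → ℂ) : ℚ)) / ((q - 1 : ℕ) : ℚ)) : ℚ) : ℂ) := by
    push_cast
    rw [eq_div_iff hq1]
    linear_combination hm
  obtain ⟨v, hv'⟩ := exists_int_of_isIntegral_rat
    (((q : ℚ) * m - (charDegree (χ : G → ℂ) : ℚ)) / ((q - 1 : ℕ) : ℚ))
    (by rw [← hv, ha]; exact char_isIntegral (isCharacter_of_irr χ.2) x)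
  refine ⟨v, by rw [hv, hv']; push_cast; rfl, ?_⟩
  exact Small.int_congr_of_pow_eq_one χ (g := x) (hx ▸ pow_orderOf_eq_one x)
    (by rw [← ha, hv, hv']; push_cast; rfl)

/-- The divisibility of a rational value coming from the integrality of central characters. -/
theorem degree_dvd_index_mul (χ : IrrCharacter G) {x : G} {v : ℤ}
    (hv : (v : ℂ) = (χ : G → ℂ) x) :
    (charDegree (χ : G → ℂ) : ℤ) ∣ ((Subgroup.centralizer ({x} : Set G)).index : ℤ) * v := by
  have h := Blocks.isIntegral_centralChar χ x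
  rw [centralChar, ← hv, deg_eq] at h
  set i := (Subgroup.centralizer ({x} : Set G)).index
  set d := charDegree (χ : G → ℂ) with hd
  obtain ⟨m, hm⟩ := exists_int_of_isIntegral_rat (((i : ℚ) * v) / (d : ℚ)) (by push_cast; exact h)
  rw [div_eq_iff (Nat.cast_ne_zero.2 (deg_pos χ).ne')] at hm
  exact ⟨m, by rw [mul_comm (d : ℤ) m]; exact_mod_cast hm⟩

open scoped _root_.Classical in
/-- The union of some conjugacy classes. -/
theorem sum_classes_eq (f : G → ℂ) (hf : IsClassFunction G f) (s : Finset G)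
    (hs : ∀ x ∈ s, ∀ y ∈ s, IsConj x y → x = y) :
    ∑ g ∈ Finset.univ.filter (fun g => ∃ x ∈ s, IsConj x g), f g =
      ∑ x ∈ s, ((Subgroup.centralizer ({x} : Set G)).index : ℂ) * f x := by
  have hu : Finset.univ.filter (fun g => ∃ x ∈ s, IsConj x g) =
      s.biUnion fun x => Finset.univ.filter fun g => IsConj x g := by ext g; simp
  rw [hu, Finset.sum_biUnion]
  · refine Finset.sum_congr rfl fun x _ => ?_
    rw [Finset.sum_congr rfl (g := fun _ => f x)
      (fun g hg => (Blocks.classFun_of_isConj hf (Finset.mem_filter.1 hg).2).symm),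
      Finset.sum_const, nsmul_eq_mul, Chars.index_centralizer_eq, Nat.card_eq_fintype_card,
      Fintype.card_subtype]
  · intro x hx y hy hxy
    rw [Function.onFun, Finset.disjoint_filter]
    exact fun g _ h1 h2 => hxy (hs x hx y hy (h1.trans h2.symm))

/-- The norm carried by the identity and some classes is at most the group order, and in case of
equality the character vanishes elsewhere. -/
theorem degree_sq_add_classes_le (χ : IrrCharacter G) (s : Finset G)
    (hs : ∀ x ∈ s, ∀ y ∈ s, IsConj x y → x = y) (h1 : (1 : G) ∉ s) (n : G → ℤ)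
    (hn : ∀ x ∈ s, (n x : ℂ) = (χ : G → ℂ) x * conj ((χ : G → ℂ) x)) :
    ((charDegree (χ : G → ℂ) : ℤ) ^ 2 +
        ∑ x ∈ s, ((Subgroup.centralizer ({x} : Set G)).index : ℤ) * n x ≤ (Nat.card G : ℤ)) ∧
      ((charDegree (χ : G → ℂ) : ℤ) ^ 2 +
        ∑ x ∈ s, ((Subgroup.centralizer ({x} : Set G)).index : ℤ) * n x = (Nat.card G : ℤ) →
        ∀ g : G, g ≠ 1 → (∀ x ∈ s, ¬ IsConj x g) → (χ : G → ℂ) g = 0) := by
  classical
  set φ := (χ : G → ℂ)
  set F : G → ℂ := fun g => φ g * conj (φ g) with hF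
  have hFc : IsClassFunction G F := fun g h => by
    simp only [hF, φ]
    rw [isClassFunction_irr χ g h]
  set U := Finset.univ.filter (fun g => ∃ x ∈ s, IsConj x g) with hU
  have hsum : ∑ g, F g = (Nat.card G : ℂ) := by
    have h := inner_irr_self χ
    rw [classInner, inv_mul_eq_iff_eq_mul₀ (Nat.cast_ne_zero.2 Nat.card_pos.ne'), mul_one] at h
    exact h
  have h1U : (1 : G) ∉ U := by
    simp only [hU, Finset.mem_filter, Finset.mem_univ, true_and, not_exists, not_and]
    intro x hx h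
    exact h1 (isConj_one_left.1 h ▸ hx)
  set R := Finset.univ \ insert 1 U with hR
  have hsplit : F 1 + ∑ g ∈ U, F g + ∑ g ∈ R, F g = (Nat.card G : ℂ) := by
    rw [← hsum, ← Finset.sum_sdiff (Finset.subset_univ (insert 1 U)),
      Finset.sum_insert h1U]
    ring
  have hpart : F 1 + ∑ g ∈ U, F g = (((charDegree φ : ℤ) ^ 2 +
      ∑ x ∈ s, ((Subgroup.centralizer ({x} : Set G)).index : ℤ) * n x : ℤ) : ℂ) := by
    rw [sum_classes_eq F hFc s hs]
    simp only [hF, φ, deg_eq, map_natCast]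
    push_cast
    rw [sq]
    congr 1
    exact Finset.sum_congr rfl fun x hx => by rw [hn x hx]
  rw [hpart] at hsplit
  have hre := congrArg Complex.re hsplit
  have hFre : ∀ g, F g = ((Complex.normSq (φ g) : ℝ) : ℂ) := fun g => Complex.mul_conj _
  simp only [Complex.add_re, Complex.re_sum, hFre, Complex.ofReal_re, Complex.intCast_re,
    Complex.natCast_re] at hre
  have hnn : 0 ≤ ∑ g ∈ R, Complex.normSq (φ g) :=
    Finset.sum_nonneg fun g _ => Complex.normSq_nonneg _
  set A := (charDegree φ : ℤ) ^ 2 +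
      ∑ x ∈ s, ((Subgroup.centralizer ({x} : Set G)).index : ℤ) * n x with hA
  refine ⟨?_, fun heq g hg hgs => ?_⟩
  · have : (A : ℝ) ≤ ((Nat.card G : ℤ) : ℝ) := by push_cast; linarith
    exact_mod_cast this
  · rw [heq] at hre
    push_cast at hre
    have h0 := (Finset.sum_eq_zero_iff_of_nonneg fun g _ => Complex.normSq_nonneg _).1
      (show ∑ g ∈ R, Complex.normSq (φ g) = 0 by linarith) g
      (by
        simp only [hR, hU, Finset.mem_sdiff, Finset.mem_univ, Finset.mem_insert, Finset.mem_filter,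
          true_and, not_or, not_exists, not_and]
        exact ⟨hg, hgs⟩)
    exact Complex.normSq_eq_zero.1 h0

/-- A nontrivial irreducible character sums to zero, split over the identity and some classes
outside of which it vanishes. -/
theorem degree_add_classes_eq_zero (χ : IrrCharacter G) (hd : charDegree (χ : G → ℂ) ≠ 1)
    (s : Finset G) (hs : ∀ x ∈ s, ∀ y ∈ s, IsConj x y → x = y) (h1 : (1 : G) ∉ s)
    (hz : ∀ g : G, g ≠ 1 → (∀ x ∈ s, ¬ IsConj x g) → (χ : G → ℂ) g = 0) :
    (charDegree (χ : G → ℂ) : ℂ) +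
      ∑ x ∈ s, ((Subgroup.centralizer ({x} : Set G)).index : ℂ) * (χ : G → ℂ) x = 0 := by
  classical
  have hne : χ ≠ oneIrr G := by
    intro h
    refine hd ((deg_eq_one_iff χ).1 ?_)
    rw [h, oneIrr_apply]
  have h := inner_irr_ne hne
  rw [classInner, mul_eq_zero] at h
  have hsum : ∑ g, (χ : G → ℂ) g = 0 := by
    have := h.resolve_left (inv_ne_zero (Nat.cast_ne_zero.2 Nat.card_pos.ne'))
    simpa [oneIrr_apply] using this
  rw [← sum_classes_eq _ (isClassFunction_irr χ) s hs, ← deg_eq]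
  rw [← hsum]
  set U := Finset.univ.filter (fun g => ∃ x ∈ s, IsConj x g) with hU
  have h1U : (1 : G) ∉ U := by
    simp only [hU, Finset.mem_filter, Finset.mem_univ, true_and, not_exists, not_and]
    intro x hx h
    exact h1 (isConj_one_left.1 h ▸ hx)
  rw [← Finset.sum_insert h1U]
  refine Finset.sum_subset (Finset.subset_univ _) fun g _ hg => ?_
  simp only [Finset.mem_insert, hU, Finset.mem_filter, Finset.mem_univ, true_and, not_or,
    not_exists, not_and] at hg
  exact hz g hg.1 hg.2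

end CfsgLib.CharApps
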