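import Cfsg.Agent.Lib.CharApps.Codegree
import Cfsg.Agent.Lib.Chars.Degree
import Cfsg.Prelude.Def_Solvable

/-!
# Irreducible characters with prime codegree
-/

set_option autoImplicit false
set_option linter.style.haveILetI false

namespace CfsgLib.CharApps

open Cfsg CfsgLib.Chars Module
open scoped Pointwise

universe u

variable {G : Type u} [Group G]

theorem charDegree_le_index_of_abelian [Finite G] (χ : IrrCharacter G) (A : Subgroup G)
    (hA : ∀ a ∈ A, ∀ b ∈ A, a * b = b * a) : charDegree (χ : G → ℂ) ≤ A.index := by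
  obtain ⟨n, ρ, hρ, hχ⟩ := χ.2
  have h := finrank_le_index_of_abelian ρ A hA
  rw [Module.finrank_fintype_fun_eq_card, Fintype.card_fin] at h
  have h2 : (χ : G → ℂ) 1 = (n : ℂ) := by rw [← hχ]; simp
  rw [deg_eq, Nat.cast_inj] at h2
  omega

/-- A group with a faithful irreducible character of codegree `p` has a self-centralising normal
subgroup of order `p`. -/
theorem exists_normal_of_prime_codegree [Finite G] (χ : IrrCharacter G)
    (hfaith : ∀ g : G, (χ : G → ℂ) g = (χ : G → ℂ) 1 → g = 1) {p : ℕ} (hp : p.Prime)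
    (hcod : Nat.card G = p * charDegree (χ : G → ℂ)) :
    ∃ P : Subgroup G, P.Normal ∧ Nat.card P = p ∧ Subgroup.centralizer (P : Set G) = P ∧
      ¬ p ∣ P.index := by
  classical
  haveI := irrFintype G
  haveI := Fact.mk hp
  set d := charDegree (χ : G → ℂ) with hd
  have hd0 : 0 < d := deg_pos χ
  have hne : χ ≠ oneIrr G := by
    intro h
    have h1 : ∀ g : G, g = 1 := fun g => hfaith g (by rw [h]; rfl)
    haveI : Subsingleton G := ⟨fun a b => (h1 a).trans (h1 b).symm⟩
    have := Nat.card_unique (α := G)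
    rw [hcod] at this
    exact hp.one_lt.ne' (Nat.eq_one_of_mul_eq_one_right this)
  have hlt : d < p := by
    have h1 := sum_degree_sq_nat (G := G)
    rw [← Finset.add_sum_erase _ _ (Finset.mem_univ (oneIrr G))] at h1
    have h2 : charDegree (oneIrr G : G → ℂ) = 1 := (deg_eq_one_iff _).mp rfl
    have h3 : charDegree (χ : G → ℂ) ^ 2 ≤
        ∑ ψ ∈ Finset.univ.erase (oneIrr G), charDegree (ψ : G → ℂ) ^ 2 :=
      Finset.single_le_sum (f := fun ψ : IrrCharacter G => charDegree (ψ : G → ℂ) ^ 2)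
        (fun _ _ => Nat.zero_le _) (Finset.mem_erase.mpr ⟨hne, Finset.mem_univ χ⟩)
    rw [h2, one_pow, hcod] at h1
    rw [← hd] at h3
    nlinarith
  have hpd : ¬ p ∣ d := fun h => (Nat.le_of_dvd hd0 h).not_gt hlt
  obtain ⟨P⟩ : Nonempty (Sylow p G) := inferInstance
  have hPc : Nat.card P = p := by
    rw [P.card_eq_multiplicity, hcod, Nat.factorization_mul hp.ne_zero hd0.ne',
      Finsupp.coe_add, Pi.add_apply, hp.factorization_self,
      Nat.factorization_eq_zero_of_not_dvd hpd, add_zero, pow_one]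
  have hidx : (P : Subgroup G).index = d := by
    have h := (P : Subgroup G).card_mul_index
    rw [hPc, hcod] at h
    exact Nat.eq_of_mul_eq_mul_left hp.pos h
  have hN : Nat.card (Sylow p G) = 1 := by
    have h1 : Nat.card (Sylow p G) ∣ d := hidx ▸ P.card_dvd_index
    have h2 : Nat.card (Sylow p G) ≡ 1 [MOD p] := card_sylow_modEq_one p G
    have h3 : Nat.card (Sylow p G) < p := (Nat.le_of_dvd hd0 h1).trans_lt hlt
    unfold Nat.ModEq at h2
    rwa [Nat.mod_eq_of_lt h3, Nat.mod_eq_of_lt hp.one_lt] at h2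
  haveI hPn : (P : Subgroup G).Normal := by
    haveI := (Nat.card_eq_one_iff_unique.mp hN).1
    exact P.normal_of_subsingleton
  have hcyc : IsCyclic (P : Subgroup G) := isCyclic_of_prime_card hPc
  have hcomm : ∀ a ∈ (P : Subgroup G), ∀ b ∈ (P : Subgroup G), a * b = b * a := fun a ha b hb => by
    letI := hcyc.commGroup
    exact congrArg Subtype.val (mul_comm (⟨a, ha⟩ : (P : Subgroup G)) ⟨b, hb⟩)
  refine ⟨P, hPn, hPc, le_antisymm ?_ fun x hx => Subgroup.mem_centralizer_iff.mpr
    fun y hy => hcomm y hy x hx, hidx ▸ hpd⟩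
  intro x hx
  let A : Subgroup G := (P : Subgroup G) ⊔ Subgroup.zpowers x
  have hA : ∀ a ∈ A, ∀ b ∈ A, a * b = b * a := by
    have hle : A ≤ Subgroup.centralizer (A : Set G) := by
      refine sup_le ?_ ?_ <;> rw [Subgroup.le_centralizer_iff] <;> refine sup_le ?_ ?_
      · exact fun a ha => Subgroup.mem_centralizer_iff.mpr fun b hb => hcomm b hb a ha
      · rw [Subgroup.zpowers_le]; exact hx
      · intro a ha
        rw [Subgroup.mem_centralizer_iff]
        intro b hb
        obtain ⟨k, rfl⟩ := Subgroup.mem_zpowers_iff.mp hb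
        have := (Subgroup.mem_centralizer_iff.mp hx a ha : a * x = x * a)
        exact ((Commute.zpow_right (this : Commute a x) k).eq).symm
      · rw [Subgroup.zpowers_le, Subgroup.mem_centralizer_iff]
        intro b hb
        obtain ⟨k, rfl⟩ := Subgroup.mem_zpowers_iff.mp hb
        exact (Commute.zpow_left (Commute.refl x) k).eq
    exact fun a ha b hb => Subgroup.mem_centralizer_iff.mp (hle hb) a ha
  have h1 := charDegree_le_index_of_abelian χ A hA
  have h2 := A.card_mul_index
  have h3 : Nat.card (P : Subgroup G) ≤ Nat.card A :=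
    Subgroup.card_le_of_le le_sup_left
  rw [hPc] at h3
  have h4 : (P : Subgroup G) = A := by
    refine Subgroup.eq_of_le_of_card_ge le_sup_left ?_
    rw [hPc]
    have h5 : Nat.card A * d ≤ p * d := by
      calc Nat.card A * d ≤ Nat.card A * A.index := Nat.mul_le_mul_left _ h1
        _ = p * d := h2.trans hcod
    exact Nat.le_of_mul_le_mul_right h5 hd0
  rw [h4]
  exact (le_sup_right : _ ≤ A) (Subgroup.mem_zpowers x)

/-- A self-centralising normal subgroup of prime order is a Frobenius kernel. -/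
theorem exists_frobenius_of_selfCentralizing [Finite G] (P : Subgroup G) [P.Normal] {p : ℕ}
    (hp : p.Prime) (hPc : Nat.card P = p) (hC : Subgroup.centralizer (P : Set G) = P)
    (hidx : ¬ p ∣ P.index) (hne : P ≠ ⊤) :
    ∃ H : Subgroup G, IsFrobeniusComplement H ∧ Nat.card ↥(frobeniusKernel H) = p := by
  classical
  haveI := Fact.mk hp
  haveI := Fintype.ofFinite G
  haveI := Fintype.ofFinite P
  obtain ⟨H, hH⟩ := Subgroup.exists_right_complement'_of_coprime
    (show Nat.Coprime (Nat.card P) P.index from hPc ▸ hp.coprime_iff_not_dvd.mpr hidx)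
  have hd : Disjoint P H := hH.disjoint
  have hHP : ∀ h ∈ H, h ∈ P → h = 1 := fun h h1 h2 => by
    have : h ∈ P ⊓ H := ⟨h2, h1⟩
    rwa [hd.eq_bot, Subgroup.mem_bot] at this
  have hfix : ∀ h ∈ H, ∀ n ∈ P, n ≠ 1 → h * n = n * h → h = 1 := by
    intro h hh n hn hn1 hcomm
    refine hHP h hh ?_
    rw [← hC, Subgroup.mem_centralizer_iff]
    intro y hy
    obtain ⟨k, hk⟩ := Subgroup.mem_zpowers_iff.mp (mem_zpowers_of_prime_card hPc
      (g := (⟨n, hn⟩ : P)) (g' := ⟨y, hy⟩) (fun h => hn1 (congrArg Subtype.val h)))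
    have hk' : n ^ k = y := congrArg Subtype.val hk
    rw [← hk']
    exact ((Commute.zpow_right (hcomm : Commute h n) k).eq).symm
  have hdec : ∀ g : G, ∃ n ∈ P, ∃ h ∈ H, g = n * h := fun g => by
    obtain ⟨⟨n, h⟩, hnh⟩ := hH.2 g
    exact ⟨n, n.2, h, h.2, hnh.symm⟩
  have hTI : ∀ n ∈ P, n ≠ 1 → ∀ x ∈ H, n * x * n⁻¹ ∈ H → x = 1 := by
    intro n hn hn1 x hx hc
    have h1 : n * x * n⁻¹ * x⁻¹ ∈ P := by
      have := P.mul_mem hn ((inferInstance : P.Normal).conj_mem n⁻¹ (P.inv_mem hn) x)
      simpa [mul_assoc] using this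
    have h2 : n * x * n⁻¹ * x⁻¹ = 1 := hHP _ (H.mul_mem hc (H.inv_mem hx)) h1
    refine hfix x hx n hn hn1 ?_
    rw [mul_inv_eq_one, mul_inv_eq_iff_eq_mul] at h2
    exact h2.symm
  have hfc : IsFrobeniusComplement H := by
    refine ⟨fun hb => hne ?_, fun ht => ?_, fun g hg => ?_⟩
    · rw [hb] at hH
      exact Subgroup.isComplement'_bot_right.mp hH
    · rw [ht] at hd
      rw [disjoint_top] at hd
      rw [hd, Subgroup.card_bot] at hPc
      exact hp.one_lt.ne hPc
    · obtain ⟨n, hn, h, hh, rfl⟩ := hdec g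
      have hn1 : n ≠ 1 := fun h1 => hg (by rw [h1, one_mul]; exact hh)
      rw [Subgroup.eq_bot_iff_forall]
      intro y hy
      obtain ⟨hyH, hyc⟩ := Subgroup.mem_inf.mp hy
      rw [Subgroup.mem_pointwise_smul_iff_inv_smul_mem, ← map_inv, MulAut.smul_def,
        MulAut.conj_apply] at hyc
      have h3 : n⁻¹ * y * n ∈ H := by
        have := H.mul_mem (H.mul_mem hh hyc) (H.inv_mem hh)
        simpa [mul_assoc] using this
      exact hTI n⁻¹ (P.inv_mem hn) (inv_ne_one.mpr hn1) y hyH (by rwa [inv_inv])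
  refine ⟨H, hfc, ?_⟩
  suffices hk : frobeniusKernel H = (P : Set G) by rw [hk]; exact hPc
  have hmem : ∀ (g x : G), x ∈ MulAut.conj g • H ↔ g⁻¹ * x * g ∈ H := fun g x => by
    rw [Subgroup.mem_pointwise_smul_iff_inv_smul_mem, ← map_inv, MulAut.smul_def,
      MulAut.conj_apply, inv_inv]
  ext x
  refine ⟨?_, fun hx => ?_⟩
  · rintro (rfl | hx)
    · exact P.one_mem
    · by_contra hxP
      obtain ⟨n, hn, h, hh, rfl⟩ := hdec x
      have hh1 : h ≠ 1 := fun h1 => hxP (by rw [h1, mul_one]; exact hn)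
      -- the map `m ↦ m * h * m⁻¹ * h⁻¹` is injective, hence surjective, on `P`
      have hcl : ∀ m : P, (m : G) * h * (m : G)⁻¹ * h⁻¹ ∈ P := fun m => by
        have := P.mul_mem m.2 ((inferInstance : P.Normal).conj_mem (m : G)⁻¹ (P.inv_mem m.2) h)
        simpa [mul_assoc] using this
      let f : P → P := fun m => ⟨(m : G) * h * (m : G)⁻¹ * h⁻¹, hcl m⟩
      have hinj : Function.Injective f := by
        intro a b hab
        have h1 : (a : G) * h * (a : G)⁻¹ * h⁻¹ = (b : G) * h * (b : G)⁻¹ * h⁻¹ :=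
          congrArg Subtype.val hab
        have h2 := mul_right_cancel h1
        have h3 : h * ((a : G)⁻¹ * b) = (a : G)⁻¹ * b * h := by
          calc h * ((a : G)⁻¹ * b) = (a : G)⁻¹ * ((a : G) * h * (a : G)⁻¹) * b := by group
            _ = (a : G)⁻¹ * ((b : G) * h * (b : G)⁻¹) * b := by rw [h2]
            _ = (a : G)⁻¹ * b * h := by group
        by_contra hne'
        exact hh1 (hfix h hh _ (P.mul_mem (P.inv_mem a.2) b.2)
          (fun h0 => hne' (Subtype.ext (inv_mul_eq_one.mp h0))) h3)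
      obtain ⟨m, hm⟩ := Finite.injective_iff_surjective.mp hinj ⟨n, hn⟩
      have hm' : (m : G) * h * (m : G)⁻¹ * h⁻¹ = n := congrArg Subtype.val hm
      refine hx m ((hmem _ _).mpr ?_)
      rw [← hm']
      simpa [mul_assoc] using hh
  · rcases eq_or_ne x 1 with rfl | hx1
    · exact Or.inl rfl
    · refine Or.inr fun g hg => hx1 ?_
      have h1 := hHP _ ((hmem g x).mp hg) (by
        simpa using (inferInstance : P.Normal).conj_mem x hx g⁻¹)
      simpa [mul_inv_eq_one, inv_mul_eq_one, mul_eq_one_iff_eq_inv, inv_inj] using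
        (show x = 1 by
          have := congrArg (fun y => g * y * g⁻¹) h1
          simpa [mul_assoc] using this)

end CfsgLib.CharApps
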