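import Cfsg.Agent.Lib.Chars.Burnside
import Cfsg.Agent.Lib.Chars.Virtual
import Cfsg.Agent.Lib.Chars.Linear
import Cfsg.Agent.Lib.Chars.Induction
import Cfsg.Agent.Lib.CharsMore.CdThree
import Cfsg.Agent.Lib.CharsMore.ItoDegree
import Cfsg.Agent.Lib.CharApps.AbelianSylow
import Cfsg.Agent.Lib.CharApps.PrimeMulChars
import Cfsg.Agent.Lib.BlockOrth.PPart

/-!
A finite group whose nonlinear irreducible degrees are primes is solvable.

In a simple group of this kind every degree `p` has a self-centralizing Sylow subgroup of order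
`p`; for the largest degree the characters of smaller degree are exceptional, so there are at
most two nonlinear degrees.
-/

set_option linter.style.haveILetI false
set_option linter.unusedSectionVars false

open Cfsg CfsgLib CfsgLib.CharsMore
open scoped commutatorElement ComplexConjugate

namespace CfsgLib.PrimeDegreesSolvable

universe u

section Simple

variable {S : Type u} [Group S] [Fintype S] [IsSimpleGroup S] (hnc : ¬ IsMulCommutative S)

include hnc

theorem commutator_eq_top : commutator S = ⊤ := by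
  refine (IsSimpleGroup.eq_bot_or_eq_top_of_normal (commutator S) inferInstance).resolve_left
    fun h => hnc ⟨⟨fun a b => commutatorElement_eq_one_iff_mul_comm.1 ?_⟩⟩
  rw [← Subgroup.mem_bot, ← h]
  exact Subgroup.commutator_mem_commutator (Subgroup.mem_top _) (Subgroup.mem_top _)

theorem eq_one_of_central {g : S} (h : ∀ y, g * y = y * g) : g = 1 := by
  by_contra hg
  have hp := Chars.prime_card_of_central hg h
  haveI := Fact.mk hp
  haveI := isCyclic_of_prime_card (α := S) rfl
  exact hnc ⟨⟨fun a b => IsCyclic.commGroup.mul_comm a b⟩⟩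

/-- A nonlinear irreducible character is faithful and scalar only at the identity. -/
theorem norm_ne {χ : IrrCharacter S} (hd : charDegree (χ : S → ℂ) ≠ 1) {g : S} (hg : g ≠ 1) :
    ‖(χ : S → ℂ) g‖ ≠ (charDegree (χ : S → ℂ) : ℝ) ∧ (χ : S → ℂ) g ≠ (χ : S → ℂ) 1 := by
  obtain ⟨n, ρ, hρ, hρχ⟩ := id χ.2
  have hker : ρ.ker = ⊥ := by
    refine (IsSimpleGroup.eq_bot_or_eq_top_of_normal ρ.ker inferInstance).resolve_right fun h => ?_
    apply hd
    have h1 : ∀ y, (χ : S → ℂ) y = (χ : S → ℂ) 1 := fun y =>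
      (Chars.ker_iff ρ hρχ y).2 (h ▸ Subgroup.mem_top y : y ∈ ρ.ker)
    have h2 := Chars.inner_irr_self χ
    rw [Chars.inner_def] at h2
    simp only [h1, Finset.sum_const, Finset.card_univ, nsmul_eq_mul, ← Nat.card_eq_fintype_card,
      CharApps.deg_eq, map_natCast] at h2
    rw [← mul_assoc, inv_mul_cancel₀ (Chars.card_ne_zero S), one_mul] at h2
    exact Nat.eq_one_of_mul_eq_one_right (by exact_mod_cast h2 : charDegree (χ : S → ℂ) *
      charDegree (χ : S → ℂ) = 1)
  have hinj := (MonoidHom.ker_eq_bot_iff ρ).1 hker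
  have hn : charDegree (χ : S → ℂ) = n := by
    have h1 : (charDegree (χ : S → ℂ) : ℂ) = n := by
      rw [← CharApps.deg_eq, ← hρχ, Representation.char_one, Module.finrank_fin_fun]
    exact_mod_cast h1
  have hscalar : ‖(χ : S → ℂ) g‖ ≠ (charDegree (χ : S → ℂ) : ℝ) := by
    intro hno
    rw [hn, ← hρχ] at hno
    obtain ⟨ω, hω⟩ := (Chars.norm_character_eq_iff ρ g).1 (by rw [hno, Module.finrank_fin_fun])
    refine hg (eq_one_of_central hnc fun y => hinj ?_)
    rw [map_mul, map_mul, hω]
    ext; simp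
  exact ⟨hscalar, fun h => hscalar (by rw [h, CharApps.deg_eq, Complex.norm_natCast])⟩

/-- Burnside's vanishing lemma in a simple group. -/
theorem eq_zero_of_coprime {χ : IrrCharacter S} (hd : charDegree (χ : S → ℂ) ≠ 1) {g : S}
    (hg : g ≠ 1)
    (hco : Nat.Coprime (charDegree (χ : S → ℂ)) (Subgroup.centralizer ({g} : Set S)).index) :
    (χ : S → ℂ) g = 0 := by
  obtain ⟨n, ρ, hρ, hρχ⟩ := id χ.2
  haveI := hρ
  have hn : charDegree (χ : S → ℂ) = Module.finrank ℂ (Fin n → ℂ) := by
    have h1 : (charDegree (χ : S → ℂ) : ℂ) = Module.finrank ℂ (Fin n → ℂ) := by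
      rw [← CharApps.deg_eq, ← hρχ, Representation.char_one]
    exact_mod_cast h1
  have h := Chars.character_eq_zero_or_norm_eq ρ g (hn ▸ hco)
  rw [hρχ, ← hn] at h
  exact h.resolve_right (norm_ne hnc hd hg).1

/-- The Sylow subgroup for a degree that is a prime has prime order. -/
theorem not_sq_dvd {p : ℕ} (hp : p.Prime) {χ : IrrCharacter S}
    (hd : charDegree (χ : S → ℂ) = p) : p ∣ Nat.card S ∧ ¬ p ^ 2 ∣ Nat.card S := by
  classical
  haveI := Fact.mk hp
  have hd1 : charDegree (χ : S → ℂ) ≠ 1 := hd ▸ hp.ne_one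
  obtain ⟨n, -, hn, hnd⟩ := Chars.irr_degree_dvd_card χ.2
  have hpn : n = p := by
    rw [CharApps.deg_eq, hd] at hn; exact_mod_cast hn.symm
  refine ⟨hpn ▸ hnd, fun hsq => ?_⟩
  obtain ⟨P⟩ : Nonempty (Sylow p S) := inferInstance
  letI := Fintype.ofFinite (P : Subgroup S)
  letI := Chars.irrFintype (P : Subgroup S)
  have hres := Chars.isCharacter_restrict (P : Subgroup S) (Chars.isCharacter_of_irr χ.2)
  -- the Sylow subgroup is abelian
  have hab : ∀ a b : (P : Subgroup S), a * b = b * a := by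
    by_cases hlin : ∀ θ : IrrCharacter (P : Subgroup S),
        classInner (fun x : (P : Subgroup S) => (χ : S → ℂ) x) (θ : ↥(P : Subgroup S) → ℂ) ≠ 0 →
          charDegree (θ : ↥(P : Subgroup S) → ℂ) = 1
    · intro a b
      refine commutatorElement_eq_one_iff_mul_comm.1 ?_
      by_contra hne
      refine (norm_ne hnc hd1 (g := ((⁅a, b⁆ : (P : Subgroup S)) : S))
        fun h => hne (Subtype.ext h)).2 ?_
      have hexp := Chars.classFun_eq_sum (Chars.isClassFunction_of_isCharacter hres)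
      have h1 := congrFun hexp ⁅a, b⁆
      have h2 := congrFun hexp 1
      simp only [Finset.sum_apply, Pi.smul_apply, smul_eq_mul, OneMemClass.coe_one] at h1 h2
      rw [h1, h2]
      refine Finset.sum_congr rfl fun θ _ => ?_
      by_cases hθ : classInner (fun x : (P : Subgroup S) => (χ : S → ℂ) x)
          (θ : ↥(P : Subgroup S) → ℂ) = 0
      · rw [hθ, zero_mul, zero_mul]
      congr 1
      obtain ⟨l, hl⟩ := Chars.exists_hom_of_degree_one (Chars.isCharacter_of_irr θ.2)
        (by rw [CharApps.deg_eq, hlin θ hθ, Nat.cast_one])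
      rw [hl]
      simp [commutatorElement_def, mul_comm, mul_left_comm]
    · push Not at hlin
      obtain ⟨θ, hθ, hθ1⟩ := hlin
      exfalso
      -- a nonlinear constituent is the whole restriction
      have hθp : p ≤ charDegree (θ : ↥(P : Subgroup S) → ℂ) := by
        obtain ⟨m, -, hm, hmd⟩ := Chars.irr_degree_dvd_card θ.2
        obtain ⟨j, hj⟩ := IsPGroup.iff_card.1 P.2
        obtain ⟨i, -, rfl⟩ := (Nat.dvd_prime_pow hp).1 (hj ▸ hmd)
        have hm' : charDegree (θ : ↥(P : Subgroup S) → ℂ) = p ^ i := by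
          rw [CharApps.deg_eq] at hm; exact_mod_cast hm
        rw [hm'] at hθ1 ⊢
        cases i with
        | zero => simp at hθ1
        | succ i => exact Nat.le_self_pow i.succ_ne_zero p
      have he := eq_of_constituent_degree hres θ.2 hθ (d := p)
        (e := charDegree (θ : ↥(P : Subgroup S) → ℂ))
        (by show (χ : S → ℂ) ((1 : (P : Subgroup S)) : S) = _; rw [OneMemClass.coe_one, CharApps.deg_eq, hd])
        (CharApps.deg_eq θ) hθp
      haveI : Nontrivial (P : Subgroup S) :=
        (Subgroup.nontrivial_iff_ne_bot _).2 (P.ne_bot_of_dvd_card (hpn ▸ hnd))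
      haveI := P.2.center_nontrivial
      obtain ⟨⟨z, hz⟩, hz1⟩ := exists_ne (1 : Subgroup.center (P : Subgroup S))
      have hz1' : (z : S) ≠ 1 := fun h => hz1 (Subtype.ext (Subtype.ext h))
      obtain ⟨k, σ, hσ, hσθ⟩ := id θ.2
      haveI := hσ
      obtain ⟨c, hc⟩ := Chars.exists_scalar_of_mem_center σ z hz
      have hnorm := (Chars.norm_character_eq_iff σ z).2 ⟨c, hc⟩
      refine (norm_ne hnc hd1 hz1').1 ?_
      have hzv : (χ : S → ℂ) z = σ.character z := by
        rw [hσθ, ← he]
      have h1v : (χ : S → ℂ) 1 = σ.character 1 := by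
        rw [hσθ, ← he]
        rfl
      rw [hzv, hnorm]
      rw [CharApps.deg_eq, Representation.char_one] at h1v
      exact_mod_cast h1v.symm
  have hvan : ∀ x ∈ (P : Subgroup S), x ≠ 1 → (χ : S → ℂ) x = 0 := by
    intro x hx hx1
    refine eq_zero_of_coprime hnc hd1 hx1 (hd ▸ hp.coprime_iff_not_dvd.2 fun h => ?_)
    refine P.not_dvd_index (h.trans (Subgroup.index_dvd_of_le fun y hy => ?_))
    rw [Subgroup.mem_centralizer_singleton_iff]
    exact congrArg Subtype.val (hab ⟨y, hy⟩ ⟨x, hx⟩)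
  have h1 := PrimeMul.card_dvd_degree (P : Subgroup S) (Chars.isCharacter_of_irr χ.2)
    (CharApps.deg_eq χ) hvan
  rw [hd, Sylow.card_eq_multiplicity] at h1
  have h2 : 2 ≤ (Nat.card S).factorization p :=
    (hp.pow_dvd_iff_le_factorization Nat.card_pos.ne').1 hsq
  have h3 := (Nat.pow_dvd_pow_iff_le_right hp.one_lt).1 (show p ^ (Nat.card S).factorization p ∣ p ^ 1 by
    rwa [pow_one])
  omega

/-- A prime degree `p` is prime to the centralizers of elements of other prime orders. -/
theorem not_dvd_centralizer {p : ℕ} (hp : p.Prime) {χ : IrrCharacter S}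
    (hd : charDegree (χ : S → ℂ) = p) {r : ℕ} (hr : r.Prime) (hrp : r ≠ p) {y : S}
    (hy : orderOf y = r) : ¬ p ∣ Nat.card (Subgroup.centralizer ({y} : Set S)) := by
  intro h
  obtain ⟨-, hsq⟩ := not_sq_dvd hnc hp hd
  have hd1 : charDegree (χ : S → ℂ) ≠ 1 := hd ▸ hp.ne_one
  have hy1 : y ≠ 1 := fun h => hr.ne_one (by rw [← hy, h, orderOf_one])
  have hi : ¬ p ∣ (Subgroup.centralizer ({y} : Set S)).index := fun h' => hsq (by
    rw [← (Subgroup.centralizer ({y} : Set S)).index_mul_card, pow_two]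
    exact mul_dvd_mul h' h)
  have h0 := eq_zero_of_coprime hnc hd1 hy1 (hd ▸ hp.coprime_iff_not_dvd.2 hi)
  haveI := Fact.mk hr
  obtain ⟨M, hM⟩ := CharApps.exists_pModular r
  haveI := hM.2.1.isPrime
  have h1 := BlockOrth.memLocalIdeal_char_sub (p := r) hM.2.2 (Chars.isCharacter_of_irr χ.2) y
  have h2 : BlockOrth.pPrimePart r y = 1 :=
    BlockOrth.IsPPrimePart.eq_pPrimePart ⟨y, mul_one y, Commute.one_right y, ⟨1, by rw [hy, pow_one]⟩,
      by simp [hr.ne_one]⟩
  rw [h2, h0, zero_sub, CharApps.deg_eq, hd] at h1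
  have h3 := Blocks.MemLocalIdeal.neg' h1
  rw [neg_neg] at h3
  exact hrp ((Nat.prime_dvd_prime_iff_eq hr hp).1
    ((Blocks.memLocalIdeal_natCast_iff hr hM.2.2 p).1 h3))

theorem centralizer_eq_zpowers {p : ℕ} (hp : p.Prime) {χ : IrrCharacter S}
    (hd : charDegree (χ : S → ℂ) = p) {x : S} (hx : orderOf x = p) :
    Subgroup.centralizer ({x} : Set S) = Subgroup.zpowers x := by
  have hle : Subgroup.zpowers x ≤ Subgroup.centralizer ({x} : Set S) := by
    rw [Subgroup.zpowers_le, Subgroup.mem_centralizer_singleton_iff]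
  obtain ⟨-, hsq⟩ := not_sq_dvd hnc hp hd
  set C := Subgroup.centralizer ({x} : Set S) with hC
  refine (Subgroup.eq_of_le_of_card_ge hle ?_).symm
  rw [Nat.card_zpowers, hx]
  obtain ⟨m, hm⟩ : p ∣ Nat.card C := hx ▸ Subgroup.orderOf_dvd_natCard C (hle (Subgroup.mem_zpowers x))
  suffices m = 1 by rw [hm, this, mul_one]
  by_contra hm1
  obtain ⟨r, hr, hrm⟩ := Nat.exists_prime_and_dvd hm1
  have hrp : r ≠ p := by
    rintro rfl
    exact hsq ((pow_two r ▸ mul_dvd_mul_left r hrm).trans (hm ▸ C.card_subgroup_dvd_card))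
  haveI := Fact.mk hr
  obtain ⟨y, hy⟩ := exists_prime_orderOf_dvd_card' (G := C) r (hm ▸ hrm.mul_left p)
  rw [← Subgroup.orderOf_coe] at hy
  refine not_dvd_centralizer hnc hp hd hr hrp hy (hx ▸ Subgroup.orderOf_dvd_natCard _ ?_)
  rw [Subgroup.mem_centralizer_singleton_iff]
  exact (Subgroup.mem_centralizer_singleton_iff.1 y.2).symm

end Simple

section Exceptional

variable {S : Type u} [Group S] [Fintype S] {p : ℕ} [hp : Fact p.Prime] {H : Subgroup S}
  [Fintype H] (hH : Nat.card H = p)
  (hC : ∀ h : H, h ≠ 1 → ∀ y : S, y * (h : S) = (h : S) * y → y ∈ H)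

/-- Conjugation by an element of the normalizer. -/
def cnj (x : Subgroup.normalizer (H : Set S)) : H →* H where
  toFun h := ⟨(x : S) * (h : S) * (x : S)⁻¹, (Subgroup.mem_normalizer_iff.1 x.2 _).1 h.2⟩
  map_one' := by ext; simp
  map_mul' a b := by ext; simp [mul_assoc]

variable (H) in
/-- Conjugacy of linear characters under the normalizer. -/
def Rel (l l' : H →* ℂˣ) : Prop :=
  ∃ x : Subgroup.normalizer (H : Set S), l'.comp (cnj x) = l

theorem Rel.refl (l : H →* ℂˣ) : Rel H l l :=
  ⟨1, MonoidHom.ext fun h => congrArg l (Subtype.ext (by simp [cnj]))⟩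

theorem Rel.symm {l l' : H →* ℂˣ} (h : Rel H l l') : Rel H l' l := by
  obtain ⟨x, hx⟩ := h
  refine ⟨x⁻¹, MonoidHom.ext fun h => ?_⟩
  rw [← hx]
  exact congrArg l' (Subtype.ext (by simp [cnj, mul_assoc]))

/-- The difference of two linear characters. -/
noncomputable def dif (l m : H →* ℂˣ) : H → ℂ := fun h => (l h : ℂ) - (m h : ℂ)

include hH in
theorem zpowers_eq_top {h : H} (h1 : h ≠ 1) : Subgroup.zpowers h = ⊤ := by
  refine Subgroup.eq_top_of_card_eq _ ?_
  rw [Nat.card_zpowers, hH, orderOf_eq_prime (p := p) (by rw [← hH]; exact pow_card_eq_one') h1]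

include hH in
theorem injective_of_ne_one {l : H →* ℂˣ} (hl : l ≠ 1) : Function.Injective l := by
  rw [injective_iff_map_eq_one]
  intro h hh
  by_contra h1
  refine hl (MonoidHom.ext fun k => ?_)
  obtain ⟨i, rfl⟩ := Subgroup.mem_zpowers_iff.1
    ((zpowers_eq_top hH h1).symm ▸ Subgroup.mem_top k)
  rw [map_zpow, hh, one_zpow, MonoidHom.one_apply]

include hH hC in
theorem card_rel {l l' : H →* ℂˣ} (hl' : l' ≠ 1) [Decidable (Rel H l l')] :
    Nat.card {x : Subgroup.normalizer (H : Set S) // l'.comp (cnj x) = l} =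
      if Rel H l l' then p else 0 := by
  split_ifs with h
  · obtain ⟨x₀, hx₀⟩ := h
    rw [← hH]
    haveI : Nontrivial H := Finite.one_lt_card_iff_nontrivial.1 (hH.symm ▸ hp.out.one_lt)
    obtain ⟨h₀, hh₀⟩ := exists_ne (1 : H)
    have hmem : ∀ x : {x : Subgroup.normalizer (H : Set S) // l'.comp (cnj x) = l},
        ((x₀ : S)⁻¹ * (x.1 : S)) ∈ H := by
      rintro ⟨x, hx⟩
      refine hC h₀ hh₀ _ ?_
      have h1 : cnj x h₀ = cnj x₀ h₀ :=
        injective_of_ne_one hH hl' (DFunLike.congr_fun (hx.trans hx₀.symm) h₀)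
      have h2 : (x : S) * (h₀ : S) * (x : S)⁻¹ = (x₀ : S) * (h₀ : S) * (x₀ : S)⁻¹ :=
        congrArg Subtype.val h1
      calc (x₀ : S)⁻¹ * (x : S) * (h₀ : S)
          = (x₀ : S)⁻¹ * ((x : S) * (h₀ : S) * (x : S)⁻¹) * (x : S) := by group
        _ = (x₀ : S)⁻¹ * ((x₀ : S) * (h₀ : S) * (x₀ : S)⁻¹) * (x : S) := by rw [h2]
        _ = (h₀ : S) * ((x₀ : S)⁻¹ * (x : S)) := by group
    haveI hcy : IsCyclic H := isCyclic_of_prime_card hH
    have hcomm : ∀ a b : H, a * b = b * a := fun a b => IsCyclic.commGroup.mul_comm a b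
    refine Nat.card_congr
      { toFun := fun x => ⟨_, hmem x⟩
        invFun := fun k => ⟨x₀ * ⟨(k : S), Subgroup.le_normalizer k.2⟩, ?_⟩
        left_inv := fun x => by ext; simp
        right_inv := fun k => by ext; simp }
    refine MonoidHom.ext fun h => ?_
    rw [← hx₀]
    refine congrArg l' (Subtype.ext ?_)
    show (x₀ : S) * (k : S) * (h : S) * ((x₀ : S) * (k : S))⁻¹ = (x₀ : S) * (h : S) * (x₀ : S)⁻¹
    have h3 : (k : S) * (h : S) = (h : S) * (k : S) := congrArg Subtype.val (hcomm k h)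
    rw [mul_assoc (x₀ : S) (k : S), h3]
    group
  · haveI : IsEmpty {x : Subgroup.normalizer (H : Set S) // l'.comp (cnj x) = l} :=
      ⟨fun x => h ⟨x.1, x.2⟩⟩
    exact Nat.card_of_isEmpty

omit [Fintype S] in
theorem inner_lin (l m : H →* ℂˣ) [Decidable (m = l)] :
    classInner (fun h => (l h : ℂ)) (fun h => (m h : ℂ)) = if m = l then 1 else 0 := by
  classical
  rw [Chars.inner_irr_of_isIrr (Chars.isIrrCharacter_linear l) (Chars.isIrrCharacter_linear m)]
  refine if_congr ⟨fun h => ?_, fun h => by rw [h]⟩ rfl rfl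
  exact MonoidHom.ext fun k => Units.ext (congrFun h k).symm

include hH hC in
/-- Inner products of induced differences of linear characters. -/
theorem inner_indFun_dif {l m l' m' : H →* ℂˣ} (hl' : l' ≠ 1) (hm' : m' ≠ 1)
    [Decidable (Rel H l l')] [Decidable (Rel H l m')] [Decidable (Rel H m l')]
    [Decidable (Rel H m m')] :
    classInner (indFun H (dif l m)) (indFun H (dif l' m')) =
      (if Rel H l l' then 1 else 0) - (if Rel H l m' then 1 else 0) -
        (if Rel H m l' then 1 else 0) + (if Rel H m m' then (1 : ℂ) else 0) := by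
  classical
  rw [Chars.inner_indFun H _ (Chars.isClassFunction_indFun H _)]
  have hres : (fun h : H => indFun H (dif l' m') h) =
      (p : ℂ)⁻¹ • ∑ x : Subgroup.normalizer (H : Set S), fun h => dif l' m' (cnj x h) := by
    funext h
    rw [Chars.indFun_apply, hH, Pi.smul_apply, smul_eq_mul, Finset.sum_apply]
    congr 1
    rw [← Finset.sum_subtype (s := Finset.univ.filter (· ∈ Subgroup.normalizer (H : Set S)))
      (f := fun x : S => extendByZero H (dif l' m') (x * (h : S) * x⁻¹)) (fun x => by simp)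
      |>.trans (Finset.sum_congr rfl fun x _ => ?_)]
    · rw [Finset.sum_filter]
      refine Fintype.sum_equiv (Equiv.inv S) _ _ fun x => ?_
      simp only [Equiv.inv_apply, inv_inv]
      split_ifs with hx
      · rfl
      · by_cases hmem : x⁻¹ * (h : S) * x ∈ H
        · by_cases h1 : h = 1
          · subst h1
            simp only [OneMemClass.coe_one, mul_one, inv_mul_cancel]
            rw [Chars.extendByZero_of_mem _ _ H.one_mem,
              show (⟨(1 : S), H.one_mem⟩ : H) = 1 from rfl]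
            simp [dif]
          exfalso
          refine hx ?_
          refine Subgroup.mem_normalizer_fintype ?_
          intro k hk
          obtain ⟨i, hi⟩ := Subgroup.mem_zpowers_iff.1
            ((zpowers_eq_top hH h1).symm ▸ Subgroup.mem_top (⟨k, hk⟩ : H))
          have hk' : k = (h : S) ^ i := by
            have := congrArg Subtype.val hi
            simpa using this.symm
          have h2 : x⁻¹ * k * x⁻¹⁻¹ = (x⁻¹ * (h : S) * x⁻¹⁻¹) ^ i := by
            rw [conj_zpow, hk']
          show x⁻¹ * k * x⁻¹⁻¹ ∈ H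
          rw [h2]
          exact zpow_mem (by rwa [inv_inv]) _
        · rw [Chars.extendByZero_of_not_mem _ _ hmem]
    · exact Chars.extendByZero_coe _ _ (cnj x h)
  rw [hres, Chars.inner_smul_right, Chars.inner_sum_right, map_inv₀, map_natCast]
  have hsum : ∀ a b : H →* ℂˣ, b ≠ 1 →
      ∑ x : Subgroup.normalizer (H : Set S),
        classInner (fun h => (a h : ℂ)) (fun h => ((b.comp (cnj x)) h : ℂ)) =
      if Rel H a b then (p : ℂ) else 0 := by
    intro a b hb
    simp only [inner_lin]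
    rw [Finset.sum_boole, ← Fintype.card_subtype, ← Nat.card_eq_fintype_card, card_rel hH hC hb]
    split_ifs <;> simp
  have hterm : ∀ x : Subgroup.normalizer (H : Set S),
      classInner (dif l m) (fun h => dif l' m' (cnj x h)) =
        classInner (fun h => (l h : ℂ)) (fun h => ((l'.comp (cnj x)) h : ℂ)) -
        classInner (fun h => (l h : ℂ)) (fun h => ((m'.comp (cnj x)) h : ℂ)) -
        classInner (fun h => (m h : ℂ)) (fun h => ((l'.comp (cnj x)) h : ℂ)) +
        classInner (fun h => (m h : ℂ)) (fun h => ((m'.comp (cnj x)) h : ℂ)) := by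
    intro x
    rw [show dif l m = (fun h => (l h : ℂ)) - (fun h => (m h : ℂ)) from rfl,
      show (fun h => dif l' m' (cnj x h)) = (fun h => ((l'.comp (cnj x)) h : ℂ)) -
        (fun h => ((m'.comp (cnj x)) h : ℂ)) from rfl,
      Chars.inner_sub_left, Chars.inner_sub_right, Chars.inner_sub_right]
    ring
  simp only [hterm, Finset.sum_add_distrib, Finset.sum_sub_distrib, hsum _ _ hl', hsum _ _ hm']
  have hp0 : (p : ℂ) ≠ 0 := Nat.cast_ne_zero.2 hp.out.ne_zero
  split_ifs <;> field_simp <;> ring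

include hH hC in
/-- All characters that are not constant on `H - 1` have equal degree. -/
theorem degree_eq_of_not_constant {χ ψ : IrrCharacter S}
    (hχ : ∃ l m : H →* ℂˣ, l ≠ 1 ∧ m ≠ 1 ∧
      classInner (fun h : H => (χ : S → ℂ) h) (fun h => (l h : ℂ)) ≠
      classInner (fun h : H => (χ : S → ℂ) h) (fun h => (m h : ℂ)))
    (hψ : ∃ l m : H →* ℂˣ, l ≠ 1 ∧ m ≠ 1 ∧
      classInner (fun h : H => (ψ : S → ℂ) h) (fun h => (l h : ℂ)) ≠
      classInner (fun h : H => (ψ : S → ℂ) h) (fun h => (m h : ℂ))) :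
    charDegree (χ : S → ℂ) = charDegree (ψ : S → ℂ) := by
  classical
  obtain ⟨l₀, m₀, hl₀, -, -⟩ := id hχ
  -- the induced differences with the base character
  have hinner : ∀ (l m : H →* ℂˣ) (φ : IrrCharacter S),
      classInner (indFun H (dif l m)) (φ : S → ℂ) =
        classInner (fun h : H => (φ : S → ℂ) h) (fun h => (l h : ℂ)) -
        classInner (fun h : H => (φ : S → ℂ) h) (fun h => (m h : ℂ)) := by
    intro l m φ
    have hc := Chars.isCharacter_restrict H (Chars.isCharacter_of_irr φ.2)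
    rw [Chars.inner_indFun H _ (Chars.isClassFunction_irr φ),
      show dif l m = (fun h => (l h : ℂ)) - (fun h => (m h : ℂ)) from rfl, Chars.inner_sub_left,
      conj_inner hc (Chars.isCharacter_of_irr (Chars.isIrrCharacter_linear l)),
      conj_inner hc (Chars.isCharacter_of_irr (Chars.isIrrCharacter_linear m))]
  have hgen : ∀ l m : H →* ℂˣ, IsGeneralizedCharacter S (indFun H (dif l m)) := by
    intro l m
    refine Chars.isGeneralized_iff_inner.2 ⟨Chars.isClassFunction_indFun H _, fun φ => ?_⟩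
    have hc := Chars.isCharacter_restrict H (Chars.isCharacter_of_irr φ.2)
    obtain ⟨a, ha⟩ := Chars.inner_char_nat hc
      (Chars.isCharacter_of_irr (Chars.isIrrCharacter_linear l))
    obtain ⟨b, hb⟩ := Chars.inner_char_nat hc
      (Chars.isCharacter_of_irr (Chars.isIrrCharacter_linear m))
    exact ⟨(a : ℤ) - b, by rw [hinner, ha, hb]; push_cast; rfl⟩
  -- two constituents of every base difference
  have hpair : ∀ l : H →* ℂˣ, l ≠ 1 → ¬ Rel H l₀ l → ∃ a b : IrrCharacter S,
      charDegree (a : S → ℂ) = charDegree (b : S → ℂ) ∧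
        indFun H (dif l₀ l) = (a : S → ℂ) - (b : S → ℂ) := by
    intro l hl hrel
    have h1 : indFun H (dif l₀ l) 1 = 0 := by
      rw [Chars.indFun_one_apply]; simp [dif]
    obtain ⟨a, b, -, hab⟩ := Chars.exists_diff_of_norm_two (hgen l₀ l) (by
      rw [inner_indFun_dif hH hC hl₀ hl, if_pos (Rel.refl l₀), if_neg hrel,
        if_neg (fun h => hrel h.symm), if_pos (Rel.refl l)]
      norm_num) h1
    refine ⟨a, b, ?_, hab⟩
    have h2 := congrFun hab 1
    rw [h1, Pi.sub_apply, CharApps.deg_eq, CharApps.deg_eq, eq_comm, sub_eq_zero] at h2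
    exact_mod_cast h2
  have hmem : ∀ φ : IrrCharacter S, (∃ l m : H →* ℂˣ, l ≠ 1 ∧ m ≠ 1 ∧
      classInner (fun h : H => (φ : S → ℂ) h) (fun h => (l h : ℂ)) ≠
      classInner (fun h : H => (φ : S → ℂ) h) (fun h => (m h : ℂ))) →
      ∃ l : H →* ℂˣ, l ≠ 1 ∧ ¬ Rel H l₀ l ∧
        classInner (indFun H (dif l₀ l)) (φ : S → ℂ) ≠ 0 := by
    rintro φ ⟨l, m, hl, hm, hne⟩
    obtain ⟨k, hk, hkne⟩ : ∃ k : H →* ℂˣ, k ≠ 1 ∧
        classInner (indFun H (dif l₀ k)) (φ : S → ℂ) ≠ 0 := by
      by_cases h : classInner (indFun H (dif l₀ l)) (φ : S → ℂ) = 0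
      · refine ⟨m, hm, fun h' => hne ?_⟩
        rw [hinner, sub_eq_zero] at h h'
        rw [← h, h']
      · exact ⟨l, hl, h⟩
    refine ⟨k, hk, fun hrel => hkne ?_, hkne⟩
    have h0 : indFun H (dif l₀ k) = 0 := by
      refine Chars.eq_zero_of_inner_irr (Chars.isClassFunction_indFun H _) fun η => ?_
      have hnorm : classInner (indFun H (dif l₀ k)) (indFun H (dif l₀ k)) = 0 := by
        rw [inner_indFun_dif hH hC hl₀ hk, if_pos (Rel.refl l₀), if_pos hrel, if_pos hrel.symm,
          if_pos (Rel.refl k)]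
        ring
      haveI := Chars.irrFintype S
      have h5 := Chars.inner_eq_sum (Chars.isClassFunction_indFun H (dif l₀ k))
        (indFun H (dif l₀ k))
      rw [hnorm] at h5
      have h6 : ∑ χ : IrrCharacter S,
          Complex.normSq (classInner (indFun H (dif l₀ k)) (χ : S → ℂ)) = 0 := by
        have h7 := congrArg Complex.re h5.symm
        simpa [Complex.re_sum, Complex.mul_conj] using h7
      exact Complex.normSq_eq_zero.1 ((Finset.sum_eq_zero_iff_of_nonneg fun χ _ =>
        Complex.normSq_nonneg _).1 h6 η (Finset.mem_univ η))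
    rw [h0]
    simp [Chars.inner_def]
  obtain ⟨l, hl, hrl, hlne⟩ := hmem χ hχ
  obtain ⟨m, hm, hrm, hmne⟩ := hmem ψ hψ
  obtain ⟨a, b, hab, hD⟩ := hpair l hl hrl
  obtain ⟨a', b', hab', hD'⟩ := hpair m hm hrm
  have hpick : ∀ {a b φ : IrrCharacter S},
      classInner ((a : S → ℂ) - (b : S → ℂ)) (φ : S → ℂ) ≠ 0 → φ = a ∨ φ = b := by
    intro a b φ h
    by_contra hne
    push Not at hne
    rw [Chars.inner_sub_left, Chars.inner_irr, Chars.inner_irr, if_neg (Ne.symm hne.1),
      if_neg (Ne.symm hne.2), sub_zero] at h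
    exact h rfl
  have hcross : classInner ((a : S → ℂ) - (b : S → ℂ)) ((a' : S → ℂ) - (b' : S → ℂ)) ≠ 0 := by
    rw [← hD, ← hD', inner_indFun_dif hH hC hl₀ hm, if_pos (Rel.refl l₀), if_neg hrm,
      if_neg (fun h => hrl h.symm)]
    split_ifs <;> norm_num
  have hshare : charDegree (a : S → ℂ) = charDegree (a' : S → ℂ) := by
    have h : classInner ((a : S → ℂ) - (b : S → ℂ)) (a' : S → ℂ) ≠ 0 ∨
        classInner ((a : S → ℂ) - (b : S → ℂ)) (b' : S → ℂ) ≠ 0 := by
      by_contra hne
      push Not at hne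
      rw [Chars.inner_sub_right, hne.1, hne.2, sub_zero] at hcross
      exact hcross rfl
    rcases h with h | h <;> rcases hpick h with e | e
    · rw [← e]
    · rw [hab, ← e]
    · rw [← e, hab']
    · rw [hab, ← e, hab']
  rw [hD] at hlne
  rw [hD'] at hmne
  rcases hpick hlne with rfl | rfl <;> rcases hpick hmne with rfl | rfl <;> omega

include hH hC in
/-- A character constant on `H - 1`, not trivial there, has degree at least `p - 1`. -/
theorem le_degree_of_constant {χ : IrrCharacter S} {h₀ : H}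
    (hfaith : (χ : S → ℂ) h₀ ≠ (χ : S → ℂ) 1)
    (hconst : ∀ l m : H →* ℂˣ, l ≠ 1 → m ≠ 1 →
      classInner (fun h : H => (χ : S → ℂ) h) (fun h => (l h : ℂ)) =
      classInner (fun h : H => (χ : S → ℂ) h) (fun h => (m h : ℂ))) :
    p ≤ charDegree (χ : S → ℂ) + 1 := by
  classical
  haveI hcy : IsCyclic H := isCyclic_of_prime_card hH
  have hcomm : ∀ a b : H, a * b = b * a := fun a b => IsCyclic.commGroup.mul_comm a b
  letI := Chars.irrFintype H
  have hdeg1 : ∀ θ : IrrCharacter H, (θ : H → ℂ) 1 = 1 := fun θ =>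
    Chars.irr_abelian_degree hcomm θ.2
  have hcard : Fintype.card (IrrCharacter H) = p := by
    have hb : commutator H = ⊥ := by
      rw [_root_.commutator_def, eq_bot_iff, Subgroup.commutator_le]
      exact fun a _ b _ => Subgroup.mem_bot.2 (commutatorElement_eq_one_iff_mul_comm.2 (hcomm a b))
    have h1 := Chars.card_degree_one (G := H)
    rw [hb, Subgroup.index_bot, hH, Nat.card_congr (Equiv.subtypeUnivEquiv hdeg1),
      Nat.card_eq_fintype_card] at h1
    exact h1
  have hres := Chars.isCharacter_restrict H (Chars.isCharacter_of_irr χ.2)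
  set f : IrrCharacter H → ℕ := fun θ => multNat (fun h : H => (χ : S → ℂ) h) (θ : H → ℂ) with hf
  have hff : ∀ θ : IrrCharacter H,
      classInner (fun h : H => (χ : S → ℂ) h) (θ : H → ℂ) = (f θ : ℂ) := fun θ =>
    inner_eq_multNat hres (Chars.isCharacter_of_irr θ.2)
  have hexp := Chars.classFun_eq_sum (Chars.isClassFunction_of_isCharacter hres)
  have hlin : ∀ θ : IrrCharacter H, ∃ l : H →* ℂˣ, (θ : H → ℂ) = fun h => (l h : ℂ) := fun θ =>
    Chars.exists_hom_of_degree_one (Chars.isCharacter_of_irr θ.2) (hdeg1 θ)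
  have hconst' : ∀ θ θ' : IrrCharacter H, θ ≠ Chars.principal H → θ' ≠ Chars.principal H →
      f θ = f θ' := by
    intro θ θ' hθ hθ'
    obtain ⟨l, hl⟩ := hlin θ
    obtain ⟨m, hm⟩ := hlin θ'
    have h1 : ∀ {θ : IrrCharacter H} {l : H →* ℂˣ}, (θ : H → ℂ) = (fun h => (l h : ℂ)) →
        θ ≠ Chars.principal H → l ≠ 1 := by
      rintro θ l hl hne rfl
      refine hne (Subtype.ext (funext fun h => ?_))
      rw [hl, Chars.principal_apply]
      simp
    have h2 := hconst l m (h1 hl hθ) (h1 hm hθ')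
    rw [← hl, ← hm, hff, hff] at h2
    exact_mod_cast h2
  -- some nontrivial character occurs
  obtain ⟨θ₀, hθ₀, hθ₀f⟩ : ∃ θ : IrrCharacter H, θ ≠ Chars.principal H ∧ f θ ≠ 0 := by
    by_contra hne
    push Not at hne
    refine hfaith ?_
    have h1 := congrFun hexp h₀
    have h2 := congrFun hexp 1
    simp only [Finset.sum_apply, Pi.smul_apply, smul_eq_mul, OneMemClass.coe_one] at h1 h2
    rw [h1, h2]
    refine Finset.sum_congr rfl fun θ _ => ?_
    by_cases hθ : θ = Chars.principal H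
    · subst hθ; rw [Chars.principal_apply, Chars.principal_apply]
    · rw [hff, hne θ hθ]; simp
  have hsum : charDegree (χ : S → ℂ) = ∑ θ : IrrCharacter H, f θ := by
    have h2 := congrFun hexp 1
    simp only [Finset.sum_apply, Pi.smul_apply, smul_eq_mul, hdeg1, mul_one, hff,
      OneMemClass.coe_one, CharApps.deg_eq] at h2
    exact_mod_cast h2
  have hge : ∑ θ ∈ Finset.univ.erase (Chars.principal H), 1 ≤
      ∑ θ ∈ Finset.univ.erase (Chars.principal H), f θ :=
    Finset.sum_le_sum fun θ hθ => by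
      rw [hconst' θ θ₀ (Finset.ne_of_mem_erase hθ) hθ₀]
      exact Nat.one_le_iff_ne_zero.2 hθ₀f
  rw [Finset.sum_const, smul_eq_mul, mul_one, Finset.card_erase_of_mem (Finset.mem_univ _),
    Finset.card_univ, hcard] at hge
  have := Finset.add_sum_erase Finset.univ f (Finset.mem_univ (Chars.principal H))
  omega

end Exceptional

/-- **Prime degrees force solvability.** -/
theorem isSolvable {G : Type u} [Group G] [Finite G]
    (h : ∀ χ : IrrCharacter G, charDegree (χ : G → ℂ) ≠ 1 → (charDegree (χ : G → ℂ)).Prime) :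
    Group.IsSolvable G := by
  classical
  induction hn : Nat.card G using Nat.strong_induction_on generalizing G with
  | _ n ih =>
  subst hn
  haveI := Fintype.ofFinite G
  rcases subsingleton_or_nontrivial G with hs | hnt
  · infer_instance
  by_cases hex : ∃ N : Subgroup G, N.Normal ∧ N ≠ ⊥ ∧ N ≠ ⊤
  · obtain ⟨N, hN, hbot, htop⟩ := hex
    haveI := hN
    haveI := Fintype.ofFinite N
    have h1 : 1 < Nat.card N := (Subgroup.one_lt_card_iff_ne_bot N).2 hbot
    have h3 : 1 < N.index := Subgroup.one_lt_index_of_ne_top htop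
    have h4 := N.card_mul_index
    refine (Group.isSolvable_iff_subgroup_quotient N).2 ⟨ih _ (by nlinarith) (fun θ hθ => ?_) rfl,
      ih _ (by rw [← Subgroup.index_eq_card]; nlinarith)
        (fun β hβ => h ⟨_, Chars.isIrrCharacter_inflate N β.2⟩ hβ) rfl⟩
    obtain ⟨χ, hχ⟩ := exists_over N θ.2
    obtain ⟨k, -, hk, -⟩ := degree_quotient N χ.2 θ.2 hχ
    rw [CharApps.deg_eq, CharApps.deg_eq] at hk
    have hk' : charDegree (χ : G → ℂ) = k * charDegree (θ : N → ℂ) := by exact_mod_cast hk
    have hχ1 : charDegree (χ : G → ℂ) ≠ 1 := fun h0 =>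
      hθ (Nat.eq_one_of_mul_eq_one_left (hk'.symm.trans h0))
    exact ((Nat.dvd_prime (h χ hχ1)).1 (Dvd.intro_left _ hk'.symm)).resolve_left hθ ▸ h χ hχ1
  push Not at hex
  haveI : IsSimpleGroup G := ⟨fun N hN => or_iff_not_imp_left.2 fun hb => hex N hN hb⟩
  by_contra hns
  have hnc : ¬ IsMulCommutative G := fun hc => hns (isSolvable_of_comm fun a b => mul_comm' a b)
  obtain ⟨χ₁, hχ₁⟩ : ∃ χ : IrrCharacter G, charDegree (χ : G → ℂ) ≠ 1 := by
    obtain ⟨χ, hχ⟩ := PrimeMul.exists_nonlinear hnc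
    exact ⟨χ, fun h => hχ ((CharApps.deg_eq_one_iff χ).2 h)⟩
  -- the largest degree
  haveI := Chars.irrFintype G
  obtain ⟨χb, -, hmax⟩ := Finset.exists_max_image Finset.univ
    (fun χ : IrrCharacter G => charDegree (χ : G → ℂ)) ⟨χ₁, Finset.mem_univ _⟩
  have hb1 : charDegree (χb : G → ℂ) ≠ 1 := by
    have := hmax χ₁ (Finset.mem_univ _)
    have := (h χ₁ hχ₁).two_le
    omega
  set b := charDegree (χb : G → ℂ) with hb
  have hbp := h χb hb1
  haveI := Fact.mk hbp
  obtain ⟨x, hx⟩ := exists_prime_orderOf_dvd_card' (G := G) b (not_sq_dvd hnc hbp hb.symm).1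
  set H := Subgroup.zpowers x with hHdef
  haveI := Fintype.ofFinite H
  have hH : Nat.card H = b := by rw [hHdef, Nat.card_zpowers, hx]
  have hC : ∀ k : H, k ≠ 1 → ∀ y : G, y * (k : G) = (k : G) * y → y ∈ H := by
    intro k hk y hy
    have hko : orderOf (k : G) = b := by
      rw [Subgroup.orderOf_coe]
      exact orderOf_eq_prime (p := b) (by rw [← hH]; exact pow_card_eq_one') hk
    have h1 : y ∈ Subgroup.centralizer ({(k : G)} : Set G) :=
      Subgroup.mem_centralizer_singleton_iff.2 hy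
    rw [centralizer_eq_zpowers hnc hbp hb.symm hko] at h1
    exact (Subgroup.zpowers_le.2 k.2) h1
  have hx1 : (⟨x, Subgroup.mem_zpowers x⟩ : H) ≠ 1 := fun h0 =>
    hbp.ne_one (hx.symm.trans (by rw [show x = 1 from congrArg Subtype.val h0]; exact orderOf_one))
  -- all smaller degrees coincide, or all degrees are at most three
  have hsmall : ∀ χ : IrrCharacter G, charDegree (χ : G → ℂ) ≠ 1 → charDegree (χ : G → ℂ) ≠ b →
      b = 3 ∨ ∃ l m : H →* ℂˣ, l ≠ 1 ∧ m ≠ 1 ∧
        classInner (fun k : H => (χ : G → ℂ) k) (fun k => (l k : ℂ)) ≠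
        classInner (fun k : H => (χ : G → ℂ) k) (fun k => (m k : ℂ)) := by
    intro χ h1 h2
    by_contra hne
    push Not at hne
    have h3 := le_degree_of_constant hH hC
      (norm_ne hnc h1 (g := x) fun h0 => hx1 (Subtype.ext h0)).2 hne.2 (h₀ := ⟨x, Subgroup.mem_zpowers x⟩)
    have h4 := hmax χ (Finset.mem_univ χ)
    have h5 : b = charDegree (χ : G → ℂ) + 1 := by omega
    rcases (h χ h1).eq_two_or_odd with h6 | h6
    · exact hne.1 (by omega)
    · rcases hbp.eq_two_or_odd with h7 | h7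
      · have := (h χ h1).two_le
        omega
      · omega
  obtain ⟨a, ha0, hab⟩ : ∃ a : ℕ, a ≠ 0 ∧ ∀ χ : IrrCharacter G, charDegree (χ : G → ℂ) = 1 ∨
      charDegree (χ : G → ℂ) = a ∨ charDegree (χ : G → ℂ) = b := by
    by_cases hb3 : b = 3
    · refine ⟨2, two_ne_zero, fun χ => ?_⟩
      have := hmax χ (Finset.mem_univ χ)
      rcases em (charDegree (χ : G → ℂ) = 1) with h1 | h1
      · exact Or.inl h1
      · have := (h χ h1).two_le
        omega
    by_cases hall : ∀ χ : IrrCharacter G, charDegree (χ : G → ℂ) = 1 ∨ charDegree (χ : G → ℂ) = b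
    · exact ⟨b, hbp.ne_zero, fun χ => (hall χ).imp id Or.inr⟩
    push Not at hall
    obtain ⟨χa, ha1, hab'⟩ := hall
    refine ⟨charDegree (χa : G → ℂ), (h χa ha1).ne_zero, fun χ => ?_⟩
    by_contra hne
    push Not at hne
    exact hne.2.1 (degree_eq_of_not_constant hH hC ((hsmall χ hne.1 hne.2.2).resolve_left hb3)
      ((hsmall χa ha1 hab').resolve_left hb3))
  exact hns ⟨3, CdThree.derived_three _ G le_rfl a b ha0 hbp.ne_zero hab⟩

end CfsgLib.PrimeDegreesSolvable
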