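import Cfsg.Agent.Lib.CharsMore.CdTwo
import Cfsg.Agent.Lib.CharsMore.Gallagher
import Cfsg.Agent.Lib.CharsMore.CliffordDegree
import Cfsg.Agent.Lib.CharApps.PrimeMulChars

/-!
Solvable groups whose nonlinear irreducible degrees are primes have at most three degrees.
-/

set_option linter.style.haveILetI false

open Cfsg CfsgLib CfsgLib.CharsMore
open scoped commutatorElement

namespace CfsgLib.PrimeDegreesThree

universe u

variable {G : Type u} [Group G] [Fintype G]

theorem exists_deg_ne_one {X : Type u} [Group X] [Finite X] (h : ¬ IsMulCommutative X) :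
    ∃ θ : IrrCharacter X, charDegree (θ : X → ℂ) ≠ 1 := by
  obtain ⟨θ, hθ⟩ := PrimeMul.exists_nonlinear h
  exact ⟨θ, fun h1 => hθ ((CharApps.deg_eq_one_iff θ).2 h1)⟩

/-- A nilpotent group in which every nontrivial normal subgroup contains the nontrivial derived
subgroup is a group of prime power order. -/
theorem exists_isPGroup {X : Type u} [Group X] [Finite X] [Group.IsNilpotent X]
    (hne : commutator X ≠ ⊥)
    (hmon : ∀ W : Subgroup X, W.Normal → W ≠ ⊥ → commutator X ≤ W) :
    ∃ p : ℕ, p.Prime ∧ IsPGroup p X := by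
  obtain ⟨⟨c, hcm⟩, hc1⟩ : ∃ c : commutator X, c ≠ 1 := by
    obtain ⟨c, hc, hc1⟩ := (commutator X).bot_or_exists_ne_one.resolve_left hne
    exact ⟨⟨c, hc⟩, fun h => hc1 (congrArg Subtype.val h)⟩
  have hc1' : c ≠ 1 := fun h => hc1 (Subtype.ext h)
  have ho : orderOf c ≠ 1 := fun h => hc1' (orderOf_eq_one_iff.1 h)
  refine ⟨(orderOf c).minFac, Nat.minFac_prime ho, ?_⟩
  refine IsPGroup.of_card (n := (Nat.card X).primeFactorsList.length)
    (Nat.eq_prime_pow_of_unique_prime_dvd Nat.card_pos.ne' fun {r} hr hrd => ?_)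
  haveI := Fact.mk hr
  obtain ⟨S⟩ : Nonempty (Sylow r X) := inferInstance
  haveI : (S : Subgroup X).Normal := inferInstance
  have hS : (S : Subgroup X) ≠ ⊥ := S.ne_bot_of_dvd_card hrd
  obtain ⟨k, hk⟩ := IsPGroup.iff_orderOf.1 S.2 ⟨c, hmon _ inferInstance hS hcm⟩
  rw [Subgroup.orderOf_mk] at hk
  have h1 := Nat.minFac_dvd (orderOf c)
  exact ((Nat.prime_dvd_prime_iff_eq (Nat.minFac_prime ho) hr).1
    ((Nat.minFac_prime ho).dvd_of_dvd_pow (h1.trans (dvd_of_eq hk)))).symm

/-- The `p`-group quotient case: only one prime occurs. -/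
theorem two_degrees {K : Subgroup G} [K.Normal] {p : ℕ} (hp : p.Prime)
    (hX : IsPGroup p (G ⧸ K)) (hnab : ¬ IsMulCommutative (G ⧸ K))
    (hprime : ∀ χ : IrrCharacter G, charDegree (χ : G → ℂ) = 1 ∨
      (charDegree (χ : G → ℂ)).Prime) (χ : IrrCharacter G) :
    charDegree (χ : G → ℂ) = 1 ∨ charDegree (χ : G → ℂ) = p := by
  classical
  haveI := Fact.mk hp
  rcases hprime χ with h | hr
  · exact Or.inl h
  by_contra hcon
  push Not at hcon
  obtain ⟨θ, hθ⟩ := exists_deg_ne_one hnab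
  let β : IrrCharacter G := ⟨_, Chars.isIrrCharacter_inflate K θ.2⟩
  have hβd : charDegree (β : G → ℂ) = charDegree (θ : G ⧸ K → ℂ) := rfl
  obtain ⟨n, hn0, hn, hnd⟩ := Chars.irr_degree_dvd_card θ.2
  have hβp : charDegree (β : G → ℂ) = p := by
    rcases hprime β with h | h
    · exact absurd (hβd ▸ h) hθ
    · have hn' : charDegree (θ : G ⧸ K → ℂ) = n := by
        rw [CharApps.deg_eq] at hn; exact_mod_cast hn
      obtain ⟨k, hk⟩ := hX.exists_card_eq
      refine (Nat.prime_dvd_prime_iff_eq h hp).1 (h.dvd_of_dvd_pow (n := k) ?_)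
      rw [← hk, hβd, hn']
      exact hnd
  let _ := Fintype.ofFinite K
  obtain ⟨φ, hφ⟩ := Chars.exists_constituent
    (Chars.isCharacter_restrict K (Chars.isCharacter_of_irr χ.2)) (fun h => by
      have h1 := congrFun h 1
      simp only [OneMemClass.coe_one, Pi.zero_apply, CharApps.deg_eq, Nat.cast_eq_zero] at h1
      exact hr.ne_zero h1)
  obtain ⟨k, -, hk, hki⟩ := degree_quotient K χ.2 φ.2 hφ
  rw [CharApps.deg_eq, CharApps.deg_eq] at hk
  have hk' : charDegree (χ : G → ℂ) = k * charDegree (φ : K → ℂ) := by exact_mod_cast hk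
  have hk1 : k = 1 := by
    rcases (Nat.dvd_prime hr).1 (Dvd.intro _ hk'.symm) with h | h
    · exact h
    · exfalso
      obtain ⟨e, he⟩ := hX.exists_card_eq
      rw [Subgroup.index_eq_card, he, h] at hki
      exact hcon.2 ((Nat.prime_dvd_prime_iff_eq hr hp).1 (hr.dvd_of_dvd_pow hki))
  rw [hk1, one_mul] at hk'
  have hirr : IsIrrCharacter K (fun n : K => (χ : G → ℂ) n) := by
    rw [eq_of_constituent_degree (Chars.isCharacter_restrict K (Chars.isCharacter_of_irr χ.2))
      φ.2 hφ (d := charDegree (χ : G → ℂ)) (e := charDegree (φ : K → ℂ))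
      (by show (χ : G → ℂ) ((1 : K) : G) = _; rw [OneMemClass.coe_one]; exact CharApps.deg_eq χ)
      (CharApps.deg_eq φ) hk'.le]
    exact φ.2
  letI := Chars.irrFintype G
  have hmem : β ∈ quotIrr K := (mem_quotIrr K).2 fun x hx => by
    show (θ : G ⧸ K → ℂ) (x : G ⧸ K) = (θ : G ⧸ K → ℂ) ((1 : G) : G ⧸ K)
    rw [(QuotientGroup.eq_one_iff x).2 hx]
    rfl
  let ξ : IrrCharacter G := ⟨_, gallagher_irr K χ.2 hirr hmem⟩
  have hξ : charDegree (ξ : G → ℂ) = p * charDegree (χ : G → ℂ) := by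
    have h1 : (ξ : G → ℂ) 1 = (β : G → ℂ) 1 * (χ : G → ℂ) 1 := rfl
    rw [CharApps.deg_eq, CharApps.deg_eq, CharApps.deg_eq, hβp] at h1
    exact_mod_cast h1
  rcases hprime ξ with h | h
  · rw [hξ] at h
    exact hp.ne_one (Nat.eq_one_of_mul_eq_one_right h)
  · rw [hξ] at h
    exact Nat.not_prime_mul hp.ne_one hr.ne_one h

/-- **Solvable groups with prime degrees.** -/
theorem three_degrees [Group.IsSolvable G]
    (hprime : ∀ χ : IrrCharacter G, charDegree (χ : G → ℂ) = 1 ∨
      (charDegree (χ : G → ℂ)).Prime) :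
    ∃ a b : ℕ, ∀ χ : IrrCharacter G, charDegree (χ : G → ℂ) = 1 ∨
      charDegree (χ : G → ℂ) = a ∨ charDegree (χ : G → ℂ) = b := by
  classical
  by_cases hab : ∀ χ : IrrCharacter G, charDegree (χ : G → ℂ) = 1
  · exact ⟨1, 1, fun χ => Or.inl (hab χ)⟩
  push Not at hab
  obtain ⟨χ₀, hχ₀⟩ := hab
  obtain ⟨K, ⟨hKn, hKG⟩, hmax⟩ :=
    (Set.toFinite {W : Subgroup G | W.Normal ∧ ¬ commutator G ≤ W}).exists_maximal ⟨⊥,
      (inferInstance : (⊥ : Subgroup G).Normal), fun h => hχ₀ (by
        have hcomm : ∀ x y : G, x * y = y * x := fun x y => by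
          refine commutatorElement_eq_one_iff_mul_comm.1 (Subgroup.mem_bot.1 (h ?_))
          exact Subgroup.commutator_mem_commutator (Subgroup.mem_top _) (Subgroup.mem_top _)
        exact (CharApps.deg_eq_one_iff χ₀).1 (Chars.irr_abelian_degree hcomm χ₀.2))⟩
  haveI := hKn
  have hcomap : (commutator G).map (QuotientGroup.mk' K) = commutator (G ⧸ K) := by
    rw [_root_.commutator_def, _root_.commutator_def, Subgroup.map_commutator,
      Subgroup.map_top_of_surjective _ (QuotientGroup.mk'_surjective K)]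
  have hnab : ¬ IsMulCommutative (G ⧸ K) := fun h => hKG
    ((Subgroup.Normal.quotient_commutative_iff_commutator_le (N := K)).1 h)
  have hne : commutator (G ⧸ K) ≠ ⊥ := by
    rw [← hcomap, Ne, (Subgroup.gc_map_comap _).l_eq_bot, MonoidHom.comap_bot,
      QuotientGroup.ker_mk']
    exact hKG
  have hmon : ∀ W : Subgroup (G ⧸ K), W.Normal → W ≠ ⊥ → commutator (G ⧸ K) ≤ W := by
    intro W hW hWne
    rw [← hcomap, Subgroup.map_le_iff_le_comap]
    by_contra hle
    refine hWne ?_
    have h1 : W.comap (QuotientGroup.mk' K) ≤ K :=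
      hmax ⟨hW.comap _, hle⟩ (QuotientGroup.le_comap_mk' K W)
    rw [eq_bot_iff]
    intro w hw
    obtain ⟨g, rfl⟩ := QuotientGroup.mk'_surjective K w
    exact Subgroup.mem_bot.2 ((QuotientGroup.eq_one_iff g).2 (h1 hw))
  by_cases hnil : Group.IsNilpotent (G ⧸ K)
  · obtain ⟨p, hp, hX⟩ := exists_isPGroup hne hmon
    exact ⟨p, p, fun χ => (two_degrees hp hX hnab hprime χ).imp id Or.inl⟩
  -- the derived subgroup of the quotient is abelian
  haveI : Nontrivial (commutator (G ⧸ K)) := (Subgroup.nontrivial_iff_ne_bot _).2 hne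
  have hXab : ∀ a ∈ commutator (G ⧸ K), ∀ b ∈ commutator (G ⧸ K), a * b = b * a := by
    have hlt : ⁅commutator (G ⧸ K), commutator (G ⧸ K)⁆ < commutator (G ⧸ K) :=
      Group.IsSolvable.commutator_lt_of_ne_bot hne
    intro a ha b hb
    refine commutatorElement_eq_one_iff_mul_comm.1 ?_
    by_contra hne1
    refine hlt.not_ge (hmon _ inferInstance fun h0 => hne1 ?_)
    rw [← Subgroup.mem_bot, ← h0]
    exact Subgroup.commutator_mem_commutator ha hb
  letI := Fintype.ofFinite (G ⧸ K)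
  obtain ⟨V, hV, q, hq, ⟨θ, hθ⟩, hV1, hqV, hmV, hVab, hVq, -, hfpf⟩ :=
    CdTwo.frobenius_core hXab hnil fun W _ hW => by
      haveI : IsMulCommutative ((G ⧸ K) ⧸ W) :=
        (Subgroup.Normal.quotient_commutative_iff_commutator_le (N := W)).2
          (hmon W inferInstance hW)
      letI : CommGroup ((G ⧸ K) ⧸ W) :=
        { (inferInstance : Group ((G ⧸ K) ⧸ W)) with mul_comm := mul_comm' }
      infer_instance
  have hf : V.index.Prime := by
    rcases hprime (⟨_, Chars.isIrrCharacter_inflate K θ.2⟩ : IrrCharacter G) with h | h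
    · exact absurd (hθ ▸ h) hV1
    · exact hθ ▸ h
  refine ⟨V.index, q, fun χ => ?_⟩
  rcases hprime χ with h | hr
  · exact Or.inl h
  set L := V.comap (QuotientGroup.mk' K) with hL
  haveI : L.Normal := hV.comap _
  let _ := Fintype.ofFinite L
  obtain ⟨φ, hφ⟩ := Chars.exists_constituent
    (Chars.isCharacter_restrict L (Chars.isCharacter_of_irr χ.2)) (fun h => by
      have h1 := congrFun h 1
      simp only [OneMemClass.coe_one, Pi.zero_apply, CharApps.deg_eq, Nat.cast_eq_zero] at h1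
      exact hr.ne_zero h1)
  obtain ⟨k, -, hk, hki⟩ := degree_quotient L χ.2 φ.2 hφ
  rw [CharApps.deg_eq, CharApps.deg_eq] at hk
  have hk' : charDegree (χ : G → ℂ) = k * charDegree (φ : L → ℂ) := by exact_mod_cast hk
  have hidx : L.index = V.index :=
    Subgroup.index_comap_of_surjective _ (QuotientGroup.mk'_surjective K)
  rw [hidx] at hki
  rcases (Nat.dvd_prime hf).1 hki with h1 | h1
  · -- the restriction is irreducible, so its degree is `q`
    rw [h1, one_mul] at hk'
    by_cases hqd : q ∣ charDegree (φ : L → ℂ)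
    · exact Or.inr (Or.inr ((Nat.prime_dvd_prime_iff_eq hq hr).1 (hk' ▸ hqd)).symm)
    · obtain ⟨ξ, hξ⟩ := CdTwo.exists_twist_degree K hV hq hmV hVab hVq hfpf hL φ hqd
      exfalso
      rcases hprime ξ with h | h
      · rw [h] at hξ
        exact hf.ne_one (Nat.eq_one_of_mul_eq_one_right (Nat.dvd_one.1 hξ))
      · rcases (Nat.dvd_prime h).1 hξ with h2 | h2
        · exact hf.ne_one (Nat.eq_one_of_mul_eq_one_right h2)
        · exact Nat.not_prime_mul hf.ne_one (hk' ▸ hr.ne_one) (h2 ▸ h)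
  · right; left
    rw [h1] at hk'
    rcases (Nat.dvd_prime hr).1 (Dvd.intro _ hk'.symm) with h2 | h2
    · exact absurd h2 hf.ne_one
    · exact h2.symm

end CfsgLib.PrimeDegreesThree
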