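import Cfsg.Agent.Lib.CharsMore.CliffordDegree
import Cfsg.Agent.Lib.CharsMore.ItoDegree
import Cfsg.Agent.Lib.CharApps.CoprimeFixedAverage
import Cfsg.Agent.Lib.Base.MinimalNormal
import Cfsg.Prelude.Def_Characters
import Cfsg.Prelude.Def_Blocks

/-!
# Primitive characters of solvable groups and class sizes

For a quasiprimitive character of a solvable group the `p`-part of the degree is at most the average
`p`-part of a class size (in logarithms).
-/

set_option autoImplicit false
set_option linter.style.haveILetI false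
set_option linter.unusedSectionVars false

namespace CfsgLib.CharApps.PrimClass

open Cfsg Subgroup
open scoped ComplexConjugate

section chars

variable {G : Type*} [Group G] [Fintype G] {χ : G → ℂ} (hχ : IsIrrCharacter G χ)

/-- All restrictions to normal subgroups are homogeneous. -/
def Homogeneous (χ : G → ℂ) : Prop := ∀ (N : Subgroup G), N.Normal →
  ∃ (θ : IrrCharacter N) (e : ℕ), 0 < e ∧ ∀ n : N, χ n = (e : ℂ) * (θ : N → ℂ) n

include hχ in
theorem homogeneous_of_primitive
    (hprim : ¬ ∃ (H : Subgroup G), H ≠ ⊤ ∧ ∃ θ : ↥H → ℂ, IsCharacter H θ ∧ indFun H θ = χ) :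
    Homogeneous χ := by
  classical
  intro N hN
  haveI := hN
  haveI : Fintype N := Fintype.ofFinite _
  obtain ⟨θ, hθ⟩ := CharsMore.exists_below N hχ
  set T := CharsMore.inertia N (θ : N → ℂ) with hT
  haveI : Fintype T := Fintype.ofFinite _
  obtain ⟨ψ, hψ, hind, -⟩ := CharsMore.exists_correspondent N
    (CharsMore.le_inertia N (Chars.isClassFunction_of_isCharacter (Chars.isCharacter_of_irr θ.2)))
    θ.2 rfl hχ hθ
  have htop : T = ⊤ := by_contra fun h => hprim ⟨T, h, ψ, Chars.isCharacter_of_irr hψ, hind⟩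
  have hinv : ∀ g n, (θ : N → ℂ) (CharsMore.conjBy N g n) = (θ : N → ℂ) n := fun g =>
    (CharsMore.mem_inertia N).1 (show g ∈ CharsMore.inertia N (θ : N → ℂ) from hT ▸ htop ▸ mem_top g)
  have he := CharsMore.inner_eq_multNat (Chars.isCharacter_restrict N (Chars.isCharacter_of_irr hχ))
    (Chars.isCharacter_of_irr θ.2)
  obtain ⟨d, hd⟩ : ∃ d : ℕ, classInner (fun n : N => χ n) (θ : N → ℂ) = (d : ℂ) := ⟨_, he⟩
  refine ⟨θ, d, Nat.pos_of_ne_zero fun h0 => hθ (by rw [hd, h0, Nat.cast_zero]), fun n => ?_⟩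
  rw [CharsMore.restrict_eq_mul_of_invariant N hχ θ.2 hinv hθ n, hd]

theorem sum_normSq {χ : G → ℂ} (hχ : IsIrrCharacter G χ) :
    ∑ g : G, Complex.normSq (χ g) = (Nat.card G : ℝ) := by
  have h := Chars.inner_irr_self (⟨χ, hχ⟩ : IrrCharacter G)
  rw [Chars.inner_def] at h
  have hcard : (Nat.card G : ℂ) ≠ 0 := Nat.cast_ne_zero.2 Nat.card_pos.ne'
  have h2 : ∑ g : G, χ g * conj (χ g) = (Nat.card G : ℂ) := by
    field_simp at h
    convert h using 1
    all_goals simp
  simp only [Complex.mul_conj] at h2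
  exact_mod_cast h2

/-- The multiplicities over two normal subgroups. -/
theorem ratio {N K : Subgroup G} [hN : N.Normal] (hNK : N ≤ K)
    {θ : IrrCharacter N} {e : ℕ} (he : 0 < e) (hθ : ∀ n : N, χ n = (e : ℂ) * (θ : N → ℂ) n)
    {ψ : IrrCharacter K} {f : ℕ} (hf : 0 < f) (hψ : ∀ n : K, χ n = (f : ℂ) * (ψ : K → ℂ) n) :
    ∃ k : ℕ, e = f * k ∧ k ∣ N.relIndex K ∧ k ^ 2 ≤ N.relIndex K := by
  classical
  haveI : Fintype K := Fintype.ofFinite _
  haveI : Fintype N := Fintype.ofFinite _
  haveI : Fintype (N.subgroupOf K) := Fintype.ofFinite _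
  have hθ' : IsIrrCharacter (N.subgroupOf K) (CharsMore.pullFn N K (θ : N → ℂ)) :=
    CharsMore.isIrr_pullFn N hNK θ.2
  have hres : ∀ x : N.subgroupOf K, (ψ : K → ℂ) x = ((e : ℂ) / f) * CharsMore.pullFn N K (θ : N → ℂ) x := by
    intro x
    have h1 := hψ (x : K)
    have h2 := hθ ⟨((x : K) : G), mem_subgroupOf.1 x.2⟩
    rw [h1] at h2
    show _ = _ * (θ : N → ℂ) _
    rw [div_mul_eq_mul_div, eq_div_iff (Nat.cast_ne_zero.2 hf.ne'), mul_comm]
    exact h2
  have hinner : classInner (fun x : N.subgroupOf K => (ψ : K → ℂ) x) (CharsMore.pullFn N K (θ : N → ℂ)) =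
      (e : ℂ) / f := by
    rw [show (fun x : N.subgroupOf K => (ψ : K → ℂ) x) = ((e : ℂ) / f) • CharsMore.pullFn N K (θ : N → ℂ) from
      funext hres, Chars.inner_smul_left, Chars.inner_irr_self ⟨_, hθ'⟩, mul_one]
  have hne : (e : ℂ) / f ≠ 0 := div_ne_zero (Nat.cast_ne_zero.2 he.ne') (Nat.cast_ne_zero.2 hf.ne')
  obtain ⟨k, -, hk1, hkd⟩ := CharsMore.degree_quotient (N.subgroupOf K) ψ.2 hθ' (hinner ▸ hne)
  have hk : (e : ℂ) / f = k := by
    have h1 := hres 1
    rw [OneMemClass.coe_one, hk1] at h1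
    exact (mul_right_cancel₀ (Chars.irr_degree_ne_zero hθ') h1).symm
  refine ⟨k, ?_, hkd, ?_⟩
  · rw [div_eq_iff (Nat.cast_ne_zero.2 hf.ne')] at hk
    rw [mul_comm]; exact_mod_cast hk
  · have hle : ∑ x : N.subgroupOf K, Complex.normSq ((ψ : K → ℂ) x) ≤
        ∑ g : K, Complex.normSq ((ψ : K → ℂ) g) := by
      exact le_of_eq_of_le (Finset.sum_map Finset.univ (Function.Embedding.subtype fun g => g ∈ N.subgroupOf K)
        (fun g : K => Complex.normSq ((ψ : K → ℂ) g))).symm
        (Finset.sum_le_univ_sum_of_nonneg fun g => Complex.normSq_nonneg _)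
    simp only [hres, hk, Complex.normSq_mul, Complex.normSq_natCast] at hle
    rw [← Finset.mul_sum, sum_normSq hθ', sum_normSq ψ.2, ← (N.subgroupOf K).index_mul_card] at hle
    push_cast at hle
    have h2 : ((k : ℝ) * k) ≤ ((N.subgroupOf K).index : ℝ) :=
      le_of_mul_le_mul_right hle (Nat.cast_pos.2 Nat.card_pos)
    rw [sq]
    exact_mod_cast h2

end chars

section classes

variable {Q : Type*} [Group Q] [Finite Q]

/-- Class sizes along a surjection with abelian kernel `V`. -/
theorem index_centralizer_dvd {Q' : Type*} [Group Q'] (f : Q →* Q') (hf : Function.Surjective f)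
    (V : Subgroup Q) [V.Normal] (hV : V ≤ f.ker) (x : Q) :
    (centralizer ({f x} : Set Q')).index * (centralizer ({x} : Set Q)).relIndex V ∣
      (centralizer ({x} : Set Q)).index := by
  set C := centralizer ({x} : Set Q) with hC
  rw [← index_comap_of_surjective _ hf]
  have hle : C ⊔ V ≤ (centralizer ({f x} : Set Q')).comap f := by
    refine sup_le (fun c hc => ?_) (hV.trans fun v hv => ?_)
    · rw [mem_comap, mem_centralizer_singleton_iff, ← map_mul, ← map_mul,
        mem_centralizer_singleton_iff.1 hc]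
    · rw [mem_comap, MonoidHom.mem_ker.1 hv]; exact one_mem _
  have hrel : C.relIndex (C ⊔ V) = C.relIndex V := by
    have h1 : V.relIndex (C ⊔ V) = V.relIndex C := relIndex_sup_right C V
    have e1 : C.relIndex (C ⊔ V) * Nat.card C = Nat.card ↥(C ⊔ V) := by
      rw [← Nat.card_congr (subgroupOfEquivOfLe (le_sup_left : C ≤ C ⊔ V)).toEquiv]
      exact index_mul_card _
    have e2 : V.relIndex (C ⊔ V) * Nat.card V = Nat.card ↥(C ⊔ V) := by
      rw [← Nat.card_congr (subgroupOfEquivOfLe (le_sup_right : V ≤ C ⊔ V)).toEquiv]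
      exact index_mul_card _
    have e3 : V.relIndex C * Nat.card ↥(V ⊓ C) = Nat.card C := by
      rw [← inf_relIndex_right V C, ← Nat.card_congr (subgroupOfEquivOfLe (inf_le_right : V ⊓ C ≤ C)).toEquiv]
      exact index_mul_card _
    have e4 : C.relIndex V * Nat.card ↥(V ⊓ C) = Nat.card V := by
      rw [← inf_relIndex_right C V, inf_comm,
        ← Nat.card_congr (subgroupOfEquivOfLe (inf_le_left : V ⊓ C ≤ V)).toEquiv]
      exact index_mul_card _
    refine Nat.eq_of_mul_eq_mul_right (Nat.card_pos (α := C)) ?_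
    rw [e1, ← e2, h1, ← e4, ← e3]
    ring
  rw [← relIndex_mul_index (le_sup_left : C ≤ C ⊔ V), hrel, mul_comm]
  exact Nat.mul_dvd_mul_left _ (index_dvd_of_le hle)

end classes

variable {G : Type*} [Group G] [Fintype G]

/-- The `p`-adic valuation of the class size of the image of `g` in `G ⧸ N`. -/
noncomputable def clv (p : ℕ) (N : Subgroup G) [N.Normal] (g : G) : ℕ :=
  (centralizer ({(g : G ⧸ N)} : Set (G ⧸ N))).index.factorization p

/-- `T` acts trivially on the `p`-chief factors. -/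
def TrivOnFactors (p : ℕ) (T : Set G) : Prop :=
  ∀ (N : Subgroup G) [N.Normal] (V : Subgroup (G ⧸ N)), Base.IsMinimalNormal V → IsPGroup p V →
    ∀ h ∈ T, ∀ v ∈ V, (h : G ⧸ N) * v = v * (h : G ⧸ N)

theorem main_bound {χ : G → ℂ} (hχ : IsIrrCharacter G χ) (hsol : Group.IsSolvable G)
    (hhom : Homogeneous χ) {p : ℕ} [hp : Fact p.Prime] {T : Set G} (hT : TrivOnFactors p T) :
    ∀ (N : Subgroup G) [N.Normal]
    (θ : IrrCharacter N) (e : ℕ), 0 < e → (∀ n : N, χ n = (e : ℂ) * (θ : N → ℂ) n) →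
    ∃ L : G → ℕ, (∀ g, L g ≤ clv p N g) ∧ (∀ g, ∀ h ∈ T, L (g * h) = L g ∧ L (h * g) = L g) ∧
      Fintype.card G * e.factorization p ≤ ∑ g : G, L g := by
  classical
  haveI := hsol
  intro N
  induction N using WellFoundedGT.induction with
  | ind N ih =>
    intro _ θ e he hθ
    by_cases hN : N = ⊤
    · subst hN
      haveI : Fintype (⊤ : Subgroup G) := Fintype.ofFinite _
      obtain ⟨ψ, f, hf, hψ⟩ := hhom ⊤ inferInstance
      obtain ⟨d, hd⟩ := Chars.character_degree_nat (Chars.isCharacter_of_irr θ.2)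
      have h := sum_normSq hχ
      have h2 : (e : ℝ) ^ 2 * (Nat.card (⊤ : Subgroup G) : ℝ) = (Nat.card G : ℝ) := by
        rw [← h, ← sum_normSq θ.2, Finset.mul_sum]
        refine Fintype.sum_equiv Subgroup.topEquiv.toEquiv _ _ fun n => ?_
        show _ = Complex.normSq (χ (n : G))
        rw [hθ, Complex.normSq_mul, Complex.normSq_natCast, sq]
      rw [Subgroup.card_top] at h2
      have h3 : (e : ℝ) ^ 2 = 1 := (mul_eq_right₀ (Nat.cast_ne_zero.2 Nat.card_pos.ne')).1 h2
      have h4 : e = 1 := (pow_eq_one_iff.1 (by exact_mod_cast h3)).resolve_right two_ne_zero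
      exact ⟨fun _ => 0, fun g => Nat.zero_le _, fun g h _ => ⟨rfl, rfl⟩, by simp [h4]⟩
    -- a chief factor above `N`
    haveI : Nontrivial (G ⧸ N) := QuotientGroup.nontrivial_iff.2 hN
    obtain ⟨V, hV⟩ := exists_minimal_of_wellFoundedLT (fun M : Subgroup (G ⧸ N) => M.Normal ∧ M ≠ ⊥)
      ⟨⊤, inferInstance, top_ne_bot⟩
    haveI := hV.prop.1
    have hVab : ∀ a ∈ V, ∀ b ∈ V, a * b = b * a := by
      have h0 : ⁅V, V⁆ = ⊥ := by
        by_contra h
        have heq : ⁅V, V⁆ = V := le_antisymm (commutator_le_self V)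
          (hV.le_of_le ⟨inferInstance, h⟩ (commutator_le_self V))
        haveI : Group.IsSolvable (G ⧸ N) := inferInstance
        obtain ⟨n, hn⟩ := (Group.isSolvable_def _).1 (inferInstance : Group.IsSolvable (G ⧸ N))
        have : ∀ k, V ≤ derivedSeries (G ⧸ N) k := by
          intro k
          induction k with
          | zero => simp
          | succ k ih => exact heq.ge.trans (Subgroup.commutator_mono ih ih)
        exact hV.prop.2 (le_bot_iff.1 (hn ▸ this n))
      intro a ha b hb
      exact ((commutator_eq_bot_iff_le_centralizer.1 h0) ha b hb).symm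
    obtain ⟨q, hq, hVq⟩ : ∃ q : ℕ, q.Prime ∧ ∀ v ∈ V, v ^ q = 1 := by
      have h1 : Nat.card V ≠ 1 := fun h => hV.prop.2 (Subgroup.eq_bot_of_card_eq V h)
      obtain ⟨q, hq, hqd⟩ := Nat.exists_prime_and_dvd h1
      haveI := Fact.mk hq
      obtain ⟨x, hx⟩ := exists_prime_orderOf_dvd_card' q hqd
      let P : Subgroup (G ⧸ N) :=
        { carrier := {y | y ∈ V ∧ y ^ q = 1}
          one_mem' := ⟨V.one_mem, one_pow q⟩
          mul_mem' := fun {a b} ha hb => ⟨V.mul_mem ha.1 hb.1, by
            rw [(show Commute a b from hVab a ha.1 b hb.1).mul_pow, ha.2, hb.2, one_mul]⟩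
          inv_mem' := fun {a} ha => ⟨V.inv_mem ha.1, by rw [inv_pow, ha.2, inv_one]⟩ }
      haveI : P.Normal := ⟨fun y hy g => ⟨hV.prop.1.conj_mem y hy.1 g, by
        rw [conj_pow, hy.2]; group⟩⟩
      have hxP : (x : G ⧸ N) ∈ P := ⟨x.2, by rw [← Subgroup.coe_pow, ← hx, pow_orderOf_eq_one]; rfl⟩
      have hPV : V ≤ P := hV.le_of_le ⟨inferInstance, fun h => by
        have : (x : G ⧸ N) = 1 := Subgroup.mem_bot.1 (h ▸ hxP)
        rw [← Subgroup.orderOf_coe, this, orderOf_one] at hx
        exact hq.ne_one hx.symm⟩ (fun y hy => hy.1)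
      exact ⟨q, hq, fun v hv => (hPV hv).2⟩
    haveI := Fact.mk hq
    have hVP : IsPGroup q V := fun v => ⟨1, by ext1; simpa using hVq v v.2⟩
    obtain ⟨m, hm⟩ := IsPGroup.iff_card.1 hVP
    set K := V.comap (QuotientGroup.mk' N) with hK
    have hNK : N < K := by
      refine lt_of_le_of_ne (fun n hn => ?_) fun h => hV.prop.2 ?_
      · rw [hK, mem_comap, QuotientGroup.mk'_apply, (QuotientGroup.eq_one_iff n).2 hn]; exact one_mem _
      · refine eq_bot_iff.2 fun v hv => ?_
        obtain ⟨g, rfl⟩ := QuotientGroup.mk'_surjective N v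
        exact Subgroup.mem_bot.2 ((QuotientGroup.eq_one_iff g).2 (h ▸ hv))
    have hrel : N.relIndex K = q ^ m := by
      rw [← hm]
      have h := relIndex_comap (f := QuotientGroup.mk' N) ⊥ K
      rw [show (⊥ : Subgroup (G ⧸ N)).comap (QuotientGroup.mk' N) = N from
        (MonoidHom.comap_bot _).trans (QuotientGroup.ker_mk' N), hK,
        map_comap_eq_self_of_surjective (QuotientGroup.mk'_surjective N), relIndex_bot_left] at h
      exact h
    obtain ⟨ψ, f, hf, hψ⟩ := hhom K inferInstance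
    obtain ⟨k, hek, hkd, hk2⟩ := ratio hNK.le he hθ hf hψ
    obtain ⟨LK, hLK, hLKinv, hihK⟩ := ih K hNK ψ f hf hψ
    let π : G ⧸ N →* G ⧸ K := QuotientGroup.map N K (MonoidHom.id G) (by simpa using hNK.le)
    have hπ : Function.Surjective π := fun y => by
      obtain ⟨g, rfl⟩ := QuotientGroup.mk'_surjective K y
      exact ⟨(g : G ⧸ N), rfl⟩
    have hVπ : V ≤ π.ker := by
      intro v hv
      obtain ⟨g, rfl⟩ := QuotientGroup.mk'_surjective N v
      exact MonoidHom.mem_ker.2 ((QuotientGroup.eq_one_iff g).2 hv)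
    have hstep : ∀ g : G, clv p K g + ((centralizer ({(g : G ⧸ N)} : Set (G ⧸ N))).relIndex V).factorization p ≤
        clv p N g := by
      intro g
      have h := index_centralizer_dvd π hπ V hVπ (g : G ⧸ N)
      have h0 : (centralizer ({π (g : G ⧸ N)} : Set (G ⧸ K))).index *
          (centralizer ({(g : G ⧸ N)} : Set (G ⧸ N))).relIndex V ≠ 0 :=
        Nat.mul_ne_zero index_ne_zero_of_finite index_ne_zero_of_finite
      have h2 := (Nat.factorization_le_iff_dvd h0 index_ne_zero_of_finite).2 h p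
      rw [Nat.factorization_mul (left_ne_zero_of_mul h0) (right_ne_zero_of_mul h0), Finsupp.add_apply] at h2
      exact h2
    have hk0 : k ≠ 0 := fun h => by rw [h, mul_zero] at hek; omega
    rw [hek, Nat.factorization_mul hf.ne' hk0, Finsupp.add_apply, mul_add]
    rw [hrel] at hkd hk2
    obtain ⟨a, -, rfl⟩ := (Nat.dvd_prime_pow hq).1 hkd
    have hmono : ∀ g, LK g ≤ clv p N g := fun g => (hLK g).trans (le_trans (Nat.le_add_right _ _) (hstep g))
    by_cases hqp : q = p
    swap
    · refine ⟨LK, hmono, hLKinv, ?_⟩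
      rw [Nat.factorization_pow, Finsupp.smul_apply, hq.factorization, Finsupp.single_apply, if_neg hqp]
      simpa using hihK
    subst hqp
    rw [hq.factorization_pow, Finsupp.single_eq_same]
    rw [← pow_mul] at hk2
    have ha2 : a * 2 ≤ m := (Nat.pow_le_pow_iff_right hq.one_lt).1 hk2
    rcases Nat.eq_zero_or_pos a with rfl | ha
    · exact ⟨LK, hmono, hLKinv, by simpa using hihK⟩
    -- the action on `V`
    letI : CommGroup V :=
      { (inferInstance : Group V) with mul_comm := fun a b => Subtype.ext (hVab a a.2 b b.2) }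
    let φ : G →* MulAut V := (MulAut.conjNormal (H := V)).comp (QuotientGroup.mk' N)
    have hφ : ∀ (g : G) (v : V), ((φ g v : V) : G ⧸ N) = (g : G ⧸ N) * v * (g : G ⧸ N)⁻¹ := fun g v =>
      MulAut.conjNormal_apply _ _
    have hsolr : Group.IsSolvable φ.range :=
      Group.isSolvable_of_surjective (f := φ.rangeRestrict) φ.rangeRestrict_surjective
    have hirr : ∀ B : Subgroup V, (∀ g : G, ∀ b ∈ B, φ g b ∈ B) → B = ⊥ ∨ B = ⊤ := by
      intro B hB
      rcases eq_or_ne B ⊥ with h | h
      · exact Or.inl h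
      right
      haveI : (B.map V.subtype).Normal := ⟨fun x hx y => by
        obtain ⟨b, hb, rfl⟩ := hx
        obtain ⟨g, rfl⟩ := QuotientGroup.mk'_surjective N y
        exact ⟨φ g b, hB g b hb, hφ g b⟩⟩
      have hle : V ≤ B.map V.subtype := hV.le_of_le ⟨inferInstance, fun h' => h
        ((Subgroup.map_eq_bot_iff_of_injective _ V.subtype_injective).1 h')⟩ (map_subtype_le _)
      refine eq_top_iff.2 fun v _ => ?_
      obtain ⟨b, hb, hbv⟩ := hle v.2
      rwa [V.subtype_injective hbv] at hb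
    have hne : φ.range ≠ ⊥ := by
      intro h
      have hall : ∀ B : Subgroup V, B = ⊥ ∨ B = ⊤ := fun B => hirr B fun g b hb => by
        have : φ g = 1 := Subgroup.mem_bot.1 (h ▸ (⟨g, rfl⟩ : φ g ∈ φ.range))
        rwa [this]
      haveI : Nontrivial V := (Subgroup.nontrivial_iff_ne_bot _).2 hV.prop.2
      obtain ⟨v, hv⟩ := exists_ne (1 : V)
      have htop : zpowers v = ⊤ := (hall _).resolve_left fun h => hv (zpowers_eq_bot.1 h)
      have hov : orderOf v = q := orderOf_eq_prime (Subtype.ext (by simpa using hVq v v.2)) hv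
      have : Nat.card V = q := by
        rw [← hov, ← Nat.card_zpowers, htop, Subgroup.card_top]
      rw [hm] at this
      have : m = 1 := (Nat.pow_eq_self_iff hq.one_lt).1 this
      omega
    have havg := FixedAvg.prod_card_fix_sq_le hVP φ hsolr hne hirr
    have hfixcard : ∀ g : G, ∃ c : ℕ, c ≤ m ∧ Nat.card (FixedAvg.fix (φ g)) = q ^ c ∧
        ((centralizer ({(g : G ⧸ N)} : Set (G ⧸ N))).relIndex V) = q ^ (m - c) := by
      intro g
      obtain ⟨c, hcm, hc⟩ := (Nat.dvd_prime_pow hq).1 (hm ▸ Subgroup.card_subgroup_dvd_card (FixedAvg.fix (φ g)))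
      refine ⟨c, hcm, hc, ?_⟩
      have heq : (centralizer ({(g : G ⧸ N)} : Set (G ⧸ N))).subgroupOf V = FixedAvg.fix (φ g) := by
        ext v
        rw [mem_subgroupOf, mem_centralizer_singleton_iff, FixedAvg.mem_fix, Subtype.ext_iff, hφ,
          mul_inv_eq_iff_eq_mul]
        exact ⟨fun h => h.symm, fun h => h.symm⟩
      have h := (FixedAvg.fix (φ g)).index_mul_card
      rw [hc, hm, ← Nat.sub_add_cancel hcm, pow_add] at h
      show ((centralizer ({(g : G ⧸ N)} : Set (G ⧸ N))).subgroupOf V).index = _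
      rw [heq]
      exact Nat.eq_of_mul_eq_mul_right (pow_pos hq.pos c) h
    choose c hcm hc hidx using hfixcard
    rw [Finset.prod_congr rfl fun g _ => hc g, hm, Finset.prod_pow_eq_pow_sum, ← pow_mul, ← pow_mul,
      Nat.pow_le_pow_iff_right hq.one_lt] at havg
    have hval : ∀ g : G, ((centralizer ({(g : G ⧸ N)} : Set (G ⧸ N))).relIndex V).factorization q = m - c g :=
      fun g => by rw [hidx g, hq.factorization_pow, Finsupp.single_eq_same]
    have hTφ : ∀ g, ∀ h ∈ T, φ (g * h) = φ g ∧ φ (h * g) = φ g := by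
      intro g h hh
      have hV' : Base.IsMinimalNormal V := ⟨hV.prop.1, hV.prop.2, fun J hJ hle =>
        or_iff_not_imp_left.2 fun hne => le_antisymm hle (hV.le_of_le ⟨hJ, hne⟩ hle)⟩
      have : φ h = 1 := MulEquiv.ext fun v => Subtype.ext (by
        rw [hφ, hT N V hV' hVP h hh v v.2, mul_inv_cancel_right]; rfl)
      simp [map_mul, this]
    have hcinv : ∀ g, ∀ h ∈ T, c (g * h) = c g ∧ c (h * g) = c g := fun g h hh => by
      constructor <;> refine Nat.pow_right_injective hq.two_le ?_ <;>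
        simp only <;> rw [← hc, ← hc]
      · rw [(hTφ g h hh).1]
      · rw [(hTφ g h hh).2]
    refine ⟨fun g => LK g + (m - c g), fun g => ?_, fun g h hh => ?_, ?_⟩
    · exact le_trans (Nat.add_le_add (hLK g) (hval g).ge) (hstep g)
    · simp only [(hLKinv g h hh).1, (hLKinv g h hh).2, (hcinv g h hh).1, (hcinv g h hh).2, and_self]
    rw [Finset.sum_add_distrib]
    refine add_le_add hihK ?_
    have hsum : ∑ g : G, (m - c g) + ∑ g : G, c g = Fintype.card G * m := by
      rw [← Finset.sum_add_distrib, Finset.sum_congr rfl fun g _ => Nat.sub_add_cancel (hcm g),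
        Finset.sum_const, Finset.card_univ, smul_eq_mul]
    nlinarith

theorem charDegree_eq {χ : G → ℂ} {θ : IrrCharacter (⊥ : Subgroup G)} {e : ℕ} (he : 0 < e)
    (hθ : ∀ n : (⊥ : Subgroup G), χ n = (e : ℂ) * (θ : (⊥ : Subgroup G) → ℂ) n) : charDegree χ = e := by
  obtain ⟨d, hd⟩ := Chars.character_degree_nat (Chars.isCharacter_of_irr θ.2)
  haveI : Fintype (⊥ : Subgroup G) := Fintype.ofFinite _
  have hs := sum_normSq θ.2
  rw [Fintype.sum_unique, show (default : (⊥ : Subgroup G)) = 1 from Subsingleton.elim _ _, hd,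
    Complex.normSq_natCast, Subgroup.card_bot, Nat.cast_one] at hs
  have hd1 : d = 1 := by
    have : d * d = 1 := by exact_mod_cast hs
    exact Nat.eq_one_of_mul_eq_one_right this
  have h1 := hθ 1
  rw [hd, hd1, Nat.cast_one, mul_one, OneMemClass.coe_one] at h1
  rw [charDegree, h1]; simp

theorem clv_bot (p : ℕ) (g : G) : clv p ⊥ g = (centralizer ({g} : Set G)).index.factorization p := by
  rw [clv, ← index_comap_of_surjective _ (QuotientGroup.mk'_surjective (⊥ : Subgroup G))]
  congr 3
  ext x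
  simp only [mem_comap, mem_centralizer_singleton_iff]
  show (x : G ⧸ (⊥ : Subgroup G)) * g = g * x ↔ _
  rw [← QuotientGroup.mk_mul, ← QuotientGroup.mk_mul, QuotientGroup.eq, Subgroup.mem_bot, inv_mul_eq_one]

/-- Some class size has at least the `p`-part of the degree. -/
theorem exists_class {χ : G → ℂ} (hχ : IsIrrCharacter G χ) (hsol : Group.IsSolvable G)
    (hhom : Homogeneous χ) (p : ℕ) [Fact p.Prime] :
    ∃ g : G, (charDegree χ).factorization p ≤ (centralizer ({g} : Set G)).index.factorization p := by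
  classical
  obtain ⟨θ, e, he, hθ⟩ := hhom ⊥ inferInstance
  obtain ⟨L, hL, -, hsum⟩ := main_bound (p := p) hχ hsol hhom (T := (∅ : Set G))
    (fun _ _ _ _ _ h hh => absurd hh (Set.notMem_empty h)) ⊥ θ e he hθ
  have hd : charDegree χ = e := charDegree_eq he hθ
  have hcl := clv_bot (G := G) p
  rw [hd]
  obtain ⟨g, -, hg⟩ := Finset.exists_le_of_sum_le (s := Finset.univ)
    (f := fun _ : G => e.factorization p) Finset.univ_nonempty
    (g := fun g : G => L g) (by rwa [Finset.sum_const, Finset.card_univ, smul_eq_mul])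
  exact ⟨g, hcl g ▸ hg.trans (hL g)⟩

/-- In a metanilpotent group `p`-elements centralise the `p`-chief factors. -/
theorem trivOnFactors_pElements (hsol : Group.IsSolvable G) [(fittingSubgroup G).Normal]
    (hmeta : Group.IsNilpotent (G ⧸ fittingSubgroup G)) (p : ℕ) [hp : Fact p.Prime] :
    TrivOnFactors p {h : G | IsPGroup p (zpowers h)} := by
  intro N _ V hV hVP h hh v hv
  haveI := hV.normal
  let φ : G →* MulAut V := (MulAut.conjNormal (H := V)).comp (QuotientGroup.mk' N)
  have hφ : ∀ (g : G) (w : V), ((φ g w : V) : G ⧸ N) = (g : G ⧸ N) * w * (g : G ⧸ N)⁻¹ := fun g w =>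
    MulAut.conjNormal_apply _ _
  have hF : fittingSubgroup G ≤ φ.ker := fun f hf => MonoidHom.mem_ker.2 <| MulEquiv.ext fun w =>
    Subtype.ext (by
      have hmem : (f : G ⧸ N) ∈ fittingSubgroup (G ⧸ N) :=
        Base.map_fittingSubgroup_le _ (QuotientGroup.mk'_surjective N) ⟨f, hf, rfl⟩
      rw [hφ, ← (mem_centralizer_iff.1 (hV.fittingSubgroup_le_centralizer hmem) w w.2),
        mul_inv_cancel_right]
      rfl)
  let ψ : G ⧸ fittingSubgroup G →* MulAut V := QuotientGroup.lift _ φ hF
  haveI : Group.IsNilpotent ψ.range :=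
    Group.nilpotent_of_surjective (h := hmeta) ψ.rangeRestrict ψ.rangeRestrict_surjective
  haveI : Finite (MulAut V) := DFunLike.finite _
  obtain ⟨P, hP⟩ := IsPGroup.exists_le_sylow (p := p)
    (show IsPGroup p (zpowers (⟨φ h, (h : G ⧸ fittingSubgroup G), rfl⟩ : ψ.range)) from fun y => by
      obtain ⟨i, hi⟩ := mem_zpowers_iff.1 y.2
      obtain ⟨k, hk⟩ := hh ⟨h ^ i, zpow_mem (mem_zpowers h) i⟩
      have hk' : (h ^ i) ^ p ^ k = 1 := congrArg Subtype.val hk
      exact ⟨k, Subtype.ext (Subtype.ext (by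
        simp [← hi, ← map_zpow, ← map_pow, hk']))⟩)
  haveI : (P : Subgroup ψ.range).Normal := inferInstance
  -- the points fixed by this normal `p`-subgroup
  letI : CommGroup V :=
    { (inferInstance : Group V) with
      mul_comm := (hV.isMulCommutative inferInstance).is_comm.comm }
  set W := FixedAvg.fixAll ((P : Subgroup ψ.range).map ψ.range.subtype) with hW
  haveI : (W.map V.subtype).Normal := ⟨fun x hx y => by
    obtain ⟨w, hw, rfl⟩ := hx
    obtain ⟨g, rfl⟩ := QuotientGroup.mk'_surjective N y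
    refine ⟨φ g w, FixedAvg.mem_fixAll.2 ?_, hφ g w⟩
    rintro _ ⟨s, hs, rfl⟩
    have hs' := (inferInstance : (P : Subgroup ψ.range).Normal).conj_mem s hs
      (⟨φ g, (g : G ⧸ fittingSubgroup G), rfl⟩⁻¹)
    have := congrArg (φ g) (FixedAvg.mem_fixAll.1 hw _ ⟨_, hs', rfl⟩)
    simpa using this⟩
  rcases hV.eq_bot_or_eq (K := W.map V.subtype) inferInstance (map_subtype_le _) with hb | ht
  · exfalso
    haveI : Nontrivial V := (Subgroup.nontrivial_iff_ne_bot _).2 hV.ne_bot
    obtain ⟨n, hn1, hn⟩ := (IsPGroup.nontrivial_iff_card hVP).1 inferInstance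
    haveI := Fintype.ofFinite V
    have hP' : IsPGroup p ((P : Subgroup ψ.range).map ψ.range.subtype) := P.2.map _
    have hmod := hP'.card_modEq_card_fixedPoints V
    have h1 : Nat.card (MulAction.fixedPoints ↥((P : Subgroup ψ.range).map ψ.range.subtype) V) = 1 := by
      have e : MulAction.fixedPoints ↥((P : Subgroup ψ.range).map ψ.range.subtype) V = {1} := by
        refine Set.eq_singleton_iff_unique_mem.2 ⟨fun y => map_one (y : MulAut V), fun a ha => ?_⟩
        have : (a : G ⧸ N) ∈ W.map V.subtype := ⟨a, FixedAvg.mem_fixAll.2 fun s hs => ha ⟨s, hs⟩, rfl⟩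
        rw [hb, Subgroup.mem_bot] at this
        exact Subtype.ext this
      rw [e]; simp
    rw [h1, hn] at hmod
    exact hp.out.ne_one (Nat.dvd_one.1 ((Nat.ModEq.dvd_iff hmod dvd_rfl).1 (dvd_pow_self p (by omega))))
  · obtain ⟨w, hw, hwv⟩ := ht.ge hv
    have h1 := congrArg Subtype.val (FixedAvg.mem_fixAll.1 hw (φ h) ⟨_, hP (mem_zpowers _), rfl⟩)
    rw [hφ] at h1
    have hwv' : (w : G ⧸ N) = v := hwv
    rw [hwv', mul_inv_eq_iff_eq_mul] at h1
    exact h1

/-- Two primes: a single class size carries both parts of the degree. -/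
theorem exists_class_two {χ : G → ℂ} (hχ : IsIrrCharacter G χ) (hsol : Group.IsSolvable G)
    [(fittingSubgroup G).Normal] (hmeta : Group.IsNilpotent (G ⧸ fittingSubgroup G))
    (hhom : Homogeneous χ) (p q : ℕ) [hp : Fact p.Prime] [hq : Fact q.Prime] (hpq : p ≠ q)
    (hcard : ∀ r : ℕ, r.Prime → r ∣ Nat.card G → r = p ∨ r = q) :
    ∃ g : G, (charDegree χ).factorization p ≤ (centralizer ({g} : Set G)).index.factorization p ∧
      (charDegree χ).factorization q ≤ (centralizer ({g} : Set G)).index.factorization q := by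
  classical
  obtain ⟨θ, e, he, hθ⟩ := hhom ⊥ inferInstance
  obtain ⟨L, hL, hLi, hsum⟩ := main_bound (p := p) hχ hsol hhom
    (trivOnFactors_pElements hsol hmeta p) ⊥ θ e he hθ
  obtain ⟨L', hL', hLi', hsum'⟩ := main_bound (p := q) hχ hsol hhom
    (trivOnFactors_pElements hsol hmeta q) ⊥ θ e he hθ
  obtain ⟨g, -, hg⟩ := Finset.exists_le_of_sum_le (s := Finset.univ)
    (f := fun _ : G => e.factorization p) Finset.univ_nonempty
    (g := fun g : G => L g) (by rwa [Finset.sum_const, Finset.card_univ, smul_eq_mul])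
  obtain ⟨g', -, hg'⟩ := Finset.exists_le_of_sum_le (s := Finset.univ)
    (f := fun _ : G => e.factorization q) Finset.univ_nonempty
    (g := fun g : G => L' g) (by rwa [Finset.sum_const, Finset.card_univ, smul_eq_mul])
  -- split an element into its parts
  have hsplit : ∀ x : G, ∃ a b : G, a * b = x ∧ IsPGroup q (zpowers a) ∧ IsPGroup p (zpowers b) := by
    intro x
    have hfac : orderOf x = p ^ (orderOf x).factorization p * q ^ (orderOf x).factorization q := by
      have h0 : orderOf x ≠ 0 := (orderOf_pos x).ne'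
      refine Nat.eq_of_factorization_eq h0 (mul_ne_zero (pow_ne_zero _ hp.out.ne_zero)
        (pow_ne_zero _ hq.out.ne_zero)) fun r => ?_
      rw [Nat.factorization_mul (pow_ne_zero _ hp.out.ne_zero) (pow_ne_zero _ hq.out.ne_zero),
        Finsupp.add_apply, hp.out.factorization_pow, hq.out.factorization_pow]
      by_cases hrp : r = p
      · subst hrp; simp [hpq]
      by_cases hrq : r = q
      · subst hrq; simp [hrp]
      rw [Finsupp.single_eq_of_ne hrp, Finsupp.single_eq_of_ne hrq, add_zero]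
      by_contra h
      have hr : r ∈ (orderOf x).factorization.support := Finsupp.mem_support_iff.2 h
      rw [Nat.support_factorization, Nat.mem_primeFactors] at hr
      rcases hcard r hr.1 (hr.2.1.trans (orderOf_dvd_natCard x)) with h' | h'
      · exact hrp h'
      · exact hrq h'
    set A := p ^ (orderOf x).factorization p with hA
    set B := q ^ (orderOf x).factorization q with hB
    have hco : Nat.Coprime A B := Nat.Coprime.pow _ _ ((Nat.coprime_primes hp.out hq.out).2 hpq)
    have hbez := Nat.gcd_eq_gcd_ab A B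
    rw [Nat.Coprime.gcd_eq_one hco] at hbez
    refine ⟨x ^ ((A : ℤ) * Nat.gcdA A B), x ^ ((B : ℤ) * Nat.gcdB A B), ?_, ?_, ?_⟩
    · rw [← zpow_add, ← hbez]; simp
    · refine IsPGroup.to_le ?_ (zpowers_le.2 (show x ^ ((A : ℤ) * Nat.gcdA A B) ∈ zpowers (x ^ A) from
        mem_zpowers_iff.2 ⟨Nat.gcdA A B, by rw [← zpow_natCast, ← zpow_mul]⟩))
      refine IsPGroup.iff_card.2 ⟨(orderOf x).factorization q, ?_⟩
      show _ = B
      rw [Nat.card_zpowers, orderOf_pow, hfac,
        Nat.gcd_eq_right (Nat.dvd_mul_right A B), Nat.mul_div_cancel_left _ (pow_pos hp.out.pos _)]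
    · refine IsPGroup.to_le ?_ (zpowers_le.2 (show x ^ ((B : ℤ) * Nat.gcdB A B) ∈ zpowers (x ^ B) from
        mem_zpowers_iff.2 ⟨Nat.gcdB A B, by rw [← zpow_natCast, ← zpow_mul]⟩))
      refine IsPGroup.iff_card.2 ⟨(orderOf x).factorization p, ?_⟩
      show _ = A
      rw [Nat.card_zpowers, orderOf_pow, hfac,
        Nat.gcd_eq_right (Nat.dvd_mul_left B A), Nat.mul_div_cancel _ (pow_pos hq.out.pos _)]
  obtain ⟨a, b, hab, ha, hb⟩ := hsplit g
  obtain ⟨a', b', hab', ha', hb'⟩ := hsplit g'
  rw [charDegree_eq he hθ]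
  have hcl : ∀ (r : ℕ) (x : G), clv r ⊥ x = (centralizer ({x} : Set G)).index.factorization r :=
    fun r x => clv_bot r x
  refine ⟨a * b', ?_, ?_⟩
  · rw [← hcl]
    refine hg.trans (le_of_eq_of_le ?_ (hL _))
    rw [← hab, (hLi a b hb).1, (hLi a b' hb').1]
  · rw [← hcl]
    refine hg'.trans (le_of_eq_of_le ?_ (hL' _))
    rw [← hab', (hLi' b' a' ha').2, (hLi' b' a ha).2]

end CfsgLib.CharApps.PrimClass
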