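import Cfsg.Agent.Lib.Chars.Degree
import Cfsg.Agent.Lib.Chars.Induction

/-!
# Primitive linear groups of degree two
-/

set_option autoImplicit false
set_option linter.unusedSectionVars false
set_option linter.style.haveILetI false

namespace CfsgLib.CharApps.DegreeTwo

open Cfsg Module
open scoped ComplexConjugate

universe u

variable {G : Type u} [Group G] [Fintype G] (ρ : Representation ℂ G (Fin 2 → ℂ))

/-- The image of a line. -/
noncomputable def act (g : G) (L : Submodule ℂ (Fin 2 → ℂ)) : Submodule ℂ (Fin 2 → ℂ) :=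
  L.map (ρ g)

theorem act_mul (g h : G) (L : Submodule ℂ (Fin 2 → ℂ)) : act ρ (g * h) L = act ρ g (act ρ h L) := by
  rw [act, act, act, map_mul, Module.End.mul_eq_comp, Submodule.map_comp]

theorem act_one (L : Submodule ℂ (Fin 2 → ℂ)) : act ρ 1 L = L := by
  rw [act, map_one, Module.End.one_eq_id, Submodule.map_id]

theorem act_span (g : G) (v : Fin 2 → ℂ) :
    act ρ g (Submodule.span ℂ {v}) = Submodule.span ℂ {ρ g v} := by
  rw [act, Submodule.map_span, Set.image_singleton]

/-- The stabiliser of a line. -/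
noncomputable def stab (L : Submodule ℂ (Fin 2 → ℂ)) : Subgroup G where
  carrier := {g | act ρ g L = L}
  one_mem' := act_one ρ L
  mul_mem' {g h} hg hh := by
    show act ρ (g * h) L = L
    rw [act_mul, show act ρ h L = L from hh, show act ρ g L = L from hg]
  inv_mem' {g} hg := by
    show act ρ g⁻¹ L = L
    conv_lhs => rw [← show act ρ g L = L from hg]
    rw [← act_mul, inv_mul_cancel, act_one]

theorem mem_stab {L : Submodule ℂ (Fin 2 → ℂ)} {g : G} : g ∈ stab ρ L ↔ act ρ g L = L := Iff.rfl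

theorem act_eq_iff (g h : G) (L : Submodule ℂ (Fin 2 → ℂ)) :
    act ρ g L = act ρ h L ↔ h⁻¹ * g ∈ stab ρ L := by
  rw [mem_stab]
  constructor
  · intro e
    rw [act_mul, e, ← act_mul, inv_mul_cancel, act_one]
  · intro e
    conv_rhs => rw [← e]
    rw [← act_mul, mul_inv_cancel_left]

/-- The orbit of a line. -/
noncomputable def orbit (L : Submodule ℂ (Fin 2 → ℂ)) : Finset (Submodule ℂ (Fin 2 → ℂ)) :=
  open scoped Classical in Finset.univ.image (fun g : G => act ρ g L)

theorem mem_orbit {L L' : Submodule ℂ (Fin 2 → ℂ)} : L' ∈ orbit ρ L ↔ ∃ g, act ρ g L = L' := by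
  classical
  simp [orbit]

theorem self_mem_orbit (L : Submodule ℂ (Fin 2 → ℂ)) : L ∈ orbit ρ L :=
  (mem_orbit ρ).2 ⟨1, act_one ρ L⟩

theorem orbit_eq_of_mem {L L' : Submodule ℂ (Fin 2 → ℂ)} (h : L' ∈ orbit ρ L) :
    orbit ρ L' = orbit ρ L := by
  obtain ⟨a, rfl⟩ := (mem_orbit ρ).1 h
  ext M
  rw [mem_orbit, mem_orbit]
  exact ⟨fun ⟨g, hg⟩ => ⟨g * a, by rw [act_mul, hg]⟩,
    fun ⟨g, hg⟩ => ⟨g * a⁻¹, by rw [← act_mul, inv_mul_cancel_right, hg]⟩⟩

theorem card_orbit_mul (L : Submodule ℂ (Fin 2 → ℂ)) :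
    (orbit ρ L).card * Nat.card (stab ρ L) = Nat.card G := by
  classical
  let f : G ⧸ stab ρ L → {M // M ∈ orbit ρ L} := Quotient.lift
    (fun g => ⟨act ρ g L, (mem_orbit ρ).2 ⟨g, rfl⟩⟩) (fun a b hab => Subtype.ext
      ((act_eq_iff ρ a b L).2 (by
        have h : a⁻¹ * b ∈ stab ρ L := QuotientGroup.leftRel_apply.1 hab
        have h' := inv_mem h
        rwa [mul_inv_rev, inv_inv] at h')))
  have hf : Function.Bijective f := by
    constructor
    · intro x y
      induction x using QuotientGroup.induction_on with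
      | H a =>
        induction y using QuotientGroup.induction_on with
        | H b =>
          intro h
          have h1 : act ρ a L = act ρ b L := congrArg Subtype.val h
          rw [QuotientGroup.eq]
          exact (act_eq_iff ρ b a L).1 h1.symm
    · rintro ⟨M, hM⟩
      obtain ⟨g, rfl⟩ := (mem_orbit ρ).1 hM
      exact ⟨(g : G ⧸ stab ρ L), rfl⟩
  have h1 : (orbit ρ L).card = (stab ρ L).index := by
    rw [Subgroup.index_eq_card, Nat.card_congr (Equiv.ofBijective f hf), Nat.card_eq_finsetCard]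
  rw [h1, mul_comm, Subgroup.card_mul_index]

/-- A nonscalar element fixes exactly two lines. -/
theorem exists_two_lines (g : G) (hns : ¬ ∃ c : ℂ, ρ g = c • LinearMap.id) :
    ∃ L₁ L₂ : Submodule ℂ (Fin 2 → ℂ), L₁ ≠ L₂ ∧ finrank ℂ L₁ = 1 ∧ finrank ℂ L₂ = 1 ∧
      ∀ L : Submodule ℂ (Fin 2 → ℂ), finrank ℂ L = 1 → (act ρ g L = L ↔ L = L₁ ∨ L = L₂) := by
  obtain ⟨b', μ', -, -, hb', -, -, -⟩ := Chars.exists_eigenbasis_rep ρ g
  have h2 : finrank ℂ (Fin 2 → ℂ) = 2 := Module.finrank_fin_fun ℂ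
  set b := b'.reindex (finCongr h2) with hbdef
  set μ : Fin 2 → ℂ := fun i => μ' ((finCongr h2).symm i) with hμdef
  have hb : ∀ i, ρ g (b i) = μ i • b i := fun i => by
    rw [hbdef, Module.Basis.reindex_apply]; exact hb' _
  have hne : μ 0 ≠ μ 1 := by
    intro h
    refine hns ⟨μ 0, b.ext fun i => ?_⟩
    rw [LinearMap.smul_apply, LinearMap.id_apply, hb]
    fin_cases i
    · rfl
    · simp [h]
  refine ⟨Submodule.span ℂ {b 0}, Submodule.span ℂ {b 1}, ?_, finrank_span_singleton (b.ne_zero 0),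
    finrank_span_singleton (b.ne_zero 1), ?_⟩
  · intro h
    have h1 : b 0 ∈ Submodule.span ℂ {b 1} := h ▸ Submodule.mem_span_singleton_self _
    obtain ⟨c, hc⟩ := Submodule.mem_span_singleton.1 h1
    have := congrArg (fun v => b.repr v 0) hc
    simp at this
  · intro L hL
    constructor
    · intro hfix
      obtain ⟨v, hv, hspan⟩ : ∃ v, v ≠ 0 ∧ L = Submodule.span ℂ {v} := by
        obtain ⟨v, hv, hv0, -⟩ := finrank_eq_one_iff'.1 hL |> fun ⟨w, hw, h⟩ =>
          (⟨w.1, w.2, fun h0 => hw (Subtype.ext h0), trivial⟩ :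
            ∃ v, v ∈ L ∧ v ≠ 0 ∧ True)
        refine ⟨v, hv0, (Submodule.eq_of_le_of_finrank_eq
          (Submodule.span_le.2 (Set.singleton_subset_iff.2 hv)) ?_).symm⟩
        rw [finrank_span_singleton hv0, hL]
      have h1 : ρ g v ∈ Submodule.span ℂ {v} := by
        rw [← hspan]
        rw [hspan, act_span] at hfix
        rw [hspan, ← hfix]
        exact Submodule.mem_span_singleton_self _
      obtain ⟨c, hc⟩ := Submodule.mem_span_singleton.1 h1
      have hv2 : v = b.repr v 0 • b 0 + b.repr v 1 • b 1 := by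
        conv_lhs => rw [← b.sum_repr v, Fin.sum_univ_two]
      have he : ∀ i, c * b.repr v i = μ i * b.repr v i := by
        have h3 : ρ g v = (μ 0 * b.repr v 0) • b 0 + (μ 1 * b.repr v 1) • b 1 := by
          conv_lhs => rw [hv2]
          rw [map_add, map_smul, map_smul, hb, hb, smul_smul, smul_smul, mul_comm (μ 0),
            mul_comm (μ 1)]
        intro i
        have h4 := congrArg (fun w => b.repr w i) (hc.trans h3)
        fin_cases i <;> simpa using h4
      rw [hspan]
      by_cases h0 : b.repr v 0 = 0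
      · right
        rw [h0, zero_smul, zero_add] at hv2
        have h10 : b.repr v 1 ≠ 0 := fun h => hv (by rw [hv2, h, zero_smul])
        rw [hv2, Submodule.span_singleton_smul_eq (IsUnit.mk0 _ h10)]
      · left
        have h10 : b.repr v 1 = 0 := by
          by_contra h1'
          exact hne ((mul_right_cancel₀ h0 (he 0)).symm.trans (mul_right_cancel₀ h1' (he 1)))
        rw [h10, zero_smul, add_zero] at hv2
        rw [hv2, Submodule.span_singleton_smul_eq (IsUnit.mk0 _ h0)]
    · have hne0 : ∀ i, μ i ≠ 0 := by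
        intro i h
        have h1 : ρ g⁻¹ (ρ g (b i)) = b i := ρ.inv_self_apply g (b i)
        rw [hb, h, zero_smul, map_zero] at h1
        exact b.ne_zero i h1.symm
      rintro (rfl | rfl) <;>
        rw [act_span, hb, Submodule.span_singleton_smul_eq (IsUnit.mk0 _ (hne0 _))]

/-- A line moved to only one other line gives imprimitivity. -/
theorem eq_indFun_of_index_two {L : Submodule ℂ (Fin 2 → ℂ)} (hL : finrank ℂ L = 1)
    (hi : (stab ρ L).index = 2) :
    ∃ θ : stab ρ L → ℂ, IsCharacter (stab ρ L) θ ∧ ρ.character = indFun (stab ρ L) θ := by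
  classical
  set T := stab ρ L with hT
  haveI := Fintype.ofFinite T
  haveI : T.Normal := Subgroup.normal_of_index_eq_two hi
  obtain ⟨w, hw0, hwspan⟩ := finrank_eq_one_iff'.1 hL
  obtain ⟨v, hvL⟩ := w
  have hv : v ≠ 0 := fun h => hw0 (Subtype.ext h)
  have hLv : L = Submodule.span ℂ {v} := (Submodule.eq_of_le_of_finrank_eq
    (Submodule.span_le.2 (Set.singleton_subset_iff.2 hvL))
    (by rw [finrank_span_singleton hv, hL])).symm
  have hlam : ∀ t : T, ∃ c : ℂ, ρ t v = c • v := by
    intro t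
    have h1 : ρ t v ∈ L := by
      have h0 : ρ t v ∈ act ρ t L := Submodule.mem_map_of_mem hvL
      rwa [show act ρ t L = L from t.2] at h0
    rw [hLv, Submodule.mem_span_singleton] at h1
    obtain ⟨c, hc⟩ := h1
    exact ⟨c, hc.symm⟩
  choose lam hlam using hlam
  have hlmul : ∀ s t : T, lam (s * t) = lam s * lam t := by
    intro s t
    refine smul_left_injective ℂ hv ?_
    show lam (s * t) • v = (lam s * lam t) • v
    rw [← hlam, Subgroup.coe_mul, map_mul, Module.End.mul_apply, hlam, map_smul, hlam, smul_smul,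
      mul_comm]
  have hlone : lam 1 = 1 := by
    refine smul_left_injective ℂ hv ?_
    show lam 1 • v = (1 : ℂ) • v
    rw [← hlam, OneMemClass.coe_one, map_one, one_smul]
    rfl
  let l : T →* ℂ := { toFun := lam, map_one' := hlone, map_mul' := hlmul }
  have hθ : IsCharacter T lam := by
    have h := Chars.isCharacter_of_irr (Chars.isIrrCharacter_linear l.toHomUnits)
    exact h
  refine ⟨lam, hθ, funext fun g => ?_⟩
  -- a basis of two lines
  obtain ⟨g₀, hg₀⟩ : ∃ g₀, g₀ ∉ T := by
    by_contra h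
    push Not at h
    rw [(Subgroup.eq_top_iff' T).2 h, Subgroup.index_top] at hi
    omega
  set w₁ := ρ g₀ v with hw₁
  have hli : LinearIndependent ℂ ![v, w₁] := by
    rw [linearIndependent_fin2]
    refine ⟨fun h => hv ?_, fun a ha => hg₀ ?_⟩
    · have := congrArg (ρ g₀⁻¹) (show w₁ = 0 from h)
      rwa [hw₁, ρ.inv_self_apply, map_zero] at this
    · have ha' : a • w₁ = v := ha
      have ha0 : a ≠ 0 := by rintro rfl; exact hv (by rw [← ha', zero_smul])
      rw [mem_stab, hLv, act_span, ← hw₁]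
      conv_rhs => rw [← ha']
      rw [Submodule.span_singleton_smul_eq (IsUnit.mk0 _ ha0)]
  let b := basisOfLinearIndependentOfCardEqFinrank hli (by simp)
  have hb0 : b 0 = v := by simp [b]
  have hb1 : b 1 = w₁ := by simp [b]
  show LinearMap.trace ℂ (Fin 2 → ℂ) (ρ g) = indFun T lam g
  rw [LinearMap.trace_eq_matrix_trace ℂ b, Matrix.trace, Fin.sum_univ_two, Matrix.diag_apply,
    Matrix.diag_apply, LinearMap.toMatrix_apply, LinearMap.toMatrix_apply, hb0, hb1,
    Chars.indFun_apply]
  have hcT : (Nat.card T : ℂ) ≠ 0 := Nat.cast_ne_zero.2 Nat.card_pos.ne'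
  by_cases hg : g ∈ T
  · have hg' : g₀⁻¹ * g * g₀ ∈ T := by simpa using ‹T.Normal›.conj_mem g hg g₀⁻¹
    have h1 : ρ g v = lam ⟨g, hg⟩ • b 0 := by rw [hb0]; exact hlam ⟨g, hg⟩
    have h2 : ρ g w₁ = lam ⟨_, hg'⟩ • b 1 := by
      rw [hb1, hw₁, ← map_smul, ← hlam ⟨_, hg'⟩, ← Module.End.mul_apply, ← Module.End.mul_apply,
        ← map_mul, ← map_mul]
      congr 2
      show g * g₀ = g₀ * (g₀⁻¹ * g * g₀)
      group
    rw [h1, h2, map_smul, map_smul, b.repr_self, b.repr_self]
    simp only [Finsupp.smul_apply, Finsupp.single_eq_same, smul_eq_mul, mul_one]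
    have hval : ∀ x : G, extendByZero T lam (x⁻¹ * g * x) =
        if x ∈ T then lam ⟨g, hg⟩ else lam ⟨_, hg'⟩ := by
      intro x
      have hx : x⁻¹ * g * x ∈ T := by simpa using ‹T.Normal›.conj_mem g hg x⁻¹
      rw [Chars.extendByZero_of_mem T lam hx]
      split_ifs with hxT
      · rw [show (⟨_, hx⟩ : T) = (⟨x, hxT⟩⁻¹ * ⟨g, hg⟩ * ⟨x, hxT⟩ : T) from rfl, hlmul, hlmul,
          mul_comm (lam _) (lam ⟨g, hg⟩), mul_assoc, ← hlmul, inv_mul_cancel, hlone, mul_one]
      · have hy : g₀⁻¹ * x ∈ T := by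
          rw [Subgroup.mul_mem_iff_of_index_two hi]
          simp [hxT, hg₀]
        rw [show (⟨_, hx⟩ : T) = (⟨_, hy⟩⁻¹ * ⟨_, hg'⟩ * ⟨_, hy⟩ : T) from Subtype.ext (by
          simp [mul_assoc]), hlmul, hlmul, mul_comm (lam _) (lam ⟨_, hg'⟩), mul_assoc, ← hlmul,
          inv_mul_cancel, hlone, mul_one]
    have h3 : Nat.card (Finset.univ.filter fun x : G => x ∈ T) = Nat.card T :=
      Nat.card_congr (Equiv.subtypeEquivRight (by simp))
    rw [Nat.card_eq_finsetCard] at h3
    have h4 : (Finset.univ.filter fun x : G => ¬ x ∈ T).card = Nat.card T := by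
      have h5 := Finset.card_filter_add_card_filter_not (s := (Finset.univ : Finset G)) (· ∈ T)
      have h6 := T.card_mul_index
      rw [hi] at h6
      rw [Finset.card_univ, ← Nat.card_eq_fintype_card] at h5
      omega
    rw [Finset.sum_congr rfl fun x _ => hval x, Finset.sum_ite, Finset.sum_const, Finset.sum_const,
      h3, h4, nsmul_eq_mul, nsmul_eq_mul, ← mul_add, inv_mul_cancel_left₀ hcT]
  · have hoff : ∀ x : G, x⁻¹ * g * x ∉ T := fun x h => hg (by
      have := ‹T.Normal›.conj_mem _ h x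
      simpa [mul_assoc] using this)
    rw [Finset.sum_eq_zero (fun x _ => Chars.extendByZero_of_not_mem T lam (hoff x)), mul_zero]
    have hy : g₀⁻¹ * g ∈ T := by
      rw [Subgroup.mul_mem_iff_of_index_two hi]
      simp [hg, hg₀]
    have hy' : g * g₀ ∈ T := by
      rw [Subgroup.mul_mem_iff_of_index_two hi]
      simp [hg, hg₀]
    have h1 : ρ g v = lam ⟨_, hy⟩ • b 1 := by
      rw [hb1, hw₁, ← map_smul, ← hlam ⟨_, hy⟩, ← Module.End.mul_apply, ← map_mul,
        mul_inv_cancel_left]
    have h2 : ρ g w₁ = lam ⟨_, hy'⟩ • b 0 := by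
      rw [hb0, hw₁, ← Module.End.mul_apply, ← map_mul]
      exact hlam ⟨_, hy'⟩
    rw [h1, h2, map_smul, map_smul, b.repr_self, b.repr_self]
    simp

/-- Primitive groups of degree two. -/
theorem index_center (hirr : ρ.IsIrreducible) (hfaith : ∀ g : G, ρ g = 1 → g = 1)
    (hprim : ∀ H : Subgroup G, H ≠ ⊤ → ∀ θ : H → ℂ, IsCharacter H θ → ρ.character ≠ indFun H θ) :
    (Subgroup.center G).index = 12 ∨ (Subgroup.center G).index = 24 ∨
      (Subgroup.center G).index = 60 := by
  classical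
  set Z := Subgroup.center G with hZdef
  have hsc : ∀ g : G, g ∈ Z ↔ ∃ c : ℂ, ρ g = c • LinearMap.id := by
    intro g
    refine ⟨fun hg => Chars.exists_scalar_of_mem_center ρ g hg, fun ⟨c, hc⟩ => ?_⟩
    rw [hZdef, Subgroup.mem_center_iff]
    intro h
    have h1 : ρ (g⁻¹ * (h * g * h⁻¹)) = 1 := by
      rw [map_mul, map_mul, map_mul, hc, mul_smul_comm, ← Module.End.one_eq_id, mul_one,
        smul_mul_assoc, ← map_mul, mul_inv_cancel, map_one, mul_smul_comm, mul_one]
      have h2 : ρ g⁻¹ * ρ g = 1 := by rw [← map_mul, inv_mul_cancel, map_one]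
      rwa [hc, mul_smul_comm, ← Module.End.one_eq_id, mul_one] at h2
    have h3 := inv_mul_eq_one.1 (hfaith _ h1)
    calc h * g = (h * g * h⁻¹) * h := by group
      _ = g * h := by rw [← h3]
  obtain ⟨-, hirr'⟩ := (Chars.isIrreducible_iff ρ).1 hirr
  set S : Finset G := Finset.univ.filter fun g => g ∉ Z with hS
  have htwo : ∀ g ∈ S, ∃ L₁ L₂ : Submodule ℂ (Fin 2 → ℂ), L₁ ≠ L₂ ∧ finrank ℂ L₁ = 1 ∧
      finrank ℂ L₂ = 1 ∧ ∀ L : Submodule ℂ (Fin 2 → ℂ), finrank ℂ L = 1 →
      (act ρ g L = L ↔ L = L₁ ∨ L = L₂) := fun g hg =>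
    exists_two_lines ρ g fun h => (Finset.mem_filter.1 hg).2 ((hsc g).2 h)
  choose A B hAB hA hB hfix using htwo
  set X : Finset (Submodule ℂ (Fin 2 → ℂ)) :=
    S.attach.biUnion fun g => {A g.1 g.2, B g.1 g.2} with hX
  have hXmem : ∀ L, L ∈ X ↔ finrank ℂ L = 1 ∧ ∃ g ∈ S, act ρ g L = L := by
    intro L
    simp only [hX, Finset.mem_biUnion, Finset.mem_attach, true_and, Finset.mem_insert,
      Finset.mem_singleton, Subtype.exists]
    constructor
    · rintro ⟨g, hg, rfl | rfl⟩
      · exact ⟨hA g hg, g, hg, (hfix g hg _ (hA g hg)).2 (Or.inl rfl)⟩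
      · exact ⟨hB g hg, g, hg, (hfix g hg _ (hB g hg)).2 (Or.inr rfl)⟩
    · rintro ⟨h1, g, hg, h2⟩
      exact ⟨g, hg, (hfix g hg L h1).1 h2⟩
  have hone : ∀ (g : G) (L : Submodule ℂ (Fin 2 → ℂ)), finrank ℂ L = 1 →
      finrank ℂ (act ρ g L) = 1 := by
    intro g L hL
    have hinj : Function.Injective (ρ g) := fun a b h => by
      simpa [ρ.inv_self_apply] using congrArg (ρ g⁻¹) h
    exact (Submodule.equivMapOfInjective (ρ g) hinj L).finrank_eq.symm.trans hL
  have hXinv : ∀ (g : G) (L), L ∈ X → act ρ g L ∈ X := by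
    intro g L hL
    obtain ⟨h1, s, hs, hsL⟩ := (hXmem L).1 hL
    refine (hXmem _).2 ⟨hone g L h1, g * s * g⁻¹, Finset.mem_filter.2 ⟨Finset.mem_univ _, ?_⟩, ?_⟩
    · intro hz
      apply (Finset.mem_filter.1 hs).2
      have := (inferInstance : Z.Normal).conj_mem _ hz g⁻¹
      simpa [mul_assoc] using this
    · rw [← act_mul, inv_mul_cancel_right, act_mul, hsL]
  have hZstab : ∀ L : Submodule ℂ (Fin 2 → ℂ), Z ≤ stab ρ L := by
    intro L g hg
    obtain ⟨c, hc⟩ := (hsc g).1 hg
    rcases eq_or_ne c 0 with h0 | h0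
    · exfalso
      have h1 : ρ g⁻¹ * ρ g = 1 := by rw [← map_mul, inv_mul_cancel, map_one]
      rw [hc, h0, zero_smul, mul_zero] at h1
      exact zero_ne_one h1
    · rw [mem_stab, act, hc, Submodule.map_smul _ _ _ h0, Submodule.map_id]
  -- each nonscalar element fixes two lines
  have hcount : ∑ g ∈ S, (X.filter fun L => act ρ g L = L).card = 2 * S.card := by
    rw [Finset.sum_congr rfl (fun g hg => ?_), Finset.sum_const, smul_eq_mul, mul_comm]
    have : (X.filter fun L => act ρ g L = L) = {A g hg, B g hg} := by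
      ext L
      rw [Finset.mem_filter, Finset.mem_insert, Finset.mem_singleton, hXmem]
      constructor
      · rintro ⟨⟨h1, -⟩, h2⟩; exact (hfix g hg L h1).1 h2
      · intro h
        have h1 : finrank ℂ L = 1 := by
          rcases h with rfl | rfl
          · exact hA g hg
          · exact hB g hg
        exact ⟨⟨h1, g, hg, (hfix g hg L h1).2 h⟩, (hfix g hg L h1).2 h⟩
    rw [this, Finset.card_pair (hAB g hg)]
  rw [Finset.sum_congr rfl fun g _ => Finset.card_filter _ _, Finset.sum_comm] at hcount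
  have hcomm : ∀ L : Submodule ℂ (Fin 2 → ℂ),
      (∑ g ∈ S, if act ρ g L = L then 1 else 0) + Nat.card Z = Nat.card (stab ρ L) := by
    intro L
    rw [← Finset.card_filter, Nat.card_eq_fintype_card, Nat.card_eq_fintype_card,
      Fintype.card_subtype, Fintype.card_subtype, ← Finset.card_union_of_disjoint]
    · congr 1
      ext g
      simp only [hS, Finset.mem_union, Finset.mem_filter, Finset.mem_univ, true_and]
      constructor
      · rintro (⟨-, h⟩ | h)
        · exact h
        · exact hZstab L h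
      · intro h
        by_cases hg : g ∈ Z
        · exact Or.inr hg
        · exact Or.inl ⟨hg, h⟩
    · rw [Finset.disjoint_left]
      simp only [hS, Finset.mem_filter, Finset.mem_univ, true_and]
      exact fun g h => h.1
  -- the class equation
  set h := Z.index with hh
  set z := Nat.card Z with hz
  have hzpos : 0 < z := Nat.card_pos
  have hG : Nat.card G = z * h := (Z.card_mul_index).symm
  set R := X.image (orbit ρ) with hR
  have horb : ∀ O ∈ R, 3 ≤ O.card ∧ ∃ n, 2 ≤ n ∧ O.card * n = h ∧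
      ∀ L ∈ O, Nat.card (stab ρ L) = z * n := by
    intro O hO
    obtain ⟨L, hL, rfl⟩ := Finset.mem_image.1 hO
    obtain ⟨hL1, s, hs, hsL⟩ := (hXmem L).1 hL
    have hidx : (stab ρ L).index = (orbit ρ L).card := by
      have h1 := card_orbit_mul ρ L
      have h2 := (stab ρ L).card_mul_index
      exact Nat.eq_of_mul_eq_mul_left (Nat.card_pos (α := stab ρ L)) (by rw [h2, ← h1, mul_comm])
    have h3 : 3 ≤ (orbit ρ L).card := by
      have h0 : 0 < (orbit ρ L).card := Finset.card_pos.2 ⟨L, self_mem_orbit ρ L⟩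
      have hne1 : (orbit ρ L).card ≠ 1 := by
        intro h1
        rw [← hidx, Subgroup.index_eq_one] at h1
        rcases hirr' L (fun g x hx => by
            have hg : act ρ g L = L := (mem_stab ρ).1 (h1 ▸ Subgroup.mem_top g)
            rw [← hg]; exact Submodule.mem_map_of_mem hx) with e | e
        · rw [e] at hL1; simp at hL1
        · rw [e, finrank_top, Module.finrank_fin_fun] at hL1; omega
      have hne2 : (orbit ρ L).card ≠ 2 := by
        intro h2
        rw [← hidx] at h2
        obtain ⟨θ, hθ, he⟩ := eq_indFun_of_index_two ρ hL1 h2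
        refine hprim _ (fun htop => ?_) θ hθ he
        rw [htop, Subgroup.index_top] at h2
        omega
      omega
    obtain ⟨n, hn⟩ := Subgroup.card_dvd_of_le (hZstab L)
    have hcall : ∀ M ∈ orbit ρ L, Nat.card (stab ρ M) = z * n := by
      intro M hM
      have h1 := card_orbit_mul ρ M
      rw [orbit_eq_of_mem ρ hM, ← card_orbit_mul ρ L] at h1
      rw [Nat.eq_of_mul_eq_mul_left (by omega : 0 < (orbit ρ L).card) h1, hn, hz]
    refine ⟨h3, n, ?_, ?_, hcall⟩
    · have h1 := hcomm L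
      rw [hn, ← hz] at h1
      have hpos : 1 ≤ ∑ g ∈ S, if act ρ g L = L then 1 else 0 :=
        le_trans (by rw [if_pos hsL]) (Finset.single_le_sum (f := fun g => if act ρ g L = L then 1 else 0)
          (fun _ _ => Nat.zero_le _) hs)
      by_contra hcon
      interval_cases n <;> omega
    · have h1 := card_orbit_mul ρ L
      rw [hn, ← hz, hG, mul_left_comm] at h1
      exact Nat.eq_of_mul_eq_mul_left hzpos h1
  choose h3 n hn2 hnh hnst using horb
  have hSc : S.card = z * h - z := by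
    have h1 : (Finset.univ.filter fun g => g ∈ Z).card = z := by
      rw [hz, Nat.card_eq_fintype_card, Fintype.card_subtype]
    have h2 := Finset.card_filter_add_card_filter_not (s := (Finset.univ : Finset G)) (· ∈ Z)
    rw [Finset.card_univ, ← Nat.card_eq_fintype_card, hG, h1] at h2
    rw [hS]; omega
  have hsum : ∑ L ∈ X, Nat.card (stab ρ L) = ∑ O ∈ R, z * h := by
    rw [← Finset.sum_fiberwise_of_maps_to (fun L hL => Finset.mem_image_of_mem (orbit ρ) hL)]
    refine Finset.sum_congr rfl fun O hO => ?_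
    have hfib : X.filter (fun L => orbit ρ L = O) = O := by
      obtain ⟨L, hL, rfl⟩ := Finset.mem_image.1 hO
      ext M
      rw [Finset.mem_filter]
      refine ⟨fun hM => hM.2 ▸ self_mem_orbit ρ M, fun hM => ⟨?_, orbit_eq_of_mem ρ hM⟩⟩
      obtain ⟨g, rfl⟩ := (mem_orbit ρ).1 hM
      exact hXinv g L hL
    rw [hfib, Finset.sum_congr rfl fun L hL => hnst O hO L hL, Finset.sum_const, smul_eq_mul,
      mul_left_comm, hnh]
  have hXc : X.card = ∑ O ∈ R, O.card := by
    rw [Finset.card_eq_sum_card_image (orbit ρ) X]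
    refine Finset.sum_congr rfl fun O hO => ?_
    congr 1
    obtain ⟨L, hL, rfl⟩ := Finset.mem_image.1 hO
    ext M
    rw [Finset.mem_filter]
    refine ⟨fun hM => hM.2 ▸ self_mem_orbit ρ M, fun hM => ⟨?_, orbit_eq_of_mem ρ hM⟩⟩
    obtain ⟨g, rfl⟩ := (mem_orbit ρ).1 hM
    exact hXinv g L hL
  have heq : 2 * (z * h - z) + z * X.card = R.card * (z * h) := by
    rw [← hSc, ← hcount, show R.card * (z * h) = ∑ O ∈ R, z * h by simp, ← hsum, mul_comm z,
      ← smul_eq_mul, ← Finset.sum_const, ← Finset.sum_add_distrib]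
    exact Finset.sum_congr rfl fun L _ => hcomm L
  rw [hXc] at heq
  have heq2 : 2 * (h - 1) + ∑ O ∈ R, O.card = R.card * h := by
    refine Nat.eq_of_mul_eq_mul_left hzpos ?_
    rw [Nat.mul_add, mul_left_comm z R.card, ← heq, mul_left_comm z 2, Nat.mul_sub, mul_one]
  have hhalf : ∀ O ∈ R, 2 * O.card ≤ h := fun O hO => by
    rw [← hnh O hO, mul_comm 2]
    exact Nat.mul_le_mul_left _ (hn2 O hO)
  have hsle : 2 * ∑ O ∈ R, O.card ≤ R.card * h := by
    rw [Finset.mul_sum]
    exact (Finset.sum_le_card_nsmul R _ h hhalf).trans_eq (smul_eq_mul _ _)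
  have hsge : R.card * 3 ≤ ∑ O ∈ R, O.card := by
    rw [← smul_eq_mul]
    exact Finset.card_nsmul_le_sum R _ 3 h3
  have hh2 : 2 ≤ h := by
    by_contra hlt
    have h1 : h ≠ 0 := Subgroup.index_ne_zero_of_finite
    have hZtop : Z = ⊤ := Subgroup.index_eq_one.1 (by omega : Z.index = 1)
    obtain ⟨c, hc⟩ : ∃ v : Fin 2 → ℂ, v ≠ 0 := ⟨fun _ => 1, fun h => one_ne_zero (congrFun h 0)⟩
    rcases hirr' (Submodule.span ℂ {c}) (fun g x hx => by
      obtain ⟨a, ha⟩ := (hsc g).1 (hZtop ▸ Subgroup.mem_top g)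
      rw [ha]; exact Submodule.smul_mem _ a hx) with e | e
    · exact hc (Submodule.span_singleton_eq_bot.1 e)
    · have h2 := finrank_span_singleton (K := ℂ) hc
      rw [e, finrank_top, Module.finrank_fin_fun] at h2
      omega
  have hr : R.card = 3 := by
    have h1 : R.card < 4 := by
      by_contra hlt
      have : 4 * h ≤ R.card * h := Nat.mul_le_mul_right h (by omega)
      omega
    have h2 : 2 < R.card := by
      by_contra hle
      have hle2 : R.card ≤ 2 := by omega
      interval_cases hRc : R.card <;> omega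
    omega
  obtain ⟨O₁, O₂, O₃, h12, h13, h23, hR3⟩ := Finset.card_eq_three.1 hr
  rw [hr] at heq2
  rw [hR3, Finset.sum_insert (by simp [h12, h13]), Finset.sum_pair h23] at heq2
  have m1 : O₁ ∈ R := by rw [hR3]; simp
  have m2 : O₂ ∈ R := by rw [hR3]; simp
  have m3 : O₃ ∈ R := by rw [hR3]; simp
  have key : ∀ a b c x y w : ℕ, 3 ≤ x → 3 ≤ y → 3 ≤ w → 2 ≤ a → a ≤ b → b ≤ c →
      x * a = h → y * b = h → w * c = h → x + y + w = h + 2 → h = 12 ∨ h = 24 ∨ h = 60 := by
    intro a b c x y w hx hy hw ha hab hbc e1 e2 e3 es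
    have ha2 : a = 2 := by
      by_contra hne
      have t1 : x * 3 ≤ h := e1 ▸ Nat.mul_le_mul_left x (by omega)
      have t2 : y * 3 ≤ h := e2 ▸ Nat.mul_le_mul_left y (by omega)
      have t3 : w * 3 ≤ h := e3 ▸ Nat.mul_le_mul_left w (by omega)
      omega
    subst ha2
    have hb3 : b = 3 := by
      by_contra hne
      rcases Nat.lt_or_ge b 4 with hb | hb
      · have : b = 2 := by omega
        subst this
        omega
      · have t2 : y * 4 ≤ h := e2 ▸ Nat.mul_le_mul_left y hb
        have t3 : w * 4 ≤ h := e3 ▸ Nat.mul_le_mul_left w (by omega)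
        omega
    subst hb3
    have hc : c ≤ 5 := by
      by_contra hne
      have t3 : w * 6 ≤ h := e3 ▸ Nat.mul_le_mul_left w (by omega)
      omega
    interval_cases c <;> omega
  have a1 := hnh O₁ m1; have a2 := hnh O₂ m2; have a3 := hnh O₃ m3
  have b1 := hn2 O₁ m1; have b2 := hn2 O₂ m2; have b3 := hn2 O₃ m3
  have c1 := h3 O₁ m1; have c2 := h3 O₂ m2; have c3 := h3 O₃ m3
  rcases le_total (n O₁ m1) (n O₂ m2) with l12 | l12 <;>
    rcases le_total (n O₁ m1) (n O₃ m3) with l13 | l13 <;>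
    rcases le_total (n O₂ m2) (n O₃ m3) with l23 | l23
  all_goals first
    | exact key _ _ _ _ _ _ c1 c2 c3 b1 (by omega) (by omega) a1 a2 a3 (by omega)
    | exact key _ _ _ _ _ _ c1 c3 c2 b1 (by omega) (by omega) a1 a3 a2 (by omega)
    | exact key _ _ _ _ _ _ c2 c1 c3 b2 (by omega) (by omega) a2 a1 a3 (by omega)
    | exact key _ _ _ _ _ _ c2 c3 c1 b2 (by omega) (by omega) a2 a3 a1 (by omega)
    | exact key _ _ _ _ _ _ c3 c1 c2 b3 (by omega) (by omega) a3 a1 a2 (by omega)
    | exact key _ _ _ _ _ _ c3 c2 c1 b3 (by omega) (by omega) a3 a2 a1 (by omega)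

end CfsgLib.CharApps.DegreeTwo
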