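import Cfsg.Agent.Lib.CharApps.Basic
import Cfsg.Agent.Lib.Blocks.PrincipalBlock

/-!
# Columns of the principal block at `p`-elements
-/

set_option autoImplicit false
set_option linter.style.haveILetI false

namespace CfsgLib.CharApps

open Cfsg CfsgLib.Chars CfsgLib.Blocks
open scoped ComplexConjugate

universe u

variable {G : Type u} [Group G] [Fintype G] {M : Ideal AlgInt} [M.IsPrime] {p : ℕ} [Fact p.Prime]

/-- The columns of the principal block at an element and at a `p`-element are orthogonal
unless the `p`-part of the element is conjugate to the `p`-element. -/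
theorem principal_column_orth (hM : IsPModular p M) {z : G} (hz : ∃ k, orderOf z = p ^ k)
    {y : G} (hy : ∀ c : Subgroup.centralizer ({z} : Set G), ¬ p ∣ orderOf c →
      ¬ IsConj y (z * c)) :
    ∑ᶠ χ ∈ principalBlock M G, (χ : G → ℂ) z * conj ((χ : G → ℂ) y) = 0 := by
  classical
  haveI := Fintype.ofFinite (Subgroup.centralizer ({z} : Set G))
  have h1o : ¬ p ∣ orderOf (1 : Subgroup.centralizer ({z} : Set G)) := by
    rw [orderOf_one]; exact (Fact.out : p.Prime).not_dvd_one
  have h := blockPart_principalBlock_centralizer hM (isClassFunction_classInd y) hz h1o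
  rw [blockPart_eq_zero_of_regular (Fact.out : p.Prime) hM.2.2 (isPBlock_principalBlock M)
    (isClassFunction_mul_left (isClassFunction_classInd y))
    (fun c hc => by rw [classInd_apply, if_neg (hy c hc)]) h1o] at h
  rw [Subgroup.coe_one, mul_one, blockPart_classInd] at h
  exact (mul_eq_zero.mp h).resolve_left (inv_ne_zero (Nat.cast_ne_zero.2 Nat.card_pos.ne'))

/-- The norm of the column of the principal block at a `p`-element. -/
theorem principal_column_norm (hM : IsPModular p M) {z : G} (hz : ∃ k, orderOf z = p ^ k) :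
    ∑ᶠ χ ∈ principalBlock M G, (χ : G → ℂ) z * conj ((χ : G → ℂ) z) =
      ((∑ᶠ ψ ∈ principalBlock M (Subgroup.centralizer ({z} : Set G)),
        charDegree (ψ : Subgroup.centralizer ({z} : Set G) → ℂ) ^ 2 : ℕ) : ℂ) := by
  classical
  haveI := Fintype.ofFinite (Subgroup.centralizer ({z} : Set G))
  haveI := irrFintype (Subgroup.centralizer ({z} : Set G))
  have h1o : ¬ p ∣ orderOf (1 : Subgroup.centralizer ({z} : Set G)) := by
    rw [orderOf_one]; exact (Fact.out : p.Prime).not_dvd_one
  have h := principalBlock_normSum_centralizer hM hz 1 h1o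
  rw [Subgroup.coe_one, mul_one] at h
  rw [h, finsum_mem_eq_sum_of_inter_support_eq
      (t := Finset.univ.filter (· ∈ principalBlock M (Subgroup.centralizer ({z} : Set G)))) _
      (by ext; simp),
    finsum_mem_eq_sum_of_inter_support_eq
      (t := Finset.univ.filter (· ∈ principalBlock M (Subgroup.centralizer ({z} : Set G)))) _
      (by ext; simp), Nat.cast_sum]
  refine Finset.sum_congr rfl fun ψ _ => ?_
  rw [conj_deg, deg_eq, sq, Nat.cast_mul]

/-- `p`-elements of different classes have orthogonal columns. -/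
theorem principal_column_orth_of_not_isConj (hM : IsPModular p M) {z x : G}
    (hz : ∃ k, orderOf z = p ^ k) (hx : ∃ k, orderOf x = p ^ k) (h : ¬ IsConj z x) :
    ∑ᶠ χ ∈ principalBlock M G, (χ : G → ℂ) z * conj ((χ : G → ℂ) x) = 0 := by
  refine principal_column_orth hM hz fun c hc hconj => h ?_
  obtain ⟨g, hg⟩ := isConj_iff.mp hconj
  have hcomm : Commute z (c : G) := (Subgroup.mem_centralizer_singleton_iff.1 c.2 : _ = _).symm
  have h1 : BlockOrth.IsPPrimePart p x 1 :=
    ⟨x, by simp, Commute.one_right x, hx, by rw [orderOf_one]; exact (Fact.out : p.Prime).not_dvd_one⟩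
  have h2 := h1.conj g
  rw [hg] at h2
  have h3 : g * (1 : G) * g⁻¹ = c := h2.unique
    ⟨z, rfl, hcomm, hz, by rwa [Subgroup.orderOf_coe]⟩
  rw [mul_one, mul_inv_cancel] at h3
  rw [← h3, mul_one] at hg
  exact (isConj_iff.mpr ⟨g, hg⟩).symm

end CfsgLib.CharApps
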