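import Cfsg.Agent.Lib.CharApps.FrobeniusSchur

/-!
# Invariant bilinear forms and real forms of irreducible representations
-/

set_option autoImplicit false
set_option linter.style.haveILetI false

namespace CfsgLib.CharApps

open Cfsg CfsgLib.Chars Module
open scoped ComplexConjugate Matrix ComplexOrder

universe u

variable {G : Type u} [Group G] [Fintype G] {n : ℕ} (ρ : Representation ℂ G (Fin n → ℂ))

/-- The averaged forms of a real irreducible representation are multiples of one form whose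
symmetry is the indicator. -/
theorem exists_symAvg_form [hρ : ρ.IsIrreducible]
    (h : ∀ g : G, conj (ρ.character g) = ρ.character g) :
    ∃ M : Matrix (Fin n) (Fin n) ℂ, M ≠ 0 ∧ (∀ Y, ∃ c : ℂ, symAvg ρ Y = c • M) ∧
      Mᵀ = fsInd ρ.character • M ∧ ∃ Y, symAvg ρ Y ≠ 0 := by
  have hce : (contraRep ρ).character = ρ.character :=
    funext fun g => (character_contraRep ρ g).trans (h g)
  have h1 : finrank ℂ ((contraRep ρ).IntertwiningMap ρ) = 1 := by
    have h1 := inner_character ρ (contraRep ρ)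
    rw [hce, inner_self_irr] at h1
    exact_mod_cast h1.symm
  obtain ⟨B, hB0, hB⟩ := finrank_eq_one_iff'.mp h1
  set M : Matrix (Fin n) (Fin n) ℂ := LinearMap.toMatrix' B.toLinearMap
  have hlam : ∀ Y, ∃ c : ℂ, symAvg ρ Y = c • M := fun Y => by
    obtain ⟨c, hc⟩ := hB (symAvgMap ρ Y)
    refine ⟨c, ?_⟩
    have h2 := congrArg (fun f => LinearMap.toMatrix' (Representation.IntertwiningMap.toLinearMap f))
      hc
    simp only [symAvgMap_toLinearMap, LinearMap.toMatrix'_toLin'] at h2
    rw [← h2]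
    exact map_smul LinearMap.toMatrix' c B.toLinearMap
  choose c hc using hlam
  have hnorm : (Nat.card G : ℂ)⁻¹ * ∑ i, ∑ k, c (Matrix.single i k 1) * M i k = 1 := by
    have h2 := inner_conj_self_eq ρ.character
    rw [funext h, inner_self_irr] at h2
    rw [sum_char_char] at h2
    refine Eq.trans ?_ h2.symm
    simp [hc]
  obtain ⟨i0, k0, hik⟩ : ∃ i k, c (Matrix.single i k 1) ≠ 0 := by
    by_contra hcon
    push Not at hcon
    simp [hcon] at hnorm
  set ε : ℂ := c (Matrix.single k0 i0 1) / c (Matrix.single i0 k0 1) with hε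
  have hMT : Mᵀ = ε • M := by
    have h2 := symAvg_transpose ρ (Matrix.single i0 k0 (1 : ℂ))
    rw [Matrix.transpose_single, hc, hc, Matrix.transpose_smul] at h2
    rw [hε, div_eq_inv_mul, mul_smul, ← h2, smul_smul, inv_mul_cancel₀ hik, one_smul]
  have hM0 : M ≠ 0 := fun h0 => hB0 (Representation.IntertwiningMap.toLinearMap_injective _ _
    (LinearMap.toMatrix'.injective (h0.trans (map_zero LinearMap.toMatrix').symm)))
  have hε2 : ε = 1 ∨ ε = -1 := by
    have h2 : M = (ε * ε) • M := by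
      conv_lhs => rw [← Matrix.transpose_transpose M, hMT, Matrix.transpose_smul, hMT, smul_smul]
    have h3 : ((ε * ε) - 1) • M = 0 := by rw [sub_smul, ← h2, one_smul, sub_self]
    exact mul_self_eq_one_iff.mp (sub_eq_zero.mp ((smul_eq_zero.mp h3).resolve_right hM0))
  have hsw : ∀ i j : Fin n, c (Matrix.single j i 1) = ε * c (Matrix.single i j 1) := by
    intro i j
    have h2 := symAvg_transpose ρ (Matrix.single i j (1 : ℂ))
    rw [Matrix.transpose_single, hc, hc, Matrix.transpose_smul, hMT, smul_smul] at h2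
    rw [mul_comm]
    exact (smul_left_injective ℂ hM0 h2).symm
  have hval : fsInd ρ.character = ε := by
    rw [fsInd, sum_char_sq_elem]
    conv_rhs => rw [← mul_one ε, ← hnorm, mul_left_comm, Finset.mul_sum]
    refine congrArg _ (Finset.sum_congr rfl fun i _ => ?_)
    rw [Finset.mul_sum]
    refine Finset.sum_congr rfl fun j _ => ?_
    rw [hc, Matrix.smul_apply, smul_eq_mul, hsw, mul_assoc]
  refine ⟨M, hM0, fun Y => ⟨c Y, hc Y⟩, ?_, ?_⟩
  · rw [hval]; exact hMT
  · exact ⟨Matrix.single i0 k0 1, by rw [hc]; exact smul_ne_zero hik hM0⟩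


omit [Fintype G] in
theorem repMat_contraRep (g : G) : repMat (contraRep ρ) g = (repMat ρ g⁻¹)ᵀ :=
  LinearMap.toMatrix'_toLin' _

/-- The invariant bilinear forms of a real irreducible representation. -/
theorem exists_invariant_form [hρ : ρ.IsIrreducible]
    (h : ∀ g : G, conj (ρ.character g) = ρ.character g) :
    (∃ M : Matrix (Fin n) (Fin n) ℂ, M ≠ 0 ∧
      ∀ g : G, (repMat ρ g)ᵀ * M * repMat ρ g = M) ∧
    ∀ M : Matrix (Fin n) (Fin n) ℂ, (∀ g : G, (repMat ρ g)ᵀ * M * repMat ρ g = M) →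
      Mᵀ = fsInd ρ.character • M := by
  have hce : (contraRep ρ).character = ρ.character :=
    funext fun g => (character_contraRep ρ g).trans (h g)
  haveI : (contraRep ρ).IsIrreducible := by
    rw [isIrreducible_iff_inner_self, hce, inner_self_irr]
  obtain ⟨M₀, hM₀, hc, hT, Y, hY⟩ := exists_symAvg_form (contraRep ρ) (by rw [hce]; exact h)
  rw [hce] at hT
  have hval : ∀ Z : Matrix (Fin n) (Fin n) ℂ,
      symAvg (contraRep ρ) Z = ∑ g : G, (repMat ρ g)ᵀ * Z * repMat ρ g := by
    intro Z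
    refine Fintype.sum_equiv (Equiv.inv G) _ _ fun g => ?_
    simp [repMat_contraRep]
  refine ⟨⟨symAvg (contraRep ρ) Y, hY, fun g => ?_⟩, fun M hM => ?_⟩
  · rw [hval, Finset.mul_sum, Finset.sum_mul]
    refine Fintype.sum_equiv (Equiv.mulRight g) _ _ fun x => ?_
    simp [repMat_mul, Matrix.transpose_mul, Matrix.mul_assoc]
  · obtain ⟨c, hc⟩ := hc M
    rw [hval] at hc
    simp only [hM, Finset.sum_const, Finset.card_univ, ← Nat.cast_smul_eq_nsmul ℂ] at hc
    have hN : (Fintype.card G : ℂ) ≠ 0 := Nat.cast_ne_zero.mpr Fintype.card_ne_zero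
    rw [← inv_smul_smul₀ hN M, hc, Matrix.transpose_smul, Matrix.transpose_smul, hT,
      smul_comm (fsInd ρ.character) (Fintype.card G : ℂ)⁻¹, smul_comm (fsInd ρ.character) c]

section RealForm

open Matrix

/-- The averaged Hermitian form. -/
noncomputable def hermAvg : Matrix (Fin n) (Fin n) ℂ := ∑ g : G, (repMat ρ g)ᴴ * repMat ρ g

theorem hermAvg_posDef : (hermAvg ρ).PosDef := by
  classical
  unfold hermAvg
  rw [← Finset.add_sum_erase _ _ (Finset.mem_univ (1 : G)), repMat_one,
    conjTranspose_one, Matrix.one_mul]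
  exact Matrix.PosDef.one.add_posSemidef
    (Matrix.posSemidef_sum _ fun g _ => Matrix.posSemidef_conjTranspose_mul_self _)

theorem hermAvg_mul (g : G) :
    hermAvg ρ * repMat ρ g = (repMat ρ g⁻¹)ᴴ * hermAvg ρ := by
  rw [hermAvg, Finset.sum_mul, Finset.mul_sum]
  refine Fintype.sum_equiv (Equiv.mulRight g) _ _ fun x => ?_
  simp only [Equiv.coe_mulRight]
  rw [repMat_mul ρ x g, conjTranspose_mul]
  simp only [← Matrix.mul_assoc]
  rw [← conjTranspose_mul, ← repMat_mul, mul_inv_cancel, repMat_one, conjTranspose_one,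
    Matrix.one_mul]

/-- The semilinear map attached to a bilinear form. -/
noncomputable def formConj (M : Matrix (Fin n) (Fin n) ℂ) (x : Fin n → ℂ) : Fin n → ℂ :=
  (hermAvg ρ)⁻¹ *ᵥ star (M *ᵥ x)

theorem formConj_add (M : Matrix (Fin n) (Fin n) ℂ) (x y : Fin n → ℂ) :
    formConj ρ M (x + y) = formConj ρ M x + formConj ρ M y := by
  simp [formConj, mulVec_add, star_add]

theorem formConj_smul (M : Matrix (Fin n) (Fin n) ℂ) (a : ℂ) (x : Fin n → ℂ) :
    formConj ρ M (a • x) = conj a • formConj ρ M x := by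
  simp [formConj, mulVec_smul, star_smul]

theorem formConj_rep {M : Matrix (Fin n) (Fin n) ℂ}
    (hM : ∀ g : G, (repMat ρ g)ᵀ * M * repMat ρ g = M) (g : G) (x : Fin n → ℂ) :
    formConj ρ M (repMat ρ g *ᵥ x) = repMat ρ g *ᵥ formConj ρ M x := by
  have hH : IsUnit (hermAvg ρ).det := (Matrix.isUnit_iff_isUnit_det _).mp (hermAvg_posDef ρ).isUnit
  have h1 : M * repMat ρ g = (repMat ρ g⁻¹)ᵀ * M := by
    conv_rhs => rw [← hM g]
    rw [← Matrix.mul_assoc, ← Matrix.mul_assoc, ← transpose_mul, ← repMat_mul, mul_inv_cancel,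
      repMat_one, transpose_one, Matrix.one_mul]
  have h2 : (hermAvg ρ)⁻¹ * (repMat ρ g⁻¹)ᴴ = repMat ρ g * (hermAvg ρ)⁻¹ := by
    calc (hermAvg ρ)⁻¹ * (repMat ρ g⁻¹)ᴴ
        = (hermAvg ρ)⁻¹ * ((repMat ρ g⁻¹)ᴴ * hermAvg ρ) * (hermAvg ρ)⁻¹ := by
          rw [Matrix.mul_assoc, Matrix.mul_assoc, Matrix.mul_nonsing_inv _ hH, Matrix.mul_one]
      _ = repMat ρ g * (hermAvg ρ)⁻¹ := by
          rw [← hermAvg_mul, ← Matrix.mul_assoc, Matrix.nonsing_inv_mul _ hH, Matrix.one_mul]
  unfold formConj
  rw [mulVec_mulVec x M, h1, ← mulVec_mulVec, star_mulVec, ← mulVec_transpose, mulVec_mulVec,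
    mulVec_mulVec, ← h2]
  rfl

/-- A symmetric invariant form gives a real form of the representation. -/
theorem exists_real_form [hρ : ρ.IsIrreducible] {M : Matrix (Fin n) (Fin n) ℂ} (hM0 : M ≠ 0)
    (hM : ∀ g : G, (repMat ρ g)ᵀ * M * repMat ρ g = M) (hsym : Mᵀ = M) :
    ∃ (m : ℕ) (σ : Representation ℝ G (Fin m → ℝ)), ∀ g : G,
      ((LinearMap.trace ℝ (Fin m → ℝ) (σ g) : ℝ) : ℂ) = ρ.character g := by
  classical
  have hρx : ∀ g x, ρ g x = repMat ρ g *ᵥ x := fun g x => by
    rw [← Matrix.toLin'_apply]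
    exact congrArg (fun f => f x) (Matrix.toLin'_toMatrix' (ρ g)).symm
  set T : (Fin n → ℂ) →ₗ[ℂ] Fin n → ℂ :=
    { toFun := fun x => formConj ρ M (formConj ρ M x)
      map_add' := fun x y => by rw [formConj_add, formConj_add]
      map_smul' := fun a x => by
        rw [formConj_smul, formConj_smul, Complex.conj_conj, RingHom.id_apply] }
  obtain ⟨k, hk⟩ : ∃ k : ℂ, ∀ x, formConj ρ M (formConj ρ M x) = k • x := by
    set T' : ρ.IntertwiningMap ρ := LinearMap.intertwiningMap_of_isIntertwiningMap ρ ρ T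
      (fun g x => by
        show formConj ρ M (formConj ρ M (ρ g x)) = ρ g (formConj ρ M (formConj ρ M x))
        rw [hρx, hρx, formConj_rep ρ hM, formConj_rep ρ hM])
    obtain ⟨k, hk⟩ :=
      (Representation.IsIrreducible.algebraMap_intertwiningMap_bijective_of_isAlgClosed (ρ := ρ)).2 T'
    exact ⟨k, fun x => ((congrArg (fun F => F.toLinearMap x) hk).symm).trans (by simp)⟩
  obtain ⟨r, hr, hkr⟩ : ∃ r : ℝ, 0 < r ∧ k = r := by
    obtain ⟨x, hx⟩ : ∃ x, M *ᵥ x ≠ 0 := by
      by_contra hcon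
      push Not at hcon
      exact hM0 (Matrix.ext_iff_mulVec.mpr fun v => by rw [hcon v, Matrix.zero_mulVec])
    have hH : IsUnit (hermAvg ρ).det :=
      (Matrix.isUnit_iff_isUnit_det _).mp (hermAvg_posDef ρ).isUnit
    set w := formConj ρ M x with hw
    have hHw : hermAvg ρ *ᵥ w = star (M *ᵥ x) := by
      rw [hw, formConj, mulVec_mulVec, Matrix.mul_nonsing_inv _ hH, one_mulVec]
    have hw0 : w ≠ 0 := fun h0 => hx (by rwa [h0, mulVec_zero, eq_comm, star_eq_zero] at hHw)
    have hx0 : x ≠ 0 := fun h0 => hx (by rw [h0, mulVec_zero])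
    have h1 : star (M *ᵥ w) = k • (hermAvg ρ *ᵥ x) := by
      rw [← mulVec_smul, ← hk x, formConj, mulVec_mulVec, Matrix.mul_nonsing_inv _ hH, one_mulVec]
    have hq : ∀ v : Fin n → ℂ, v ≠ 0 → ∃ a : ℝ, 0 < a ∧ star v ⬝ᵥ (hermAvg ρ *ᵥ v) = a := by
      intro v hv
      obtain ⟨ha, hi⟩ := Complex.lt_def.mp ((hermAvg_posDef ρ).dotProduct_mulVec_pos hv)
      exact ⟨(star v ⬝ᵥ (hermAvg ρ *ᵥ v)).re, by simpa using ha,
        Complex.ext rfl (by simpa using hi.symm)⟩
    obtain ⟨a, ha, hax⟩ := hq x hx0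
    obtain ⟨b, hb, hbw⟩ := hq w hw0
    have h2 : x ⬝ᵥ (M *ᵥ w) = (M *ᵥ x) ⬝ᵥ w := by
      rw [dotProduct_mulVec, ← mulVec_transpose, hsym]
    have h3 : (M *ᵥ x) ⬝ᵥ w = (b : ℂ) := by
      rw [← star_star (M *ᵥ x), ← hHw, star_dotProduct, star_eq_iff_star_eq] 
      rw [hbw, Complex.star_def, Complex.conj_ofReal]
    have h4 : k * (a : ℂ) = (b : ℂ) := by
      have h5 := congrArg (fun v => star x ⬝ᵥ v) h1
      simp only [dotProduct_smul, hax, smul_eq_mul, star_dotProduct_star] at h5
      rw [← h5, dotProduct_comm, h2, h3, Complex.star_def, Complex.conj_ofReal]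
    refine ⟨b / a, div_pos hb ha, ?_⟩
    rw [Complex.ofReal_div, eq_div_iff (Complex.ofReal_ne_zero.mpr ha.ne'), h4]
  set s : ℂ := (((Real.sqrt r)⁻¹ : ℝ) : ℂ) with hs
  set J : (Fin n → ℂ) → Fin n → ℂ := fun x => s • formConj ρ M x with hJ
  have hsc : conj s = s := Complex.conj_ofReal _
  have hJadd : ∀ x y, J (x + y) = J x + J y := fun x y => by simp [hJ, formConj_add]
  have hJsmul : ∀ (a : ℂ) x, J (a • x) = conj a • J x := fun a x => by
    simp only [hJ, formConj_smul]; rw [smul_comm]
  have hJJ : ∀ x, J (J x) = x := fun x => by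
    show s • formConj ρ M (s • formConj ρ M x) = x
    rw [formConj_smul, hk, hsc, smul_smul, smul_smul, hkr, hs, ← Complex.ofReal_mul,
      ← Complex.ofReal_mul, ← mul_inv, Real.mul_self_sqrt hr.le, inv_mul_cancel₀ hr.ne',
      Complex.ofReal_one, one_smul]
  have hJg : ∀ g x, J (ρ g x) = ρ g (J x) := fun g x => by
    simp only [hJ, hρx, formConj_rep ρ hM, mulVec_smul]
  let V₀ : Submodule ℝ (Fin n → ℂ) :=
    { carrier := {x | J x = x}
      add_mem' := fun {x y} hx hy => by
        show J (x + y) = x + y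
        rw [hJadd, hx, hy]
      zero_mem' := by
        have := hJsmul 0 0
        simpa using this
      smul_mem' := fun c x hx => by
        show J (c • x) = c • x
        rw [← Complex.coe_smul, hJsmul, Complex.conj_ofReal, hx] }
  set b := Module.finBasis ℝ V₀
  set v : Fin (finrank ℝ V₀) → Fin n → ℂ := fun i => (b i : Fin n → ℂ)
  have hli : LinearIndependent ℂ v := by
    rw [Fintype.linearIndependent_iff]
    intro c hc
    have hJsum : ∀ t : Finset (Fin (finrank ℝ V₀)), J (∑ i ∈ t, c i • v i) =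
        ∑ i ∈ t, conj (c i) • v i := by
      intro t
      induction t using Finset.induction_on with
      | empty => simpa using hJsmul 0 0
      | insert a t ha ih =>
        rw [Finset.sum_insert ha, Finset.sum_insert ha, hJadd, ih, hJsmul,
          (b a).2]
    have hc2 : ∑ i, conj (c i) • v i = 0 := by
      rw [← hJsum, hc]; simpa using hJsmul 0 0
    have hind := Fintype.linearIndependent_iff.mp b.linearIndependent
    have hre := hind (fun i => (c i).re) (Subtype.ext (by
      have h6 : ∑ i, ((c i).re : ℂ) • v i = 0 := by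
        have : (2 : ℂ) • ∑ i, ((c i).re : ℂ) • v i = 0 := by
          rw [Finset.smul_sum]
          simp only [smul_smul, show ∀ z : ℂ, (2 : ℂ) * (z.re : ℂ) = z + conj z from fun z => by
            rw [Complex.add_conj]; push_cast; ring, add_smul]
          rw [Finset.sum_add_distrib, hc, hc2, add_zero]
        exact (smul_eq_zero.mp this).resolve_left two_ne_zero
      simpa [Complex.coe_smul, v] using h6))
    have him := hind (fun i => (c i).im) (Subtype.ext (by
      have h6 : ∑ i, ((c i).im : ℂ) • v i = 0 := by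
        have : (2 * Complex.I : ℂ) • ∑ i, ((c i).im : ℂ) • v i = 0 := by
          rw [Finset.smul_sum]
          simp only [smul_smul, show ∀ z : ℂ, 2 * Complex.I * (z.im : ℂ) = z - conj z from fun z => by
            rw [Complex.sub_conj]; push_cast; ring, sub_smul]
          rw [Finset.sum_sub_distrib, hc, hc2, sub_zero]
        exact (smul_eq_zero.mp this).resolve_left (mul_ne_zero two_ne_zero Complex.I_ne_zero)
      simpa [Complex.coe_smul, v] using h6))
    exact fun i => Complex.ext (hre i) (him i)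
  have hspan : ⊤ ≤ Submodule.span ℂ (Set.range v) := by
    intro x _
    have hmem : ∀ y : V₀, (y : Fin n → ℂ) ∈ Submodule.span ℂ (Set.range v) := fun y => by
      rw [← b.sum_repr y, Submodule.coe_sum]
      refine Submodule.sum_mem _ fun i _ => ?_
      rw [Submodule.coe_smul, ← Complex.coe_smul]
      exact Submodule.smul_mem _ _ (Submodule.subset_span ⟨i, rfl⟩)
    have hp : J (x + J x) = x + J x := by rw [hJadd, hJJ, add_comm]
    have hm : J (Complex.I • (x - J x)) = Complex.I • (x - J x) := by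
      rw [sub_eq_add_neg, ← neg_one_smul ℂ (J x), hJsmul, hJadd, hJsmul, hJJ]
      simp only [Complex.conj_I, map_neg, map_one]
      module
    have h7 : x = (2⁻¹ : ℂ) • (x + J x) + (-(2⁻¹ : ℂ) * Complex.I) • (Complex.I • (x - J x)) := by
      rw [smul_smul, mul_assoc, Complex.I_mul_I]
      module
    rw [h7]
    exact Submodule.add_mem _ (Submodule.smul_mem _ _ (hmem ⟨_, hp⟩))
      (Submodule.smul_mem _ _ (hmem ⟨_, hm⟩))
  set B := Basis.mk hli hspan
  have hinv : ∀ (g : G), ∀ x ∈ V₀, ρ g x ∈ V₀ := fun g x (hx : J x = x) => by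
    show J (ρ g x) = ρ g x
    rw [hJg, hx]
  let R : G → Module.End ℝ V₀ := fun g => ((ρ g).restrictScalars ℝ).restrict (hinv g)
  let σ : Representation ℝ G (Fin (finrank ℝ V₀) → ℝ) :=
    { toFun := fun g => b.equivFun.conj (R g)
      map_one' := by
        have : R 1 = 1 := LinearMap.ext fun x => Subtype.ext (by simp [R])
        rw [this]; simp [Module.End.one_eq_id]
      map_mul' := fun g h => by
        have : R (g * h) = R g * R h := LinearMap.ext fun x => Subtype.ext (by
          show ρ (g * h) (x : Fin n → ℂ) = ρ g (ρ h (x : Fin n → ℂ))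
          rw [map_mul]; rfl)
        rw [this]
        exact LinearEquiv.conj_comp _ _ _ }
  refine ⟨_, σ, fun g => ?_⟩
  show ((LinearMap.trace ℝ _ (b.equivFun.conj (R g)) : ℝ) : ℂ) = LinearMap.trace ℂ _ (ρ g)
  rw [LinearMap.trace_conj', LinearMap.trace_eq_matrix_trace ℝ b,
    LinearMap.trace_eq_matrix_trace ℂ B, Matrix.trace, Matrix.trace, Complex.ofReal_sum]
  refine Finset.sum_congr rfl fun i _ => ?_
  rw [Matrix.diag_apply, Matrix.diag_apply, LinearMap.toMatrix_apply, LinearMap.toMatrix_apply]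
  have h8 : ρ g (B i) = ∑ j, ((b.repr (R g (b i)) j : ℝ) : ℂ) • B j := by
    simp only [B, Basis.mk_apply]
    show ((R g (b i) : V₀) : Fin n → ℂ) = _
    conv_lhs => rw [← b.sum_repr (R g (b i)), Submodule.coe_sum]
    simp [v, Complex.coe_smul]
  rw [h8, B.repr_sum_self]

/-- A real representation affording an irreducible character forces indicator one. -/
theorem fsInd_eq_one_of_real {m : ℕ} (σ : Representation ℝ G (Fin m → ℝ)) (χ : IrrCharacter G)
    (h : ∀ g : G, ((LinearMap.trace ℝ (Fin m → ℝ) (σ g) : ℝ) : ℂ) = (χ : G → ℂ) g) :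
    fsInd (χ : G → ℂ) = 1 := by
  classical
  set A : G → Matrix (Fin m) (Fin m) ℝ := fun g => LinearMap.toMatrix' (σ g) with hA
  have hAmul : ∀ a b, A (a * b) = A a * A b := fun a b => by
    simp [hA, map_mul, Module.End.mul_eq_comp, LinearMap.toMatrix'_comp]
  have hA1 : A 1 = 1 := by simp [hA, Module.End.one_eq_id]
  let τ : Representation ℂ G (Fin m → ℂ) :=
    { toFun := fun g => Matrix.toLin' ((A g).map Complex.ofRealHom)
      map_one' := by
        rw [hA1, Matrix.map_one _ (map_zero _) (map_one _), Matrix.toLin'_one]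
        rfl
      map_mul' := fun a b => by
        rw [hAmul, Matrix.map_mul, Matrix.toLin'_mul]
        rfl }
  have hτm : ∀ g, repMat τ g = (A g).map Complex.ofRealHom := fun g =>
    LinearMap.toMatrix'_toLin' _
  have hchar : τ.character = (χ : G → ℂ) := funext fun g => by
    rw [trace_repMat, ← h g, hτm,
      LinearMap.trace_eq_matrix_trace ℝ (Pi.basisFun ℝ (Fin m)), LinearMap.toMatrix_eq_toMatrix',
      Matrix.trace, Complex.ofReal_sum]
    rfl
  haveI : τ.IsIrreducible := by rw [isIrreducible_iff_inner_self, hchar, inner_irr_self]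
  have hreal : ∀ g, conj (τ.character g) = τ.character g := fun g => by
    rw [hchar, ← h g, Complex.conj_ofReal]
  set S : Matrix (Fin m) (Fin m) ℝ := ∑ g : G, (A g)ᵀ * A g with hS
  have hS0 : S ≠ 0 := by
    intro h0
    rcases Nat.eq_zero_or_pos m with hm | hm
    · subst hm
      have : (χ : G → ℂ) 1 = 0 := by
        rw [← h 1, LinearMap.trace_eq_matrix_trace ℝ (Pi.basisFun ℝ (Fin 0))]
        simp [Matrix.trace]
      exact irr_degree_ne_zero χ.2 this
    · have h1 : ∑ g : G, ∑ j, A g j ⟨0, hm⟩ ^ 2 = 0 := by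
        have := congrFun (congrFun h0 ⟨0, hm⟩) ⟨0, hm⟩
        rw [hS, Matrix.sum_apply] at this
        simpa [Matrix.mul_apply, sq] using this
      have h2 := (Finset.sum_eq_zero_iff_of_nonneg (fun g _ => Finset.sum_nonneg fun j _ =>
        sq_nonneg _)).mp h1 1 (Finset.mem_univ _)
      have h3 := (Finset.sum_eq_zero_iff_of_nonneg (fun j _ => sq_nonneg _)).mp h2 ⟨0, hm⟩
        (Finset.mem_univ _)
      rw [hA1] at h3
      simp at h3
  have hinv : ∀ g : G, (repMat τ g)ᵀ * S.map Complex.ofRealHom * repMat τ g =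
      S.map Complex.ofRealHom := by
    intro g
    rw [hτm, ← Matrix.transpose_map, ← Matrix.map_mul, ← Matrix.map_mul]
    congr 1
    rw [hS, Finset.mul_sum, Finset.sum_mul]
    refine Fintype.sum_equiv (Equiv.mulRight g) _ _ fun x => ?_
    simp [hAmul, Matrix.transpose_mul, Matrix.mul_assoc]
  have h4 := (exists_invariant_form τ hreal).2 _ hinv
  have hST : Sᵀ = S := by simp [hS, Matrix.transpose_sum, Matrix.transpose_mul]
  rw [← Matrix.transpose_map, hST, hchar] at h4
  have h5 : (fsInd (χ : G → ℂ) - 1) • S.map Complex.ofRealHom = 0 := by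
    rw [sub_smul, ← h4, one_smul, sub_self]
  refine sub_eq_zero.mp ((smul_eq_zero.mp h5).resolve_right fun h6 => hS0 ?_)
  refine Matrix.map_injective (f := Complex.ofRealHom) Complex.ofReal_injective ?_
  show S.map Complex.ofRealHom = (0 : Matrix (Fin m) (Fin m) ℝ).map Complex.ofRealHom
  rw [h6, Matrix.map_zero _ (map_zero _)]

end RealForm

end CfsgLib.CharApps
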