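import Cfsg.Agent.Lib.Base.FPF
import Cfsg.Agent.Lib.Base.Cores
import Cfsg.Agent.Lib.Base.Fitting
import Cfsg.Agent.Lib.Base.MinimalNormal
import Cfsg.Agent.Lib.Perm.Zass.SixTypes
import Cfsg.Agent.Lib.Perm.ClassTwoQ8
import Cfsg.Agent.Lib.LocalEven.Zsigmondy
import Cfsg.Agent.Lib.PGroups.MaximalClass

/-!
# Solvable linear groups in which a Hall `p'`-subgroup is regular on nonzero vectors
-/

set_option autoImplicit false
set_option linter.style.haveILetI false
set_option linter.unusedSectionVars false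

namespace CfsgLib.CharApps.RegLin

open Cfsg Subgroup SemidirectProduct
open scoped commutatorElement

/-- A normal subgroup of order prime to `p` with abelian quotient gives a normal complement. -/
theorem complement_of_abelian_quotient {L : Type*} [Group L] [Finite L] {p : ℕ} [Fact p.Prime]
    (K : Subgroup L) [K.Normal] (hK : ¬ p ∣ Nat.card K)
    (hab : IsMulCommutative (L ⧸ K)) : HasNormalPComplement p L := by
  letI : CommGroup (L ⧸ K) :=
    { (inferInstance : Group (L ⧸ K)) with mul_comm := fun a b => hab.is_comm.comm a b }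
  set q := QuotientGroup.mk' K
  set m := Nat.card (L ⧸ K) / p ^ (Nat.card (L ⧸ K)).factorization p with hm
  set N : Subgroup L := ((powMonoidHom m : L ⧸ K →* L ⧸ K).ker).comap q with hN
  haveI : N.Normal := Normal.comap inferInstance q
  have hpm : ¬ p ∣ m := Nat.not_dvd_ordCompl Fact.out Nat.card_pos.ne'
  have hNp : ¬ p ∣ Nat.card N := by
    intro hd
    obtain ⟨⟨x, hx⟩, hxo⟩ := exists_prime_orderOf_dvd_card' p hd
    rw [Subgroup.orderOf_mk] at hxo
    have h1 : (q x) ^ m = 1 := hx
    have h2 : orderOf (q x) ∣ p := hxo ▸ orderOf_map_dvd q x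
    have h3 : orderOf (q x) = 1 := by
      rcases (Nat.dvd_prime Fact.out).1 h2 with h | h
      · exact h
      · exact absurd (h ▸ orderOf_dvd_of_pow_eq_one h1) hpm
    rw [orderOf_eq_one_iff] at h3
    exact hK (hxo ▸ Subgroup.orderOf_dvd_natCard K ((QuotientGroup.eq_one_iff x).1 h3))
  obtain ⟨P⟩ := (inferInstance : Nonempty (Sylow p L))
  obtain ⟨k, hk⟩ := IsPGroup.iff_card.1 P.isPGroup'
  refine ⟨P, N, inferInstance, ?_⟩
  have hcop : (Nat.card N).Coprime (Nat.card (P : Subgroup L)) := by
    rw [hk]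
    exact Nat.Coprime.pow_right _ ((Fact.out : p.Prime).coprime_iff_not_dvd.2 hNp).symm
  refine isComplement'_of_disjoint_and_mul_eq_univ
    (disjoint_iff.2 (inf_eq_bot_of_coprime hcop)) ?_
  rw [← normal_mul, coe_eq_univ, ← index_eq_one]
  by_contra h
  obtain ⟨r, hr, hrd⟩ := Nat.exists_prime_and_dvd h
  by_cases hrp : r = p
  · subst hrp
    exact P.not_dvd_index (hrd.trans (index_dvd_of_le le_sup_right))
  · have hrN : r ∣ N.index := hrd.trans (index_dvd_of_le le_sup_left)
    haveI := Fact.mk hr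
    rw [index_eq_card] at hrN
    obtain ⟨y, hy⟩ := exists_prime_orderOf_dvd_card' r hrN
    induction y using QuotientGroup.induction_on with
    | H x =>
      have h1 : x ^ r ∈ N := by
        rw [← QuotientGroup.eq_one_iff, QuotientGroup.mk_pow, ← hy, pow_orderOf_eq_one]
      have h1' : ((q x) ^ r) ^ m = 1 := by rw [← map_pow]; exact h1
      have h2 : (q x) ^ m ≠ 1 := by
        intro h2
        have : (x : L ⧸ N) = 1 := (QuotientGroup.eq_one_iff x).2 h2
        rw [this, orderOf_one] at hy
        exact hr.one_lt.ne hy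
      have h3 : orderOf ((q x) ^ m) = r := by
        refine orderOf_eq_prime ?_ h2
        rw [← pow_mul, mul_comm, pow_mul, h1']
      have h4 : orderOf ((q x) ^ m) ∣ p ^ (Nat.card (L ⧸ K)).factorization p := by
        refine orderOf_dvd_of_pow_eq_one ?_
        rw [← pow_mul, hm, Nat.div_mul_cancel (Nat.ordProj_dvd _ _), pow_card_eq_one']
      rw [h3] at h4
      exact hrp ((Nat.prime_dvd_prime_iff_eq hr Fact.out).1 (hr.dvd_of_dvd_pow h4))

/-- The hypotheses. -/
structure Hyp (p : ℕ) {V L : Type*} [CommGroup V] [Group L] (φ : L →* MulAut V) : Prop where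
  inj : Function.Injective φ
  solv : Group.IsSolvable L
  core : pCore p L = ⊥
  expo : ∀ v : V, v ^ p = 1
  stab : ∀ (l : L) (v : V), v ≠ 1 → φ l v = v → ∃ k : ℕ, orderOf l = p ^ k
  card : Nat.card L = (Nat.card V - 1) * p ^ (Nat.card L).factorization p
  nt : Nontrivial V

variable {p : ℕ} [hp : Fact p.Prime] {V L : Type*} [CommGroup V] [Finite V] [Group L] [Finite L]
  {φ : L →* MulAut V}

instance instFiniteSemidirect : Finite (V ⋊[φ] L) :=
  Finite.of_equiv _ SemidirectProduct.equivProd.symm

theorem pow_card (h : Hyp p φ) : ∃ n : ℕ, 1 ≤ n ∧ Nat.card V = p ^ n := by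
  obtain ⟨n, hn⟩ := IsPGroup.iff_card.1 (fun v : V => ⟨1, by rw [pow_one]; exact h.expo v⟩ :
    IsPGroup p V)
  refine ⟨n, ?_, hn⟩
  haveI := h.nt
  by_contra h0
  rw [show n = 0 by omega, pow_zero] at hn
  exact (Finite.one_lt_card (α := V)).ne' hn

theorem free (h : Hyp p φ) {l : L} (hl : ¬ p ∣ orderOf l) {v : V} (hv : v ≠ 1)
    (hfix : φ l v = v) : l = 1 := by
  obtain ⟨k, hk⟩ := h.stab l v hv hfix
  rcases Nat.eq_zero_or_pos k with rfl | hk0
  · exact orderOf_eq_one_iff.1 (by simpa using hk)
  · exact absurd (hk ▸ dvd_pow_self p hk0.ne') hl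

theorem isFPF (h : Hyp p φ) (B : Subgroup L) (hB : ¬ p ∣ Nat.card B) :
    Base.IsFPF (B.map (inr : L →* V ⋊[φ] L)) (inl : V →* V ⋊[φ] L).range := by
  refine ⟨?_, ?_⟩
  · haveI : (inl : V →* V ⋊[φ] L).range.Normal := by
      rw [SemidirectProduct.range_inl_eq_ker_rightHom]
      infer_instance
    rw [normalizer_eq_top]
    exact le_top
  · rintro _ ⟨l, hl, rfl⟩ hne
    rw [eq_bot_iff]
    rintro x ⟨⟨v, rfl⟩, hx⟩
    rw [mem_bot]
    by_contra hv
    have hl1 : l ≠ 1 := fun e => hne (by rw [e, map_one])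
    refine hl1 (free h (v := v) (fun hd => hB (hd.trans (Subgroup.orderOf_dvd_natCard B hl)))
      (fun e => hv (by rw [e, map_one])) ?_)
    apply inl_injective (φ := φ)
    have hx' : (inl v : V ⋊[φ] L) * inr l = inr l * inl v :=
      mem_centralizer_singleton_iff.1 hx
    rw [inl_aut, ← hx', map_inv, mul_inv_cancel_right]

theorem range_ne_bot (h : Hyp p φ) : (inl : V →* V ⋊[φ] L).range ≠ ⊥ := by
  haveI := h.nt
  intro e
  obtain ⟨v, hv⟩ := exists_ne (1 : V)
  have : (inl v : V ⋊[φ] L) ∈ (⊥ : Subgroup (V ⋊[φ] L)) := e ▸ ⟨v, rfl⟩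
  rw [mem_bot] at this
  exact hv (inl_injective (this.trans (map_one _).symm))

theorem cyclic_or_quat (h : Hyp p φ) {q : ℕ} [Fact q.Prime] (B : Subgroup L)
    (hB : ¬ p ∣ Nat.card B) (hq : IsPGroup q B) :
    IsCyclic B ∨ (q = 2 ∧ ∃ n : ℕ, 1 ≤ n ∧ Nonempty (B ≃* QuaternionGroup (2 ^ n))) := by
  set A := B.map (inr : L →* V ⋊[φ] L)
  let e : B ≃* A := B.equivMapOfInjective _ inr_injective
  have hA : IsPGroup q (⊤ : Subgroup A) := (hq.of_equiv e).to_subgroup _
  rcases (isFPF h B hB).isCyclic_or_quaternion (range_ne_bot h) ⊤ hA with hc | ⟨hq2, n, hn, ⟨e'⟩⟩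
  · exact Or.inl (isCyclic_of_surjective (topEquiv.trans e.symm).toMonoidHom
      (topEquiv.trans e.symm).surjective)
  · exact Or.inr ⟨hq2, n, hn, ⟨(e.trans topEquiv.symm).trans e'⟩⟩

theorem cyclic_of_comm (h : Hyp p φ) (B : Subgroup L) (hB : ¬ p ∣ Nat.card B)
    (hc : IsMulCommutative B) : IsCyclic B := by
  set A := B.map (inr : L →* V ⋊[φ] L)
  let e : B ≃* A := B.equivMapOfInjective _ inr_injective
  haveI : IsMulCommutative A := ⟨⟨fun a b => e.symm.injective (by
    rw [map_mul, map_mul]; exact hc.is_comm.comm _ _)⟩⟩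
  haveI := (isFPF h B hB).isCyclic_of_comm (range_ne_bot h)
  exact isCyclic_of_surjective e.symm.toMonoidHom e.symm.surjective

/-- Orbit spans: elements commuting with a Zsigmondy element commute. -/
theorem commute_of_zsigmondy (h : Hyp p φ) {n r : ℕ} (hn : Nat.card V = p ^ n)
    (hr : r.Prime) (hrp : r ≠ p) (hmin : ∀ k : ℕ, 0 < k → k < n → ¬ r ∣ p ^ k - 1)
    {u : L} (hu : orderOf u = r) {g g' : L} (hg : Commute g u) (hg' : Commute g' u)
    (hcop : ¬ p ∣ orderOf (g * g' * g⁻¹ * g'⁻¹)) : Commute g g' := by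
  haveI := h.nt
  obtain ⟨x, hx⟩ := exists_ne (1 : V)
  set W : Subgroup V := Subgroup.closure (Set.range fun i : ℤ => φ (u ^ i) x) with hW
  have hWtop : W = ⊤ := by
    have hfpf := isFPF h (zpowers u) (by
      rw [Nat.card_zpowers, hu]
      exact fun hd => hrp ((Nat.prime_dvd_prime_iff_eq hp.out hr).1 hd).symm)
    have hWinv : ∀ i : ℤ, ∀ w ∈ W, φ (u ^ i) w ∈ W := by
      intro i w hw
      induction hw using Subgroup.closure_induction with
      | mem w hw =>
        obtain ⟨j, rfl⟩ := hw
        exact Subgroup.subset_closure ⟨i + j, by simp [zpow_add, map_mul]⟩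
      | one => simp
      | mul a b _ _ ha hb => rw [map_mul]; exact mul_mem ha hb
      | inv a _ ha => rw [map_inv]; exact inv_mem ha
    have hf := hfpf.mono_right (W := W.map (inl : V →* V ⋊[φ] L))
      (Subgroup.map_le_range _ _) (by
      rintro _ ⟨a, ⟨i, rfl⟩, rfl⟩
      refine mem_normalizer_iff.2 fun y => ⟨?_, ?_⟩
      · rintro ⟨w, hw, rfl⟩
        exact ⟨φ (u ^ i) w, hWinv i w hw, by rw [inl_aut]; simp⟩
      · rintro ⟨w, hw, hwy⟩
        refine ⟨φ (u ^ (-i)) w, hWinv _ w hw, ?_⟩
        rw [inl_aut, hwy]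
        simp [mul_assoc])
    have hd := hf.card_dvd
    rw [Nat.card_congr (equivMapOfInjective _ _ inr_injective).toEquiv.symm,
      Nat.card_congr (equivMapOfInjective _ _ inl_injective).toEquiv.symm, Nat.card_zpowers,
      hu] at hd
    obtain ⟨d, hdn, hdW⟩ := (Nat.dvd_prime_pow hp.out).1 (hn ▸ W.card_subgroup_dvd_card)
    rcases Nat.eq_zero_or_pos d with rfl | hd0
    · have : x ∈ W := Subgroup.subset_closure ⟨0, by simp⟩
      have hWb : W = ⊥ := Subgroup.card_eq_one.1 (by rw [hdW, pow_zero])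
      rw [hWb, mem_bot] at this
      exact absurd this hx
    · rcases eq_or_lt_of_le hdn with rfl | hlt
      · exact eq_top_of_card_eq W (hdW.trans hn.symm)
      · exact absurd (hdW ▸ hd) (hmin d hd0 hlt)
  have hspan : ∀ a : V, ∃ f : V →* V, f x = a ∧ ∀ E : V →* V,
      (∀ v, E (φ u v) = φ u (E v)) → ∀ v, f (E v) = E (f v) := by
    intro a
    have ha : a ∈ W := hWtop ▸ mem_top a
    induction ha using Subgroup.closure_induction with
    | mem w hw =>
      obtain ⟨i, rfl⟩ := hw
      refine ⟨(φ (u ^ i)).toMonoidHom, rfl, fun E hE v => ?_⟩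
      have key : ∀ k : ℕ, ∀ v, E (φ (u ^ k) v) = φ (u ^ k) (E v) := by
        intro k
        induction k with
        | zero => simp
        | succ k ih =>
          intro v
          rw [pow_succ', map_mul, MulAut.mul_apply, hE, ih, MulAut.mul_apply]
      obtain ⟨k, hk⟩ := (isOfFinOrder_of_finite u).mem_powers_iff_mem_zpowers.2
        (⟨i, rfl⟩ : u ^ i ∈ zpowers u)
      simp only [MulEquiv.toMonoidHom_eq_coe, MonoidHom.coe_coe]
      rw [show u ^ i = u ^ k from hk.symm]
      exact (key k v).symm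
    | one => exact ⟨1, rfl, fun E _ v => by simp⟩
    | mul a b _ _ ha hb =>
      obtain ⟨f, hf, hfE⟩ := ha
      obtain ⟨f', hf', hfE'⟩ := hb
      exact ⟨f * f', by simp [hf, hf'], fun E hE v => by
        simp [hfE E hE, hfE' E hE]⟩
    | inv a _ ha =>
      obtain ⟨f, hf, hfE⟩ := ha
      exact ⟨f⁻¹, by simp [hf], fun E hE v => by simp [hfE E hE]⟩
  have hcomm : ∀ g : L, Commute g u → ∀ v, φ g (φ u v) = φ u (φ g v) := by
    intro g hg v
    rw [← MulAut.mul_apply, ← map_mul, hg.eq, map_mul, MulAut.mul_apply]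
  obtain ⟨f, hf, hfE⟩ := hspan (φ g x)
  obtain ⟨f', hf', hfE'⟩ := hspan (φ g' x)
  have hfu : ∀ v, f (φ u v) = φ u (f v) := fun v =>
    hfE (φ u).toMonoidHom (fun _ => rfl) v
  have e1 : φ g (φ g' x) = φ g' (φ g x) := by
    conv_lhs => rw [← hf']
    conv_rhs => rw [← hf]
    have a1 : f' (φ g x) = φ g (f' x) := hfE' (φ g).toMonoidHom (hcomm g hg) x
    have a2 : f (φ g' x) = φ g' (f x) := hfE (φ g').toMonoidHom (hcomm g' hg') x
    rw [← a1, ← a2, ← hf, ← hf']
    exact hfE' f hfu x
  have hfix : φ (g * g' * g⁻¹ * g'⁻¹) (φ g' (φ g x)) = φ g' (φ g x) := by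
    conv_rhs => rw [← e1]
    simp only [← MulAut.mul_apply, ← map_mul]
    congr 2
    group
  have := free h hcop (fun e => hx ((φ g).injective ((φ g').injective (e.trans (by simp))))) hfix
  exact commutatorElement_eq_one_iff_commute.1 this

theorem card_eq_pow {K W : Type*} [Field K] [AddCommGroup W] [Module K W] [Finite W] :
    Nat.card W = Nat.card K ^ Module.finrank K W := by
  haveI : Module.Finite K W := Module.Finite.of_finite
  exact Module.natCard_eq_pow_finrank

/-- An endomorphism conjugated to a power of itself of period `r`. -/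
theorem le_finrank_of_conj {F0 W : Type*} [Field F0] [AddCommGroup W] [Module F0 W]
    [Module.Finite F0 W] {r m k : ℕ} (hr : r.Prime) (C Ue Ue' : Module.End F0 W)
    (hUU : Ue * Ue' = 1) (hUU' : Ue' * Ue = 1) (hmz : (m : F0) ≠ 0) (hCm : C ^ m = 1)
    (hk : Ue * C * Ue' = C ^ k) (hkr : k ^ r ≡ 1 [MOD m]) (hne : C ^ k ≠ C) :
    r ≤ Module.finrank F0 W := by
  classical
  set μ := minpoly F0 C with hμ
  have hμ0 : μ ≠ 0 := minpoly.ne_zero (Algebra.IsIntegral.isIntegral C)
  have hμm : μ ∣ Polynomial.X ^ m - 1 := minpoly.dvd _ _ (by simp [hCm])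
  have hsep : μ.Separable :=
    ((Polynomial.X_pow_sub_one_separable_iff).2 hmz).of_dvd hμm
  have hdeg : μ.natDegree ≤ Module.finrank F0 W := by
    rw [← LinearMap.charpoly_natDegree C]
    exact Polynomial.natDegree_le_of_dvd C.minpoly_dvd_charpoly C.charpoly_monic.ne_zero
  -- the conjugate has the same minimal polynomial
  have hμk : μ ∣ μ.comp (Polynomial.X ^ k) := by
    refine minpoly.dvd _ _ ?_
    rw [Polynomial.aeval_comp, map_pow, Polynomial.aeval_X]
    let U : (Module.End F0 W)ˣ := ⟨Ue, Ue', hUU, hUU'⟩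
    have h1 : C ^ k = (U : Module.End F0 W) * C * (U⁻¹ : (Module.End F0 W)ˣ) := hk.symm
    rw [h1]
    have h2 : ∀ P : Polynomial (F0), Polynomial.aeval
        ((U : Module.End (F0) W) * C * (U⁻¹ : (Module.End (F0) W)ˣ)) P
        = (U : Module.End (F0) W) * Polynomial.aeval C P *
          (U⁻¹ : (Module.End (F0) W)ˣ) := by
      intro P
      induction P using Polynomial.induction_on' with
      | add a b ha hb => simp only [map_add, ha, hb, mul_add, add_mul]
      | monomial i a =>
        rw [Polynomial.aeval_monomial, Polynomial.aeval_monomial, Units.conj_pow]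
        simp [Algebra.algebraMap_eq_smul_one]
    rw [h2, hμ, minpoly.aeval, mul_zero, zero_mul]
  -- the roots
  set K := AlgebraicClosure (F0) with hKdef
  set R := (μ.aroots K).toFinset with hR
  have hmem : ∀ z, z ∈ R ↔ Polynomial.aeval z μ = 0 := by
    intro z; rw [hR, Multiset.mem_toFinset, Polynomial.mem_aroots]; exact and_iff_right hμ0
  have hRm : ∀ z ∈ R, z ^ m = 1 := by
    intro z hz
    obtain ⟨d, hd⟩ := hμm
    have := congrArg (Polynomial.aeval z) hd
    rw [map_mul, (hmem z).1 hz, zero_mul] at this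
    simpa [sub_eq_zero] using this
  have hclosed : ∀ z ∈ R, z ^ k ∈ R := by
    intro z hz
    obtain ⟨d, hd⟩ := hμk
    have := congrArg (Polynomial.aeval z) hd
    rw [map_mul, (hmem z).1 hz, zero_mul, Polynomial.aeval_comp] at this
    rw [hmem]
    simpa using this
  -- a moved root
  obtain ⟨z, hz, hzk⟩ : ∃ z ∈ R, z ^ k ≠ z := by
    by_contra! hall
    refine hne ?_
    have hd : μ ∣ Polynomial.X ^ k - Polynomial.X := by
      refine (Polynomial.map_dvd_map' (algebraMap (F0) K)).1 ?_
      rcases eq_or_ne ((Polynomial.X ^ k - Polynomial.X : Polynomial (F0))) 0 with h0 | h0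
      · rw [h0, Polynomial.map_zero]; exact dvd_zero _
      · refine (Polynomial.Splits.dvd_iff_roots_le_roots
          (IsAlgClosed.splits _) (Polynomial.map_ne_zero hμ0) (Polynomial.map_ne_zero h0)).2 ?_
        refine (Multiset.le_iff_subset (Polynomial.nodup_roots hsep.map)).2 fun z hz => ?_
        have hz' : z ∈ R := by rw [hR, Multiset.mem_toFinset]; exact hz
        rw [Polynomial.mem_roots (Polynomial.map_ne_zero h0)]
        simp [hall z hz']
    obtain ⟨d, hd⟩ := hd
    have := congrArg (Polynomial.aeval C) hd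
    rw [map_mul, hμ, minpoly.aeval, zero_mul] at this
    simpa [sub_eq_zero] using this
  have hm0 : m ≠ 0 := fun e => hmz (by rw [e, Nat.cast_zero])
  have hz0 : z ≠ 0 := fun e => by simpa [e, zero_pow hm0] using hRm z hz
  set f : K → K := fun w => w ^ k with hf
  have hfi : ∀ i, f^[i] z = z ^ (k ^ i) := by
    intro i
    induction i with
    | zero => simp
    | succ i ih =>
      rw [Function.iterate_succ_apply', ih]
      show (z ^ (k ^ i)) ^ k = _
      rw [← pow_mul, pow_succ]
  have hper : Function.IsPeriodicPt f r z := by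
    show f^[r] z = z
    rw [hfi]
    conv_rhs => rw [← pow_one z]
    exact pow_eq_pow_of_modEq hkr (hRm z hz)
  have hmp : Function.minimalPeriod f z = r := by
    rcases (Nat.dvd_prime hr).1 hper.minimalPeriod_dvd with h1 | h1
    · exact absurd (Function.minimalPeriod_eq_one_iff_isFixedPt.1 h1) hzk
    · exact h1
  have hsub : (Finset.range r).image (fun i => f^[i] z) ⊆ R := by
    intro w hw
    obtain ⟨i, -, rfl⟩ := Finset.mem_image.1 hw
    clear hw
    induction i with
    | zero => exact hz
    | succ i ih => rw [Function.iterate_succ_apply']; exact hclosed _ ih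
  have hcard := Finset.card_le_card hsub
  rw [Finset.card_image_of_injOn, Finset.card_range] at hcard
  · calc r ≤ R.card := hcard
      _ ≤ (μ.aroots K).card := Multiset.toFinset_card_le _
      _ ≤ μ.natDegree := (Polynomial.card_roots' _).trans Polynomial.natDegree_map_le
      _ ≤ Module.finrank F0 W := hdeg
  · intro i hi j hj hij
    exact Function.iterate_injOn_Iio_minimalPeriod (by simpa [hmp] using hi)
      (by simpa [hmp] using hj) hij

/-- An element conjugated to a power of itself, for an action by additive maps. -/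
theorem le_finrank_of_action {W : Type*} [AddCommGroup W] [Module (ZMod p) W] [Finite W]
    (Ψ : L →* AddMonoid.End W) (hΨ : Function.Injective Ψ) {r : ℕ} (hr : r.Prime)
    {u c : L} (hu : u ^ r = 1) (hc : ¬ p ∣ orderOf c) {k : ℕ} (hk : u * c * u⁻¹ = c ^ k)
    (hne : c ^ k ≠ c) : r ≤ Module.finrank (ZMod p) W := by
  haveI : Module.Finite (ZMod p) W := Module.Finite.of_finite
  let T : L → Module.End (ZMod p) W := fun l => AddMonoidHom.toZModLinearMap p (Ψ l)
  have hTmul : ∀ a b, T (a * b) = T a * T b := fun a b => LinearMap.ext fun v => by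
    show Ψ (a * b) v = Ψ a (Ψ b v)
    rw [map_mul]; rfl
  have hTone : T 1 = 1 := LinearMap.ext fun v => by
    show Ψ 1 v = v
    rw [map_one]; rfl
  let Φ : L →* Module.End (ZMod p) W := ⟨⟨T, hTone⟩, hTmul⟩
  have hΦinj : Function.Injective Φ := fun a b hab =>
    hΨ (AddMonoidHom.ext fun v => LinearMap.congr_fun hab v)
  have hkr : k ^ r ≡ 1 [MOD orderOf c] := by
    have hit : ∀ i : ℕ, u ^ i * c * (u ^ i)⁻¹ = c ^ (k ^ i) := by
      intro i
      induction i with
      | zero => simp
      | succ i ih =>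
        rw [pow_succ' u, show u * u ^ i * c * (u * u ^ i)⁻¹ = u * (u ^ i * c * (u ^ i)⁻¹) * u⁻¹ by
          group, ih, ← conj_pow, hk, ← pow_mul, pow_succ']
    have := hit r
    rw [hu, one_mul, inv_one, mul_one] at this
    exact pow_eq_pow_iff_modEq.1 (by rw [pow_one]; exact this.symm)
  refine le_finrank_of_conj hr (Φ c) (Φ u) (Φ u⁻¹) (by rw [← map_mul, mul_inv_cancel, map_one])
    (by rw [← map_mul, inv_mul_cancel, map_one]) (by rwa [Ne, ZMod.natCast_eq_zero_iff])
    (by rw [← map_pow, pow_orderOf_eq_one, map_one])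
    (by rw [← map_pow, ← map_mul, ← map_mul, hk]) hkr (fun e => hne (hΦinj ?_))
  rw [map_pow]; exact e

/-- An element of prime order `r` acting nontrivially on a cyclic semiregular group forces
`r ≤ n`. -/
theorem prime_le_of_conj (h : Hyp p φ) {n r : ℕ} (hn : Nat.card V = p ^ n) (hr : r.Prime)
    {u c : L} (hu : u ^ r = 1) (hc : ¬ p ∣ orderOf c) {k : ℕ} (hk : u * c * u⁻¹ = c ^ k)
    (hne : c ^ k ≠ c) : r ≤ n := by
  letI instM : Module (ZMod p) (Additive V) :=
    AddCommGroup.zmodModule (n := p) (G := Additive V) (fun v => by exact h.expo v.toMul)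
  let Ψ : L →* AddMonoid.End (Additive V) :=
    { toFun := fun l => MonoidHom.toAdditive (φ l).toMonoidHom
      map_one' := AddMonoidHom.ext fun v => by
        show Additive.ofMul (φ 1 v.toMul) = v
        rw [map_one]; rfl
      map_mul' := fun a b => AddMonoidHom.ext fun v => by
        show Additive.ofMul (φ (a * b) v.toMul) = Additive.ofMul (φ a (φ b v.toMul))
        rw [map_mul]; rfl }
  have hΨ : Function.Injective Ψ := fun a b hab => h.inj (MulEquiv.ext fun v =>
    congrArg Additive.toMul (DFunLike.congr_fun hab (Additive.ofMul v)))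
  have hdim : Module.finrank (ZMod p) (Additive V) = n := by
    have h1 : Nat.card (Additive V) =
        Nat.card (ZMod p) ^ Module.finrank (ZMod p) (Additive V) := by
      exact card_eq_pow (K := ZMod p) (W := Additive V)
    rw [Nat.card_zmod, show Nat.card (Additive V) = Nat.card V from Nat.card_congr Additive.toMul,
      hn] at h1
    exact (Nat.pow_right_injective hp.out.two_le h1).symm
  rw [← hdim]
  exact le_finrank_of_action Ψ hΨ hr hu hc hk hne

theorem four_dvd_of_sixteen {n : ℕ} (h : 16 ∣ 3 ^ n - 1) : 4 ∣ n := by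
  rw [← Nat.div_add_mod n 4, pow_add, pow_mul] at h
  have h81 : (3 ^ 4) ^ (n / 4) % 16 = 1 := by rw [Nat.pow_mod]; norm_num
  have hpos : 0 < (3 ^ 4) ^ (n / 4) * 3 ^ (n % 4) := by positivity
  have hlt := Nat.mod_lt n (show 4 > 0 by norm_num)
  rw [Nat.dvd_iff_mod_eq_zero]
  interval_cases hn : n % 4 <;> omega

/-- **Structure.** -/
theorem main (h : Hyp p φ) :
    HasNormalPComplement p L ∧ ∀ P : Sylow p L, IsMulCommutative (P : Subgroup L) := by
  classical
  haveI := h.solv
  set F := fittingSubgroup L with hF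
  haveI hFn : F.Normal := Base.fittingSubgroup_normal' L
  haveI hFnil : Group.IsNilpotent F := Base.isNilpotent_fittingSubgroup L
  have hcF : centralizer (F : Set L) ≤ F := Base.centralizer_fittingSubgroup_le
  have hFp : ¬ p ∣ Nat.card F := by
    intro hd
    obtain ⟨P⟩ := (inferInstance : Nonempty (Sylow p F))
    haveI : (P : Subgroup F).Normal := inferInstance
    haveI : (P : Subgroup F).Characteristic := P.characteristic_of_normal inferInstance
    have hle := Base.le_pCore (p := p) (N := (P : Subgroup F).map F.subtype) (P.isPGroup'.map _)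
    rw [h.core, le_bot_iff, map_eq_bot_iff_of_injective _ F.subtype_injective] at hle
    have h1 := P.card_eq_multiplicity
    rw [hle, card_bot] at h1
    have h2 : 0 < (Nat.card F).factorization p :=
      hp.out.factorization_pos_of_dvd Nat.card_pos.ne' hd
    have h3 : 2 ≤ p ^ (Nat.card F).factorization p :=
      hp.out.two_le.trans (Nat.le_self_pow h2.ne' p)
    omega
  set Z := (center F).map F.subtype with hZdef
  haveI : (center F).Characteristic := inferInstance
  haveI hZn : Z.Normal := inferInstance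
  have hZF : Z ≤ F := map_subtype_le _
  have hZc : IsMulCommutative Z := inferInstance
  have hZp : ¬ p ∣ Nat.card Z := fun hd => hFp (hd.trans (card_dvd_of_le hZF))
  haveI hZcyc : IsCyclic Z := cyclic_of_comm h Z hZp hZc
  haveI hautc : IsMulCommutative (MulAut Z) :=
    ⟨⟨fun a b => (IsCyclic.mulAutMulEquiv Z).injective (by
      rw [map_mul, map_mul, mul_comm])⟩⟩
  let θ : L →* MulAut Z := MulAut.conjNormal
  have hθ : ∀ {g : L}, g ∈ θ.ker ↔ g ∈ centralizer (Z : Set L) := by
    intro g
    rw [MonoidHom.mem_ker, mem_centralizer_iff]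
    constructor
    · intro hg z hz
      have := congrArg Subtype.val (MulEquiv.congr_fun hg ⟨z, hz⟩)
      rw [MulAut.conjNormal_apply] at this
      exact (mul_inv_eq_iff_eq_mul.1 this).symm
    · intro hg
      refine MulEquiv.ext fun z => Subtype.ext ?_
      rw [MulAut.conjNormal_apply, ← hg z z.2, mul_inv_cancel_right]
      rfl
  have hthcomm : ∀ a b : L, θ ⁅a, b⁆ = 1 := fun a b => by
    rw [map_commutatorElement]
    exact commutatorElement_eq_one_iff_commute.2 (hautc.is_comm.comm _ _)
  -- the 2-part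
  haveI : Fact (Nat.Prime 2) := ⟨Nat.prime_two⟩
  obtain ⟨Q⟩ := (inferInstance : Nonempty (Sylow 2 F))
  haveI : (Q : Subgroup F).Normal := inferInstance
  haveI : (Q : Subgroup F).Characteristic := Q.characteristic_of_normal inferInstance
  set Q₀ := (Q : Subgroup F).map F.subtype with hQ₀
  haveI hQn : Q₀.Normal := inferInstance
  have hQF : Q₀ ≤ F := map_subtype_le _
  have hQp : ¬ p ∣ Nat.card Q₀ := fun hd => hFp (hd.trans (card_dvd_of_le hQF))
  have hQ2 : IsPGroup 2 Q₀ := Q.isPGroup'.map _
  have hgen : F ≤ Z ⊔ Q₀ := by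
    suffices center F ⊔ (Q : Subgroup F) = ⊤ by
      have h1 := congrArg (Subgroup.map F.subtype) this
      rw [Subgroup.map_sup, ← MonoidHom.range_eq_map, F.range_subtype] at h1
      exact h1.ge
    rw [← index_eq_one]
    by_contra hne
    obtain ⟨q, hq, hqd⟩ := Nat.exists_prime_and_dvd hne
    haveI := Fact.mk hq
    rcases eq_or_ne q 2 with rfl | hq2
    · exact Q.not_dvd_index (hqd.trans (index_dvd_of_le le_sup_right))
    obtain ⟨R⟩ := (inferInstance : Nonempty (Sylow q F))
    haveI : (R : Subgroup F).Normal := inferInstance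
    refine R.not_dvd_index (hqd.trans (index_dvd_of_le (le_trans ?_ le_sup_left)))
    -- the odd Sylow subgroups are central
    have hRc : IsCyclic ((R : Subgroup F).map F.subtype) :=
      (cyclic_or_quat h _ (fun hd => hFp (hd.trans (card_dvd_of_le (map_subtype_le _))))
        (R.isPGroup'.map _)).resolve_right fun hh => hq2 hh.1
    intro a ha
    rw [mem_center_iff]
    intro b
    have hb : b ∈ (⊤ : Subgroup F) := mem_top b
    rw [← Base.iSup_sylow_eq_top (G := F) (fun r => Classical.arbitrary _)] at hb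
    induction hb using Subgroup.iSup_induction' with
    | hp r b hb =>
      haveI := Fact.mk r.2
      set S : Sylow (r : ℕ) F := Classical.arbitrary _
      by_cases hrq : (r : ℕ) = q
      · have hSR : (S : Subgroup F) ≤ (R : Subgroup F) := by
          have hS2 : IsPGroup q (S : Subgroup F) := hrq ▸ S.isPGroup'
          obtain ⟨R', hR'⟩ := hS2.exists_le_sylow
          have : R' = R := (by haveI := R.unique_of_normal inferInstance; exact Subsingleton.elim _ _)
          exact this ▸ hR'
        letI := IsCyclic.commGroup (α := ↥((R : Subgroup F).map F.subtype))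
        have hcm := congrArg Subtype.val (mul_comm
          (⟨(b : L), mem_map_of_mem F.subtype (hSR hb)⟩ : ↥((R : Subgroup F).map F.subtype))
          ⟨(a : L), mem_map_of_mem F.subtype ha⟩)
        exact Subtype.ext (by simpa using hcm)
      · haveI : (S : Subgroup F).Normal := inferInstance
        exact Subgroup.commute_of_normal_of_disjoint _ _ inferInstance inferInstance
          (IsPGroup.disjoint_of_ne _ _ hrq _ _ S.isPGroup' R.isPGroup') b a hb ha
    | h1 => simp
    | hmul b c _ _ hb hc => exact (Commute.mul_left hb hc).eq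
  have hboth : centralizer (Z : Set L) ⊓ centralizer (Q₀ : Set L) ≤ Z := by
    rintro g ⟨hg1, hg2⟩
    have hg : g ∈ centralizer (F : Set L) := by
      refine centralizer_le (show (F : Set L) ⊆ (Z ⊔ Q₀ : Subgroup L) from hgen) ?_
      rw [mem_centralizer_iff]
      intro y hy
      rw [SetLike.mem_coe, sup_eq_closure] at hy
      induction hy using Subgroup.closure_induction with
      | mem y hy => exact hy.elim (hg1 y) (hg2 y)
      | one => simp
      | mul a b _ _ ha hb => exact (Commute.mul_left ha hb).eq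
      | inv a _ ha => exact (Commute.inv_left ha).eq
    have hgF := hcF hg
    exact ⟨⟨g, hgF⟩, mem_center_iff.2 fun b => Subtype.ext (mem_centralizer_iff.1 hg b b.2), rfl⟩
  let η : L →* MulAut Q₀ := MulAut.conjNormal
  have hη : ∀ {g : L}, g ∈ η.ker ↔ g ∈ centralizer (Q₀ : Set L) := by
    intro g
    rw [MonoidHom.mem_ker, mem_centralizer_iff]
    constructor
    · intro hg z hz
      have := congrArg Subtype.val (MulEquiv.congr_fun hg ⟨z, hz⟩)
      rw [MulAut.conjNormal_apply] at this
      exact (mul_inv_eq_iff_eq_mul.1 this).symm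
    · intro hg
      refine MulEquiv.ext fun z => Subtype.ext ?_
      rw [MulAut.conjNormal_apply, ← hg z z.2, mul_inv_cancel_right]
      rfl
  have hkerinf : θ.ker ⊓ η.ker ≤ Z := fun g hg => hboth ⟨hθ.1 hg.1, hη.1 hg.2⟩
  have hkp : ∀ g ∈ θ.ker ⊓ η.ker, (∃ k : ℕ, orderOf g = p ^ k) → g = 1 := by
    rintro g hg ⟨k, hk⟩
    rcases Nat.eq_zero_or_pos k with rfl | hk0
    · exact orderOf_eq_one_iff.1 (by simpa using hk)
    · exact absurd ((dvd_pow_self p hk0.ne').trans
        (hk ▸ Subgroup.orderOf_dvd_natCard Z (hkerinf hg))) hZp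
  -- either `η` has `p'`-image on `ker θ`, or `p = 3` and `Q₀` is quaternion of order eight
  by_cases hpK : ¬ p ∣ Nat.card θ.ker
  · refine ⟨complement_of_abelian_quotient θ.ker hpK ⟨⟨fun a b =>
      (QuotientGroup.quotientKerEquivRange θ).injective (Subtype.ext (by
        simp only [map_mul, Subgroup.coe_mul]; exact hautc.is_comm.comm _ _))⟩⟩, fun P => ?_⟩
    refine ⟨⟨fun a b => Subtype.ext ?_⟩⟩
    refine commutatorElement_eq_one_iff_commute.1 ?_
    obtain ⟨k, hk⟩ := IsPGroup.iff_orderOf.1 P.isPGroup' ⁅a, b⁆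
    have hk' : orderOf ⁅(a : L), (b : L)⁆ = p ^ k := by
      rw [← hk, ← Subgroup.orderOf_coe]
      simp [commutatorElement_def]
    rcases Nat.eq_zero_or_pos k with rfl | hk0
    · exact orderOf_eq_one_iff.1 (by simpa using hk')
    · exact absurd ((dvd_pow_self p hk0.ne').trans
        (hk' ▸ Subgroup.orderOf_dvd_natCard θ.ker (hthcomm _ _))) hpK
  push Not at hpK
  obtain ⟨⟨y, hy⟩, hyo⟩ := exists_prime_orderOf_dvd_card' p hpK
  rw [Subgroup.orderOf_mk] at hyo
  have hyη : η y ≠ 1 := fun e => by
    have := hkp y ⟨hy, e⟩ ⟨1, by rw [pow_one]; exact hyo⟩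
    rw [this, orderOf_one] at hyo
    exact hp.out.one_lt.ne hyo
  have hyp : η y ^ p = 1 := by rw [← map_pow, ← hyo, pow_orderOf_eq_one, map_one]
  rcases cyclic_or_quat h Q₀ hQp hQ2 with hcyc | ⟨-, j, hj, ⟨e⟩⟩
  · exfalso
    haveI := hcyc
    apply hyη
    have hQZ : Q₀ ≤ Z := by
      haveI : IsZGroup F := ⟨fun q hq R => by
        haveI := Fact.mk hq
        have hRc : IsCyclic ((R : Subgroup F).map F.subtype) := by
          rcases eq_or_ne q 2 with rfl | hq2
          · have : R = Q := (by haveI := Q.unique_of_normal inferInstance; exact Subsingleton.elim _ _)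
            exact this ▸ hcyc
          · exact (cyclic_or_quat h _ (fun hd => hFp (hd.trans (card_dvd_of_le (map_subtype_le _))))
              (R.isPGroup'.map _)).resolve_right fun hh => hq2 hh.1
        exact isCyclic_of_surjective
          ((R : Subgroup F).equivMapOfInjective _ F.subtype_injective).symm.toMonoidHom
          ((R : Subgroup F).equivMapOfInjective _ F.subtype_injective).symm.surjective⟩
      haveI : IsCyclic F := inferInstance
      letI := IsCyclic.commGroup (α := F)
      refine hQF.trans fun a ha => ?_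
      exact ⟨⟨a, ha⟩, mem_center_iff.2 fun b => mul_comm b _, rfl⟩
    exact (hη.2 (centralizer_le hQZ (hθ.1 hy)) : η y = 1)
  -- quaternion
  have hp2 : p ≠ 2 := fun e2 => by
    refine hQp ?_
    haveI : NeZero (2 ^ j) := ⟨pow_ne_zero _ two_ne_zero⟩
    rw [Nat.card_congr e.toEquiv, Nat.card_eq_fintype_card, QuaternionGroup.card, e2]
    exact dvd_mul_of_dvd_left (by norm_num) _
  have hj1 : j = 1 := by
    by_contra hj1
    haveI : NeZero (2 ^ j) := ⟨pow_ne_zero _ two_ne_zero⟩
    apply hyη
    have h1 : MulAut.congr e (η y) = 1 :=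
      Perm.Zass.mulAut_quaternion_odd (n := j) rfl (by omega) hp2 _
        (by rw [← map_pow, hyp, map_one])
    exact (MulAut.congr e).injective (h1.trans (map_one _).symm)
  subst hj1
  have e8 : Q₀ ≃* QuaternionGroup 2 := e
  have hQcard : Nat.card Q₀ = 8 := by rw [Nat.card_congr e8.toEquiv, Nat.card_eq_fintype_card, QuaternionGroup.card]
  have haut : Nat.card (MulAut Q₀) = 24 := by
    rw [Nat.card_congr (MulAut.congr e8).toEquiv, Perm.card_mulAut_quaternion]
  have hp3 : p = 3 := by
    have h1 : orderOf (η y) = p := orderOf_eq_prime hyp hyη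
    have h2 : p ∣ 24 := h1 ▸ haut ▸ orderOf_dvd_natCard _
    rcases (Nat.Prime.dvd_mul hp.out).1 (show p ∣ 2 ^ 3 * 3 by norm_num; exact h2) with h3 | h3
    · exact absurd ((Nat.prime_dvd_prime_iff_eq hp.out Nat.prime_two).1
        (hp.out.dvd_of_dvd_pow h3)) hp2
    · exact (Nat.prime_dvd_prime_iff_eq hp.out Nat.prime_three).1 h3
  subst hp3
  refine ⟨?_, fun P => ?_⟩
  swap
  · -- abelian Sylow subgroups
    refine ⟨⟨fun a b => Subtype.ext ?_⟩⟩
    refine commutatorElement_eq_one_iff_commute.1 ?_
    refine hkp _ ⟨hthcomm _ _, ?_⟩ ?_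
    · show η ⁅(a : L), (b : L)⁆ = 1
      rw [map_commutatorElement]
      refine commutatorElement_eq_one_iff_commute.2 ?_
      set I := (P : Subgroup L).map η
      have hI : IsPGroup 3 I := P.isPGroup'.map η
      obtain ⟨k, hk⟩ := IsPGroup.iff_card.1 hI
      have hd : 3 ^ k ∣ 24 := hk ▸ haut ▸ card_subgroup_dvd_card I
      have hk1 : k ≤ 1 := by
        by_contra hgt
        have h9 := (pow_dvd_pow 3 (show 2 ≤ k by omega)).trans hd
        norm_num at h9
      haveI : IsCyclic I := by
        rcases Nat.eq_zero_or_pos k with h0 | h0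
        · haveI : Subsingleton I := (Nat.card_eq_one_iff_unique.1 (by rw [hk, h0, pow_zero])).1
          exact isCyclic_of_subsingleton
        · exact isCyclic_of_prime_card (p := 3) (by rw [hk, show k = 1 by omega, pow_one])
      letI := IsCyclic.commGroup (α := I)
      exact congrArg Subtype.val (mul_comm
        (⟨η a, mem_map_of_mem η a.2⟩ : I) ⟨η b, mem_map_of_mem η b.2⟩)
    · obtain ⟨k, hk⟩ := IsPGroup.iff_orderOf.1 P.isPGroup' ⁅a, b⁆
      exact ⟨k, by rw [← hk, ← Subgroup.orderOf_coe]; simp [commutatorElement_def]⟩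
  -- the normal complement: the outer action on the quaternion group
  set ιQ : Subgroup (MulAut Q₀) := (MulAut.conj : Q₀ →* MulAut Q₀).range
  haveI : ιQ.Normal := by
    refine ⟨fun a ha σ => ?_⟩
    obtain ⟨q, rfl⟩ := ha
    exact ⟨σ q, MulEquiv.ext fun v => by simp [MulAut.conj_apply, map_mul, map_inv]⟩
  let ω : L →* MulAut Q₀ ⧸ ιQ := (QuotientGroup.mk' ιQ).comp η
  have hout : Nat.card (MulAut Q₀ ⧸ ιQ) ∣ 6 := by
    have h1 := ιQ.card_mul_index
    rw [haut, index_eq_card] at h1
    have h2 : (MulAut.conj : Q₀ →* MulAut Q₀).ker = center Q₀ := by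
      ext q
      rw [MonoidHom.mem_ker, mem_center_iff]
      constructor
      · intro hq v
        have := MulEquiv.congr_fun hq v
        rw [MulAut.conj_apply] at this
        exact (mul_inv_eq_iff_eq_mul.1 this).symm
      · intro hq
        exact MulEquiv.ext fun v => by rw [MulAut.conj_apply, ← hq v, mul_inv_cancel_right]; rfl
    have h3 : Nat.card ιQ * Nat.card (center Q₀) = 8 := by
      rw [← hQcard, ← (MulAut.conj : Q₀ →* MulAut Q₀).ker.index_mul_card, index_ker, h2]
    have h4 : Nat.card (center Q₀) ≤ 2 := by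
      have hna : ¬ IsMulCommutative Q₀ := fun hh => by
        have := hh.is_comm.comm (e8.symm (QuaternionGroup.a 1)) (e8.symm (QuaternionGroup.xa 0))
        rw [← map_mul, ← map_mul] at this
        exact absurd (e8.symm.injective this) (by decide)
      have h5 := CfsgLib.PGroups.sq_le_index_center (p := 2) hQ2 hna
      have h6 := (center Q₀).card_mul_index
      rw [hQcard] at h6
      nlinarith
    have h7 : 4 ∣ Nat.card ιQ := by
      have h5 : Nat.card (center Q₀) ∣ 8 := ⟨_, (mul_comm _ _).trans h3 |>.symm⟩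
      have h6 : 0 < Nat.card (center Q₀) := Nat.card_pos
      interval_cases hc : Nat.card (center Q₀) <;> omega
    obtain ⟨d, hd⟩ := h7
    exact ⟨d, by rw [hd] at h1; nlinarith⟩
  have hker : θ.ker ⊓ ω.ker ≤ F := by
    rintro g ⟨hg1, hg2'⟩
    have hg2 : QuotientGroup.mk' ιQ (η g) = 1 := hg2'
    rw [QuotientGroup.mk'_apply, QuotientGroup.eq_one_iff] at hg2
    obtain ⟨q, hq⟩ := hg2
    have hqθ : θ (q : L) = 1 := hθ.2 (by
      rw [mem_centralizer_iff]
      rintro _ ⟨z, hz, rfl⟩
      exact (congrArg Subtype.val (mem_center_iff.1 hz ⟨q, hQF q.2⟩)).symm)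
    have hqη : η (q : L) = MulAut.conj q := MulEquiv.ext fun v => Subtype.ext (by
      rw [MulAut.conjNormal_apply, MulAut.conj_apply]; rfl)
    have : (q : L)⁻¹ * g ∈ θ.ker ⊓ η.ker := by
      refine ⟨?_, ?_⟩
      · show θ _ = 1
        rw [map_mul, map_inv, hqθ, MonoidHom.mem_ker.1 hg1, inv_one, one_mul]
      · show η _ = 1
        rw [map_mul, map_inv, hqη, hq, inv_mul_cancel]
    simpa using mul_mem (hQF q.2) (hZF (hkerinf this))
  by_cases hev : 2 ∣ Nat.card ω.range
  · exfalso
    obtain ⟨g, hgω, hg2⟩ : ∃ g : L, ω g ≠ 1 ∧ ∃ k : ℕ, orderOf g = 2 ^ k := by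
      by_contra! hall
      obtain ⟨T⟩ := (inferInstance : Nonempty (Sylow 2 L))
      have hT : (T : Subgroup L) ≤ ω.ker := fun t ht => by
        by_contra h1
        obtain ⟨k, hk⟩ := IsPGroup.iff_orderOf.1 T.isPGroup' ⟨t, ht⟩
        exact hall t h1 k (by rwa [Subgroup.orderOf_mk] at hk)
      exact T.not_dvd_index ((by rwa [index_ker] : 2 ∣ ω.ker.index).trans (index_dvd_of_le hT))
    obtain ⟨k, hk⟩ := hg2
    -- a 2-group of order at least sixteen
    set T := Q₀ ⊔ zpowers g
    have hT : IsPGroup 2 T := IsPGroup.to_sup_of_normal_left hQ2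
      (IsPGroup.of_card (by rw [Nat.card_zpowers, hk]))
    have hgQ : g ∉ Q₀ := fun hgQ => by
      refine hgω ?_
      show QuotientGroup.mk' ιQ (η g) = 1
      rw [QuotientGroup.mk'_apply, QuotientGroup.eq_one_iff]
      exact ⟨⟨g, hgQ⟩, MulEquiv.ext fun v => Subtype.ext (by
        rw [MulAut.conjNormal_apply, MulAut.conj_apply]; rfl)⟩
    obtain ⟨d, hd⟩ := IsPGroup.iff_card.1 hT
    have hlt : 2 ^ 3 < 2 ^ d := by
      rw [← hd, show (2 : ℕ) ^ 3 = Nat.card Q₀ by rw [hQcard]; norm_num]
      refine lt_of_le_of_ne (card_le_of_le le_sup_left) fun he => hgQ ?_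
      rw [Subgroup.eq_of_le_of_card_ge (le_sup_left : Q₀ ≤ T) he.ge]
      exact mem_sup_right (mem_zpowers g)
    have h16L : 16 ∣ Nat.card L := by
      have hd4 : 4 ≤ d := (Nat.pow_lt_pow_iff_right (by norm_num : 1 < 2)).1 hlt
      exact (pow_dvd_pow 2 hd4).trans (hd ▸ card_subgroup_dvd_card T)
    obtain ⟨n, hn1, hn⟩ := pow_card h
    have hL := h.card
    rw [hn] at hL
    have h16 : 16 ∣ 3 ^ n - 1 := by
      refine (Nat.Coprime.dvd_of_dvd_mul_right ?_ (hL ▸ h16L))
      exact Nat.Coprime.pow_right _ (by norm_num)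
    have h4n := four_dvd_of_sixteen h16
    have hn4 : 4 ≤ n := Nat.le_of_dvd hn1 h4n
    obtain ⟨r, hr, hrd, hmin⟩ := LocalEven.Zsig.exists_primitive 3 n (by norm_num) (by omega)
      (by omega) (by omega)
    haveI := Fact.mk hr
    have hrn : n < r := by
      by_contra hle
      push Not at hle
      have hr3 : r ≠ 3 := by
        rintro rfl
        have h1 : 3 ∣ 3 ^ n := dvd_pow_self 3 (by omega)
        have h2 : 0 < 3 ^ n := by positivity
        omega
      have hfl : r ∣ 3 ^ (r - 1) - 1 := by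
        have h1 : ((3 : ℕ) : ZMod r) ≠ 0 := by
          rw [Ne, ZMod.natCast_eq_zero_iff]
          exact fun hd => hr3 ((Nat.prime_dvd_prime_iff_eq hr Nat.prime_three).1 hd)
        rw [← ZMod.natCast_eq_zero_iff, Nat.cast_sub (Nat.one_le_pow _ _ (by norm_num)),
          Nat.cast_pow, ZMod.pow_card_sub_one_eq_one h1, Nat.cast_one, sub_self]
      exact hmin (r - 1) (by have := hr.two_le; omega) (by omega) hfl
    have hrL : r ∣ Nat.card L := hL ▸ hrd.mul_right _
    obtain ⟨u, hu⟩ := exists_prime_orderOf_dvd_card' r hrL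
    have hr5 : 5 ≤ r := by omega
    by_cases huF : u ∈ F
    · -- `u` is central in `F`, so `Q₀` is commutative
      have huZ : u ∈ Z := by
        refine hboth ⟨?_, ?_⟩
        · refine mem_centralizer_iff.2 ?_
          rintro _ ⟨z, hz, rfl⟩
          exact (congrArg Subtype.val (mem_center_iff.1 hz ⟨u, huF⟩)).symm
        · refine mem_centralizer_iff.2 ?_
          intro z hz
          have hdis : Disjoint (zpowers (⟨u, huF⟩ : F)) (Q : Subgroup F) :=
            IsPGroup.disjoint_of_ne r 2 (by omega) _ _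
              (IsPGroup.of_card (n := 1) (by rw [Nat.card_zpowers, Subgroup.orderOf_mk, hu, pow_one]))
              Q.isPGroup'
          obtain ⟨R, hR⟩ := (IsPGroup.of_card (n := 1) (p := r) (G := zpowers (⟨u, huF⟩ : F))
            (by rw [Nat.card_zpowers, Subgroup.orderOf_mk, hu, pow_one])).exists_le_sylow
          haveI : (R : Subgroup F).Normal := inferInstance
          obtain ⟨z', hz', rfl⟩ := hz
          exact congrArg Subtype.val (Subgroup.commute_of_normal_of_disjoint _ _ inferInstance
            inferInstance (IsPGroup.disjoint_of_ne 2 r (by omega) _ _ Q.isPGroup' R.isPGroup')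
            z' ⟨u, huF⟩ hz' (hR (mem_zpowers _))).eq
      have hcom : ∀ a ∈ Q₀, Commute a u := by
        intro a ha
        obtain ⟨z, hz, hzu⟩ := huZ
        rw [← hzu]
        exact congrArg Subtype.val (mem_center_iff.1 hz ⟨a, hQF ha⟩)
      have := commute_of_zsigmondy h hn hr (by omega) hmin hu
        (hcom _ (e8.symm (QuaternionGroup.a 1)).2) (hcom _ (e8.symm (QuaternionGroup.xa 0)).2)
        (fun hd => hQp (hd.trans (Subgroup.orderOf_dvd_natCard Q₀ (mul_mem (mul_mem (mul_mem
          (e8.symm (QuaternionGroup.a 1)).2 (e8.symm (QuaternionGroup.xa 0)).2)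
          (inv_mem (e8.symm (QuaternionGroup.a 1)).2))
          (inv_mem (e8.symm (QuaternionGroup.xa 0)).2)))))
      have h2 : e8.symm (QuaternionGroup.a 1) * e8.symm (QuaternionGroup.xa 0) =
          e8.symm (QuaternionGroup.xa 0) * e8.symm (QuaternionGroup.a 1) := Subtype.ext this.eq
      rw [← map_mul, ← map_mul] at h2
      exact absurd (e8.symm.injective h2) (by decide)
    · have huω : ω u = 1 := by
        have h1 : orderOf (ω u) ∣ r := hu ▸ orderOf_map_dvd ω u
        rcases (Nat.dvd_prime hr).1 h1 with h2 | h2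
        · exact orderOf_eq_one_iff.1 h2
        · have h6 : r ∣ 6 := h2 ▸ (orderOf_dvd_natCard (ω u)).trans hout
          have := Nat.le_of_dvd (by norm_num) h6
          interval_cases r <;> norm_num at *
      have huθ : θ u ≠ 1 := fun h1 => huF (hker ⟨h1, huω⟩)
      obtain ⟨⟨c, hcZ⟩, hgc⟩ := IsCyclic.exists_generator (α := Z)
      have hcu : u * c * u⁻¹ ≠ c := by
        intro hfix
        refine huθ (MulEquiv.ext fun z => ?_)
        obtain ⟨i, rfl⟩ := mem_zpowers_iff.1 (hgc z)
        have h1 : θ u ⟨c, hcZ⟩ = ⟨c, hcZ⟩ :=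
          Subtype.ext (by rw [MulAut.conjNormal_apply]; exact hfix)
        rw [map_zpow, h1]
        rfl
      obtain ⟨k, hkc⟩ := ((isOfFinOrder_of_finite (⟨c, hcZ⟩ : Z)).mem_powers_iff_mem_zpowers).2
        (hgc ⟨u * c * u⁻¹, hZn.conj_mem c hcZ u⟩)
      have hk' : u * c * u⁻¹ = c ^ k := (congrArg Subtype.val hkc).symm
      have := prime_le_of_conj h hn hr (hu ▸ pow_orderOf_eq_one u)
        (fun hd => hZp (hd.trans (Subgroup.orderOf_dvd_natCard Z hcZ))) hk' (hk' ▸ hcu)
      omega
  · -- the quotient by `θ.ker ⊓ ω.ker` is abelian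
    haveI hcycω : IsCyclic ω.range := by
      have h1 : Nat.card ω.range ∣ 6 := (card_subgroup_dvd_card _).trans hout
      have h2 : Nat.card ω.range ∣ 3 :=
        (Nat.Coprime.dvd_of_dvd_mul_left ((Nat.prime_two.coprime_iff_not_dvd.2 hev).symm)
          (show Nat.card ω.range ∣ 2 * 3 by norm_num; exact h1))
      rcases (Nat.dvd_prime Nat.prime_three).1 h2 with h3 | h3
      · haveI : Subsingleton ω.range := (Nat.card_eq_one_iff_unique.1 h3).1
        exact isCyclic_of_subsingleton
      · exact isCyclic_of_prime_card h3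
    refine complement_of_abelian_quotient (θ.ker ⊓ ω.ker)
      (fun hd => hFp (hd.trans (card_dvd_of_le hker))) ⟨⟨fun a b => ?_⟩⟩
    induction a using QuotientGroup.induction_on with
    | H a =>
      induction b using QuotientGroup.induction_on with
      | H b =>
        rw [← QuotientGroup.mk_mul, ← QuotientGroup.mk_mul, QuotientGroup.eq]
        refine ⟨?_, ?_⟩
        · show θ _ = 1
          simp only [map_mul, map_inv, mul_inv_rev]
          rw [hautc.is_comm.comm (θ b) (θ a)]
          group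
        · show ω _ = 1
          simp only [map_mul, map_inv, mul_inv_rev]
          letI := IsCyclic.commGroup (α := ω.range)
          rw [show ω b * ω a = ω a * ω b from congrArg Subtype.val
            (mul_comm (⟨ω b, b, rfl⟩ : ω.range) ⟨ω a, a, rfl⟩)]
          group

end CfsgLib.CharApps.RegLin
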