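import Cfsg.Agent.Lib.CharApps.ElementCentralizers
import Cfsg.Agent.Lib.Base.MinimalNormal
import Cfsg.Agent.Lib.Coprime.Action
import Cfsg.Agent.Lib.FT.OddOrderTheorem
import Mathlib

/-!
# Transitive groups of `p`-power degree with odd centralizers of `p`-elements

If there is no character of `p`-defect zero then, for any classes with `p'`-centralizers, the
number of factorizations of an element is divisible by `p`.  This forces the product of two
involutions with distinct fixed points to be a `p`-element, hence each point stabilizer has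
exactly one involution and the Sylow `p`-subgroup is normal.
-/

set_option autoImplicit false
set_option linter.style.haveILetI false

namespace CfsgLib.CharApps.RegularOdd

open Cfsg CfsgLib.Chars
open scoped Pointwise

universe u v

variable {G : Type u} [Group G] [Finite G] {p : ℕ} [Fact p.Prime]

/-- Without characters of defect zero all class multiplication numbers are divisible by `p`. -/
theorem dvd_card_pairs
    (hno : ∀ χ : IrrCharacter G,
      (charDegree (χ : G → ℂ)).factorization p ≠ (Nat.card G).factorization p) (x y z : G) :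
    p ∣ Nat.card {ab : G × G // (ab.1 * x * ab.1⁻¹) * (ab.2 * y * ab.2⁻¹) = z} := by
  classical
  haveI := Fintype.ofFinite G
  haveI := irrFintype G
  have hp : p.Prime := Fact.out
  refine dvd_of_isIntegral_div hp.ne_zero ?_
  rw [card_conj_mul_conj, Finset.mul_sum, Finset.sum_div]
  refine IsIntegral.sum _ fun χ _ => ?_
  obtain ⟨n, hn0, hn, k, hk⟩ := irr_degree_dvd_card χ.2
  have hk0 : k ≠ 0 := by
    rintro rfl
    simp at hk
  have hdeg : charDegree (χ : G → ℂ) = n := by simp [charDegree, hn]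
  have hpk : p ∣ k := by
    by_contra hpk
    apply hno χ
    rw [hdeg, hk, Nat.factorization_mul hn0.ne' hk0]
    simp [Nat.factorization_eq_zero_of_not_dvd hpk]
  obtain ⟨q, hq⟩ := hpk
  have hval : (Nat.card G : ℂ) * ((χ : G → ℂ) x * (χ : G → ℂ) y * (χ : G → ℂ) z⁻¹ /
      (χ : G → ℂ) 1) / (p : ℂ) =
      (q : ℂ) * ((χ : G → ℂ) x * (χ : G → ℂ) y * (χ : G → ℂ) z⁻¹) := by
    have h1 : ((Nat.card G : ℕ) : ℂ) = (n : ℂ) * ((p : ℂ) * (q : ℂ)) := by
      rw [hk, hq]; push_cast; ring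
    have hp0 : (p : ℂ) ≠ 0 := Nat.cast_ne_zero.mpr hp.ne_zero
    have hn' : (n : ℂ) ≠ 0 := Nat.cast_ne_zero.mpr hn0.ne'
    rw [h1, hn]
    field_simp
  rw [hval]
  have hc := fun g => char_isIntegral (isCharacter_of_irr χ.2) g
  exact (isIntegral_algebraMap (R := ℤ) (A := ℂ) (x := ((q : ℕ) : ℤ))).mul
    (((hc x).mul (hc y)).mul (hc z⁻¹))

omit [Finite G] [Fact p.Prime] in
theorem inv_eq_self_of_orderOf_two {a : G} (ha : orderOf a = 2) : a⁻¹ = a := by
  refine inv_eq_of_mul_eq_one_right ?_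
  rw [← sq, ← ha, pow_orderOf_eq_one]

omit [Finite G] [Fact p.Prime] in
/-- An element of odd order is the square of one of its powers. -/
theorem exists_pow_sq {d : G} (hd : Odd (orderOf d)) : ∃ j : ℕ, d ^ j * d ^ j = d := by
  obtain ⟨j, hj⟩ := hd
  refine ⟨j + 1, ?_⟩
  rw [← pow_add, show j + 1 + (j + 1) = 2 * j + 1 + 1 by ring, ← hj, pow_succ,
    pow_orderOf_eq_one, one_mul]

section Action

variable {Ω : Type v} [MulAction G Ω] [FaithfulSMul G Ω] [MulAction.IsPretransitive G Ω]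
  [Finite Ω] {r : ℕ} (hr : 1 ≤ r) (hΩ : Nat.card Ω = p ^ r) (hp2 : p ≠ 2) (h2 : 2 ∣ Nat.card G)
  (hC : ∀ g : G, g ≠ 1 → (∃ k : ℕ, orderOf g = p ^ k) →
    Odd (Nat.card (Subgroup.centralizer ({g} : Set G))))
  (hno : ∀ χ : IrrCharacter G,
    (charDegree (χ : G → ℂ)).factorization p ≠ (Nat.card G).factorization p)

omit [FaithfulSMul G Ω] in
include hΩ in
/-- A Sylow subgroup is transitive. -/
theorem sylow_transitive (Q : Sylow p G) (o x : Ω) : ∃ q ∈ (Q : Subgroup G), q • o = x := by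
  classical
  have hp : p.Prime := Fact.out
  have h1 : (MulAction.stabilizer G o).index = p ^ r := by
    rw [MulAction.index_stabilizer_of_transitive, hΩ]
  have h2 : (MulAction.stabilizer (Q : Subgroup G) o).index * (Q : Subgroup G).index =
      ((Q : Subgroup G) ⊓ MulAction.stabilizer G o).index := by
    rw [← Subgroup.relIndex_mul_index (inf_le_left :
      (Q : Subgroup G) ⊓ MulAction.stabilizer G o ≤ (Q : Subgroup G)), Subgroup.inf_relIndex_left]
    rfl
  have h3 : p ^ r ∣ (MulAction.stabilizer (Q : Subgroup G) o).index * (Q : Subgroup G).index := by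
    rw [h2, ← h1]
    exact Subgroup.index_dvd_of_le inf_le_right
  have h4 : p ^ r ∣ (MulAction.stabilizer (Q : Subgroup G) o).index :=
    (Nat.Coprime.pow_left r (hp.coprime_iff_not_dvd.mpr Q.not_dvd_index)).dvd_of_dvd_mul_right h3
  rw [MulAction.index_stabilizer, ← hΩ, ← Nat.card_coe_set_eq] at *
  have h5 : Nat.card (MulAction.orbit (Q : Subgroup G) o) ≤ Nat.card Ω :=
    Nat.card_le_card_of_injective _ Subtype.val_injective
  haveI : Nonempty (MulAction.orbit (Q : Subgroup G) o) := ⟨⟨o, MulAction.mem_orbit_self o⟩⟩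
  have h6 : MulAction.orbit (Q : Subgroup G) o = Set.univ := by
    refine Set.eq_of_subset_of_ncard_le (Set.subset_univ _) ?_
    rw [Set.ncard_univ, ← Nat.card_coe_set_eq]
    exact Nat.le_of_dvd Nat.card_pos h4
  obtain ⟨q, hq⟩ : x ∈ MulAction.orbit (Q : Subgroup G) o := h6 ▸ Set.mem_univ x
  exact ⟨q, q.2, hq⟩

include h2 hC hno in
theorem sylow_comm (Q : Sylow p G) :
    ∀ a ∈ (Q : Subgroup G), ∀ b ∈ (Q : Subgroup G), a * b = b * a := by
  obtain ⟨z, s, hz, hz1, hs, hsz⟩ := exists_inverted hC h2 hno Q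
  obtain ⟨R, hR⟩ := exists_abelian_sylow hC hz hz1 hs hsz
  obtain ⟨c, hc⟩ := MulAction.exists_smul_eq G R Q
  have hs' : orderOf (c * s * c⁻¹) = 2 := hs ▸ MulEquiv.orderOf_eq (MulAut.conj c) s
  have hmem : c * s * c⁻¹ ∈ Subgroup.normalizer ((Q : Subgroup G) : Set G) := by
    refine Sylow.smul_eq_iff_mem_normalizer.mp ?_
    rw [← hc, mul_smul, mul_smul, inv_smul_smul, Sylow.smul_eq_iff_mem_normalizer.mpr hR]
  exact comm_of_normalized hC Q.isPGroup' hs' hmem

include hΩ h2 hC hno in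
theorem sylow_free (Q : Sylow p G) {q : G} (hq : q ∈ (Q : Subgroup G)) {o : Ω} (ho : q • o = o) :
    q = 1 := by
  refine FaithfulSMul.eq_of_smul_eq_smul (α := Ω) fun x => ?_
  obtain ⟨s, hs, rfl⟩ := sylow_transitive hΩ Q o x
  rw [one_smul, ← mul_smul, sylow_comm h2 hC hno Q q hq s hs, mul_smul, ho]

include hΩ h2 hC hno in
theorem free {g : G} (hg : ∃ k : ℕ, orderOf g = p ^ k) {o : Ω} (ho : g • o = o) : g = 1 := by
  obtain ⟨k, hk⟩ := hg
  have hP : IsPGroup p (Subgroup.zpowers g) :=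
    IsPGroup.of_card (n := k) (by rw [Nat.card_zpowers, hk])
  obtain ⟨Q, hQ⟩ := hP.exists_le_sylow
  exact sylow_free hΩ h2 hC hno Q (hQ (Subgroup.mem_zpowers g)) ho

omit [Fact p.Prime] [Finite G] in
include hΩ hp2 in
theorem exists_fixed [Fact p.Prime] {a : G} (ha : orderOf a = 2) : ∃ o : Ω, a • o = o := by
  classical
  haveI := Fintype.ofFinite Ω
  haveI : Fact (Nat.Prime 2) := ⟨Nat.prime_two⟩
  have hodd : Odd (p ^ r) := ((Fact.out : p.Prime).odd_of_ne_two hp2).pow
  have hpow : MulAction.toPermHom G Ω a ^ 2 ^ 1 = 1 := by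
    rw [pow_one, ← map_pow, ← ha, pow_orderOf_eq_one, map_one]
  obtain ⟨o, ho⟩ := Equiv.Perm.exists_fixed_point_of_prime (p := 2) (n := 1) (α := Ω)
    (by rw [← Nat.card_eq_fintype_card, hΩ]; exact hodd.not_two_dvd_nat) hpow
  exact ⟨o, ho⟩

omit [FaithfulSMul G Ω] [MulAction.IsPretransitive G Ω] [Finite Ω] in
include hC in
/-- An involution normalizing a `p`-subgroup inverts it. -/
theorem inverts {Q : Subgroup G} (hQ : IsPGroup p Q) {s : G} (hs : orderOf s = 2)
    (hsQ : s ∈ Subgroup.normalizer (Q : Set G)) {q : G} (hq : q ∈ Q) : s * q * s⁻¹ = q⁻¹ := by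
  have hcomm := comm_of_normalized hC hQ hs hsQ
  have hq' : s * q * s⁻¹ ∈ Q := (Subgroup.mem_normalizer_iff.mp hsQ q).mp hq
  by_contra hne
  have hfix : s * (q * (s * q * s⁻¹)) * s⁻¹ = q * (s * q * s⁻¹) := by
    have hss : s * s = 1 := by rw [← sq, ← hs, pow_orderOf_eq_one]
    rw [show s * (q * (s * q * s⁻¹)) * s⁻¹ = (s * q * s⁻¹) * ((s * s) * q * (s * s)⁻¹) by group,
      hss, inv_one, mul_one, one_mul]
    exact hcomm _ hq' q hq
  refine (hC _ (fun h => hne (inv_eq_of_mul_eq_one_right h).symm)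
    (exists_pow_eq_of_mem_pGroup hQ (mul_mem hq hq'))).not_two_dvd_nat ?_
  have hsmem : s ∈ Subgroup.centralizer ({q * (s * q * s⁻¹)} : Set G) :=
    Subgroup.mem_centralizer_singleton_iff.mpr (mul_inv_eq_iff_eq_mul.mp hfix)
  rw [← hs, ← Subgroup.orderOf_mk s hsmem]
  exact orderOf_dvd_natCard _

include hΩ hp2 in
theorem eq_one_of_sq {Q : Subgroup G} (hQ : IsPGroup p Q) {q : G} (hq : q ∈ Q) (h : q * q = 1) :
    q = 1 := by
  obtain ⟨k, hk⟩ := exists_pow_eq_of_mem_pGroup hQ hq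
  obtain ⟨j, hj⟩ := exists_pow_sq (d := q) (hk ▸ ((Fact.out : p.Prime).odd_of_ne_two hp2).pow)
  rw [← hj, ← pow_add, ← two_mul, pow_mul, pow_two, h, one_pow]

include hΩ h2 hp2 hC hno in
/-- Every involution fixes exactly one point. -/
theorem fix_unique {a : G} (ha : orderOf a = 2) {o o' : Ω} (ho : a • o = o) (ho' : a • o' = o') :
    o = o' := by
  haveI : Fact (Nat.Prime 2) := ⟨Nat.prime_two⟩
  obtain ⟨P⟩ : Nonempty (Sylow p G) := inferInstance
  obtain ⟨g, k, hg, hk, hm, hne⟩ := exists_quotient_of_no_defectZero hno a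
    (not_dvd_centralizer (not_two_dvd_centralizer hC) (ha ▸ dvd_rfl)) P
  have hord : ∀ t : G, IsConj a t → orderOf t = 2 := fun t ht => by
    obtain ⟨b, rfl⟩ := isConj_iff.mp ht
    rw [← ha]
    exact MulEquiv.orderOf_eq (MulAut.conj b) a
  have hinv : g * (g * k⁻¹) * g⁻¹ = (g * k⁻¹)⁻¹ := by
    have hgg := inv_eq_self_of_orderOf_two (hord g hg)
    have hkk := inv_eq_self_of_orderOf_two (hord k hk)
    have hgg' : g * g = 1 := by rw [← sq, ← hord g hg, pow_orderOf_eq_one]
    rw [mul_inv_rev, hgg, hkk, inv_eq_self_of_orderOf_two (hord k hk), ← mul_assoc g g, hgg',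
      one_mul]
  obtain ⟨Q, hQ⟩ := exists_abelian_sylow hC hm hne (hord g hg) hinv
  obtain ⟨c, hc⟩ := isConj_iff.mp hg
  have hgfix : ∀ x : Ω, a • x = x → g • (c • x) = c • x := fun x hx => by
    rw [← hc, mul_smul, mul_smul, inv_smul_smul, hx]
  refine MulAction.injective c ?_
  obtain ⟨q, hq, hqo⟩ := sylow_transitive hΩ Q (c • o) (c • o')
  have h1 : q⁻¹ • (c • o) = q • (c • o) := by
    rw [← inverts hC Q.isPGroup' (hord g hg) hQ hq, mul_smul, mul_smul,
      inv_smul_eq_iff.mpr (hgfix o ho).symm, hqo, hgfix o' ho']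
  have h3 : (q * q) • (c • o) = c • o := by
    rw [mul_smul, ← h1, smul_inv_smul]
  show c • o = c • o'
  rw [← hqo, eq_one_of_sq hΩ hp2 Q.isPGroup' hq (sylow_free hΩ h2 hC hno Q (mul_mem hq hq) h3),
    one_smul]

include hΩ h2 hp2 hC hno in
/-- An element commuting with an involution fixes its point. -/
theorem smul_fix {a c : G} (ha : orderOf a = 2) (h : c * a = a * c) {o : Ω} (ho : a • o = o) :
    c • o = o :=
  fix_unique hΩ hp2 h2 hC hno ha
    (show a • (c • o) = c • o by rw [← mul_smul, ← h, mul_smul, ho]) ho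

include hΩ h2 hp2 hC hno in
/-- Involutions with distinct fixed points have product of odd order. -/
theorem odd_orderOf_mul {a b : G} (ha : orderOf a = 2) (hb : orderOf b = 2) {o o' : Ω}
    (ho : a • o = o) (ho' : b • o' = o') (hne : o ≠ o') : Odd (orderOf (a * b)) := by
  by_contra hev
  rw [Nat.not_odd_iff_even] at hev
  obtain ⟨m, hm⟩ := hev
  have hpos := orderOf_pos (a * b)
  set c := (a * b) ^ m with hc
  have hcc : orderOf c = 2 := by
    refine orderOf_eq_prime ?_ ?_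
    · rw [hc, ← pow_mul, mul_two, ← hm, pow_orderOf_eq_one]
    · rw [hc]
      exact pow_ne_one_of_lt_orderOf (by omega) (by omega)
  have ha' := inv_eq_self_of_orderOf_two ha
  have hb' := inv_eq_self_of_orderOf_two hb
  have hc' := inv_eq_self_of_orderOf_two hcc
  have hca : c * a = a * c := by
    have h1 : a * c * a⁻¹ = c⁻¹ := by
      rw [hc, ← conj_pow, ← inv_pow, mul_inv_rev, hb', ha', ← mul_assoc a a, ← sq, ← ha,
        pow_orderOf_eq_one, one_mul]
    rw [hc'] at h1
    exact (mul_inv_eq_iff_eq_mul.mp h1).symm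
  have hcb : c * b = b * c := by
    have hab : Commute (a * b) c := Commute.self_pow _ _
    have := hab.eq
    calc c * b = a⁻¹ * (a * c * b) := by group
      _ = a⁻¹ * (c * a * b) := by rw [hca]
      _ = a⁻¹ * (c * (a * b)) := by group
      _ = a⁻¹ * ((a * b) * c) := by rw [this]
      _ = b * c := by group
  exact hne (fix_unique hΩ hp2 h2 hC hno hcc (smul_fix hΩ hp2 h2 hC hno ha hca ho)
    (smul_fix hΩ hp2 h2 hC hno hb hcb ho'))

omit [MulAction G Ω] [FaithfulSMul G Ω] [MulAction.IsPretransitive G Ω] [Finite Ω] [Finite G] in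
/-- If `t` centralizes `g` and `a` inverts it, `t * a` has odd order only for `g * g = 1`. -/
theorem sq_eq_one_of_odd {t a g : G} (ht : t * g * t⁻¹ = g) (ha : a * g * a⁻¹ = g⁻¹)
    (hodd : Odd (orderOf (t * a))) : g * g = 1 := by
  have h1 : (t * a) * g * (t * a)⁻¹ = g⁻¹ := by
    rw [show (t * a) * g * (t * a)⁻¹ = t * (a * g * a⁻¹) * t⁻¹ by group, ha, ← conj_inv, ht]
  have h2 : ∀ n : ℕ, (t * a) ^ n * g * ((t * a) ^ n)⁻¹ = if Even n then g else g⁻¹ := by
    intro n
    induction n with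
    | zero => simp
    | succ n ih =>
      rw [pow_succ', show t * a * (t * a) ^ n * g * (t * a * (t * a) ^ n)⁻¹ =
        (t * a) * ((t * a) ^ n * g * ((t * a) ^ n)⁻¹) * (t * a)⁻¹ by
          simp only [mul_inv_rev, mul_assoc], ih]
      by_cases hn : Even n
      · rw [if_pos hn, if_neg (Nat.not_even_iff_odd.mpr hn.add_one), h1]
      · rw [if_neg hn, if_pos (Nat.not_even_iff_odd.mp hn).add_one, ← conj_inv, h1, inv_inv]
  have h3 := h2 (orderOf (t * a))
  rw [pow_orderOf_eq_one, if_neg (Nat.not_even_iff_odd.mpr hodd)] at h3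
  simp only [one_mul, inv_one, mul_one] at h3
  exact mul_eq_one_iff_eq_inv.mpr h3

include hΩ h2 hp2 hC hno in
/-- The centralizer of the product of two involutions with distinct fixed points is odd. -/
theorem odd_centralizer {a b : G} (ha : orderOf a = 2) (hb : orderOf b = 2) {o o' : Ω}
    (ho : a • o = o) (ho' : b • o' = o') (hne : o ≠ o') :
    Odd (Nat.card (Subgroup.centralizer ({a * b} : Set G))) := by
  haveI : Fact (Nat.Prime 2) := ⟨Nat.prime_two⟩
  by_contra hev
  rw [Nat.not_odd_iff_even] at hev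
  obtain ⟨t, ht⟩ := exists_prime_orderOf_dvd_card'
    (G := ↥(Subgroup.centralizer ({a * b} : Set G))) 2 (even_iff_two_dvd.mp hev)
  have ht' : orderOf (t : G) = 2 := by rw [Subgroup.orderOf_coe, ht]
  have htg : (t : G) * (a * b) * (t : G)⁻¹ = a * b :=
    mul_inv_eq_iff_eq_mul.mpr (Subgroup.mem_centralizer_singleton_iff.mp t.2)
  have hodd := odd_orderOf_mul hΩ hp2 h2 hC hno ha hb ho ho' hne
  have hg1 : ¬ (a * b) * (a * b) = 1 := by
    intro h
    obtain ⟨j, hj⟩ := exists_pow_sq hodd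
    have h1 : a * b = 1 := by rw [← hj, ← pow_add, ← two_mul, pow_mul, pow_two, h, one_pow]
    exact hne (fix_unique hΩ hp2 h2 hC hno ha ho
      (by rw [mul_eq_one_iff_eq_inv.mp h1, inv_eq_self_of_orderOf_two hb, ho']))
  obtain ⟨x, hx⟩ := exists_fixed hΩ hp2 ht'
  have ha' := inv_eq_self_of_orderOf_two ha
  have hb' := inv_eq_self_of_orderOf_two hb
  have haa : a * a = 1 := by rw [← sq, ← ha, pow_orderOf_eq_one]
  have hbb : b * b = 1 := by rw [← sq, ← hb, pow_orderOf_eq_one]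
  have hia : a * (a * b) * a⁻¹ = (a * b)⁻¹ := by
    rw [mul_inv_rev, hb', ha', ← mul_assoc a a, haa, one_mul]
  have hib : b * (a * b) * b⁻¹ = (a * b)⁻¹ := by
    rw [mul_inv_rev, hb', ha', mul_assoc b (a * b), mul_assoc a b, hbb, mul_one]
  have hxa : x = o := by
    by_contra h
    exact hg1 (sq_eq_one_of_odd htg hia (odd_orderOf_mul hΩ hp2 h2 hC hno ht' ha hx ho h))
  have hxb : x = o' := by
    by_contra h
    exact hg1 (sq_eq_one_of_odd htg hib (odd_orderOf_mul hΩ hp2 h2 hC hno ht' hb hx ho' h))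
  exact hne (hxa.symm.trans hxb)

include hΩ h2 hp2 hC hno in
/-- `p` divides the centralizer of the product of two involutions with distinct fixed points. -/
theorem dvd_centralizer {a b : G} (ha : orderOf a = 2) (hb : orderOf b = 2) {o o' : Ω}
    (ho : a • o = o) (ho' : b • o' = o') (hne : o ≠ o') :
    p ∣ Nat.card (Subgroup.centralizer ({a * b} : Set G)) := by
  classical
  have hp : p.Prime := Fact.out
  by_contra hpC
  set g := a * b with hg
  set C := Subgroup.centralizer ({g} : Set G) with hCdef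
  set Ca := Subgroup.centralizer ({a} : Set G) with hCa
  set Cb := Subgroup.centralizer ({b} : Set G) with hCb
  set K := C.prod (Ca.prod Cb) with hK
  have ha' := inv_eq_self_of_orderOf_two ha
  have hb' := inv_eq_self_of_orderOf_two hb
  have haa : a * a = 1 := by rw [← sq, ← ha, pow_orderOf_eq_one]
  have hodd := odd_centralizer hΩ hp2 h2 hC hno ha hb ho ho' hne
  letI : MulAction K (G × G) :=
    { smul := fun k w => ((k : G × G × G).1 * w.1 * (k : G × G × G).2.1⁻¹,
        (k : G × G × G).1 * w.2 * (k : G × G × G).2.2⁻¹)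
      one_smul := fun w => Prod.ext (by show (1 : G) * w.1 * (1 : G)⁻¹ = w.1; group)
        (by show (1 : G) * w.2 * (1 : G)⁻¹ = w.2; group)
      mul_smul := fun k l w => Prod.ext
        (by
          show ((k : G × G × G).1 * (l : G × G × G).1) * w.1 *
              ((k : G × G × G).2.1 * (l : G × G × G).2.1)⁻¹ =
            (k : G × G × G).1 * ((l : G × G × G).1 * w.1 * (l : G × G × G).2.1⁻¹) *
              (k : G × G × G).2.1⁻¹
          group)
        (by
          show ((k : G × G × G).1 * (l : G × G × G).1) * w.2 *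
              ((k : G × G × G).2.2 * (l : G × G × G).2.2)⁻¹ =
            (k : G × G × G).1 * ((l : G × G × G).1 * w.2 * (l : G × G × G).2.2⁻¹) *
              (k : G × G × G).2.2⁻¹
          group) }
  have horb : MulAction.orbit K ((1, 1) : G × G) =
      {ab : G × G | (ab.1 * a * ab.1⁻¹) * (ab.2 * b * ab.2⁻¹) = g} := by
    ext ⟨x, y⟩
    constructor
    · rintro ⟨⟨⟨e, c, d⟩, he, hc, hd⟩, hk⟩
      have hk' : e * 1 * c⁻¹ = x ∧ e * 1 * d⁻¹ = y := Prod.ext_iff.mp hk
      have hce : c⁻¹ * a * c = a := by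
        rw [mul_assoc, ← Subgroup.mem_centralizer_singleton_iff.mp hc, inv_mul_cancel_left]
      have hde : d⁻¹ * b * d = b := by
        rw [mul_assoc, ← Subgroup.mem_centralizer_singleton_iff.mp hd, inv_mul_cancel_left]
      show x * a * x⁻¹ * (y * b * y⁻¹) = g
      rw [← hk'.1, ← hk'.2,
        show e * 1 * c⁻¹ * a * (e * 1 * c⁻¹)⁻¹ * (e * 1 * d⁻¹ * b * (e * 1 * d⁻¹)⁻¹) =
          e * ((c⁻¹ * a * c) * (d⁻¹ * b * d)) * e⁻¹ by group, hce, hde, ← hg]
      exact mul_inv_eq_iff_eq_mul.mpr (Subgroup.mem_centralizer_singleton_iff.mp he)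
    · intro hxy
      change x * a * x⁻¹ * (y * b * y⁻¹) = g at hxy
      obtain ⟨u, hu⟩ : ∃ u, u = x * a * x⁻¹ := ⟨_, rfl⟩
      obtain ⟨v, hv⟩ : ∃ v, v = y * b * y⁻¹ := ⟨_, rfl⟩
      rw [← hu, ← hv] at hxy
      have hu' : orderOf u = 2 := by
        rw [hu, ← ha]; exact MulEquiv.orderOf_eq (MulAut.conj x) a
      have hv' : orderOf v = 2 := by
        rw [hv, ← hb]; exact MulEquiv.orderOf_eq (MulAut.conj y) b
      have hui : u * g * u⁻¹ = g⁻¹ := by
        rw [← hxy, mul_inv_rev u v, inv_eq_self_of_orderOf_two hu', inv_eq_self_of_orderOf_two hv',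
          ← mul_assoc u u, show u * u = 1 by rw [← sq, ← hu', pow_orderOf_eq_one], one_mul]
      have hai : a * g * a⁻¹ = g⁻¹ := by
        rw [hg, mul_inv_rev a b, hb', ha', ← mul_assoc a a, haa, one_mul]
      obtain ⟨d, hd⟩ : ∃ d, d = a * u := ⟨_, rfl⟩
      have hdC : d ∈ C := by
        rw [hCdef, Subgroup.mem_centralizer_singleton_iff]
        refine mul_inv_eq_iff_eq_mul.mp ?_
        rw [hd, show a * u * g * (a * u)⁻¹ = a * (u * g * u⁻¹) * a⁻¹ by group, hui, ← conj_inv,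
          hai, inv_inv]
      have hdodd : Odd (orderOf d) := hodd.of_dvd_nat
        (Subgroup.orderOf_mk d hdC ▸ orderOf_dvd_natCard _)
      obtain ⟨j, hj⟩ := exists_pow_sq hdodd
      obtain ⟨e, he⟩ : ∃ e, e = d ^ j := ⟨_, rfl⟩
      rw [← he] at hj
      have hdinv : a * d * a⁻¹ = d⁻¹ := by
        rw [hd, mul_inv_rev a u, inv_eq_self_of_orderOf_two hu', ha', ← mul_assoc a a, haa, one_mul]
      have heinv : a * e * a⁻¹ = e⁻¹ := by
        rw [he, ← conj_pow, hdinv, inv_pow]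
      have heC : e ∈ C := he ▸ pow_mem hdC j
      have hue : u = e⁻¹ * a * e := by
        rw [← heinv, show a * e * a⁻¹ * a * e = a * (e * e) by group, hj, hd, ← mul_assoc, haa,
          one_mul]
      have hve : v = e⁻¹ * b * e := by
        have h1 : v = u⁻¹ * g := by rw [← hxy, inv_mul_cancel_left]
        have h2' : e * g = g * e := Subgroup.mem_centralizer_singleton_iff.mp heC
        rw [h1, inv_eq_self_of_orderOf_two hu', hue,
          show e⁻¹ * a * e * g = e⁻¹ * a * (e * g) by group, h2', hg,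
          show e⁻¹ * a * (a * b * e) = e⁻¹ * (a * a) * b * e by group, haa, mul_one]
      have hxc : (e * x)⁻¹ ∈ Ca := by
        refine inv_mem ?_
        rw [hCa, Subgroup.mem_centralizer_singleton_iff]
        refine mul_inv_eq_iff_eq_mul.mp ?_
        rw [show e * x * a * (e * x)⁻¹ = e * (x * a * x⁻¹) * e⁻¹ by group, ← hu, hue]
        group
      have hyd : (e * y)⁻¹ ∈ Cb := by
        refine inv_mem ?_
        rw [hCb, Subgroup.mem_centralizer_singleton_iff]
        refine mul_inv_eq_iff_eq_mul.mp ?_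
        rw [show e * y * b * (e * y)⁻¹ = e * (y * b * y⁻¹) * e⁻¹ by group, ← hv, hve]
        group
      refine ⟨⟨(e⁻¹, ((e * x)⁻¹, (e * y)⁻¹)), Subgroup.mem_prod.mpr ⟨inv_mem heC, Subgroup.mem_prod.mpr ⟨hxc, hyd⟩⟩⟩, Prod.ext ?_ ?_⟩
      · show e⁻¹ * 1 * (e * x)⁻¹⁻¹ = x
        group
      · show e⁻¹ * 1 * (e * y)⁻¹⁻¹ = y
        group
  have hdvd : p ∣ Nat.card (MulAction.orbit K ((1, 1) : G × G)) := by
    rw [horb]
    exact dvd_card_pairs hno a b g
  rw [Nat.card_coe_set_eq, ← MulAction.index_stabilizer] at hdvd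
  have h3 : p ∣ Nat.card C * (Nat.card Ca * Nat.card Cb) := by
    refine (hdvd.trans (Subgroup.index_dvd_card _)).trans (dvd_of_eq ?_)
    rw [hK, Nat.card_congr (Subgroup.prodEquiv _ _).toEquiv, Nat.card_prod,
      Nat.card_congr (Subgroup.prodEquiv _ _).toEquiv, Nat.card_prod]
  have h4 : ∀ {t : G}, orderOf t = 2 → ¬ p ∣ Nat.card (Subgroup.centralizer ({t} : Set G)) :=
    fun ht => not_dvd_centralizer (not_two_dvd_centralizer hC) (ht ▸ dvd_rfl)
  rcases hp.dvd_mul.mp h3 with h | h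
  · exact hpC h
  rcases hp.dvd_mul.mp h with h | h
  · exact h4 ha h
  · exact h4 hb h


include hΩ h2 hC hno in
/-- No nontrivial `p'`-subgroup is normalized by a Sylow subgroup. -/
theorem eq_bot_of_normalized (Q : Sylow p G) {N : Subgroup G} (hN : (Nat.card N).Coprime p)
    (hQN : (Q : Subgroup G) ≤ Subgroup.normalizer (N : Set G)) : N = ⊥ := by
  classical
  have hp : p.Prime := Fact.out
  rw [Subgroup.eq_bot_iff_forall]
  intro n hn
  obtain ⟨k, hk⟩ : ∃ k, Nat.card N = k := ⟨_, rfl⟩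
  refine FaithfulSMul.eq_of_smul_eq_smul (α := Ω) fun x => ?_
  rw [one_smul]
  -- the orbit of `N` through `x` has `p'`-order; it is a block for `Q`, so its order divides `p ^ r`
  let B : Set Ω := MulAction.orbit N x
  have hB1 : Nat.card B ∣ Nat.card N := by
    rw [Nat.card_coe_set_eq, ← MulAction.index_stabilizer]
    exact Subgroup.index_dvd_card _
  -- the stabilizer of the block in `Q` is transitive on it
  let S : Subgroup G := (Q : Subgroup G) ⊓ MulAction.stabilizer G B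
  have hS : ∀ y ∈ B, ∃ s : S, s • x = y := by
    intro y hy
    obtain ⟨q, hq, hqx⟩ := sylow_transitive hΩ Q x y
    refine ⟨⟨q, hq, ?_⟩, hqx⟩
    show q • B = B
    have hyB : MulAction.orbit N y = B := MulAction.orbit_eq_iff.mpr hy
    refine Eq.trans ?_ hyB
    ext w
    constructor
    · rintro ⟨_, ⟨m, rfl⟩, rfl⟩
      refine ⟨⟨q * m * q⁻¹, (Subgroup.mem_normalizer_iff.mp (hQN hq) m).mp m.2⟩, ?_⟩
      show (q * m * q⁻¹) • y = q • ((m : G) • x)
      rw [← hqx, ← mul_smul, ← mul_smul, inv_mul_cancel_right]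
    · rintro ⟨m, rfl⟩
      refine ⟨(q⁻¹ * m * q) • x, ⟨⟨q⁻¹ * m * q, ?_⟩, rfl⟩, ?_⟩
      · exact (Subgroup.mem_normalizer_iff''.mp (hQN hq) m).mp m.2
      · show q • ((q⁻¹ * m * q) • x) = (m : G) • y
        rw [← hqx, ← mul_smul, ← mul_smul, ← mul_assoc, ← mul_assoc, mul_inv_cancel, one_mul]
  have hB2 : Nat.card B = (MulAction.stabilizer S x).index := by
    rw [MulAction.index_stabilizer, Nat.card_coe_set_eq]
    congr 1
    refine Set.Subset.antisymm (fun y hy => ?_) ?_
    · obtain ⟨s, hs⟩ := hS y hy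
      exact ⟨s, hs⟩
    · rintro y ⟨s, rfl⟩
      have hs : (s : G) • B = B := MulAction.mem_stabilizer_iff.mp s.2.2
      show (s : G) • x ∈ B
      rw [← hs]
      exact Set.smul_mem_smul_set (MulAction.mem_orbit_self x)
  obtain ⟨j, hj⟩ := (Q.isPGroup'.to_le (inf_le_left : S ≤ Q)).exists_card_eq
  have hB4 : Nat.card B ∣ p ^ j := by
    rw [hB2, ← hj]
    exact Subgroup.index_dvd_card _
  obtain ⟨i, -, hi⟩ := (Nat.dvd_prime_pow hp).mp hB4
  have hB3 : Nat.card B = 1 := by
    rw [hi]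
    rcases Nat.eq_zero_or_pos i with h0 | hipos
    · rw [h0, pow_zero]
    · exact absurd ((dvd_pow_self p hipos.ne').trans (hi ▸ hB1))
        (hp.coprime_iff_not_dvd.mp hN.symm)
  haveI := (Nat.card_eq_one_iff_unique.mp hB3).1
  exact congrArg Subtype.val (Subsingleton.elim (⟨n • x, ⟨⟨n, hn⟩, rfl⟩⟩ : B)
    ⟨x, MulAction.mem_orbit_self x⟩)

include hΩ h2 hC hno in
/-- A Sylow subgroup is normal in any solvable subgroup containing it. -/
theorem sylow_normal_in (Q : Sylow p G) {R : Subgroup G} (hR : Group.IsSolvable R)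
    (hQR : (Q : Subgroup G) ≤ R) : R ≤ Subgroup.normalizer ((Q : Subgroup G) : Set G) := by
  classical
  haveI := hR
  have hcore : pPrimeCore p R = ⊥ := by
    have h : (pPrimeCore p R).map R.subtype = ⊥ := by
      refine eq_bot_of_normalized hΩ h2 hC hno Q ?_ ?_
      · rw [Subgroup.card_subtype]
        exact CfsgLib.Base.pPrimeCore_coprime p R
      · intro q hq
        refine Subgroup.mem_normalizer_iff.mpr fun w => ⟨?_, ?_⟩
        · rintro ⟨m, hm, rfl⟩
          exact ⟨⟨q, hQR hq⟩ * m * (⟨q, hQR hq⟩ : R)⁻¹,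
            (inferInstance : (pPrimeCore p R).Normal).conj_mem m hm _, rfl⟩
        · rintro ⟨m, hm, he⟩
          refine ⟨(⟨q, hQR hq⟩ : R)⁻¹ * m * ((⟨q, hQR hq⟩ : R)⁻¹)⁻¹,
            (inferInstance : (pPrimeCore p R).Normal).conj_mem m hm _, ?_⟩
          show q⁻¹ * R.subtype m * q⁻¹⁻¹ = w
          rw [he]; group
    rwa [Subgroup.map_eq_bot_iff_of_injective _ R.subtype_injective] at h
  obtain ⟨P, hP⟩ : ∃ P : Sylow p R, (P : Subgroup R) = (Q : Subgroup G).subgroupOf R :=
    ⟨Q.subtype hQR, Q.coe_subtype hQR⟩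
  have hle : pCore p R ≤ (P : Subgroup R) := CfsgLib.Base.pCore_le_sylow P
  have heq : (P : Subgroup R) = pCore p R := by
    refine le_antisymm (fun q hq => ?_) hle
    refine CfsgLib.Base.centralizer_pCore_le_of_isSolvable hcore ?_
    rw [Subgroup.mem_centralizer_iff]
    intro m hm
    refine Subtype.ext (sylow_comm h2 hC hno Q _ ?_ _ ?_)
    · exact Subgroup.mem_subgroupOf.mp (hP ▸ hle hm)
    · exact Subgroup.mem_subgroupOf.mp (hP ▸ hq)
  intro x hx
  refine Subgroup.mem_normalizer_iff.mpr fun q => ⟨fun hq => ?_, fun hq => ?_⟩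
  · have hq' : (⟨q, hQR hq⟩ : R) ∈ pCore p R := heq ▸ hP ▸ Subgroup.mem_subgroupOf.mpr hq
    have := (inferInstance : (pCore p R).Normal).conj_mem _ hq' ⟨x, hx⟩
    rw [← heq, hP] at this
    exact Subgroup.mem_subgroupOf.mp this
  · have hqR : q ∈ R := by
      have h := mul_mem (mul_mem (inv_mem hx) (hQR hq)) hx
      simpa [mul_assoc] using h
    have hq' : (⟨x, hx⟩ * ⟨q, hqR⟩ * (⟨x, hx⟩ : R)⁻¹ : R) ∈ pCore p R :=
      heq ▸ hP ▸ Subgroup.mem_subgroupOf.mpr hq
    have := (inferInstance : (pCore p R).Normal).conj_mem _ hq' (⟨x, hx⟩ : R)⁻¹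
    rw [show (⟨x, hx⟩ : R)⁻¹ * (⟨x, hx⟩ * ⟨q, hqR⟩ * (⟨x, hx⟩ : R)⁻¹) * (⟨x, hx⟩ : R)⁻¹⁻¹ =
      ⟨q, hqR⟩ by group, ← heq, hP] at this
    exact Subgroup.mem_subgroupOf.mp this

include hΩ h2 hp2 hC hno in
/-- The product of two involutions with distinct fixed points is a `p`-element. -/
theorem pow_eq_mul {a b : G} (ha : orderOf a = 2) (hb : orderOf b = 2) {o o' : Ω}
    (ho : a • o = o) (ho' : b • o' = o') (hne : o ≠ o') :
    ∃ k : ℕ, orderOf (a * b) = p ^ k := by
  classical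
  have hp : p.Prime := Fact.out
  set g := a * b with hg
  set C := Subgroup.centralizer ({g} : Set G) with hCdef
  have ha' := inv_eq_self_of_orderOf_two ha
  have hb' := inv_eq_self_of_orderOf_two hb
  have haa : a * a = 1 := by rw [← sq, ← ha, pow_orderOf_eq_one]
  have hai : a * g * a⁻¹ = g⁻¹ := by
    rw [hg, mul_inv_rev a b, hb', ha', ← mul_assoc a a, haa, one_mul]
  have hodd := odd_centralizer hΩ hp2 h2 hC hno ha hb ho ho' hne
  have hpC := dvd_centralizer hΩ hp2 h2 hC hno ha hb ho ho' hne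
  have hag : a * g⁻¹ * a⁻¹ = g := by rw [← conj_inv, hai, inv_inv]
  have haC' : ∀ c ∈ C, a * c * a⁻¹ ∈ C := by
    intro c hc
    rw [hCdef, Subgroup.mem_centralizer_singleton_iff] at hc ⊢
    have hc' : c * g⁻¹ = g⁻¹ * c := (show Commute c g from hc).inv_right.eq
    calc a * c * a⁻¹ * g = a * c * a⁻¹ * (a * g⁻¹ * a⁻¹) := by rw [hag]
      _ = a * (c * g⁻¹) * a⁻¹ := by group
      _ = a * (g⁻¹ * c) * a⁻¹ := by rw [hc']
      _ = a * g⁻¹ * a⁻¹ * (a * c * a⁻¹) := by group
      _ = g * (a * c * a⁻¹) := by rw [hag]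
  have haC : a ∈ Subgroup.normalizer (C : Set G) :=
    Subgroup.mem_normalizer_iff.mpr fun c => ⟨haC' c, fun h => by
      have h2 := haC' _ h
      rwa [show a * (a * c * a⁻¹) * a⁻¹ = (a * a) * c * (a * a)⁻¹ by group, haa, one_mul, inv_one,
        mul_one] at h2⟩
  haveI : Fact (Nat.Prime 2) := ⟨Nat.prime_two⟩
  set A := Subgroup.zpowers a with hA
  obtain ⟨W, hW⟩ := CfsgLib.Coprime.exists_invariant_sylow (p := p) (A := A) (K := C)
    (Subgroup.zpowers_le.mpr haC)
    (by rw [hA, Nat.card_zpowers, ha]; exact Nat.coprime_two_left.mpr hodd) (Or.inl inferInstance)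
  have hWp : IsPGroup p ((W : Subgroup C).map C.subtype) := W.isPGroup'.map _
  obtain ⟨w, hw⟩ := exists_prime_orderOf_dvd_card' (G := (W : Subgroup C)) p (by
    rw [W.card_eq_multiplicity]
    exact dvd_pow_self p (hp.factorization_pos_of_dvd Nat.card_pos.ne' hpC).ne')
  set z : G := ((w : C) : G) with hz
  have hzord : orderOf z = p := by rw [hz, Subgroup.orderOf_coe, Subgroup.orderOf_coe, hw]
  have hz1 : z ≠ 1 := fun h => hp.ne_one (by rw [← hzord, h, orderOf_one])
  have hzW : z ∈ (W : Subgroup C).map C.subtype := ⟨(w : C), w.2, rfl⟩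
  have hzinv : a * z * a⁻¹ = z⁻¹ := inverts hC hWp ha (hW (Subgroup.mem_zpowers a)) hzW
  obtain ⟨P, hP⟩ := hWp.exists_le_sylow
  obtain ⟨Q, hQ⟩ := exists_abelian_sylow hC (hP hzW) hz1 ha hzinv
  set D := Subgroup.centralizer ({z} : Set G) with hD
  have hPD : (P : Subgroup G) ≤ D := fun x hx =>
    Subgroup.mem_centralizer_singleton_iff.mpr (sylow_comm h2 hC hno P x hx z (hP hzW))
  have hDodd : Odd (Nat.card D) := hC z hz1 ⟨1, by rw [hzord, pow_one]⟩
  have hDN := sylow_normal_in hΩ h2 hC hno P (CfsgLib.FT.isSolvable_of_odd hDodd) hPD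
  have hgD : g ∈ D := by
    rw [hD, Subgroup.mem_centralizer_singleton_iff]
    exact ((Subgroup.mem_centralizer_singleton_iff (g := g)).mp (w : C).2).symm
  -- `a` normalizes `P`
  have haP : a ∈ Subgroup.normalizer ((P : Subgroup G) : Set G) := by
    have haD : ∀ x : G, x ∈ D → a * x * a⁻¹ ∈ D := by
      intro x hx
      rw [hD, Subgroup.mem_centralizer_singleton_iff]
      refine mul_inv_eq_iff_eq_mul.mp ?_
      have hxz : x * z⁻¹ * x⁻¹ = z⁻¹ := by
        rw [← conj_inv, mul_inv_eq_iff_eq_mul.mpr (Subgroup.mem_centralizer_singleton_iff.mp hx)]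
      have hzz : a * z⁻¹ * a⁻¹ = z := by rw [← conj_inv, hzinv, inv_inv]
      calc a * x * a⁻¹ * z * (a * x * a⁻¹)⁻¹ = a * (x * (a⁻¹ * z * a) * x⁻¹) * a⁻¹ := by group
        _ = a * (x * z⁻¹ * x⁻¹) * a⁻¹ := by rw [ha', ← hzinv, ha']
        _ = z := by rw [hxz, hzz]
    have haP' : ∀ y ∈ (P : Subgroup G), a * y * a⁻¹ ∈ (P : Subgroup G) := by
      intro y hy
      have hyD : a * y * a⁻¹ ∈ D := haD y (hPD hy)
      have hyp : IsPGroup p (Subgroup.zpowers (a * y * a⁻¹)) := by
        obtain ⟨k, hk⟩ := exists_pow_eq_of_mem_pGroup P.isPGroup' hy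
        refine IsPGroup.of_card (n := k) ?_
        rw [Nat.card_zpowers, ← hk]
        exact MulEquiv.orderOf_eq (MulAut.conj a) y
      have := P.is_maximal' (hyp.to_sup_of_normal_right' P.isPGroup'
        (Subgroup.zpowers_le.mpr (hDN hyD))) le_sup_right
      exact this ▸ Subgroup.mem_sup_left (Subgroup.mem_zpowers (a * y * a⁻¹))
    exact Subgroup.mem_normalizer_iff.mpr fun c => ⟨haP' c, fun h => by
      have h2 := haP' _ h
      rwa [show a * (a * c * a⁻¹) * a⁻¹ = (a * a) * c * (a * a)⁻¹ by group, haa, one_mul, inv_one,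
        mul_one] at h2⟩
  have hinvP : ∀ q ∈ (P : Subgroup G), a * q * a⁻¹ = q⁻¹ := fun q hq =>
    inverts hC P.isPGroup' ha haP hq
  -- `g * g` centralizes `P`, hence lies in it
  have hgN : g ∈ Subgroup.normalizer ((P : Subgroup G) : Set G) := hDN hgD
  have hcent : ∀ q ∈ (P : Subgroup G), g * g * q = q * (g * g) := by
    intro q hq
    have hq' : g * q * g⁻¹ ∈ (P : Subgroup G) := (Subgroup.mem_normalizer_iff.mp hgN q).mp hq
    have h1 := hinvP _ hq'
    rw [show a * (g * q * g⁻¹) * a⁻¹ = (a * g * a⁻¹) * (a * q * a⁻¹) * (a * g * a⁻¹)⁻¹ by group,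
      hai, hinvP q hq] at h1
    have h2 : g * q * g⁻¹ = g⁻¹ * q * g := by
      have h3 := congrArg Inv.inv h1
      simpa [mul_assoc] using h3.symm
    calc g * g * q = g * (g * q * g⁻¹) * g := by group
      _ = g * (g⁻¹ * q * g) * g := by rw [h2]
      _ = q * (g * g) := by group
  obtain ⟨q, hq, hqo⟩ := sylow_transitive hΩ P o ((g * g) • o)
  have hgq : g * g = q := by
    refine FaithfulSMul.eq_of_smul_eq_smul (α := Ω) fun x => ?_
    obtain ⟨s, hs, rfl⟩ := sylow_transitive hΩ P o x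
    rw [← mul_smul, hcent s hs, mul_smul, ← hqo, ← mul_smul, ← mul_smul,
      sylow_comm h2 hC hno P s hs q hq]
  obtain ⟨j, hj⟩ := exists_pow_sq (odd_orderOf_mul hΩ hp2 h2 hC hno ha hb ho ho' hne)
  refine exists_pow_eq_of_mem_pGroup P.isPGroup' ?_
  rw [show g = (g * g) ^ j by rw [← sq, ← pow_mul, two_mul, pow_add]; exact hj.symm, hgq]
  exact pow_mem hq j

include hr hΩ h2 hp2 hC hno in
/-- An involution is determined by its fixed point, and all of them normalize one Sylow subgroup. -/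
theorem exists_translations : ∃ (Q : Sylow p G) (t : G) (o : Ω), orderOf t = 2 ∧ t • o = o ∧
    t ∈ Subgroup.normalizer ((Q : Subgroup G) : Set G) ∧
    ∀ v : G, orderOf v = 2 → ∃ q ∈ (Q : Subgroup G), v = q * t * q⁻¹ := by
  classical
  obtain ⟨P⟩ : Nonempty (Sylow p G) := inferInstance
  obtain ⟨z, t, hz, hz1, ht, htz⟩ := exists_inverted hC h2 hno P
  obtain ⟨Q, hQ⟩ := exists_abelian_sylow hC hz hz1 ht htz
  obtain ⟨o, ho⟩ := exists_fixed (G := G) (Ω := Ω) hΩ hp2 ht
  refine ⟨Q, t, o, ht, ho, hQ, fun v hv => ?_⟩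
  obtain ⟨w, hw⟩ := exists_fixed hΩ hp2 hv
  obtain ⟨q₀, hq₀, rfl⟩ := sylow_transitive hΩ Q o w
  refine ⟨q₀, hq₀, ?_⟩
  refine FaithfulSMul.eq_of_smul_eq_smul (α := Ω) fun x => ?_
  obtain ⟨s, hs, rfl⟩ := sylow_transitive hΩ Q o x
  obtain ⟨s', hs', hs'o⟩ := sylow_transitive hΩ Q o (v • (s • o))
  -- a midpoint
  obtain ⟨q, hq, hqq⟩ : ∃ q ∈ (Q : Subgroup G), q * q = s * s' := by
    obtain ⟨k, hk⟩ := exists_pow_eq_of_mem_pGroup Q.isPGroup' (mul_mem hs hs')
    obtain ⟨j, hj⟩ := exists_pow_sq (d := s * s')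
      (hk ▸ ((Fact.out : p.Prime).odd_of_ne_two hp2).pow)
    exact ⟨_, pow_mem (mul_mem hs hs') j, hj⟩
  have hcom := sylow_comm h2 hC hno Q
  have hmap : ∀ a b : G, a ∈ (Q : Subgroup G) → b ∈ (Q : Subgroup G) →
      (a * t * a⁻¹) • (b • o) = (a * a * b⁻¹) • o := by
    intro a b ha hb
    have h1 := inverts hC Q.isPGroup' ht hQ (mul_mem (inv_mem ha) hb)
    rw [← mul_smul, show a * t * a⁻¹ * b = a * (t * (a⁻¹ * b) * t⁻¹) * t by group, h1,
      mul_inv_rev, inv_inv, mul_smul, ho, hcom _ (inv_mem hb) a ha, ← mul_assoc]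
  have hfix : (q * t * q⁻¹) • (q • o) = q • o := by
    rw [hmap q q hq hq, mul_inv_cancel_right]
  have hy : (q * t * q⁻¹) • (s • o) = v • (s • o) := by
    rw [hmap q s hq hs, hqq, hcom s hs s' hs', mul_inv_cancel_right, hs'o]
  have hord : orderOf (q * t * q⁻¹) = 2 := ht ▸ MulEquiv.orderOf_eq (MulAut.conj q) t
  have heq : q • o = q₀ • o := by
    by_contra hne
    obtain ⟨k, hk⟩ := pow_eq_mul hΩ hp2 h2 hC hno hord hv hfix hw hne
    have hfixs : ((q * t * q⁻¹) * v) • (s • o) = s • o := by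
      rw [mul_smul, ← hy, ← mul_smul, ← sq, ← hord, pow_orderOf_eq_one, one_smul]
    have h1 := mul_eq_one_iff_eq_inv.mp (free hΩ h2 hC hno ⟨k, hk⟩ hfixs)
    exact hne (fix_unique hΩ hp2 h2 hC hno hord hfix
      (by rw [h1, inv_eq_self_of_orderOf_two hv, hw]))
  have hqq₀ : q = q₀ := by
    have h1 : q₀⁻¹ * q = 1 := sylow_free hΩ h2 hC hno Q (mul_mem (inv_mem hq₀) hq)
      (show (q₀⁻¹ * q) • o = o by rw [mul_smul, heq, inv_smul_smul])
    exact (inv_mul_eq_one.mp h1).symm
  rw [← hy, hqq₀]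

include hr hΩ h2 hp2 hC hno in
/-- The Sylow `p`-subgroup is normal, and `G` has a character of `2`-defect zero. -/
theorem main : IsPSolvable p G ∧ ∃ χ : IrrCharacter G,
    (charDegree (χ : G → ℂ)).factorization 2 = (Nat.card G).factorization 2 := by
  classical
  have hp : p.Prime := Fact.out
  obtain ⟨Q, t, o, ht, ho, hQ, hall⟩ := exists_translations (Ω := Ω) hr hΩ hp2 h2 hC hno
  have hti := inv_eq_self_of_orderOf_two ht
  have htt : t * t = 1 := by rw [← sq, ← ht, pow_orderOf_eq_one]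
  have hnorm : (Q : Subgroup G).Normal := by
    refine ⟨fun q hq g => ?_⟩
    obtain ⟨k, hk⟩ := exists_pow_eq_of_mem_pGroup Q.isPGroup' hq
    obtain ⟨j, hj⟩ := exists_pow_sq (d := q) (hk ▸ (hp.odd_of_ne_two hp2).pow)
    set e := q ^ j with he
    have heQ : e ∈ (Q : Subgroup G) := pow_mem hq j
    have hinv := inverts hC Q.isPGroup' ht hQ heQ
    have hq2 : q = (e * t * e⁻¹) * t := by
      have h1 : t * e⁻¹ * t⁻¹ = e := by rw [← conj_inv, hinv, inv_inv]
      rw [show e * t * e⁻¹ * t = e * (t * e⁻¹ * t) by group]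
      rw [hti] at h1
      rw [h1, hj]
    obtain ⟨q₁, hq₁, h1⟩ := hall (g * (e * t * e⁻¹) * g⁻¹) (by
      rw [← ht]
      exact (MulEquiv.orderOf_eq (MulAut.conj g) _).trans (MulEquiv.orderOf_eq (MulAut.conj e) t))
    obtain ⟨q₂, hq₂, h2'⟩ := hall (g * t * g⁻¹) (ht ▸ MulEquiv.orderOf_eq (MulAut.conj g) t)
    rw [hq2, show g * (e * t * e⁻¹ * t) * g⁻¹ = (g * (e * t * e⁻¹) * g⁻¹) * (g * t * g⁻¹) by group,
      h1, h2']
    have h3 : q₁⁻¹ * q₂ ∈ (Q : Subgroup G) := mul_mem (inv_mem hq₁) hq₂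
    rw [show q₁ * t * q₁⁻¹ * (q₂ * t * q₂⁻¹) = q₁ * (t * (q₁⁻¹ * q₂) * t) * q₂⁻¹ by group,
      show t * (q₁⁻¹ * q₂) * t = t * (q₁⁻¹ * q₂) * t⁻¹ by rw [hti],
      inverts hC Q.isPGroup' ht hQ h3]
    exact mul_mem (mul_mem hq₁ (inv_mem h3)) (inv_mem hq₂)
  constructor
  · refine ⟨2, ![⊥, (Q : Subgroup G), ⊤], rfl, rfl, ?_, ?_, ?_⟩
    · intro i j hij
      fin_cases i <;> fin_cases j <;> simp_all
    · intro i
      fin_cases i <;> first | exact Subgroup.normal_bot | exact hnorm | exact Subgroup.normal_top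
    · intro i
      fin_cases i
      · exact Or.inl ⟨_, (Subgroup.relIndex_bot_left _).trans Q.card_eq_multiplicity⟩
      · refine Or.inr ?_
        show ((Q : Subgroup G).relIndex ⊤).Coprime p
        rw [Subgroup.relIndex_top_right]
        exact (hp.coprime_iff_not_dvd.mpr Q.not_dvd_index).symm
  · haveI : Fact (Nat.Prime 2) := ⟨Nat.prime_two⟩
    haveI := Fintype.ofFinite G
    obtain ⟨S⟩ : Nonempty (Sylow 2 G) := inferInstance
    -- a nontrivial element of `Q`
    haveI : Nontrivial Ω := Finite.one_lt_card_iff_nontrivial.mp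
      (hΩ ▸ Nat.one_lt_pow (by omega) hp.one_lt)
    obtain ⟨x, hx⟩ := exists_ne o
    obtain ⟨z, hz, hzx⟩ := sylow_transitive hΩ Q o x
    have hz1 : z ≠ 1 := by rintro rfl; exact hx (by rw [← hzx, one_smul])
    obtain ⟨χ, hχ⟩ := exists_pow_dvd_degree Nat.prime_two z (S : Subgroup G) _ 0
      S.card_eq_multiplicity
      (Nat.factorization_eq_zero_of_not_dvd
        (hC z hz1 (exists_pow_eq_of_mem_pGroup Q.isPGroup' hz)).not_two_dvd_nat)
      (fun g k hg hk hm => by
        have hmem : ∀ {y : G}, IsConj z y → y ∈ (Q : Subgroup G) := fun hy => by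
          obtain ⟨c, rfl⟩ := isConj_iff.mp hy
          exact hnorm.conj_mem z hz c
        have hQS := Subgroup.inf_eq_bot_of_coprime (H := (Q : Subgroup G)) (K := (S : Subgroup G))
          (by
            rw [Q.card_eq_multiplicity, S.card_eq_multiplicity]
            exact Nat.Coprime.pow _ _ ((Nat.coprime_primes hp Nat.prime_two).mpr hp2))
        exact (Subgroup.eq_bot_iff_forall _).mp hQS _
          (Subgroup.mem_inf.mpr ⟨mul_mem (hmem hg) (inv_mem (hmem hk)), hm⟩))
    refine ⟨χ, le_antisymm (factorization_degree_le χ 2) ?_⟩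
    rw [Nat.sub_zero] at hχ
    exact (Nat.prime_two.pow_dvd_iff_le_factorization (deg_pos χ).ne').mp hχ

end Action

end CfsgLib.CharApps.RegularOdd
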