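import Cfsg.Agent.Lib.CharsMore.Extend
import Cfsg.Agent.Lib.CharsMore.CliffordDegree
import Cfsg.Agent.Lib.Blocks.Covering
import Cfsg.Agent.Lib.Blocks.NormalPPrime
import Cfsg.Agent.Lib.Chars.Linear
import Cfsg.Prelude.Def_DegreeGraph
import Mathlib.LinearAlgebra.Matrix.Block
import Mathlib.Combinatorics.SimpleGraph.Connectivity.Connected

/-!
# Components of the relative degree graph over a subgroup that is not perfect
-/

set_option autoImplicit false
set_option linter.unusedSectionVars false
set_option linter.style.haveILetI false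

namespace CfsgLib.CharApps.RelComp

open Cfsg CfsgLib.Chars CfsgLib.CharsMore Module
open scoped ComplexConjugate

universe u

variable {G : Type u} [Group G] [Fintype G] (N : Subgroup G) [hN : N.Normal] [Fintype N]

/-- `χ` lies over `θ`. -/
def Over (χ : IrrCharacter G) (θ : N → ℂ) : Prop :=
  classInner (fun n : N => (χ : G → ℂ) n) θ ≠ 0

theorem exists_over (θ : IrrCharacter N) : ∃ χ : IrrCharacter G, Over N χ (θ : N → ℂ) :=
  Blocks.exists_character_over N θ

theorem exists_below (χ : IrrCharacter G) : ∃ θ : IrrCharacter N, Over N χ (θ : N → ℂ) :=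
  Blocks.exists_constituent_restrict N χ

/-- The degree splits as multiplicity, orbit length and degree below. -/
theorem deg_over {χ : IrrCharacter G} {θ : IrrCharacter N} (h : Over N χ (θ : N → ℂ)) :
    ∃ e : ℕ, 0 < e ∧ classInner (fun n : N => (χ : G → ℂ) n) (θ : N → ℂ) = (e : ℂ) ∧
      charDegree (χ : G → ℂ) =
        e * (inertia N (θ : N → ℂ)).index * charDegree (θ : N → ℂ) := by
  obtain ⟨e, he⟩ := inner_char_nat (isCharacter_restrict N (isCharacter_of_irr χ.2))
    (isCharacter_of_irr θ.2)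
  refine ⟨e, Nat.pos_of_ne_zero fun h0 => h (by rw [he, h0, Nat.cast_zero]), he, ?_⟩
  have hd := clifford_degree N χ.2 θ.2 h
  rw [he, CharApps.deg_eq, CharApps.deg_eq] at hd
  exact_mod_cast hd

/-- Above a nontrivial constituent the kernel does not contain `N`. -/
theorem mem_rel {χ : IrrCharacter G} {θ : IrrCharacter N} (h : Over N χ (θ : N → ℂ))
    (hθ : (θ : N → ℂ) ≠ fun _ => 1) : charDegree (χ : G → ℂ) ∈ relCharDegrees N := by
  refine ⟨χ, ?_, rfl⟩
  by_contra hno
  push Not at hno
  refine h ?_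
  rw [show (fun n : N => (χ : G → ℂ) n) = (χ : G → ℂ) 1 • ((principal N : IrrCharacter N) : N → ℂ)
    from funext fun n => (hno n n.2).trans (mul_one _).symm, Chars.inner_smul_left,
    inner_irr_ne (fun e => hθ (by rw [← e]; rfl)), mul_zero]

/-- A member of the relative degree set has a nontrivial constituent. -/
theorem below_ne_one {χ : IrrCharacter G} {θ : IrrCharacter N} (h : Over N χ (θ : N → ℂ))
    (hχ : ∃ x ∈ N, (χ : G → ℂ) x ≠ (χ : G → ℂ) 1) : (θ : N → ℂ) ≠ fun _ => 1 := by
  intro hθ
  obtain ⟨x, hx, hne⟩ := hχ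
  refine hne ?_
  have hinv : ∀ g n, (θ : N → ℂ) (conjBy N g n) = (θ : N → ℂ) n := fun g n => by rw [hθ]
  have key := restrict_eq_mul_of_invariant N χ.2 θ.2 hinv h
  have e1 := key ⟨x, hx⟩
  have e2 := key 1
  rw [hθ] at e1 e2
  rw [OneMemClass.coe_one] at e2
  exact e1.trans e2.symm

/-- The product of the determinants along the orbit is killed by the multiplicity. -/
theorem det_orbit (hNG : N ≤ commutator G) {d : ℕ} (ρ : Representation ℂ N (Fin d → ℂ))
    [ρ.IsIrreducible] (hρ : IsIrrCharacter N ρ.character) {χ : IrrCharacter G} {e : ℕ}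
    (he : classInner (fun n : N => (χ : G → ℂ) n) ρ.character = (e : ℂ)) (he0 : 0 < e) :
    ∃ g : ↥(orbitFn N ρ.character) → G, ∀ n : N,
      (∏ x, detHom ρ (conjBy N (g x) n)) ^ e = 1 := by
  classical
  have hg : ∀ x : ↥(orbitFn N ρ.character), ∃ g, conjFn N g ρ.character = (x : N → ℂ) :=
    fun x => (mem_orbitFn N).1 x.2
  choose g hg using hg
  refine ⟨g, fun n => ?_⟩
  let A : N → Matrix (Fin d × (Fin e × ↥(orbitFn N ρ.character))) (Fin d × (Fin e × ↥(orbitFn N ρ.character))) ℂ := fun m =>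
    Matrix.blockDiagonal fun i => LinearMap.toMatrix' (ρ (conjBy N (g i.2) m))
  let σ : Representation ℂ N (Fin d × (Fin e × ↥(orbitFn N ρ.character)) → ℂ) :=
    { toFun := fun m => Matrix.toLin' (A m)
      map_one' := by
        have : A 1 = 1 := by
          simp only [A, map_one, Module.End.one_eq_id, LinearMap.toMatrix'_id]
          exact Matrix.blockDiagonal_one
        rw [this, Matrix.toLin'_one]; rfl
      map_mul' := fun a b => by
        have : A (a * b) = A a * A b := by
          simp only [A, map_mul, Module.End.mul_eq_comp, LinearMap.toMatrix'_comp]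
          exact Matrix.blockDiagonal_mul _ _
        rw [this, Matrix.toLin'_mul, Module.End.mul_eq_comp] }
  obtain ⟨m, R, hR, hRc⟩ := χ.2
  have hRc' : R.character = (χ : G → ℂ) := hRc
  have hσc : σ.character = (Representation.character (R.comp N.subtype : Representation ℂ N _)) := by
    funext k
    have h1 : σ.character k = ∑ i : Fin e × ↥(orbitFn N ρ.character), ((i.2 : N → ℂ)) k := by
      show LinearMap.trace ℂ _ (Matrix.toLin' (A k)) = _
      rw [Matrix.trace_toLin'_eq, Matrix.trace_blockDiagonal]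
      refine Finset.sum_congr rfl fun i _ => ?_
      rw [← hg i.2, ← Matrix.trace_toLin'_eq, Matrix.toLin'_toMatrix']
      rfl
    have h2 := congrFun (clifford N χ.2 hρ (by rw [he]; exact Nat.cast_ne_zero.2 he0.ne')) k
    rw [h1, Fintype.sum_prod_type]
    simp only [Finset.sum_const, Finset.card_univ, Fintype.card_fin]
    rw [nsmul_eq_mul, Finset.sum_coe_sort (orbitFn N ρ.character) fun ψ : N → ℂ => ψ k]
    rw [he] at h2
    simp only [Pi.smul_apply, Finset.sum_apply, smul_eq_mul] at h2
    rw [← h2, ← hRc']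
    rfl
  obtain ⟨f⟩ := Chars.equiv_of_character_eq σ (R.comp N.subtype : Representation ℂ N _) hσc
  have hd := congrArg (fun F : N →* ℂˣ => F n) (CharsMore.detHom_eq_of_equiv f)
  have hR1 : detHom (R.comp N.subtype : Representation ℂ N _) n = 1 := by
    refine Eq.trans (show _ = detHom R n from Units.ext rfl) ?_
    exact (Abelianization.commutator_subset_ker (detHom R)) (hNG n.2)
  have hσd : detHom σ n = (∏ x, detHom ρ (conjBy N (g x) n)) ^ e := by
    refine Units.ext ?_
    rw [coe_detHom, Units.val_pow_eq_pow_val, Units.coe_prod]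
    show LinearMap.det (Matrix.toLin' (A n)) = _
    rw [LinearMap.det_toLin', Matrix.det_blockDiagonal, Fintype.prod_prod_type]
    simp only [Finset.prod_const, Finset.card_univ, Fintype.card_fin]
    refine congrArg (fun z : ℂ => z ^ e) (Finset.prod_congr rfl fun x _ => ?_)
    rw [LinearMap.det_toMatrix', coe_detHom]
  rw [← hσd, ← hd, hR1]

variable {r : ℕ}

/-- A nontrivial linear character of `r`-power order. -/
structure IsRLin (r : ℕ) (l : N →* ℂˣ) : Prop where
  ne : l ≠ 1
  pow : ∃ k, l ^ r ^ k = 1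

/-- The linear character as an irreducible one. -/
noncomputable def linIrr (l : N →* ℂˣ) : IrrCharacter N := ⟨linFun l, isIrrCharacter_linFun l⟩

theorem linFun_ne_one {l : N →* ℂˣ} (h : l ≠ 1) : linFun l ≠ fun _ => 1 := fun e =>
  h (linFun_injective (e.trans linFun_one.symm))

theorem deg_linIrr (l : N →* ℂˣ) : charDegree (linIrr N l : N → ℂ) = 1 := by
  rw [← CharApps.deg_eq_one_iff]
  simp [linIrr, linFun]

theorem mem_inertia_lin {l : N →* ℂˣ} {g : G} :
    g ∈ inertia N (linFun l) ↔ ∀ n, l (conjBy N g n) = l n := by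
  rw [mem_inertia]
  exact forall_congr' fun n => Units.val_inj

/-- The orbit length divides every degree above. -/
theorem index_dvd_deg {χ : IrrCharacter G} {θ : IrrCharacter N} (h : Over N χ (θ : N → ℂ)) :
    (inertia N (θ : N → ℂ)).index ∣ charDegree (χ : G → ℂ) := by
  obtain ⟨e, -, -, hd⟩ := deg_over N h
  exact ⟨e * charDegree (θ : N → ℂ), by rw [hd]; ring⟩

theorem theta_deg_dvd {χ : IrrCharacter G} {θ : IrrCharacter N} (h : Over N χ (θ : N → ℂ)) :
    charDegree (θ : N → ℂ) ∣ charDegree (χ : G → ℂ) := by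
  obtain ⟨e, -, -, hd⟩ := deg_over N h
  exact Dvd.intro_left _ hd.symm

/-- The decomposition of a character of degree prime to `r`. -/
theorem exists_split [hr : Fact r.Prime] {θ : IrrCharacter N} {d : ℕ}
    (ρ : Representation ℂ N (Fin d → ℂ)) [ρ.IsIrreducible] (hρ : ρ.character = (θ : N → ℂ))
    (hd : ¬ r ∣ d) :
    ∃ (l : N →* ℂˣ) (k s : ℕ), l ^ r ^ k = 1 ∧ ¬ r ∣ s ∧ (detHom ρ * (l ^ d)⁻¹) ^ s = 1 ∧
      ∀ g, g ∈ inertia N (θ : N → ℂ) → g ∈ inertia N (linFun l) := by
  have hr' : r.Prime := hr.out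
  set K := (Nat.card N).factorization r
  set s := Nat.card N / r ^ K
  have hs : ¬ r ∣ s := Nat.not_dvd_ordCompl hr' Nat.card_pos.ne'
  have hKs : r ^ K * s = Nat.card N := Nat.ordProj_mul_ordCompl_eq_self _ _
  have hcd : Nat.Coprime (d * s) (r ^ K) :=
    (Nat.Coprime.mul_left ((hr'.coprime_iff_not_dvd.2 hd).symm)
      ((hr'.coprime_iff_not_dvd.2 hs).symm)).pow_right K
  obtain ⟨v, -, hv⟩ := Nat.exists_mul_mod_eq_of_coprime 1 hcd (pow_ne_zero K hr'.ne_zero)
  set δ := detHom ρ
  have hδN : δ ^ Nat.card N = 1 := MonoidHom.ext fun n => by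
    rw [MonoidHom.pow_apply, ← map_pow, pow_card_eq_one', map_one]; rfl
  refine ⟨δ ^ (s * v), K, s, ?_, hs, ?_, fun g hg => ?_⟩
  · refine MonoidHom.ext fun n => ?_
    have h0 : δ n ^ Nat.card N = 1 := by rw [← MonoidHom.pow_apply, hδN]; rfl
    simp only [MonoidHom.pow_apply, MonoidHom.one_apply]
    rw [← pow_mul, show s * v * r ^ K = Nat.card N * v by rw [← hKs]; ring, pow_mul, h0, one_pow]
  · refine MonoidHom.ext fun n => ?_
    have h0 : δ n ^ Nat.card N = 1 := by rw [← MonoidHom.pow_apply, hδN]; rfl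
    have h1 : δ n ^ s = ((δ n ^ (s * v)) ^ d) ^ s := by
      have hmod : d * s * v * s ≡ 1 * s [MOD r ^ K * s] := Nat.ModEq.mul_right' s hv
      rw [one_mul, hKs] at hmod
      rw [← pow_mul, ← pow_mul, show s * v * (d * s) = d * s * v * s by ring]
      exact (pow_eq_pow_iff_modEq (x := δ n)).2 (Nat.ModEq.of_dvd (orderOf_dvd_of_pow_eq_one h0)
        hmod.symm)
    simp only [MonoidHom.pow_apply, MonoidHom.mul_apply, MonoidHom.inv_apply, MonoidHom.one_apply]
    rw [mul_pow, inv_pow, h1, mul_inv_cancel]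
  · refine (mem_inertia_lin N).2 fun n => ?_
    have hg' := (mem_inertia N).1 hg
    obtain ⟨f⟩ := CharsMore.equiv_of_character_eq ρ
      (ρ.comp (conjBy N g) : Representation ℂ N _) (funext fun m => by
        show ρ.character m = ρ.character (conjBy N g m)
        rw [hρ]; exact (hg' m).symm)
    have h2 := congrArg (fun F : N →* ℂˣ => F n) (CharsMore.detHom_eq_of_equiv f)
    have h3 : δ (conjBy N g n) = δ n :=
      Eq.trans (show _ = detHom (ρ.comp (conjBy N g) : Representation ℂ N _) n from Units.ext rfl) h2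
    rw [MonoidHom.pow_apply, MonoidHom.pow_apply, h3]

theorem lin_pow_eq_one [hr : Fact r.Prime] {l : N →* ℂˣ} {k s : ℕ} (hk : l ^ r ^ k = 1)
    (hs : ¬ r ∣ s) (h : l ^ s = 1) : l = 1 := by
  refine MonoidHom.ext fun n => ?_
  rw [MonoidHom.one_apply, ← orderOf_eq_one_iff]
  exact Nat.eq_one_of_dvd_coprimes ((Nat.Prime.coprime_iff_not_dvd hr.out).2 hs |>.pow_left k)
    (orderOf_dvd_of_pow_eq_one (by rw [← MonoidHom.pow_apply, hk]; rfl))
    (orderOf_dvd_of_pow_eq_one (by rw [← MonoidHom.pow_apply, h]; rfl))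

/-- Twisting an irreducible character by a linear one. -/
noncomputable def twist (l : N →* ℂˣ) (θ : IrrCharacter N) : IrrCharacter N :=
  ⟨fun n => (l n : ℂ) * (θ : N → ℂ) n, isIrrCharacter_linear_mul l θ.2⟩

/-- Two moved linear characters with coprime orbit lengths: the orbit of the product shares a
divisor with each. -/
theorem orbit_mul [hr : Fact r.Prime] {x y : N →* ℂˣ} {k : ℕ} (hxr : x ^ r ^ k = 1)
    (hx : (inertia N (linFun x)).index ≠ 1) (hy : ¬ r ∣ (inertia N (linFun y)).index) :
    ¬ Nat.Coprime (inertia N (linFun x)).index (inertia N (linFun y)).index ∨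
    ¬ Nat.Coprime (inertia N (linFun (x * y))).index (inertia N (linFun x)).index := by
  classical
  by_contra hno
  push Not at hno
  obtain ⟨hcop, hox⟩ := hno
  set Ix := inertia N (linFun x)
  set Iy := inertia N (linFun y)
  set J := inertia N (linFun (x * y))
  set D := Ix ⊓ Iy
  have hDJ : D ≤ J := fun g hg => (mem_inertia_lin N).2 fun n => by
    rw [MonoidHom.mul_apply, MonoidHom.mul_apply, (mem_inertia_lin N).1 hg.1,
      (mem_inertia_lin N).1 hg.2]
  have hJx : J ⊓ Ix ≤ D := fun g hg => ⟨hg.2, (mem_inertia_lin N).2 fun n => by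
    have h := (mem_inertia_lin N).1 hg.1 n
    rw [MonoidHom.mul_apply, MonoidHom.mul_apply, (mem_inertia_lin N).1 hg.2] at h
    exact mul_left_cancel h⟩
  have hD : D.index = Ix.index * Iy.index := by
    refine le_antisymm (Subgroup.index_inf_le ..) (Nat.le_of_dvd
      (Nat.pos_of_ne_zero Subgroup.index_ne_zero_of_finite) ?_)
    exact hcop.mul_dvd_of_dvd_of_dvd (Subgroup.index_dvd_of_le inf_le_left)
      (Subgroup.index_dvd_of_le inf_le_right)
  have ho : J.index ∣ Iy.index := by
    have h := Subgroup.index_dvd_of_le hDJ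
    rw [hD] at h
    exact hox.dvd_of_dvd_mul_left h
  have hle : Iy.index ≤ J.index := by
    have e : D.relIndex Ix * Ix.index = D.index := Subgroup.relIndex_mul_index inf_le_left
    have h1 : D.relIndex Ix = Iy.index := by
      rw [hD, mul_comm Ix.index] at e
      exact Nat.eq_of_mul_eq_mul_right (Nat.pos_of_ne_zero Subgroup.index_ne_zero_of_finite) e
    rw [← h1, ← Subgroup.relIndex_top_right J]
    refine le_trans (le_of_eq ?_) (Subgroup.relIndex_le_of_le_right (K := Ix) le_top
      (by rw [Subgroup.relIndex_top_right]; exact Subgroup.index_ne_zero_of_finite))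
    rw [← Subgroup.inf_relIndex_right J Ix]
    congr 1
    exact le_antisymm (le_inf hDJ inf_le_left) hJx
  have hoy : J.index = Iy.index :=
    le_antisymm (Nat.le_of_dvd (Nat.pos_of_ne_zero Subgroup.index_ne_zero_of_finite) ho) hle
  have hmul : ∀ g, conjFn N g (linFun (x * y)) = conjFn N g (linFun x) * conjFn N g (linFun y) :=
    fun g => funext fun n => by simp [conjFn, linFun]
  -- the orbit of the product is a translate of the orbit of `y`
  have hcop' : ∀ g : G, ∃ i ∈ Ix, ∃ j ∈ Iy, g = j * i := by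
    intro g
    let f : Ix ⧸ Iy.subgroupOf Ix → G ⧸ Iy := Quotient.map' Subtype.val fun a b hab => by
      rw [QuotientGroup.leftRel_apply] at hab ⊢
      exact hab
    have hinj : Function.Injective f := by
      intro a b
      induction a using Quotient.inductionOn' with
      | h a => induction b using Quotient.inductionOn' with
        | h b =>
          intro hab
          exact QuotientGroup.eq.2 ((QuotientGroup.eq).1 hab :)
    have hcard : Nat.card (G ⧸ Iy) ≤ Nat.card (Ix ⧸ Iy.subgroupOf Ix) := by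
      rw [← Subgroup.index_eq_card, ← Subgroup.index_eq_card]
      refine le_of_eq ?_
      show Iy.index = Iy.relIndex Ix
      have e := Subgroup.relIndex_mul_index (inf_le_left : D ≤ Ix)
      rw [hD, mul_comm Ix.index] at e
      rw [← Subgroup.inf_relIndex_right Iy Ix, inf_comm]
      exact (Nat.eq_of_mul_eq_mul_right (Nat.pos_of_ne_zero Subgroup.index_ne_zero_of_finite) e).symm
    obtain ⟨i, hi⟩ := (hinj.bijective_of_nat_card_le hcard).2 (QuotientGroup.mk g⁻¹)
    induction i using Quotient.inductionOn' with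
    | h i =>
      have hgi : g * i ∈ Iy := by
        have h1 := inv_mem (QuotientGroup.eq.1 hi)
        simpa using h1
      exact ⟨(i : G)⁻¹, inv_mem i.2, g * i, hgi, by group⟩
  have hsub : (orbitFn N (linFun y)).image (fun w => linFun x * w) ⊆ orbitFn N (linFun (x * y)) := by
    intro w hw
    obtain ⟨v, hv, rfl⟩ := Finset.mem_image.1 hw
    obtain ⟨g, rfl⟩ := (mem_orbitFn N).1 hv
    obtain ⟨i, hi, j, hj, rfl⟩ := hcop' g
    refine (mem_orbitFn N).2 ⟨i, ?_⟩
    rw [hmul, conjFn_mul, show conjFn N j (linFun y) = linFun y from hj,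
      show conjFn N i (linFun x) = linFun x from hi]
  have hinj : ∀ a : N →* ℂˣ, Function.Injective fun w : N → ℂ => linFun a * w := fun a u v h =>
    funext fun n => mul_left_cancel₀ (Units.ne_zero (a n)) (congrFun h n)
  have heq : (orbitFn N (linFun y)).image (fun w => linFun x * w) = orbitFn N (linFun (x * y)) :=
    Finset.eq_of_subset_of_card_le hsub (by
      rw [Finset.card_image_of_injective _ (hinj x), card_orbitFn, card_orbitFn]; exact hoy.le)
  obtain ⟨g, hg⟩ : ∃ g, g ∉ Ix := by
    by_contra h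
    push Not at h
    exact hx (Subgroup.index_eq_one.2 (eq_top_iff.2 fun g _ => h g))
  set z : N →* ℂˣ := x.comp (conjBy N g) * x⁻¹
  have hperm : (orbitFn N (linFun y)).image (fun w => linFun z * w) = orbitFn N (linFun y) := by
    refine Finset.eq_of_subset_of_card_le (fun w hw => ?_)
      (by rw [Finset.card_image_of_injective _ (hinj z)])
    obtain ⟨v, hv, rfl⟩ := Finset.mem_image.1 hw
    obtain ⟨h', rfl⟩ := (mem_orbitFn N).1 hv
    have hm : conjFn N (h' * g⁻¹) (linFun y) ∈ orbitFn N (linFun y) := (mem_orbitFn N).2 ⟨_, rfl⟩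
    have h1 : linFun x * conjFn N (h' * g⁻¹) (linFun y) ∈ orbitFn N (linFun (x * y)) :=
      heq ▸ Finset.mem_image_of_mem _ hm
    obtain ⟨f, hf⟩ := (mem_orbitFn N).1 h1
    have h2 : conjFn N g (linFun x * conjFn N (h' * g⁻¹) (linFun y)) ∈ orbitFn N (linFun (x * y)) :=
      (mem_orbitFn N).2 ⟨f * g, by rw [conjFn_mul, hf]⟩
    rw [← heq] at h2
    obtain ⟨v', hv', he⟩ := Finset.mem_image.1 h2
    convert hv' using 1
    have he' : linFun x * v' = conjFn N g (linFun x) * conjFn N g (conjFn N (h' * g⁻¹) (linFun y)) :=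
      he.trans (funext fun n => rfl)
    rw [← conjFn_mul, inv_mul_cancel_right] at he'
    refine hinj x ?_
    simp only
    rw [he', ← mul_assoc]
    congr 1
    funext n
    simp [z, linFun, conjFn]
    field_simp
  have hprod : ∏ w ∈ orbitFn N (linFun y), w = ∏ w ∈ orbitFn N (linFun y), (linFun z * w) := by
    conv_lhs => rw [← hperm]
    rw [Finset.prod_image fun a _ b _ h => hinj z h]
  rw [Finset.prod_mul_distrib, Finset.prod_const, card_orbitFn] at hprod
  have hz1 : z ^ Iy.index = 1 := by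
    refine MonoidHom.ext fun n => Units.ext ?_
    have h := congrFun hprod n
    rw [Pi.mul_apply, Pi.pow_apply, Finset.prod_apply] at h
    have hne : ∏ w ∈ orbitFn N (linFun y), w n ≠ 0 := Finset.prod_ne_zero_iff.2 fun w hw => by
      obtain ⟨c, rfl⟩ := (mem_orbitFn N).1 hw
      exact Units.ne_zero (y (conjBy N c n))
    rw [MonoidHom.pow_apply, Units.val_pow_eq_pow_val]
    exact (mul_eq_right₀ hne).1 h.symm
  have hzr : z ^ r ^ k = 1 := MonoidHom.ext fun n => by
    have e : ∀ m, x m ^ r ^ k = 1 := fun m => by rw [← MonoidHom.pow_apply, hxr]; rfl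
    simp [z, mul_pow, inv_pow, e]
  have hz := lin_pow_eq_one N hzr hy hz1
  exact hg ((mem_inertia_lin N).2 fun n => by
    have h := congrArg (fun F : N →* ℂˣ => F n) hz
    simpa [z, mul_inv_eq_one] using h)

/-- The vertices. -/
abbrev Vert := {d : ℕ // d ∈ relCharDegrees N}

/-- Reachability in the common divisor graph. -/
def Reach (a b : Vert N) : Prop := (commonDivisorGraph.induce (relCharDegrees N)).Reachable a b

theorem reach_of_gcd {a b : Vert N} {d : ℕ} (hd : 1 < d) (ha : d ∣ a.1) (hb : d ∣ b.1) :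
    Reach N a b := by
  by_cases hab : a = b
  · exact hab ▸ SimpleGraph.Reachable.refl _
  refine SimpleGraph.Adj.reachable ⟨fun e => hab (Subtype.ext e), ?_⟩
  refine lt_of_lt_of_le hd (Nat.le_of_dvd ?_ (Nat.dvd_gcd ha hb))
  refine Nat.gcd_pos_of_pos_left _ ?_
  obtain ⟨χ, -, h⟩ := a.2
  show 0 < a.1
  rw [← h]
  exact CharApps.deg_pos χ

/-- A vertex lies over a linear character. -/
def OverLin (a : Vert N) (l : N →* ℂˣ) : Prop :=
  ∃ χ : IrrCharacter G, charDegree (χ : G → ℂ) = a.1 ∧ Over N χ (linFun l)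

theorem exists_vert {φ : IrrCharacter N} (hφ : (φ : N → ℂ) ≠ fun _ => 1) :
    ∃ a : Vert N, ∃ χ : IrrCharacter G, charDegree (χ : G → ℂ) = a.1 ∧ Over N χ (φ : N → ℂ) := by
  obtain ⟨χ, hχ⟩ := exists_over N φ
  exact ⟨⟨_, mem_rel N hχ hφ⟩, χ, rfl, hχ⟩

theorem overLin_index {a : Vert N} {l : N →* ℂˣ} (h : OverLin N a l) :
    (inertia N (linFun l)).index ∣ a.1 := by
  obtain ⟨χ, hχ, ho⟩ := h
  exact hχ ▸ index_dvd_deg N (θ := linIrr N l) ho

theorem overLin_invariant (hNG : N ≤ commutator G) [hr : Fact r.Prime] {a : Vert N} {l : N →* ℂˣ}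
    (hl : IsRLin N r l) (h : OverLin N a l) (hinv : (inertia N (linFun l)).index = 1) :
    r ∣ a.1 := by
  classical
  obtain ⟨χ, hχ, ho⟩ := h
  obtain ⟨e, he0, he, hdeg⟩ := deg_over N (θ := linIrr N l) ho
  rw [deg_linIrr, mul_one, show (inertia N (linIrr N l : N → ℂ)).index = 1 from hinv, mul_one] at hdeg
  by_contra hra
  obtain ⟨k, hk⟩ := hl.pow
  refine hl.ne (lin_pow_eq_one N hk (show ¬ r ∣ e by rwa [← hdeg, hχ]) ?_)
  obtain ⟨d, ρ, hρ, hρc⟩ := isIrrCharacter_linFun l
  haveI := hρ
  obtain ⟨g, hg⟩ := det_orbit N hNG ρ (hρc ▸ isIrrCharacter_linFun l) (e := e) (by rw [hρc]; exact he) he0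
  have hd1 : d = 1 := by
    have h1 := congrFun hρc 1
    rw [Representation.char_one, Module.finrank_fin_fun] at h1
    have h2 : ((d : ℕ) : ℂ) = 1 := by rw [h1]; simp [linFun]
    exact_mod_cast h2
  subst hd1
  have hdet : ∀ m, detHom ρ m = l m := fun m => Units.ext (by
    rw [coe_detHom, ← LinearMap.det_toMatrix', Matrix.det_fin_one]
    refine Eq.trans ?_ (congrFun hρc m)
    rw [Representation.character, LinearMap.trace_eq_matrix_trace ℂ (Pi.basisFun ℂ (Fin 1)),
      LinearMap.toMatrix_eq_toMatrix', Matrix.trace, Fin.sum_univ_one, Matrix.diag])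
  refine MonoidHom.ext fun n => ?_
  have h1 := hg n
  have hall : ∀ x, detHom ρ (conjBy N (g x) n) = l n := fun x => by
    rw [hdet]
    exact (mem_inertia_lin N).1 (by rw [Subgroup.index_eq_one.1 hinv]; exact Subgroup.mem_top _) n
  rw [Finset.prod_congr rfl fun x _ => hall x, Finset.prod_const, Finset.card_univ,
    Fintype.card_coe, hρc, card_orbitFn, hinv, pow_one] at h1
  rwa [MonoidHom.pow_apply, MonoidHom.one_apply]

/-- A vertex prime to `r` is over a linear `r`-character or is joined to everything over one. -/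
theorem split_vertex (hNG : N ≤ commutator G) [hr : Fact r.Prime] (a : Vert N) (ha : ¬ r ∣ a.1) :
    (∃ l, IsRLin N r l ∧ OverLin N a l) ∨
      ∀ (l : N →* ℂˣ), IsRLin N r l → ∀ b : Vert N, OverLin N b l → Reach N a b := by
  classical
  obtain ⟨χ, hχN, hχa⟩ := a.2
  obtain ⟨θ, hθ⟩ := exists_below N χ
  have hθne := below_ne_one N hθ hχN
  have hχr : ¬ r ∣ charDegree (χ : G → ℂ) := hχa ▸ ha
  obtain ⟨d, ρ, hρ, hρc⟩ := θ.2
  haveI := hρ
  have hd : charDegree (θ : N → ℂ) = d := by
    have h1 := congrFun hρc 1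
    rw [Representation.char_one, Module.finrank_fin_fun, CharApps.deg_eq] at h1
    exact_mod_cast h1.symm
  have hdr : ¬ r ∣ d := fun h => hχr ((hd ▸ h).trans (theta_deg_dvd N hθ))
  obtain ⟨l₀, k₀, s, hl₀, hs, hs1, hI⟩ := exists_split N ρ hρc hdr
  set θ₀ := twist N l₀⁻¹ θ with hθ₀
  have hI0 : inertia N (θ : N → ℂ) ≤ inertia N (θ₀ : N → ℂ) := fun g hg => (mem_inertia N).2 fun n => by
    have h1 := (mem_inertia N).1 hg n
    have h2 := (mem_inertia_lin N).1 (hI g hg) n
    simp [θ₀, twist, h1, h2]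
  by_cases h0 : (θ₀ : N → ℂ) = fun _ => 1
  · left
    have hθl : (θ : N → ℂ) = linFun l₀ := funext fun n => by
      have h1 := congrFun h0 n
      simp only [θ₀, twist, MonoidHom.inv_apply, Units.val_inv_eq_inv_val] at h1
      exact (inv_mul_eq_one₀ (Units.ne_zero (l₀ n))).1 h1 |>.symm
    exact ⟨l₀, ⟨fun e => hθne (hθl.trans (by rw [e, linFun_one])), k₀, hl₀⟩, χ, hχa, hθl ▸ hθ⟩
  · right
    intro l hl b hb
    obtain ⟨k, hk⟩ := hl.pow
    -- the twist and its determinant
    set φ := twist N l θ₀ with hφdef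
    set m := l * l₀⁻¹ with hm
    have hφm : φ = twist N m θ := Subtype.ext (funext fun n => by
      simp [φ, θ₀, twist, m, mul_assoc])
    let ρ' : Representation ℂ N (Fin d → ℂ) :=
      { toFun := fun n => (m n : ℂ) • ρ n
        map_one' := by simp
        map_mul' := fun u v => by rw [smul_mul_smul_comm, map_mul, map_mul, Units.val_mul] }
    have hρ'c : ρ'.character = (φ : N → ℂ) := by
      funext n
      rw [hφm]
      show LinearMap.trace ℂ _ ((m n : ℂ) • ρ n) = (m n : ℂ) * (θ : N → ℂ) n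
      rw [map_smul, smul_eq_mul, ← hρc]
      rfl
    haveI : ρ'.IsIrreducible := by
      obtain ⟨d', σ', hσ', hσc⟩ := φ.2
      haveI := hσ'
      obtain ⟨f⟩ := CharsMore.equiv_of_character_eq σ' ρ' (hσc.trans hρ'c.symm)
      exact Chars.isIrreducible_of_equiv f hσ'
    have hdet : ∀ n, detHom ρ' n ^ s = (l n ^ d) ^ s := fun n => by
      have e1 : detHom ρ' n = m n ^ d * detHom ρ n := Units.ext (by
        rw [coe_detHom, Units.val_mul, Units.val_pow_eq_pow_val, coe_detHom]
        show LinearMap.det ((m n : ℂ) • ρ n) = _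
        rw [LinearMap.det_smul, Module.finrank_fin_fun])
      have e2 := congrArg (fun F : N →* ℂˣ => F n) hs1
      simp only [MonoidHom.pow_apply, MonoidHom.mul_apply, MonoidHom.inv_apply,
        MonoidHom.one_apply] at e2
      rw [e1, hm, MonoidHom.mul_apply, MonoidHom.inv_apply, mul_pow (l n), inv_pow, mul_assoc,
        mul_comm (l₀ n ^ d)⁻¹, mul_pow, e2, mul_one]
    have hφne : (φ : N → ℂ) ≠ fun _ => 1 := by
      intro he
      refine h0 ?_
      have hd1 : d = 1 := by
        have h1 := congrFun hρ'c 1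
        rw [he, Representation.char_one, Module.finrank_fin_fun] at h1
        exact Nat.cast_eq_one.1 h1
      have hls : l ^ s = 1 := MonoidHom.ext fun n => by
        have h1 : detHom ρ' n ^ s = (l n) ^ s := by
          have h1' := hdet n
          rwa [show l n ^ d = l n by rw [hd1, pow_one]] at h1'
        have h2 : detHom ρ' n = 1 := by
          subst hd1
          refine Units.ext ?_
          rw [coe_detHom, ← LinearMap.det_toMatrix', Matrix.det_fin_one, Units.val_one]
          refine Eq.trans ?_ ((congrFun hρ'c n).trans (congrFun he n))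
          rw [Representation.character, LinearMap.trace_eq_matrix_trace ℂ (Pi.basisFun ℂ (Fin 1)),
            LinearMap.toMatrix_eq_toMatrix', Matrix.trace, Fin.sum_univ_one, Matrix.diag]
        rw [h2, one_pow] at h1
        rw [MonoidHom.pow_apply, MonoidHom.one_apply, h1]
      exact absurd (lin_pow_eq_one N hk hs hls) hl.ne
    obtain ⟨c, ψ, hψc, hψ⟩ := exists_vert N hφne
    -- stabilisers
    have hφl : inertia N (φ : N → ℂ) ≤ inertia N (linFun l) := fun g hg => (mem_inertia_lin N).2 fun n => by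
      have hg' := (mem_inertia N).1 hg
      obtain ⟨f⟩ := CharsMore.equiv_of_character_eq ρ'
        (ρ'.comp (conjBy N g) : Representation ℂ N _) (funext fun i => by
          show ρ'.character i = ρ'.character (conjBy N g i)
          rw [hρ'c]; exact (hg' i).symm)
      have h2 := congrArg (fun F : N →* ℂˣ => F n) (CharsMore.detHom_eq_of_equiv f)
      have h3 : detHom ρ' (conjBy N g n) = detHom ρ' n :=
        Eq.trans (show _ = detHom (ρ'.comp (conjBy N g) : Representation ℂ N _) n from Units.ext rfl) h2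
      have h4 : l (conjBy N g n) ^ (d * s) = l n ^ (d * s) := by
        rw [pow_mul, pow_mul, ← hdet, ← hdet, h3]
      have h5 : (l.comp (conjBy N g) * l⁻¹) n = 1 := by
        have hnd : ¬ r ∣ d * s := hr.out.not_dvd_mul hdr hs
        have hp : ((l.comp (conjBy N g) * l⁻¹) n) ^ (d * s) = 1 := by
          simp [mul_pow, inv_pow, h4]
        have hq : ((l.comp (conjBy N g) * l⁻¹) n) ^ r ^ k = 1 := by
          have e : ∀ m', l m' ^ r ^ k = 1 := fun m' => by rw [← MonoidHom.pow_apply, hk]; rfl
          simp [mul_pow, inv_pow, e]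
        rw [← orderOf_eq_one_iff]
        exact Nat.eq_one_of_dvd_coprimes ((hr.out.coprime_iff_not_dvd.2 hnd).pow_left k)
          (orderOf_dvd_of_pow_eq_one hq) (orderOf_dvd_of_pow_eq_one hp)
      simpa [mul_inv_eq_one] using h5
    have hφ0 : inertia N (φ : N → ℂ) ≤ inertia N (θ₀ : N → ℂ) := fun g hg => (mem_inertia N).2 fun n => by
      have h1 := (mem_inertia N).1 hg n
      rw [hφdef] at h1
      simp only [twist, (mem_inertia_lin N).1 (hφl hg) n] at h1
      exact mul_left_cancel₀ (Units.ne_zero (l n)) h1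
    have hφd : charDegree (φ : N → ℂ) = d := by
      have h1 := congrFun hρ'c 1
      rw [Representation.char_one, Module.finrank_fin_fun, CharApps.deg_eq] at h1
      exact_mod_cast h1.symm
    -- `c` is joined to `b`
    have hcb : Reach N c b := by
      by_cases ht : (inertia N (linFun l)).index = 1
      · refine reach_of_gcd N hr.out.one_lt ?_ (overLin_invariant N hNG hl hb ht)
        obtain ⟨e, he0, he, hdeg⟩ := deg_over N hψ
        obtain ⟨g, hg⟩ := det_orbit N hNG ρ' (hρ'c ▸ φ.2) (e := e) (by rw [hρ'c]; exact he) he0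
        by_contra hrc
        rw [← hψc, hdeg] at hrc
        refine hl.ne (lin_pow_eq_one N hk (s := d * s * ((inertia N (φ : N → ℂ)).index * e)) ?_ ?_)
        · refine hr.out.not_dvd_mul (hr.out.not_dvd_mul hdr hs) fun h => hrc ?_
          exact (h.trans (Eq.dvd (mul_comm _ _))).trans (dvd_mul_right _ _)
        · refine MonoidHom.ext fun n => ?_
          have h1 := congrArg (fun z : ℂˣ => z ^ s) (hg n)
          simp only [one_pow] at h1
          rw [← pow_mul, mul_comm e, pow_mul, ← Finset.prod_pow,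
            Finset.prod_congr rfl (fun x _ => hdet (conjBy N (g x) n)),
            Finset.prod_congr rfl (fun x _ => by
              rw [(mem_inertia_lin N).1
                (show g x ∈ inertia N (linFun l) by rw [Subgroup.index_eq_one.1 ht]; exact Subgroup.mem_top _) n]),
            Finset.prod_const, Finset.card_univ, Fintype.card_coe, hρ'c, card_orbitFn,
            ← pow_mul, ← pow_mul, ← pow_mul] at h1
          rw [MonoidHom.pow_apply, MonoidHom.one_apply, ← h1]
          congr 1; ring
      · refine reach_of_gcd N (d := (inertia N (linFun l)).index) ?_ ?_ (overLin_index N hb)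
        · exact lt_of_le_of_ne (Nat.pos_of_ne_zero Subgroup.index_ne_zero_of_finite) (Ne.symm ht)
        · rw [← hψc]
          exact (Subgroup.index_dvd_of_le hφl).trans (index_dvd_deg N hψ)
    -- `a` is joined to `c`
    refine SimpleGraph.Reachable.trans ?_ hcb
    by_cases ht0 : (inertia N (θ₀ : N → ℂ)).index = 1
    · by_cases hd1 : d = 1
      · -- a linear invariant part: its order divides both
        subst hd1
        obtain ⟨e, he0, he, hdeg⟩ := deg_over N hψ
        obtain ⟨e', he0', he', hdeg'⟩ := deg_over N hθ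
        obtain ⟨g, hg⟩ := det_orbit N hNG ρ' (hρ'c ▸ φ.2) (e := e) (by rw [hρ'c]; exact he) he0
        obtain ⟨g', hg'⟩ := det_orbit N hNG ρ (hρc ▸ θ.2) (e := e') (by rw [hρc]; exact he') he0'
        have hlin : ∀ (τ : Representation ℂ N (Fin 1 → ℂ)) (n : N),
            (detHom τ n : ℂ) = τ.character n := fun τ n => by
          rw [coe_detHom, ← LinearMap.det_toMatrix', Matrix.det_fin_one, Representation.character,
            LinearMap.trace_eq_matrix_trace ℂ (Pi.basisFun ℂ (Fin 1)),
            LinearMap.toMatrix_eq_toMatrix', Matrix.trace, Fin.sum_univ_one, Matrix.diag]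
        set w : N →* ℂˣ := detHom ρ * l₀⁻¹ with hwdef
        have hws : w ^ s = 1 := by
          refine MonoidHom.ext fun n => ?_
          have h1 := congrArg (fun F : N →* ℂˣ => F n) hs1
          simpa [hwdef] using h1
        have hwθ : linFun w = (θ₀ : N → ℂ) := funext fun n => by
          simp only [linFun, hwdef, MonoidHom.mul_apply, MonoidHom.inv_apply, Units.val_mul,
            hlin ρ n, hρc, θ₀, twist]
          ring
        have hwinv : ∀ (h : G) (n : N), w (conjBy N h n) = w n := fun h n => by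
          refine (mem_inertia_lin N).1 ?_ n
          rw [hwθ, Subgroup.index_eq_one.1 ht0]
          exact Subgroup.mem_top _
        have hkey : ∀ (τ : Representation ℂ N (Fin 1 → ℂ)) (u : N →* ℂˣ) (j : ℕ) (O : ℕ),
            (∀ n, detHom τ n = u n * w n) → u ^ r ^ j = 1 →
            (∀ n, ∃ gs : Fin O → G, (∏ x, detHom τ (conjBy N (gs x) n)) = 1) →
            orderOf w ∣ O := by
          intro τ u j O hτ hu hO
          have hco : Nat.Coprime (orderOf w) (r ^ j) := Nat.Coprime.coprime_dvd_left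
            (orderOf_dvd_of_pow_eq_one hws) ((hr.out.coprime_iff_not_dvd.2 hs).symm.pow_right j)
          refine hco.dvd_of_dvd_mul_right (orderOf_dvd_of_pow_eq_one (MonoidHom.ext fun n => ?_))
          obtain ⟨gs, hgs⟩ := hO n
          have h1 := congrArg (fun z : ℂˣ => z ^ r ^ j) hgs
          simp only [one_pow] at h1
          have e : ∀ m', u m' ^ r ^ j = 1 := fun m' => by rw [← MonoidHom.pow_apply, hu]; rfl
          rw [← Finset.prod_pow, Finset.prod_congr rfl (fun x _ => by
            rw [hτ, mul_pow, e, one_mul, hwinv]), Finset.prod_const, Finset.card_univ,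
            Fintype.card_fin, ← pow_mul] at h1
          rw [MonoidHom.pow_apply, MonoidHom.one_apply, mul_comm, h1]
        have hrep : ∀ (S : Finset (N → ℂ)) (τ : Representation ℂ N (Fin 1 → ℂ)) (gg : S → G)
            (f : ℕ), (∀ n, (∏ x, detHom τ (conjBy N (gg x) n)) ^ f = 1) →
            ∀ n, ∃ gs : Fin (f * S.card) → G, (∏ x, detHom τ (conjBy N (gs x) n)) = 1 := by
          intro S τ gg f hf n
          let E : Fin (f * S.card) ≃ Fin f × S :=
            finProdFinEquiv.symm.trans (Equiv.prodCongr (Equiv.refl _) S.equivFin.symm)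
          refine ⟨fun x => gg (E x).2, ?_⟩
          rw [E.prod_comp (fun y => detHom τ (conjBy N (gg y.2) n)), Fintype.prod_prod_type]
          simp only [Finset.prod_const, Finset.card_univ, Fintype.card_fin]
          exact hf n
        have ho : 1 < orderOf w := by
          refine lt_of_le_of_ne (orderOf_pos_iff.2 (isOfFinOrder_iff_pow_eq_one.2
            ⟨s, Nat.pos_of_ne_zero fun h => hs (h ▸ dvd_zero r), hws⟩)) fun h => h0 ?_
          rw [← hwθ, orderOf_eq_one_iff.1 h.symm, linFun_one]
        have hac : orderOf w ∣ a.1 := by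
          have h := hkey ρ l₀ k₀ _ (fun n => by simp [hwdef]) hl₀ (hrep _ ρ g' e' hg')
          rw [hρc, card_orbitFn] at h
          rw [← hχa, hdeg', hd, mul_one]
          exact h
        have hcc : orderOf w ∣ c.1 := by
          have h := hkey ρ' l k _ (fun n => Units.ext (by
            rw [hlin, hρ'c, Units.val_mul, hφdef]
            show (l n : ℂ) * (θ₀ : N → ℂ) n = _
            rw [← hwθ]; rfl)) hk (hrep _ ρ' g e hg)
          rw [hρ'c, card_orbitFn] at h
          rw [← hψc, hdeg, hφd, mul_one]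
          exact h
        exact reach_of_gcd N ho hac hcc
      · refine reach_of_gcd N (d := d) ?_ ?_ ?_
        · have := CharApps.deg_pos θ
          rw [hd] at this
          omega
        · rw [← hχa, ← hd]; exact theta_deg_dvd N hθ
        · rw [← hψc, ← hφd]; exact theta_deg_dvd N hψ
    · refine reach_of_gcd N (d := (inertia N (θ₀ : N → ℂ)).index) ?_ ?_ ?_
      · exact lt_of_le_of_ne (Nat.pos_of_ne_zero Subgroup.index_ne_zero_of_finite) (Ne.symm ht0)
      · rw [← hχa]; exact (Subgroup.index_dvd_of_le hI0).trans (index_dvd_deg N hθ)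
      · rw [← hψc]; exact (Subgroup.index_dvd_of_le hφ0).trans (index_dvd_deg N hψ)

theorem exists_rlin [hr : Fact r.Prime] (h : r ∣ ⁅N, N⁆.relIndex N) :
    ∃ l, IsRLin N r l := by
  have h1 : r ∣ Nat.card (N →* ℂˣ) := by
    rw [card_monoidHom_units]
    rwa [← Subgroup.map_subtype_commutator, Subgroup.relIndex, Subgroup.subgroupOf,
      Subgroup.comap_map_eq_self_of_injective N.subtype_injective] at h
  haveI : Finite (N →* ℂˣ) := Chars.finite_monoidHom_units
  obtain ⟨l, hl⟩ := exists_prime_orderOf_dvd_card' r h1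
  refine ⟨l, fun he => hr.out.one_lt.ne' ?_, 1, ?_⟩
  · rw [← hl, he, orderOf_one]
  · rw [pow_one, ← hl, pow_orderOf_eq_one]

/-- Vertices over moved linear `r`-characters with degree prime to `r` are joined. -/
theorem reach_lin (hNG : N ≤ commutator G) [hr : Fact r.Prime] {a b : Vert N} {x y : N →* ℂˣ}
    (hx : IsRLin N r x) (hy : IsRLin N r y) (ha : OverLin N a x) (hb : OverLin N b y)
    (hra : ¬ r ∣ a.1) (hrb : ¬ r ∣ b.1) : Reach N a b := by
  set tx := (inertia N (linFun x)).index
  set ty := (inertia N (linFun y)).index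
  have htx : tx ≠ 1 := fun h => hra (overLin_invariant N hNG hx ha h)
  have hty : ty ≠ 1 := fun h => hrb (overLin_invariant N hNG hy hb h)
  by_cases hcop : Nat.Coprime tx ty
  · obtain ⟨k, hk⟩ := hx.pow
    obtain ⟨k', hk'⟩ := hy.pow
    have h1 := (orbit_mul N hk htx (fun h => hrb (h.trans (overLin_index N hb)))).resolve_left
      (not_not_intro hcop)
    have h2 := (orbit_mul N hk' hty (fun h => hra (h.trans (overLin_index N ha)))).resolve_left
      (not_not_intro hcop.symm)
    rw [mul_comm y x] at h2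
    have hne : x * y ≠ 1 := fun he => by
      apply h1
      rw [he, show (inertia N (linFun (1 : N →* ℂˣ))) = ⊤ from
        eq_top_iff.2 fun g _ => (mem_inertia_lin N).2 fun _ => rfl, Subgroup.index_top]
      exact Nat.coprime_one_left _
    obtain ⟨c, χ, hχ, ho⟩ := exists_vert N (φ := linIrr N (x * y)) (linFun_ne_one N hne)
    obtain ⟨p, hp, hp1, hp2⟩ := Nat.Prime.not_coprime_iff_dvd.1 h1
    obtain ⟨q, hq, hq1, hq2⟩ := Nat.Prime.not_coprime_iff_dvd.1 h2
    have hc := overLin_index N (a := c) (l := x * y) ⟨χ, hχ, ho⟩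
    exact (reach_of_gcd N hp.one_lt (hp2.trans (overLin_index N ha)) (hp1.trans hc)).trans
      (reach_of_gcd N hq.one_lt (hq1.trans hc) (hq2.trans (overLin_index N hb)))
  · obtain ⟨p, hp, hp1, hp2⟩ := Nat.Prime.not_coprime_iff_dvd.1 hcop
    exact reach_of_gcd N hp.one_lt (hp1.trans (overLin_index N ha)) (hp2.trans (overLin_index N hb))

/-- Vertices prime to `r` form one component. -/
theorem reach_of_not_dvd (hNG : N ≤ commutator G) [hr : Fact r.Prime]
    (hm : r ∣ ⁅N, N⁆.relIndex N) {a b : Vert N} (ha : ¬ r ∣ a.1) (hb : ¬ r ∣ b.1) :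
    Reach N a b := by
  rcases split_vertex N hNG a ha with ⟨x, hx, hax⟩ | hA <;>
    rcases split_vertex N hNG b hb with ⟨y, hy, hby⟩ | hB
  · exact reach_lin N hNG hx hy hax hby ha hb
  · exact (hB x hx a hax).symm
  · exact hA y hy b hby
  · obtain ⟨l, hl⟩ := exists_rlin N hm
    obtain ⟨c, χ, hχ, ho⟩ := exists_vert N (φ := linIrr N l) (linFun_ne_one N hl.ne)
    exact (hA l hl c ⟨χ, hχ, ho⟩).trans (hB l hl c ⟨χ, hχ, ho⟩).symm

theorem reach_of_same (hNG : N ≤ commutator G) [hr : Fact r.Prime]
    (hm : r ∣ ⁅N, N⁆.relIndex N) {a b : Vert N} (h : r ∣ a.1 ↔ r ∣ b.1) : Reach N a b := by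
  by_cases ha : r ∣ a.1
  · exact reach_of_gcd N hr.out.one_lt ha (h.1 ha)
  · exact reach_of_not_dvd N hNG hm ha fun hb => ha (h.2 hb)

/-- A vertex prime to `r` shares its component with one over a linear `r`-character. -/
theorem exists_lin_joined (hNG : N ≤ commutator G) [hr : Fact r.Prime]
    (hm : r ∣ ⁅N, N⁆.relIndex N) {a : Vert N} (ha : ¬ r ∣ a.1) :
    ∃ l b, IsRLin N r l ∧ OverLin N b l ∧ Reach N a b := by
  rcases split_vertex N hNG a ha with ⟨x, hx, hax⟩ | hA
  · exact ⟨x, a, hx, hax, SimpleGraph.Reachable.refl _⟩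
  · obtain ⟨l, hl⟩ := exists_rlin N hm
    obtain ⟨c, χ, hχ, ho⟩ := exists_vert N (φ := linIrr N l) (linFun_ne_one N hl.ne)
    exact ⟨l, c, hl, ⟨χ, hχ, ho⟩, hA l hl c ⟨χ, hχ, ho⟩⟩

/-- Two primes of the abelian quotient cannot separate a component each. -/
theorem no_split (hNG : N ≤ commutator G) {r r' : ℕ} (hr : r.Prime) (hr' : r'.Prime)
    (hm : r ∣ ⁅N, N⁆.relIndex N) (hm' : r' ∣ ⁅N, N⁆.relIndex N) {a b : Vert N}
    (h : ¬ Reach N a b) (ha : r ∣ a.1) (hb : r' ∣ b.1) : False := by
  haveI := Fact.mk hr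
  haveI := Fact.mk hr'
  have hrb : ¬ r ∣ b.1 := fun hb' => h (reach_of_gcd N hr.one_lt ha hb')
  have hra : ¬ r' ∣ a.1 := fun ha' => h (reach_of_gcd N hr'.one_lt ha' hb)
  obtain ⟨x, d, hx, hd, hbd⟩ := exists_lin_joined (r := r) N hNG hm hrb
  obtain ⟨y, d', hy, hd', had⟩ := exists_lin_joined (r := r') N hNG hm' hra
  have htx : (inertia N (linFun x)).index ≠ 1 := fun ht => h
    ((reach_of_gcd N hr.one_lt ha (overLin_invariant N hNG hx hd ht)).trans hbd.symm)
  have hty : (inertia N (linFun y)).index ≠ 1 := fun ht => h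
    (had.trans (reach_of_gcd N hr'.one_lt (overLin_invariant N hNG hy hd' ht) hb))
  obtain ⟨k, hk⟩ := hx.pow
  obtain ⟨k', hk'⟩ := hy.pow
  have hne' : r ≠ r' := fun e => hrb (e ▸ hb)
  have hcop : Nat.Coprime (r ^ k) (r' ^ k') :=
    Nat.Coprime.pow k k' ((Nat.coprime_primes hr hr').2 hne')
  have hle : inertia N (linFun (x * y)) ≤ inertia N (linFun x) ∧
      inertia N (linFun (x * y)) ≤ inertia N (linFun y) := by
    have key : ∀ (u v : N →* ℂˣ) (i j : ℕ), Nat.Coprime i j → u ^ i = 1 → v ^ j = 1 →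
        inertia N (linFun (u * v)) ≤ inertia N (linFun u) := by
      intro u v i j hij hu hv g hg
      refine (mem_inertia_lin N).2 fun n => ?_
      have h1 : ∀ m, u m ^ i = 1 := fun m => by rw [← MonoidHom.pow_apply, hu]; rfl
      have h2 : ∀ m, v m ^ j = 1 := fun m => by rw [← MonoidHom.pow_apply, hv]; rfl
      have h3 := congrArg (fun z : ℂˣ => z ^ j) ((mem_inertia_lin N).1 hg n)
      simp only [MonoidHom.mul_apply, mul_pow, h2, mul_one] at h3
      rw [← mul_inv_eq_one, ← orderOf_eq_one_iff]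
      exact Nat.eq_one_of_dvd_coprimes hij
        (orderOf_dvd_of_pow_eq_one (by rw [mul_pow, inv_pow, h1, h1, inv_one, mul_one]))
        (orderOf_dvd_of_pow_eq_one (by rw [mul_pow, inv_pow, h3, mul_inv_cancel]))
    exact ⟨key x y _ _ hcop hk hk', mul_comm y x ▸ key y x _ _ hcop.symm hk' hk⟩
  have hne : x * y ≠ 1 := fun he => htx (Subgroup.index_eq_one.2 (eq_top_iff.2 fun g _ => hle.1
    ((mem_inertia_lin N).2 fun n => by rw [he]; rfl)))
  obtain ⟨c, χ, hχ, ho⟩ := exists_vert N (φ := linIrr N (x * y)) (linFun_ne_one N hne)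
  have hc := overLin_index N (a := c) (l := x * y) ⟨χ, hχ, ho⟩
  have one_lt : ∀ {t : ℕ}, t ≠ 1 → t ≠ 0 → 1 < t := fun h1 h0 => by omega
  have e1 := reach_of_gcd N (one_lt htx Subgroup.index_ne_zero_of_finite)
    ((Subgroup.index_dvd_of_le hle.1).trans hc) (overLin_index N hd)
  have e2 := reach_of_gcd N (one_lt hty Subgroup.index_ne_zero_of_finite)
    (overLin_index N hd') ((Subgroup.index_dvd_of_le hle.2).trans hc)
  exact h (had.trans (e2.trans (e1.trans hbd.symm)))

theorem main (hperf : ⁅N, N⁆ < N) (hNG : N ≤ commutator G) :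
    Nat.card (commonDivisorGraph.induce (relCharDegrees N)).ConnectedComponent ≤ 2 ∧
    ∀ (a b : ℕ) (ha : a ∈ relCharDegrees N) (hb : b ∈ relCharDegrees N),
      ¬ (commonDivisorGraph.induce (relCharDegrees N)).Reachable ⟨a, ha⟩ ⟨b, hb⟩ →
      (Nat.Coprime a (⁅N, N⁆.relIndex N) ∧ ∀ r : ℕ, r.Prime → r ∣ ⁅N, N⁆.relIndex N → r ∣ b) ∨
      (Nat.Coprime b (⁅N, N⁆.relIndex N) ∧ ∀ r : ℕ, r.Prime → r ∣ ⁅N, N⁆.relIndex N → r ∣ a) := by
  classical
  set m := ⁅N, N⁆.relIndex N
  have hm1 : m ≠ 1 := fun h => not_le_of_gt hperf (Subgroup.relIndex_eq_one.1 h)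
  refine ⟨?_, fun a b ha hb hnr => ?_⟩
  · obtain ⟨r, hr, hrm⟩ := Nat.exists_prime_and_dvd hm1
    haveI := Fact.mk hr
    set Γ := commonDivisorGraph.induce (relCharDegrees N)
    refine (Nat.card_le_card_of_injective
      (fun C : Γ.ConnectedComponent => decide (r ∣ (Quot.out C : Vert N).1)) fun C C' h => ?_).trans
      (by simp)
    rw [← Quot.out_eq C, ← Quot.out_eq C']
    exact SimpleGraph.ConnectedComponent.sound
      (reach_of_same N hNG hrm (by simpa using h))
  · have honly : ∀ r : ℕ, r.Prime → r ∣ m → (r ∣ a ∨ r ∣ b) := fun r hr hrm => by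
      haveI := Fact.mk hr
      by_contra hno
      push Not at hno
      exact hnr (reach_of_not_dvd (r := r) N hNG hrm (a := ⟨a, ha⟩) (b := ⟨b, hb⟩) hno.1 hno.2)
    by_cases hA : ∃ r : ℕ, r.Prime ∧ r ∣ m ∧ r ∣ a
    · obtain ⟨r, hr, hrm, hra⟩ := hA
      refine Or.inr ⟨?_, fun r' hr' hrm' => (honly r' hr' hrm').resolve_right fun hb' =>
        no_split N hNG hr hr' hrm hrm' (a := ⟨a, ha⟩) (b := ⟨b, hb⟩) hnr hra hb'⟩
      refine Nat.coprime_of_dvd fun r' hr' hb' hrm' =>
        no_split N hNG hr hr' hrm hrm' (a := ⟨a, ha⟩) (b := ⟨b, hb⟩) hnr hra hb'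
    · push Not at hA
      exact Or.inl ⟨Nat.coprime_of_dvd fun r hr hra hrm => hA r hr hrm hra,
        fun r hr hrm => (honly r hr hrm).resolve_left (hA r hr hrm)⟩

end CfsgLib.CharApps.RelComp
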