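import Cfsg.Agent.Lib.CharApps.RelDegreeComponents
import Cfsg.Agent.Lib.Blocks.PSolvableFong
import Cfsg.Agent.Lib.FgsC.Index

/-!
# The shape of a disconnected relative degree graph over a solvable subgroup
-/

set_option autoImplicit false
set_option linter.unusedSectionVars false
set_option linter.style.haveILetI false

namespace CfsgLib.CharApps.RelComp.Shape

open Cfsg CfsgLib.Chars CfsgLib.CharsMore CfsgLib.CharApps.RelComp Module

universe u

variable {G : Type u} [Group G] [Fintype G]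

/-- Below a character of `N` there is one of `W ≤ N` with quotient of degrees dividing the index. -/
theorem exists_below_le (N W : Subgroup G) [N.Normal] [W.Normal] [Fintype N] [Fintype W] (hWN : W ≤ N)
    (θ : IrrCharacter N) :
    ∃ φ : IrrCharacter W,
      (∀ χ : IrrCharacter G, Over N χ (θ : N → ℂ) → Over W χ (φ : W → ℂ)) ∧
      ∃ k : ℕ, charDegree (θ : N → ℂ) = k * charDegree (φ : W → ℂ) ∧ k ∣ W.relIndex N := by
  classical
  haveI := Fintype.ofFinite (W.subgroupOf N)
  obtain ⟨φ', hφ'⟩ := Blocks.exists_constituent_restrict (W.subgroupOf N) θ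
  set e := Subgroup.subgroupOfEquivOfLe hWN
  let φ : IrrCharacter W := ⟨fun w => (φ' : W.subgroupOf N → ℂ) (e.symm w),
    isIrrCharacter_comp e.symm.toMonoidHom e.symm.surjective φ'.2⟩
  refine ⟨φ, fun χ hχ => ?_, ?_⟩
  · have h1 := Blocks.constituent_trans N (W.subgroupOf N).subtype hχ hφ'
    unfold Over
    rw [← inner_comp_equiv e]
    convert h1 using 1
    simp [φ]
    rfl
  · obtain ⟨k, -, hk, hdvd⟩ := degree_quotient (W.subgroupOf N) θ.2 φ'.2 hφ'
    refine ⟨k, ?_, hdvd⟩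
    rw [CharApps.deg_eq, CharApps.deg_eq] at hk
    have h2 : charDegree (φ : W → ℂ) = charDegree (φ' : W.subgroupOf N → ℂ) := by
      have h3 : (φ : W → ℂ) 1 = (φ' : W.subgroupOf N → ℂ) 1 := by simp [φ]
      rw [CharApps.deg_eq, CharApps.deg_eq] at h3
      exact_mod_cast h3
    rw [h2]
    exact_mod_cast hk

/-- An irreducible of degree prime to `r` has a twist whose inertia group fixes a given linear
`r`-character. -/
theorem exists_twist (H : Subgroup G) [H.Normal] [Fintype H] {r : ℕ} [hr : Fact r.Prime]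
    (θ : IrrCharacter H) (hθ : ¬ r ∣ charDegree (θ : H → ℂ)) {l : H →* ℂˣ} {k : ℕ}
    (hk : l ^ r ^ k = 1) :
    ∃ φ : IrrCharacter H, charDegree (φ : H → ℂ) = charDegree (θ : H → ℂ) ∧
      inertia H (φ : H → ℂ) ≤ inertia H (linFun l) := by
  classical
  obtain ⟨d, ρ, hρ, hρc⟩ := θ.2
  haveI := hρ
  have hd : charDegree (θ : H → ℂ) = d := by
    have h1 := congrFun hρc 1
    rw [Representation.char_one, Module.finrank_fin_fun, CharApps.deg_eq] at h1
    exact_mod_cast h1.symm
  have hdr : ¬ r ∣ d := hd ▸ hθ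
  obtain ⟨l₀, k₀, s, -, hs, hs1, -⟩ := exists_split H ρ hρc hdr
  set m := l * l₀⁻¹ with hm
  let φ := twist H m θ
  let ρ' : Representation ℂ H (Fin d → ℂ) :=
    { toFun := fun n => (m n : ℂ) • ρ n
      map_one' := by simp
      map_mul' := fun u v => by rw [smul_mul_smul_comm, map_mul, map_mul, Units.val_mul] }
  have hρ'c : ρ'.character = (φ : H → ℂ) := by
    funext n
    show LinearMap.trace ℂ _ ((m n : ℂ) • ρ n) = (m n : ℂ) * (θ : H → ℂ) n
    rw [map_smul, smul_eq_mul, ← hρc]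
    rfl
  haveI : ρ'.IsIrreducible := by
    obtain ⟨d', σ', hσ', hσc⟩ := φ.2
    haveI := hσ'
    obtain ⟨f⟩ := CharsMore.equiv_of_character_eq σ' ρ' (hσc.trans hρ'c.symm)
    exact Chars.isIrreducible_of_equiv f hσ'
  have hdet : ∀ n, detHom ρ' n ^ s = (l n ^ d) ^ s := fun n => by
    have e1 : detHom ρ' n = m n ^ d * detHom ρ n := Units.ext (by
      rw [coe_detHom, Units.val_mul, Units.val_pow_eq_pow_val, coe_detHom]
      show LinearMap.det ((m n : ℂ) • ρ n) = _
      rw [LinearMap.det_smul, Module.finrank_fin_fun])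
    have e2 := congrArg (fun F : H →* ℂˣ => F n) hs1
    simp only [MonoidHom.pow_apply, MonoidHom.mul_apply, MonoidHom.inv_apply,
      MonoidHom.one_apply] at e2
    rw [e1, hm, MonoidHom.mul_apply, MonoidHom.inv_apply, mul_pow (l n), inv_pow, mul_assoc,
      mul_comm (l₀ n ^ d)⁻¹, mul_pow, e2, mul_one]
  refine ⟨φ, ?_, fun g hg => (mem_inertia_lin H).2 fun n => ?_⟩
  · have h1 := congrFun hρ'c 1
    rw [Representation.char_one, Module.finrank_fin_fun, CharApps.deg_eq] at h1
    rw [hd]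
    exact_mod_cast h1.symm
  · have hg' := (mem_inertia H).1 hg
    obtain ⟨f⟩ := CharsMore.equiv_of_character_eq ρ'
      (ρ'.comp (conjBy H g) : Representation ℂ H _) (funext fun i => by
        show ρ'.character i = ρ'.character (conjBy H g i)
        rw [hρ'c]; exact (hg' i).symm)
    have h2 := congrArg (fun F : H →* ℂˣ => F n) (CharsMore.detHom_eq_of_equiv f)
    have h3 : detHom ρ' (conjBy H g n) = detHom ρ' n :=
      Eq.trans (show _ = detHom (ρ'.comp (conjBy H g) : Representation ℂ H _) n from Units.ext rfl) h2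
    have h4 : l (conjBy H g n) ^ (d * s) = l n ^ (d * s) := by
      rw [pow_mul, pow_mul, ← hdet, ← hdet, h3]
    have h5 : (l.comp (conjBy H g) * l⁻¹) n = 1 := by
      have hnd : ¬ r ∣ d * s := hr.out.not_dvd_mul hdr hs
      have hp : ((l.comp (conjBy H g) * l⁻¹) n) ^ (d * s) = 1 := by
        simp [mul_pow, inv_pow, h4]
      have hq : ((l.comp (conjBy H g) * l⁻¹) n) ^ r ^ k = 1 := by
        have e : ∀ m', l m' ^ r ^ k = 1 := fun m' => by rw [← MonoidHom.pow_apply, hk]; rfl
        simp [mul_pow, inv_pow, e]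
      rw [← orderOf_eq_one_iff]
      exact Nat.eq_one_of_dvd_coprimes ((hr.out.coprime_iff_not_dvd.2 hnd).pow_left k)
        (orderOf_dvd_of_pow_eq_one hq) (orderOf_dvd_of_pow_eq_one hp)
    simpa [mul_inv_eq_one] using h5

/-- A normal subgroup of `N` with index a `π(m)`-number and no invariant linear character. -/
theorem exists_core (N : Subgroup G) [hN : N.Normal] [Fintype N] :
    ∃ W : Subgroup G, W.Normal ∧ W ≤ N ∧
      (∀ q : ℕ, q.Prime → q ∣ W.relIndex N → q ∣ ⁅N, N⁆.relIndex N) ∧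
      ∀ (_ : W.Normal) (l : W →* ℂˣ), l ≠ 1 → ∃ n ∈ N, ∃ w, l (conjBy W n w) ≠ l w := by
  classical
  let P : Subgroup G → Prop := fun W => W.Normal ∧ W ≤ N ∧
    ∀ q : ℕ, q.Prime → q ∣ W.relIndex N → q ∣ ⁅N, N⁆.relIndex N
  have hP : P N := ⟨hN, le_rfl, fun q hq h => absurd (Subgroup.relIndex_self N ▸ h) hq.not_dvd_one⟩
  obtain ⟨W, hW, hmin⟩ := (Set.toFinite {W | P W}).exists_minimal ⟨N, hP⟩
  refine ⟨W, hW.1, hW.2.1, hW.2.2, fun hWn l hl => ?_⟩
  haveI := hWn
  haveI := Fintype.ofFinite W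
  by_contra hno
  push Not at hno
  set m := ⁅N, N⁆.relIndex N
  have hord0 : 0 < orderOf l := by
    haveI : Finite (W →* ℂˣ) := Chars.finite_monoidHom_units
    exact orderOf_pos l
  -- every prime of the order divides `m`
  have hprimes : ∀ q : ℕ, q.Prime → q ∣ orderOf l → q ∣ m := by
    intro q hq hql
    by_contra hqm
    set l' := l ^ (orderOf l / q)
    have hl' : orderOf l' = q := orderOf_pow_orderOf_div hord0.ne' hql
    haveI := Fintype.ofFinite (W.subgroupOf N)
    set e := Subgroup.subgroupOfEquivOfLe hW.2.1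
    set lN : W.subgroupOf N →* ℂˣ := l'.comp e.toMonoidHom
    have hlN : orderOf lN = q := by
      rw [← hl']
      refine orderOf_eq_orderOf_iff.2 fun j => ⟨fun h => MonoidHom.ext fun w => ?_,
        fun h => MonoidHom.ext fun w => ?_⟩
      · have := congrArg (fun F : _ →* ℂˣ => F (e.symm w)) h
        simpa [lN] using this
      · have := congrArg (fun F : _ →* ℂˣ => F (e w)) h
        simpa [lN] using this
    obtain ⟨μ, ⟨-, hμ⟩, -⟩ := exists_coprime_ext (W.subgroupOf N) lN (fun g w => by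
      show l' (e (conjBy (W.subgroupOf N) g w)) = l' (e w)
      have h1 := hno g g.2 (e w)
      have h2 : e (conjBy (W.subgroupOf N) g w) = conjBy W (g : G) (e w) := Subtype.ext rfl
      rw [h2]
      simp only [l', MonoidHom.pow_apply, h1])
      (by
        rw [hlN]
        exact ((hq.coprime_iff_not_dvd).2 fun h => hqm (hW.2.2 q hq h)).symm)
    refine hqm ?_
    have h3 : orderOf μ ∣ Nat.card (N →* ℂˣ) := by
      haveI : Finite (N →* ℂˣ) := Chars.finite_monoidHom_units
      exact orderOf_dvd_natCard μ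
    rw [hμ, hlN, card_monoidHom_units] at h3
    show q ∣ _
    unfold m
    rwa [← Subgroup.map_subtype_commutator, Subgroup.relIndex, Subgroup.subgroupOf,
      Subgroup.comap_map_eq_self_of_injective N.subtype_injective]
  -- the core of the kernel
  let K : Subgroup G :=
    { carrier := {x | ∃ h : x ∈ W, ∀ g : G, l (conjBy W g ⟨x, h⟩) = 1}
      one_mem' := ⟨W.one_mem, fun g => by
        rw [show (⟨1, W.one_mem⟩ : W) = 1 from rfl, map_one, map_one]⟩
      mul_mem' := fun {x y} ⟨hx, hx'⟩ ⟨hy, hy'⟩ => ⟨W.mul_mem hx hy, fun g => by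
        rw [show (⟨x * y, W.mul_mem hx hy⟩ : W) = ⟨x, hx⟩ * ⟨y, hy⟩ from rfl, map_mul, map_mul,
          hx', hy', mul_one]⟩
      inv_mem' := fun {x} ⟨hx, hx'⟩ => ⟨W.inv_mem hx, fun g => by
        rw [show (⟨x⁻¹, W.inv_mem hx⟩ : W) = ⟨x, hx⟩⁻¹ from rfl, map_inv, map_inv, hx', inv_one]⟩ }
  have hKW : K ≤ W := fun x hx => hx.1
  have hKn : K.Normal := ⟨fun x hx g => ⟨hWn.conj_mem x hx.1 g, fun h => by
    have := hx.2 (h * g)
    rw [← this]
    congr 1
    exact Subtype.ext (by simp [conjBy, mul_assoc])⟩⟩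
  have hKlt : K < W := lt_of_le_of_ne hKW fun he => hl (MonoidHom.ext fun w => by
    obtain ⟨_, h⟩ := (he.symm ▸ w.2 : (w : G) ∈ K)
    have := h 1
    rw [MonoidHom.one_apply, ← this]
    congr 1
    exact Subtype.ext (by simp [conjBy]))
  refine hKlt.not_ge (hmin ⟨hKn, hKW.trans hW.2.1, fun q hq hqd => ?_⟩ hKW)
  rw [← Subgroup.relIndex_mul_relIndex K W N hKW hW.2.1] at hqd
  rcases hq.dvd_mul.1 hqd with h | h
  · haveI := Fact.mk hq
    refine hprimes q hq ?_
    haveI := hKn.subgroupOf W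
    obtain ⟨z, hz⟩ := exists_prime_orderOf_dvd_card' (G := W ⧸ K.subgroupOf W) q h
    induction z using QuotientGroup.induction_on with
    | H x =>
      rw [← hz]
      refine orderOf_dvd_of_pow_eq_one ?_
      rw [← QuotientGroup.mk_pow, QuotientGroup.eq_one_iff, Subgroup.mem_subgroupOf]
      refine ⟨(x ^ orderOf l).2, fun g => ?_⟩
      rw [show (⟨((x ^ orderOf l : W) : G), (x ^ orderOf l).2⟩ : W) = x ^ orderOf l from rfl,
        map_pow, map_pow, ← MonoidHom.pow_apply, pow_orderOf_eq_one, MonoidHom.one_apply]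
  · exact hW.2.2 q hq h

variable (N : Subgroup G) [hN : N.Normal] [Fintype N]

/-- A vertex with no link to the primes of `N / N'` lies over a moved linear character of `N`, or
is divisible by every prime of the abelian quotient of the core. -/
theorem vertex_kind (hNG : N ≤ commutator G) {W : Subgroup G} [W.Normal] [Fintype W] (hWN : W ≤ N)
    (hWi : ∀ q : ℕ, q.Prime → q ∣ W.relIndex N → q ∣ ⁅N, N⁆.relIndex N)
    (hWl : ∀ l : W →* ℂˣ, l ≠ 1 → ∃ n ∈ N, ∃ w, l (conjBy W n w) ≠ l w)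
    {b : Vert N} (hb : Nat.Coprime b.1 (⁅N, N⁆.relIndex N))
    (hK : ∀ v : Vert N, ∀ q : ℕ, q.Prime → q ∣ ⁅N, N⁆.relIndex N → q ∣ v.1 → Nat.Coprime b.1 v.1) :
    (∃ (x : N →* ℂˣ) (r : ℕ), r.Prime ∧ r ∣ ⁅N, N⁆.relIndex N ∧ x ^ r = 1 ∧
      (inertia N (linFun x)).index ≠ 1 ∧ (inertia N (linFun x)).index ∣ b.1) ∨
    (∃ θ : IrrCharacter N, 1 < charDegree (θ : N → ℂ) ∧ charDegree (θ : N → ℂ) ∣ b.1) ∧
      (∀ s : ℕ, s.Prime → s ∣ ⁅W, W⁆.relIndex W → s ∣ b.1) ∧ W ≠ ⊥ := by
  classical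
  obtain ⟨χ, hχN, hχb⟩ := b.2
  obtain ⟨θ, hθ⟩ := exists_below N χ
  have hθne := below_ne_one N hθ hχN
  have hdb : charDegree (θ : N → ℂ) ∣ b.1 := hχb ▸ theta_deg_dvd N hθ
  by_cases hd : charDegree (θ : N → ℂ) = 1
  · left
    obtain ⟨w, hw⟩ := exists_hom_of_linear (χ := (θ : N → ℂ))
      ⟨isCharacter_of_irr θ.2, (CharApps.deg_eq_one_iff _).2 hd⟩
    have hw1 : w ≠ 1 := fun h => hθne (by rw [← hw, h, linFun_one])
    haveI : Finite (N →* ℂˣ) := Chars.finite_monoidHom_units
    obtain ⟨r, hr, hro⟩ := Nat.exists_prime_and_dvd (fun h : orderOf w = 1 => hw1 (orderOf_eq_one_iff.1 h))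
    haveI := Fact.mk hr
    have hrm : r ∣ ⁅N, N⁆.relIndex N := by
      have h3 : r ∣ Nat.card (N →* ℂˣ) := hro.trans (orderOf_dvd_natCard w)
      rw [card_monoidHom_units] at h3
      rwa [← Subgroup.map_subtype_commutator, Subgroup.relIndex, Subgroup.subgroupOf,
        Subgroup.comap_map_eq_self_of_injective N.subtype_injective]
    set x := w ^ (orderOf w / r)
    have hxo : orderOf x = r := orderOf_pow_orderOf_div (orderOf_pos w).ne' hro
    have hI : inertia N (θ : N → ℂ) ≤ inertia N (linFun x) := fun g hg =>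
      (mem_inertia_lin N).2 fun n => by
        have h1 := (mem_inertia N).1 hg n
        rw [← hw] at h1
        simp only [linFun, Units.val_inj] at h1
        simp only [x, MonoidHom.pow_apply, h1]
    refine ⟨x, r, hr, hrm, hxo ▸ pow_orderOf_eq_one x, fun ht => ?_,
      hχb ▸ (Subgroup.index_dvd_of_le hI).trans (index_dvd_deg N hθ)⟩
    -- an invariant part of order `r` would make `r` divide the degree
    have hrb : ¬ r ∣ b.1 := fun h => hr.not_dvd_one (hb ▸ Nat.dvd_gcd h hrm)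
    obtain ⟨e, he0, he, hdeg⟩ := deg_over N hθ
    obtain ⟨d, ρ, hρ, hρc⟩ := θ.2
    haveI := hρ
    have hd1 : d = 1 := by
      have h1 := congrFun hρc 1
      rw [Representation.char_one, Module.finrank_fin_fun, CharApps.deg_eq, hd] at h1
      exact_mod_cast h1
    subst hd1
    have hlin : ∀ n, detHom ρ n = w n := fun n => Units.ext (by
      rw [coe_detHom, ← LinearMap.det_toMatrix', Matrix.det_fin_one]
      refine Eq.trans ?_ ((congrFun hρc n).trans (congrFun hw n).symm)
      rw [Representation.character, LinearMap.trace_eq_matrix_trace ℂ (Pi.basisFun ℂ (Fin 1)),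
        LinearMap.toMatrix_eq_toMatrix', Matrix.trace, Fin.sum_univ_one, Matrix.diag])
    obtain ⟨g, hg⟩ := det_orbit N hNG ρ (hρc ▸ θ.2) (e := e) (by rw [hρc]; exact he) he0
    refine hrb (hxo ▸ ?_)
    refine (orderOf_dvd_of_pow_eq_one (MonoidHom.ext fun n => ?_)).trans
      (Dvd.intro_left 1 (by rw [one_mul]) : b.1 ∣ b.1)
    rw [← hχb, hdeg, hd, mul_one]
    have h1 := congrArg (fun z : ℂˣ => z ^ (orderOf w / r)) (hg n)
    simp only [one_pow] at h1
    rw [← pow_mul, mul_comm e, pow_mul, ← Finset.prod_pow,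
      Finset.prod_congr rfl (fun i _ => by
        rw [hlin, ← MonoidHom.pow_apply,
          (mem_inertia_lin N).1
            (show g i ∈ inertia N (linFun x) by rw [Subgroup.index_eq_one.1 ht]; exact Subgroup.mem_top _) n]),
      Finset.prod_const, Finset.card_univ, Fintype.card_coe, hρc, card_orbitFn, ← pow_mul] at h1
    rw [MonoidHom.pow_apply, MonoidHom.one_apply, ← h1]
    congr 1
    ring
  · right
    have hd2 : 1 < charDegree (θ : N → ℂ) := by
      have := CharApps.deg_pos θ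
      omega
    obtain ⟨φ, hφ, k, hk, hki⟩ := exists_below_le N W hWN θ
    have hk1 : k = 1 := by
      by_contra hne
      obtain ⟨q, hq, hqk⟩ := Nat.exists_prime_and_dvd hne
      exact hq.not_dvd_one (hb ▸ Nat.dvd_gcd ((hqk.trans (Dvd.intro _ hk.symm)).trans hdb)
        (hWi q hq (hqk.trans hki)))
    rw [hk1, one_mul] at hk
    refine ⟨⟨θ, hd2, hdb⟩, fun s hs hsW => ?_, fun hbot => ?_⟩
    · by_contra hsb
      haveI := Fact.mk hs
      have hsd : ¬ s ∣ charDegree (φ : W → ℂ) := fun h => hsb ((hk.symm ▸ h).trans hdb)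
      obtain ⟨l, hl⟩ := exists_rlin (r := s) W hsW
      obtain ⟨j, hj⟩ := hl.pow
      obtain ⟨ψ, hψd, hψI⟩ := exists_twist W φ hsd hj
      obtain ⟨n, hn, w, hw⟩ := hWl l hl.ne
      have hψne : (ψ : W → ℂ) ≠ fun _ => 1 := fun h => by
        have h1 := congrFun h 1
        rw [CharApps.deg_eq, hψd, ← hk] at h1
        have : charDegree (θ : N → ℂ) = 1 := by exact_mod_cast h1
        omega
      obtain ⟨η, hη⟩ := exists_over W ψ
      obtain ⟨ξ, ⟨y, hy, hyne⟩, hξd⟩ := mem_rel W hη hψne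
      let v : Vert N := ⟨charDegree (η : G → ℂ), ξ, ⟨y, hWN hy, hyne⟩, hξd⟩
      -- a prime of `N / W` divides the orbit
      have hI : W ≤ N ⊓ inertia W (ψ : W → ℂ) :=
        le_inf hWN (le_inertia W (isClassFunction_of_isCharacter (isCharacter_of_irr ψ.2)))
      have hne : (N ⊓ inertia W (ψ : W → ℂ)).relIndex N ≠ 1 := fun h =>
        hw ((mem_inertia_lin W).1 (hψI ((Subgroup.relIndex_eq_one.1 h) hn).2) w)
      obtain ⟨q, hq, hqd⟩ := Nat.exists_prime_and_dvd hne
      have hqv : q ∣ v.1 := by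
        refine (hqd.trans ?_).trans (index_dvd_deg W hη)
        rw [inf_comm, Subgroup.inf_relIndex_right]
        exact FgsC.relIndex_dvd_index _ N
      have hqm : q ∣ ⁅N, N⁆.relIndex N :=
        hWi q hq (hqd.trans (Subgroup.relIndex_dvd_of_le_left N hI))
      have h := hK v q hq hqm hqv
      have hdv : charDegree (θ : N → ℂ) ∣ v.1 := by
        rw [hk, ← hψd]; exact theta_deg_dvd W hη
      exact absurd (Nat.eq_one_of_dvd_coprimes h hdb hdv) hd
    · have h1 : charDegree (φ : W → ℂ) = 1 := by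
        obtain ⟨j, -, hj, hdvd⟩ := irr_degree_dvd_card φ.2
        rw [CharApps.deg_eq] at hj
        have hc : Nat.card W = 1 := by subst hbot; exact Subgroup.card_bot
        rw [hc] at hdvd
        rw [show charDegree (φ : W → ℂ) = j from by exact_mod_cast hj]
        exact Nat.dvd_one.1 hdvd
      omega

/-- Two adjacent steps give adjacency or a common neighbour. -/
theorem adj_or_nbr {b c v : Vert N} (hne : b ≠ c) (hbv : 1 < Nat.gcd b.1 v.1)
    (hcv : 1 < Nat.gcd c.1 v.1) :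
    (commonDivisorGraph.induce (relCharDegrees N)).Adj b c ∨
      ∃ d : Vert N, (commonDivisorGraph.induce (relCharDegrees N)).Adj b d ∧
        (commonDivisorGraph.induce (relCharDegrees N)).Adj d c := by
  by_cases h1 : v = b
  · subst h1
    exact Or.inl ⟨fun e => hne (Subtype.ext e), show 1 < Nat.gcd v.1 c.1 by rwa [Nat.gcd_comm]⟩
  by_cases h2 : v = c
  · subst h2
    exact Or.inl ⟨fun e => hne (Subtype.ext e), hbv⟩
  exact Or.inr ⟨v, ⟨fun e => h1 (Subtype.ext e.symm), hbv⟩,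
    ⟨fun e => h2 (Subtype.ext e), show 1 < Nat.gcd v.1 c.1 by rwa [Nat.gcd_comm]⟩⟩

theorem one_lt_gcd {x y t : ℕ} (hx : 0 < x) (ht : t ≠ 1) (h1 : t ∣ x) (h2 : t ∣ y) :
    1 < Nat.gcd x y := by
  have h := Nat.dvd_gcd h1 h2
  have hpos : 0 < Nat.gcd x y := Nat.gcd_pos_of_pos_left _ hx
  have ht0 : t ≠ 0 := fun e => by rw [e, zero_dvd_iff] at h; omega
  have := Nat.le_of_dvd hpos h
  omega

theorem vert_pos (a : Vert N) : 0 < a.1 := by
  obtain ⟨χ, -, h⟩ := a.2
  rw [← h]
  exact CharApps.deg_pos χ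

/-- The shape of a disconnected relative degree graph. -/
theorem main [Group.IsSolvable N] (hNG : N ≤ commutator G)
    (hdisc : ¬ (commonDivisorGraph.induce (relCharDegrees N)).Preconnected) :
    ∃ a₀ : Vert N,
      (∀ b c : Vert N, Reach N a₀ b → Reach N a₀ c → b ≠ c →
        (commonDivisorGraph.induce (relCharDegrees N)).Adj b c) ∧
      ∀ b c : Vert N, ¬ Reach N a₀ b → ¬ Reach N a₀ c → b ≠ c →
        (commonDivisorGraph.induce (relCharDegrees N)).Adj b c ∨
          ∃ d : Vert N, (commonDivisorGraph.induce (relCharDegrees N)).Adj b d ∧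
            (commonDivisorGraph.induce (relCharDegrees N)).Adj d c := by
  classical
  obtain ⟨a, b₁, hab⟩ : ∃ a b : Vert N, ¬ Reach N a b := by
    by_contra h
    push Not at h
    exact hdisc h
  have hperf : ∀ (K : Subgroup G), K ≤ N → K ≠ ⊥ → ⁅K, K⁆ < K := fun K hK hne => by
    haveI : Group.IsSolvable K :=
      Group.isSolvable_of_isSolvable_injective (f := Subgroup.inclusion hK) (Subgroup.inclusion_injective hK)
    haveI : Nontrivial K := (Subgroup.nontrivial_iff_ne_bot K).2 hne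
    refine lt_of_le_of_ne (Subgroup.commutator_le_self K) fun h => ?_
    refine (Group.IsSolvable.commutator_lt_top_of_nontrivial K).ne
      (Subgroup.map_injective K.subtype_injective ?_)
    rw [Subgroup.map_subtype_commutator, h, ← MonoidHom.range_eq_map, Subgroup.range_subtype]
  have hNne : N ≠ ⊥ := fun h => by
    obtain ⟨χ, ⟨x, hx, hne⟩, -⟩ := a.2
    rw [h, Subgroup.mem_bot] at hx
    exact hne (by rw [hx])
  set m := ⁅N, N⁆.relIndex N
  have hm1 : m ≠ 1 := fun h => not_le_of_gt (hperf N le_rfl hNne) (Subgroup.relIndex_eq_one.1 h)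
  obtain ⟨r, hr, hrm⟩ := Nat.exists_prime_and_dvd hm1
  haveI := Fact.mk hr
  -- the side divisible by every prime of `m`
  obtain ⟨R, u, hRu, huc, hRall⟩ : ∃ R u : Vert N, ¬ Reach N R u ∧ Nat.Coprime u.1 m ∧
      ∀ q : ℕ, q.Prime → q ∣ m → q ∣ R.1 := by
    rcases (RelComp.main N (hperf N le_rfl hNne) hNG).2 a.1 b₁.1 a.2 b₁.2 hab with ⟨h1, h2⟩ | ⟨h1, h2⟩
    · exact ⟨b₁, a, fun h => hab h.symm, h1, h2⟩
    · exact ⟨a, b₁, hab, h1, h2⟩
  have hur : ¬ r ∣ u.1 := fun h => hr.not_dvd_one (huc ▸ Nat.dvd_gcd h hrm)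
  have hin : ∀ v : Vert N, Reach N R v → r ∣ v.1 := fun v hv => by
    by_contra h
    exact hRu (hv.trans (reach_of_not_dvd (r := r) N hNG hrm h hur))
  refine ⟨R, fun b c hb hc hne => ⟨fun e => hne (Subtype.ext e),
    one_lt_gcd (vert_pos N b) hr.ne_one (hin b hb) (hin c hc)⟩, ?_⟩
  have hout : ∀ b : Vert N, ¬ Reach N R b → Nat.Coprime b.1 m ∧
      ∀ v : Vert N, ∀ q : ℕ, q.Prime → q ∣ m → q ∣ v.1 → Nat.Coprime b.1 v.1 := by
    intro b hb
    have key : ∀ v : Vert N, ∀ q : ℕ, q.Prime → q ∣ m → q ∣ v.1 → Nat.Coprime b.1 v.1 := by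
      intro v q hq hqm hqv
      by_contra hcop
      obtain ⟨p, hp, hp1, hp2⟩ := Nat.Prime.not_coprime_iff_dvd.1 hcop
      exact hb ((reach_of_gcd N hq.one_lt (hRall q hq hqm) hqv).trans
        (reach_of_gcd N hp.one_lt hp2 hp1))
    refine ⟨Nat.coprime_of_dvd fun q hq hqb hqm =>
      hb (reach_of_gcd N hq.one_lt (hRall q hq hqm) hqb), key⟩
  obtain ⟨W, hWn, hWN, hWi, hWl⟩ := exists_core N
  haveI := hWn
  haveI := Fintype.ofFinite W
  intro b c hb hc hne
  obtain ⟨hbm, hbK⟩ := hout b hb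
  obtain ⟨hcm, hcK⟩ := hout c hc
  -- a linear vertex and a nonlinear one
  have mixed : ∀ (b c : Vert N), Nat.Coprime c.1 m →
      ∀ (x : N →* ℂˣ) (q : ℕ), q.Prime → q ∣ m → x ^ q = 1 → (inertia N (linFun x)).index ≠ 1 →
      (inertia N (linFun x)).index ∣ b.1 → ∀ θ : IrrCharacter N,
      1 < charDegree (θ : N → ℂ) → charDegree (θ : N → ℂ) ∣ c.1 →
      ∃ v : Vert N, 1 < Nat.gcd b.1 v.1 ∧ 1 < Nat.gcd c.1 v.1 := by
    intro b c hcm x q hq hqm hxq ht htb θ hd hdc
    haveI := Fact.mk hq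
    have hqd : ¬ q ∣ charDegree (θ : N → ℂ) := fun h =>
      hq.not_dvd_one (hcm ▸ Nat.dvd_gcd (h.trans hdc) hqm)
    obtain ⟨φ, hφd, hφI⟩ := exists_twist N (r := q) θ hqd (l := x) (k := 1) (by rw [pow_one, hxq])
    have hφne : (φ : N → ℂ) ≠ fun _ => 1 := fun h => by
      have h1 := congrFun h 1
      rw [CharApps.deg_eq, hφd] at h1
      have : charDegree (θ : N → ℂ) = 1 := by exact_mod_cast h1
      omega
    obtain ⟨v, η, hη, hov⟩ := exists_vert N hφne
    exact ⟨v, one_lt_gcd (vert_pos N b) ht htb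
        (hη ▸ (Subgroup.index_dvd_of_le hφI).trans (index_dvd_deg N hov)),
      one_lt_gcd (vert_pos N c) hd.ne' hdc (hη ▸ hφd ▸ theta_deg_dvd N hov)⟩
  rcases vertex_kind N hNG hWN hWi (fun l hl => hWl hWn l hl) hbm hbK with
    ⟨x, q, hq, hqm, hxq, htx, htxb⟩ | ⟨⟨θ, hd, hdb⟩, hsb, hWne⟩ <;>
  rcases vertex_kind N hNG hWN hWi (fun l hl => hWl hWn l hl) hcm hcK with
    ⟨y, p, hp, hpm, hyp, hty, htyc⟩ | ⟨⟨θ', hd', hdc⟩, hsc, -⟩
  · -- two linear vertices
    by_cases hcop : Nat.Coprime (inertia N (linFun x)).index (inertia N (linFun y)).index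
    · have hne1 : x * y ≠ 1 → ∃ v : Vert N, (inertia N (linFun (x * y))).index ∣ v.1 := fun h => by
        obtain ⟨v, η, hη, hov⟩ := exists_vert N (φ := linIrr N (x * y)) (linFun_ne_one N h)
        exact ⟨v, overLin_index N ⟨η, hη, hov⟩⟩
      by_cases hqp : q = p
      · subst hqp
        haveI := Fact.mk hq
        have hnb : ∀ {z : Vert N}, Nat.Coprime z.1 m → ∀ {t : ℕ}, t ∣ z.1 → ¬ q ∣ t :=
          fun hz _ ht h => hq.not_dvd_one (hz ▸ Nat.dvd_gcd (h.trans ht) hqm)
        have h1 := (orbit_mul N (r := q) (k := 1) (by rw [pow_one, hxq]) htx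
          (hnb hcm htyc)).resolve_left (not_not_intro hcop)
        have h2 := (orbit_mul N (r := q) (k := 1) (by rw [pow_one, hyp]) hty
          (hnb hbm htxb)).resolve_left (not_not_intro hcop.symm)
        rw [mul_comm y x] at h2
        obtain ⟨v, hv⟩ := hne1 fun he => h1 (by
          rw [he, show (inertia N (linFun (1 : N →* ℂˣ))) = ⊤ from
            eq_top_iff.2 fun g _ => (mem_inertia_lin N).2 fun _ => rfl, Subgroup.index_top]
          exact Nat.coprime_one_left _)
        obtain ⟨s, hs, hs1, hs2⟩ := Nat.Prime.not_coprime_iff_dvd.1 h1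
        obtain ⟨t, ht, ht1, ht2⟩ := Nat.Prime.not_coprime_iff_dvd.1 h2
        exact adj_or_nbr N hne (one_lt_gcd (vert_pos N b) hs.ne_one (hs2.trans htxb) (hs1.trans hv))
          (one_lt_gcd (vert_pos N c) ht.ne_one (ht2.trans htyc) (ht1.trans hv))
      · have key : ∀ (u v : N →* ℂˣ) (i j : ℕ), Nat.Coprime i j → u ^ i = 1 → v ^ j = 1 →
            inertia N (linFun (u * v)) ≤ inertia N (linFun u) := by
          intro u v i j hij hu hv g hg
          refine (mem_inertia_lin N).2 fun n => ?_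
          have h1 : ∀ m, u m ^ i = 1 := fun m => by rw [← MonoidHom.pow_apply, hu]; rfl
          have h2 : ∀ m, v m ^ j = 1 := fun m => by rw [← MonoidHom.pow_apply, hv]; rfl
          have h3 := congrArg (fun z : ℂˣ => z ^ j) ((mem_inertia_lin N).1 hg n)
          simp only [MonoidHom.mul_apply, mul_pow, h2, mul_one] at h3
          rw [← mul_inv_eq_one, ← orderOf_eq_one_iff]
          exact Nat.eq_one_of_dvd_coprimes hij
            (orderOf_dvd_of_pow_eq_one (by rw [mul_pow, inv_pow, h1, h1, inv_one, mul_one]))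
            (orderOf_dvd_of_pow_eq_one (by rw [mul_pow, inv_pow, h3, mul_inv_cancel]))
        have hc' := (Nat.coprime_primes hq hp).2 hqp
        obtain ⟨v, hv⟩ := hne1 fun he => htx (Subgroup.index_eq_one.2 (eq_top_iff.2 fun g _ =>
          key x y q p hc' hxq hyp ((mem_inertia_lin N).2 fun n => by rw [he]; rfl)))
        exact adj_or_nbr N hne
          (one_lt_gcd (vert_pos N b) htx htxb
            ((Subgroup.index_dvd_of_le (key x y q p hc' hxq hyp)).trans hv))
          (one_lt_gcd (vert_pos N c) hty htyc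
            ((Subgroup.index_dvd_of_le (mul_comm y x ▸ key y x p q hc'.symm hyp hxq)).trans hv))
    · obtain ⟨s, hs, hs1, hs2⟩ := Nat.Prime.not_coprime_iff_dvd.1 hcop
      exact Or.inl ⟨fun e => hne (Subtype.ext e),
        one_lt_gcd (vert_pos N b) hs.ne_one (hs1.trans htxb) (hs2.trans htyc)⟩
  · obtain ⟨v, hv1, hv2⟩ := mixed b c hcm x q hq hqm hxq htx htxb θ' hd' hdc
    exact adj_or_nbr N hne hv1 hv2
  · obtain ⟨v, hv1, hv2⟩ := mixed c b hbm y p hp hpm hyp hty htyc θ hd hdb
    exact adj_or_nbr N hne hv2 hv1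
  · obtain ⟨s, hs, hsW⟩ := Nat.exists_prime_and_dvd (n := ⁅W, W⁆.relIndex W)
      fun h => not_le_of_gt (hperf W hWN hWne) (Subgroup.relIndex_eq_one.1 h)
    exact Or.inl ⟨fun e => hne (Subtype.ext e),
      one_lt_gcd (vert_pos N b) hs.ne_one (hsb s hs hsW) (hsc s hs hsW)⟩

end CfsgLib.CharApps.RelComp.Shape
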