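import Cfsg.Agent.Lib.Chars.Linear
import Cfsg.Agent.Lib.CharsMore.ItoDegree
import Cfsg.Agent.Lib.CharsMore.Clifford
import Cfsg.Agent.Lib.CharsMore.CoherenceDescent
import Cfsg.Agent.Lib.CharApps.Basic
import Cfsg.Agent.Lib.Base.Cores
import Cfsg.Agent.Lib.Base.Transport
import Cfsg.Agent.Lib.BlockOrth.PPart
import Cfsg.Agent.Lib.PSL2.Four

/-!
Faithful characters whose values on `p`-singular elements are roots of unity, with `O_p ≠ 1`.
-/

set_option linter.style.haveILetI false
set_option linter.unusedSectionVars false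

open Cfsg CfsgLib CfsgLib.CharsMore
open scoped commutatorElement ComplexConjugate

namespace CfsgLib.RootValues

universe u

variable {G : Type u} [Group G] [Fintype G] {p : ℕ} [hp : Fact p.Prime]

theorem mul_conj_eq_one {χ : G → ℂ} (hroot : ∀ g : G, p ∣ orderOf g → ∃ n : ℕ, 0 < n ∧ χ g ^ n = 1)
    {g : G} (hg : p ∣ orderOf g) : χ g * conj (χ g) = 1 := by
  obtain ⟨n, hn, hn'⟩ := hroot g hg
  rw [Complex.mul_conj', Complex.norm_eq_one_of_pow_eq_one hn' hn.ne']
  simp

theorem dvd_orderOf_of_mem {Q : Subgroup G} (hQ : IsPGroup p Q) {x : G} (hx : x ∈ Q) (h1 : x ≠ 1) :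
    p ∣ orderOf x := by
  obtain ⟨k, hk⟩ := IsPGroup.iff_orderOf.1 hQ ⟨x, hx⟩
  rw [Subgroup.orderOf_mk] at hk
  rcases k with _ | k
  · exact absurd (orderOf_eq_one_iff.1 (by rw [hk, pow_zero])) h1
  · exact hk ▸ dvd_pow_self p k.succ_ne_zero

/-- The norm of the restriction to a `p`-subgroup. -/
theorem norm_restrict {χ : IrrCharacter G}
    (hroot : ∀ g : G, p ∣ orderOf g → ∃ n : ℕ, 0 < n ∧ (χ : G → ℂ) g ^ n = 1)
    {Q : Subgroup G} [Fintype Q] (hQ : IsPGroup p Q) :
    (Nat.card Q : ℂ) * classInner (fun x : Q => (χ : G → ℂ) x) (fun x : Q => (χ : G → ℂ) x) =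
      (charDegree (χ : G → ℂ) : ℂ) ^ 2 + ((Nat.card Q : ℂ) - 1) := by
  classical
  rw [Chars.inner_def, mul_inv_cancel_left₀ (Chars.card_ne_zero Q),
    ← Finset.add_sum_erase _ _ (Finset.mem_univ (1 : Q)),
    Finset.sum_congr rfl (fun x hx => mul_conj_eq_one hroot (dvd_orderOf_of_mem hQ x.2
      (fun h => Finset.ne_of_mem_erase hx (Subtype.ext h)))),
    Finset.sum_const, Finset.card_erase_of_mem (Finset.mem_univ _), Finset.card_univ,
    ← Nat.card_eq_fintype_card, nsmul_eq_mul, mul_one, OneMemClass.coe_one, CharApps.deg_eq,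
    map_natCast, Nat.cast_sub Nat.card_pos, Nat.cast_one]
  ring

theorem exists_sq_eq {χ : IrrCharacter G}
    (hroot : ∀ g : G, p ∣ orderOf g → ∃ n : ℕ, 0 < n ∧ (χ : G → ℂ) g ^ n = 1)
    {Q : Subgroup G} [Fintype Q] (hQ : IsPGroup p Q) :
    ∃ m : ℕ, classInner (fun x : Q => (χ : G → ℂ) x) (fun x : Q => (χ : G → ℂ) x) = (m : ℂ) ∧
      m * Nat.card Q + 1 = charDegree (χ : G → ℂ) ^ 2 + Nat.card Q := by
  have hc := Chars.isCharacter_restrict Q (Chars.isCharacter_of_irr χ.2)
  obtain ⟨m, hm⟩ := Chars.inner_char_nat hc hc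
  refine ⟨m, hm, ?_⟩
  have h := norm_restrict hroot hQ
  rw [hm] at h
  have h2 : ((m * Nat.card Q + 1 : ℕ) : ℂ) = ((charDegree (χ : G → ℂ) ^ 2 + Nat.card Q : ℕ) : ℂ) := by
    push_cast
    linear_combination h
  exact_mod_cast h2

theorem key_arith {e t n : ℕ} (ht : 1 ≤ t) (hne : e * t ≠ 1) (htn : t + 1 ≤ n)
    (h : e ^ 2 * t * n + 1 = (e * t) ^ 2 + n) : e = 1 ∧ t + 1 = n := by
  obtain ⟨d, rfl⟩ : ∃ d, n = t + (d + 1) := ⟨n - t - 1, by omega⟩
  have h1 : e ^ 2 * t * (d + 1) = t + d := by nlinarith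
  have he : e ≠ 0 := by
    rintro rfl
    simp at h1
    omega
  have he1 : 1 ≤ e ^ 2 := Nat.one_le_pow _ _ (Nat.pos_of_ne_zero he)
  rcases Nat.eq_zero_or_pos d with rfl | hd
  · refine ⟨?_, by omega⟩
    simp only [zero_add, mul_one, add_zero] at h1
    have h2 : e ^ 2 = 1 := by
      have := Nat.eq_of_mul_eq_mul_right (show 0 < t by omega) (h1.trans (one_mul t).symm)
      exact this
    exact (Nat.pow_eq_one.1 h2).resolve_right two_ne_zero
  · exfalso
    rcases Nat.lt_or_ge t 2 with ht2 | ht2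
    · obtain rfl : t = 1 := by omega
      have h2 : e ^ 2 = 1 := by
        have := Nat.eq_of_mul_eq_mul_right (show 0 < d + 1 by omega)
          (show e ^ 2 * (d + 1) = 1 * (d + 1) by nlinarith)
        exact this
      rw [(Nat.pow_eq_one.1 h2).resolve_right two_ne_zero] at hne
      exact hne rfl
    · nlinarith [Nat.mul_le_mul he1 (le_refl (t * (d + 1))), Nat.mul_le_mul ht2 (le_refl d)]

/-- In `Perm X` with three points an involution inverts the elements of order three. -/
theorem perm_three {X : Type*} (hX : Nat.card X = 3) {a b : Equiv.Perm X}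
    (ha : a ^ 3 = 1) (ha1 : a ≠ 1) (hb : b ^ 2 = 1) (hb1 : b ≠ 1) : b * a * b⁻¹ = a⁻¹ := by
  haveI : Finite X := Nat.finite_of_card_ne_zero (by omega)
  let e : Equiv.Perm X ≃* Equiv.Perm (Fin 3) :=
    (Finite.equivFinOfCardEq hX).permCongrHom
  have key : ∀ a b : Equiv.Perm (Fin 3), a ^ 3 = 1 → a ≠ 1 → b ^ 2 = 1 → b ≠ 1 →
      b * a * b⁻¹ = a⁻¹ := by decide
  refine e.injective ?_
  rw [map_mul, map_mul, map_inv, map_inv]
  exact key (e a) (e b) (by rw [← map_pow, ha, map_one])
    (fun h => ha1 (e.injective (h.trans e.map_one.symm))) (by rw [← map_pow, hb, map_one])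
    (fun h => hb1 (e.injective (h.trans e.map_one.symm)))

section Main

variable {χ : IrrCharacter G} (hfaith : ∀ g : G, (χ : G → ℂ) g = (χ : G → ℂ) 1 → g = 1)
  (hnl : (χ : G → ℂ) 1 ≠ 1)
  (hroot : ∀ g : G, p ∣ orderOf g → ∃ n : ℕ, 0 < n ∧ (χ : G → ℂ) g ^ n = 1)
  {P : Subgroup G} [P.Normal] [Fintype P] (hP : IsPGroup p P) (hPne : P ≠ ⊥)

include hroot hP hPne in
theorem not_dvd_degree : ¬ p ∣ charDegree (χ : G → ℂ) := by
  intro hd
  obtain ⟨m, -, hm⟩ := exists_sq_eq hroot hP
  obtain ⟨k, hk⟩ := hP.exists_card_eq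
  have hk0 : k ≠ 0 := fun h => hPne (Subgroup.card_eq_one.1 (by rw [hk, h, pow_zero]))
  have hn : p ∣ Nat.card P := hk ▸ dvd_pow_self p hk0
  have h2 : p ∣ m * Nat.card P + 1 := hm ▸ dvd_add (dvd_pow hd two_ne_zero) hn
  exact hp.out.not_dvd_one ((Nat.dvd_add_right (hn.mul_left m)).1 h2)

include hfaith hroot hP hPne in
theorem abelian : ∀ a b : P, a * b = b * a := by
  classical
  intro a b
  letI := Chars.irrFintype P
  refine commutatorElement_eq_one_iff_mul_comm.1 ?_
  refine Subtype.ext (hfaith _ ?_)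
  have hres := Chars.isCharacter_restrict P (Chars.isCharacter_of_irr χ.2)
  have hexp := Chars.classFun_eq_sum (Chars.isClassFunction_of_isCharacter hres)
  have h1 := congrFun hexp ⁅a, b⁆
  have h2 := congrFun hexp 1
  simp only [Finset.sum_apply, Pi.smul_apply, smul_eq_mul, OneMemClass.coe_one] at h1 h2
  rw [h1, h2]
  refine Finset.sum_congr rfl fun θ _ => ?_
  by_cases hθ : classInner (fun x : P => (χ : G → ℂ) x) (θ : P → ℂ) = 0
  · rw [hθ, zero_mul, zero_mul]
  congr 1
  have hlin : (θ : P → ℂ) 1 = 1 := by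
    obtain ⟨k, -, hk, -⟩ := degree_quotient P χ.2 θ.2 hθ
    obtain ⟨d, -, hd, hdd⟩ := Chars.irr_degree_dvd_card θ.2
    obtain ⟨j, hj⟩ := hP.exists_card_eq
    obtain ⟨i, -, rfl⟩ := (Nat.dvd_prime_pow hp.out).1 (hj ▸ hdd)
    rcases i with _ | i
    · simpa using hd
    · exfalso
      rw [hd, CharApps.deg_eq] at hk
      refine not_dvd_degree hroot hP hPne ⟨k * p ^ i, ?_⟩
      have : charDegree (χ : G → ℂ) = k * p ^ (i + 1) := by exact_mod_cast hk
      rw [this]; ring
  obtain ⟨l, hl⟩ := Chars.exists_hom_of_degree_one (Chars.isCharacter_of_irr θ.2) hlin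
  rw [hl]
  simp [commutatorElement_def, mul_comm, mul_left_comm]

include hfaith hnl hroot hP hPne in
/-- The restriction to `P` is the regular character minus the principal one. -/
theorem restrict_eq : charDegree (χ : G → ℂ) + 1 = Nat.card P ∧ 3 ≤ Nat.card P ∧
    (∀ x : P, x ≠ 1 → (χ : G → ℂ) x = -1) ∧
    ∀ (η : IrrCharacter P), η ≠ Chars.principal P →
      classInner (fun x : P => (χ : G → ℂ) x) (η : P → ℂ) = 1 ∧
        ∀ η' : IrrCharacter P, η' ≠ Chars.principal P →
          ∃ g : G, conjFn P g (η : P → ℂ) = (η' : P → ℂ) := by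
  classical
  letI := Chars.irrFintype P
  have hcomm := abelian hfaith hroot hP hPne
  have hdeg1 : ∀ θ : IrrCharacter P, (θ : P → ℂ) 1 = 1 := fun θ =>
    Chars.irr_abelian_degree hcomm θ.2
  have hcard : Fintype.card (IrrCharacter P) = Nat.card P := by
    have h1 := Chars.card_degree_one (G := P)
    have hb : commutator P = ⊥ := by
      rw [_root_.commutator_def, eq_bot_iff, Subgroup.commutator_le]
      exact fun a _ b _ => Subgroup.mem_bot.2 (commutatorElement_eq_one_iff_mul_comm.2 (hcomm a b))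
    rw [hb, Subgroup.index_bot, Nat.card_congr (Equiv.subtypeUnivEquiv hdeg1),
      Nat.card_eq_fintype_card] at h1
    exact h1
  obtain ⟨θ, hθ⟩ := exists_below P χ.2
  have hcl := clifford P χ.2 θ.2 hθ
  have hres := Chars.isCharacter_restrict P (Chars.isCharacter_of_irr χ.2)
  set e := multNat (fun x : P => (χ : G → ℂ) x) (θ : P → ℂ) with he_def
  have he : classInner (fun x : P => (χ : G → ℂ) x) (θ : P → ℂ) = (e : ℂ) :=
    inner_eq_multNat hres (Chars.isCharacter_of_irr θ.2)
  rw [he] at hcl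
  set O := orbitFn P (θ : P → ℂ) with hO
  set t := O.card with ht
  have hirr : ∀ ψ ∈ O, IsIrrCharacter P ψ := fun ψ hψ => orbitFn_irr P θ.2 hψ
  have ha : charDegree (χ : G → ℂ) = e * t := by
    have h1 := clifford_degree P χ.2 θ.2 hθ
    rw [he, hdeg1, mul_one, ← card_orbitFn, ← hO, ← ht, CharApps.deg_eq] at h1
    exact_mod_cast h1
  have hinner : ∀ η : IrrCharacter P, classInner (fun x : P => (χ : G → ℂ) x) (η : P → ℂ) =
      if (η : P → ℂ) ∈ O then (e : ℂ) else 0 := by
    intro η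
    rw [hcl, Chars.inner_smul_left, Chars.inner_sum_left,
      Finset.sum_congr rfl fun ψ hψ => Chars.inner_irr_of_isIrr (hirr ψ hψ) η.2,
      Finset.sum_ite_eq']
    split_ifs <;> simp
  have hnorm : classInner (fun x : P => (χ : G → ℂ) x) (fun x : P => (χ : G → ℂ) x) =
      ((e * e * t : ℕ) : ℂ) := by
    rw [hcl, Chars.inner_smul_left, Chars.inner_smul_right, map_natCast, Chars.inner_sum_left,
      Finset.sum_congr rfl (fun ψ hψ => by
        rw [Chars.inner_sum_right, Finset.sum_congr rfl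
          fun ψ' hψ' => Chars.inner_irr_of_isIrr (hirr ψ hψ) (hirr ψ' hψ'), Finset.sum_ite_eq,
          if_pos hψ]),
      Finset.sum_const, nsmul_eq_mul, mul_one, ← ht]
    push_cast
    ring
  obtain ⟨m, hm, hmn⟩ := exists_sq_eq hroot hP
  have hme : m = e * e * t := by exact_mod_cast hm.symm.trans hnorm
  -- the orbit avoids the principal character
  let full : Finset (P → ℂ) :=
    (Finset.univ.erase (Chars.principal P)).image (fun η : IrrCharacter P => (η : P → ℂ))
  have hfull : full.card = Nat.card P - 1 := by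
    rw [Finset.card_image_of_injective _ Subtype.val_injective,
      Finset.card_erase_of_mem (Finset.mem_univ _), Finset.card_univ, hcard]
  have hsub : O ⊆ full := by
    intro ψ hψ
    refine Finset.mem_image.2 ⟨⟨ψ, hirr ψ hψ⟩, Finset.mem_erase.2 ⟨fun h => ?_, Finset.mem_univ _⟩, rfl⟩
    obtain ⟨g, hg⟩ := (mem_orbitFn P).1 hψ
    have hθ1 : ∀ x : P, (θ : P → ℂ) x = 1 := by
      intro x
      obtain ⟨y, hy⟩ := conjBy_surjective P g x
      have h2 : ψ y = 1 := by
        have := congrArg (fun η : IrrCharacter P => (η : P → ℂ) y) h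
        simpa [Chars.principal_apply] using this
      rw [← hg] at h2
      rw [← hy]
      exact h2
    obtain ⟨x, hx, hx1⟩ := P.bot_or_exists_ne_one.resolve_left hPne
    refine hx1 (hfaith x ?_)
    have h3 : ∀ ψ' ∈ O, ∀ y : P, ψ' y = 1 := by
      intro ψ' hψ' y
      obtain ⟨g', hg'⟩ := (mem_orbitFn P).1 hψ'
      rw [← hg']
      exact hθ1 _
    have e1 := congrFun hcl ⟨x, hx⟩
    have e2 := congrFun hcl 1
    simp only [Pi.smul_apply, Finset.sum_apply, smul_eq_mul, OneMemClass.coe_one] at e1 e2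
    rw [e1, e2]
    congr 1
    exact Finset.sum_congr rfl fun ψ' hψ' => by rw [h3 ψ' hψ', h3 ψ' hψ']
  have htn : t + 1 ≤ Nat.card P := by
    have := Finset.card_le_card hsub
    rw [hfull] at this
    have : 0 < Nat.card P := Nat.card_pos
    omega
  have ht1 : 1 ≤ t := Finset.card_pos.2 ⟨_, (mem_orbitFn P).2 ⟨1, conjFn_one P _⟩⟩
  have ha1 : e * t ≠ 1 := fun h => hnl (by rw [CharApps.deg_eq, ha, h, Nat.cast_one])
  obtain ⟨he1, htn'⟩ := key_arith ht1 ha1 htn (by rw [← ha, pow_two e, ← hme]; exact hmn)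
  have hOfull : O = full := Finset.eq_of_subset_of_card_le hsub (by rw [hfull]; omega)
  rw [he1, one_mul] at ha
  refine ⟨by omega, ?_, fun x hx => ?_, fun η hη => ⟨?_, fun η' hη' => ?_⟩⟩
  · rw [he1, one_mul] at ha1; omega
  · have h1 := congrFun hcl x
    rw [he1, Nat.cast_one, one_smul, Finset.sum_apply, hOfull,
      Finset.sum_image (fun a _ b _ h => Subtype.val_injective h)] at h1
    rw [h1]
    have h2 := Chars.second_orthogonality (G := P) x 1
    rw [if_neg (fun h => hx (isConj_one_right.1 h))] at h2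
    simp only [hdeg1, map_one, mul_one] at h2
    rw [← Finset.add_sum_erase _ _ (Finset.mem_univ (Chars.principal P)), Chars.principal_apply] at h2
    exact eq_neg_of_add_eq_zero_right h2
  · rw [hinner, if_pos (show (η : P → ℂ) ∈ O from hOfull ▸
      Finset.mem_image.2 ⟨η, Finset.mem_erase.2 ⟨hη, Finset.mem_univ _⟩, rfl⟩), he1, Nat.cast_one]
  · have h1 : (η : P → ℂ) ∈ O := hOfull ▸
      Finset.mem_image.2 ⟨η, Finset.mem_erase.2 ⟨hη, Finset.mem_univ _⟩, rfl⟩
    have h2 : (η' : P → ℂ) ∈ O := hOfull ▸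
      Finset.mem_image.2 ⟨η', Finset.mem_erase.2 ⟨hη', Finset.mem_univ _⟩, rfl⟩
    obtain ⟨g₁, hg₁⟩ := (mem_orbitFn P).1 h1
    obtain ⟨g₂, hg₂⟩ := (mem_orbitFn P).1 h2
    refine ⟨g₁⁻¹ * g₂, ?_⟩
    rw [← hg₁, ← conjFn_mul, mul_inv_cancel_left, hg₂]

include hfaith hnl hroot hP hPne in
theorem inf_center : P ⊓ Subgroup.center G = ⊥ := by
  rw [Subgroup.eq_bot_iff_forall]
  intro x hx
  obtain ⟨hxP, hxZ⟩ := Subgroup.mem_inf.1 hx
  by_contra hx1
  obtain ⟨ha, hn, hval, -⟩ := restrict_eq hfaith hnl hroot hP hPne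
  have h1 := norm_eq_of_commutes_mod_ker χ.2 (d := x) fun c => by
    rw [← Subgroup.mem_center_iff.1 hxZ c]; group
  rw [hval ⟨x, hxP⟩ (fun h => hx1 (congrArg Subtype.val h)), norm_neg, norm_one] at h1
  have : charDegree (χ : G → ℂ) = 1 := by exact_mod_cast h1.symm
  omega

include hfaith hnl hroot hP hPne in
theorem centralizer_eq (hPmax : ∀ N : Subgroup G, N.Normal → IsPGroup p N → N ≤ P) :
    Subgroup.centralizer (P : Set G) = P ⊔ Subgroup.center G := by
  classical
  obtain ⟨ha, -, -, hfull⟩ := restrict_eq hfaith hnl hroot hP hPne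
  have hPab := abelian hfaith hroot hP hPne
  refine le_antisymm ?_ (sup_le (fun x hx => ?_) (fun x hx => ?_))
  rotate_left
  · exact Subgroup.mem_centralizer_iff.2 fun y hy =>
      congrArg Subtype.val (hPab ⟨y, hy⟩ ⟨x, hx⟩)
  · exact Subgroup.mem_centralizer_iff.2 fun y _ => Subgroup.mem_center_iff.1 hx y
  set C := Subgroup.centralizer (P : Set G) with hC
  have hPC : P ≤ C := fun x hx => Subgroup.mem_centralizer_iff.2 fun y hy =>
    congrArg Subtype.val (hPab ⟨y, hy⟩ ⟨x, hx⟩)
  haveI : C.Normal := inferInstance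
  letI := Fintype.ofFinite C
  letI := Chars.irrFintype C
  letI := Chars.irrFintype P
  let ι : P →* C := Subgroup.inclusion hPC
  have hres := Chars.isCharacter_restrict C (Chars.isCharacter_of_irr χ.2)
  set m : IrrCharacter C → ℕ := fun μ =>
    multNat (fun c : C => (χ : G → ℂ) c) (μ : C → ℂ) with hm
  have hexp : ∀ c : C, (χ : G → ℂ) c = ∑ μ, (m μ : ℂ) * (μ : C → ℂ) c := by
    intro c
    have := congrFun (char_eq_sum_multNat hres) c
    simpa [Finset.sum_apply, hm] using this
  -- the central restriction of a constituent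
  have hlam : ∀ μ : IrrCharacter C, ∃ η : IrrCharacter P,
      ∀ x : P, (μ : C → ℂ) (ι x) = (charDegree (μ : C → ℂ) : ℂ) * (η : P → ℂ) x := by
    intro μ
    obtain ⟨η, hη⟩ := Chars.exists_constituent
      (Chars.isCharacter_comp ι (Chars.isCharacter_of_irr μ.2)) (fun h => by
        have h1 := congrFun h 1
        simp only [map_one, Pi.zero_apply] at h1
        exact Chars.irr_degree_ne_zero μ.2 h1)
    have hη1 : (η : P → ℂ) 1 = 1 := Chars.irr_abelian_degree hPab η.2
    obtain ⟨k, ρ, hρ, hρμ⟩ := id μ.2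
    haveI := hρ
    have hz : ∀ x : P, ι x ∈ Subgroup.center C := fun x => Subgroup.mem_center_iff.2 fun c =>
      Subtype.ext (Subgroup.mem_centralizer_iff.1 c.2 x x.2).symm
    choose c hc using fun x : P => Chars.exists_scalar_of_mem_center ρ (ι x) (hz x)
    have hk : k ≠ 0 := by
      rintro rfl
      exact Chars.irr_degree_ne_zero μ.2 (by rw [← hρμ, Representation.char_one]; simp)
    have hkd : charDegree (μ : C → ℂ) = k := by
      have h1 : (charDegree (μ : C → ℂ) : ℂ) = k := by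
        rw [← CharApps.deg_eq, ← hρμ, Representation.char_one, Module.finrank_fin_fun]
      exact_mod_cast h1
    have hval : ∀ x : P, (μ : C → ℂ) (ι x) = (k : ℂ) * c x := fun x => by
      rw [← hρμ]
      show LinearMap.trace ℂ (Fin k → ℂ) (ρ (ι x)) = _
      rw [hc, map_smul, LinearMap.trace_id, Module.finrank_fin_fun, smul_eq_mul, mul_comm]
    have hmul : ∀ x y : P, c (x * y) = c x * c y := by
      intro x y
      have h1 : ρ (ι (x * y)) = ρ (ι x) * ρ (ι y) := by rw [map_mul, map_mul]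
      have h2 := congrArg (LinearMap.trace ℂ (Fin k → ℂ)) h1
      rw [hc, hc, hc, Module.End.mul_eq_comp, LinearMap.smul_comp, LinearMap.id_comp, smul_smul,
        map_smul, map_smul, LinearMap.trace_id, Module.finrank_fin_fun, smul_eq_mul,
        smul_eq_mul] at h2
      exact mul_right_cancel₀ (Nat.cast_ne_zero.2 hk) h2
    have hc1 : c 1 = 1 := by
      have h1 := hval 1
      rw [map_one, CharApps.deg_eq, hkd] at h1
      exact mul_left_cancel₀ (Nat.cast_ne_zero.2 hk) (h1.symm.trans (mul_one _).symm)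
    let l : P →* ℂ := { toFun := c, map_one' := hc1, map_mul' := hmul }
    have hirr := Chars.isIrrCharacter_linear l.toHomUnits
    refine ⟨⟨_, hirr⟩, fun x => ?_⟩
    rw [hval, hkd]
    rfl
  choose lam hlamv using hlam
  -- each restriction to `P` occurs at most once
  have hsum : ∀ η : IrrCharacter P, classInner (fun x : P => (χ : G → ℂ) x) (η : P → ℂ) =
      ((∑ μ, if lam μ = η then m μ * charDegree (μ : C → ℂ) else 0 : ℕ) : ℂ) := by
    intro η
    have h1 : (fun x : P => (χ : G → ℂ) x) =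
        ∑ μ, ((m μ * charDegree (μ : C → ℂ) : ℕ) : ℂ) • (lam μ : P → ℂ) := by
      funext x
      rw [show ((x : P) : G) = ((ι x : C) : G) from rfl, hexp, Finset.sum_apply]
      refine Finset.sum_congr rfl fun μ _ => ?_
      rw [hlamv, Pi.smul_apply, smul_eq_mul, Nat.cast_mul, mul_assoc]
    rw [h1, Chars.inner_sum_left, Nat.cast_sum]
    refine Finset.sum_congr rfl fun μ _ => ?_
    rw [Chars.inner_smul_left, Chars.inner_irr]
    split_ifs <;> simp
  have hle : ∀ η : IrrCharacter P,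
      (∑ μ, if lam μ = η then m μ * charDegree (μ : C → ℂ) else 0) ≤ 1 := by
    intro η
    by_cases hη : η = Chars.principal P
    · -- the principal character does not occur
      have hp0 : classInner (fun x : P => (χ : G → ℂ) x) (η : P → ℂ) = 0 := by
        obtain ⟨ha', -, hval, -⟩ := restrict_eq hfaith hnl hroot hP hPne
        rw [hη, Chars.inner_def, ← Finset.add_sum_erase _ _ (Finset.mem_univ (1 : P)),
          Finset.sum_congr rfl (fun x hx => by
            rw [hval x (Finset.ne_of_mem_erase hx), Chars.principal_apply, map_one, mul_one]),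
          Finset.sum_const, Finset.card_erase_of_mem (Finset.mem_univ _), Finset.card_univ,
          ← Nat.card_eq_fintype_card, OneMemClass.coe_one, CharApps.deg_eq, Chars.principal_apply,
          map_one, mul_one, nsmul_eq_mul, ← ha', Nat.add_sub_cancel]
        ring
      rw [hsum, Nat.cast_eq_zero] at hp0
      omega
    · have h1 := (hfull η hη).1
      rw [hsum, Nat.cast_eq_one] at h1
      omega
  have hone : ∀ μ, m μ ≠ 0 → m μ = 1 ∧ charDegree (μ : C → ℂ) = 1 := by
    intro μ hμ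
    have h1 : m μ * charDegree (μ : C → ℂ) ≤ 1 := le_trans (le_of_eq (if_pos rfl).symm)
      ((Finset.single_le_sum
        (f := fun ν => if lam ν = lam μ then m ν * charDegree (ν : C → ℂ) else 0)
        (fun ν _ => Nat.zero_le _) (Finset.mem_univ μ)).trans (hle (lam μ)))
    have h2 := CharApps.deg_pos μ
    have h3 : 0 < m μ := Nat.pos_of_ne_zero hμ
    constructor <;> nlinarith
  have hinj : ∀ μ ν, m μ ≠ 0 → m ν ≠ 0 → lam μ = lam ν → μ = ν := by
    intro μ ν hμ hν h
    by_contra hne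
    have h1 := hle (lam μ)
    rw [← Finset.add_sum_erase _ _ (Finset.mem_univ μ), if_pos rfl] at h1
    have h2 := Finset.single_le_sum
      (f := fun κ => if lam κ = lam μ then m κ * charDegree (κ : C → ℂ) else 0)
      (fun κ _ => Nat.zero_le _) (Finset.mem_erase.2 ⟨Ne.symm hne, Finset.mem_univ ν⟩)
    rw [if_pos h.symm, (hone ν hν).1, (hone ν hν).2] at h2
    rw [(hone μ hμ).1, (hone μ hμ).2] at h1
    omega
  -- `C` is commutative
  have hCab : ∀ a b : C, a * b = b * a := by
    intro a b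
    refine commutatorElement_eq_one_iff_mul_comm.1 (Subtype.ext (hfaith _ ?_))
    rw [hexp, show ((1 : G)) = ((1 : C) : G) from rfl, hexp]
    refine Finset.sum_congr rfl fun μ _ => ?_
    by_cases hμ : m μ = 0
    · simp [hμ]
    obtain ⟨l, hl⟩ := Chars.exists_hom_of_degree_one (Chars.isCharacter_of_irr μ.2)
      ((CharApps.deg_eq_one_iff μ).2 (hone μ hμ).2)
    rw [hl]
    simp [commutatorElement_def, mul_comm, mul_left_comm]
  -- regular elements of `C` are central
  have hreg : ∀ z : C, ¬ p ∣ orderOf (z : G) → (z : G) ∈ Subgroup.center G := by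
    intro z hz
    set f : P → ℂ := fun x => (χ : G → ℂ) (((ι x * z : C)) : G) with hf
    have hfe : f = ∑ μ, ((m μ : ℂ) * (μ : C → ℂ) z) • (lam μ : P → ℂ) := by
      funext x
      rw [hf, Finset.sum_apply]
      show (χ : G → ℂ) _ = _
      rw [hexp]
      refine Finset.sum_congr rfl fun μ _ => ?_
      by_cases hμ : m μ = 0
      · simp [hμ]
      obtain ⟨l, hl⟩ := Chars.exists_hom_of_degree_one (Chars.isCharacter_of_irr μ.2)
        ((CharApps.deg_eq_one_iff μ).2 (hone μ hμ).2)
      have h1 := hlamv μ x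
      rw [(hone μ hμ).2, Nat.cast_one, one_mul] at h1
      rw [Pi.smul_apply, smul_eq_mul, ← h1, hl]
      simp only [map_mul, Units.val_mul]
      ring
    have hN : classInner f f = (charDegree (χ : G → ℂ) : ℂ) := by
      have hdegsum : charDegree (χ : G → ℂ) = ∑ μ, m μ := by
        have h1 := hexp 1
        rw [OneMemClass.coe_one, CharApps.deg_eq] at h1
        have h2 : charDegree (χ : G → ℂ) = ∑ μ, m μ * charDegree (μ : C → ℂ) := by
          simp only [CharApps.deg_eq] at h1
          exact_mod_cast h1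
        rw [h2]
        refine Finset.sum_congr rfl fun μ _ => ?_
        by_cases hμ : m μ = 0
        · simp [hμ]
        · rw [(hone μ hμ).2, mul_one]
      rw [hfe, Chars.inner_sum_left, hdegsum, Nat.cast_sum]
      refine Finset.sum_congr rfl fun μ _ => ?_
      rw [Chars.inner_smul_left, Chars.inner_sum_right]
      by_cases hμ : m μ = 0
      · simp [hμ]
      rw [Finset.sum_eq_single μ]
      · obtain ⟨l, hl⟩ := Chars.exists_hom_of_degree_one (Chars.isCharacter_of_irr μ.2)
          ((CharApps.deg_eq_one_iff μ).2 (hone μ hμ).2)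
        rw [Chars.inner_smul_right, Chars.inner_irr, if_pos rfl, mul_one, (hone μ hμ).1,
          Nat.cast_one, one_mul, Complex.mul_conj', hl]
        have h1 : ((l z : ℂˣ) : ℂ) ^ orderOf z = 1 := by
          rw [← Units.val_pow_eq_pow_val, ← map_pow, pow_orderOf_eq_one, map_one, Units.val_one]
        rw [Complex.norm_eq_one_of_pow_eq_one h1 (orderOf_pos z).ne']
        simp
      · intro ν _ hν
        rw [Chars.inner_smul_right, Chars.inner_irr]
        by_cases hν0 : m ν = 0
        · simp [hν0]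
        · rw [if_neg fun h => hν (hinj ν μ hν0 hμ h.symm), mul_zero]
      · simp
    rw [Chars.inner_def, ← Finset.add_sum_erase _ _ (Finset.mem_univ (1 : P)),
      Finset.sum_congr rfl (fun x hx => by
        refine mul_conj_eq_one hroot ?_
        have hx1 : (x : G) ≠ 1 := fun h => Finset.ne_of_mem_erase hx (Subtype.ext h)
        have hcomm : Commute (x : G) (z : G) := Subgroup.mem_centralizer_iff.1 z.2 x x.2
        have hco : (orderOf (x : G)).Coprime (orderOf (z : G)) := by
          obtain ⟨k, hk⟩ := IsPGroup.iff_orderOf.1 hP x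
          rw [Subgroup.orderOf_coe, hk]
          exact (hp.out.coprime_iff_not_dvd.2 hz).pow_left k
        show p ∣ orderOf ((x : G) * (z : G))
        rw [hcomm.orderOf_mul_eq_mul_orderOf_of_coprime hco]
        exact (dvd_orderOf_of_mem hP x.2 hx1).mul_right _),
      Finset.sum_const, Finset.card_erase_of_mem (Finset.mem_univ _), Finset.card_univ,
      ← Nat.card_eq_fintype_card, nsmul_eq_mul, mul_one, ← ha, Nat.add_sub_cancel] at hN
    have hf1 : f 1 = (χ : G → ℂ) z := by
      show (χ : G → ℂ) (((ι 1 * z : C)) : G) = _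
      rw [map_one, one_mul]
    rw [hf1, Complex.mul_conj'] at hN
    have hn0 : ((charDegree (χ : G → ℂ) + 1 : ℕ) : ℂ) ≠ 0 := Nat.cast_ne_zero.2 (Nat.succ_ne_zero _)
    rw [inv_mul_eq_iff_eq_mul₀ hn0] at hN
    have h5 : ((‖(χ : G → ℂ) z‖ ^ 2 : ℝ) : ℂ) = (((charDegree (χ : G → ℂ) : ℝ) ^ 2 : ℝ) : ℂ) := by
      push_cast at hN ⊢
      linear_combination hN
    have h6 : ‖(χ : G → ℂ) z‖ = (charDegree (χ : G → ℂ) : ℝ) :=
      (pow_left_inj₀ (norm_nonneg _) (Nat.cast_nonneg _) two_ne_zero).1 (Complex.ofReal_inj.1 h5)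
    obtain ⟨k, ρ, hρ, hρχ⟩ := id χ.2
    have hk : (charDegree (χ : G → ℂ) : ℝ) = (Module.finrank ℂ (Fin k → ℂ) : ℝ) := by
      have h1 : (charDegree (χ : G → ℂ) : ℂ) = (Module.finrank ℂ (Fin k → ℂ) : ℂ) := by
        rw [← CharApps.deg_eq, ← hρχ, Representation.char_one]
      exact_mod_cast h1
    obtain ⟨ω, hω⟩ := (Chars.norm_character_eq_iff ρ (z : G)).1 (by rw [hρχ, h6, hk])
    refine Subgroup.mem_center_iff.2 fun g => ?_
    have hρinj : Function.Injective ρ := by
      rw [injective_iff_map_eq_one]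
      exact fun g hg => hfaith g ((Chars.ker_iff ρ hρχ g).2 hg)
    refine hρinj ?_
    rw [map_mul, map_mul, hω]
    ext; simp
  intro y hy
  obtain ⟨u, huy, hcomm, ⟨k, hk⟩, hreg'⟩ := BlockOrth.isPPrimePart_pPrimePart (p := p) y
  set z := BlockOrth.pPrimePart p y
  have hzC : z ∈ C := by
    obtain ⟨n, hn⟩ := (BlockOrth.isPPrimePart_pPrimePart (p := p) y).exists_pow
    show BlockOrth.pPrimePart p y ∈ C
    rw [← hn]
    exact pow_mem hy n
  have hz := hreg ⟨z, hzC⟩ hreg'
  have huC : u ∈ C := by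
    have := mul_mem hy (inv_mem hzC)
    rw [← huy, mul_inv_cancel_right] at this
    exact this
  -- the `p`-elements of `C` form a normal `p`-subgroup
  let R : Subgroup G :=
    { carrier := {w | w ∈ C ∧ ∃ j, w ^ p ^ j = 1}
      one_mem' := ⟨one_mem _, 0, one_pow _⟩
      mul_mem' := by
        rintro a b ⟨ha, i, hi⟩ ⟨hb, j, hj⟩
        refine ⟨mul_mem ha hb, i + j, ?_⟩
        have hab : Commute a b := congrArg Subtype.val (hCab ⟨a, ha⟩ ⟨b, hb⟩)
        rw [hab.mul_pow, pow_add, pow_mul, hi, one_pow, mul_comm (p ^ i), pow_mul, hj, one_pow,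
          one_mul]
      inv_mem' := by
        rintro a ⟨ha, i, hi⟩
        exact ⟨inv_mem ha, i, by rw [inv_pow, hi, inv_one]⟩ }
  haveI : R.Normal := ⟨fun w hw g => ⟨(inferInstance : C.Normal).conj_mem w hw.1 g, by
    obtain ⟨j, hj⟩ := hw.2
    exact ⟨j, by rw [conj_pow, hj, mul_one, mul_inv_cancel]⟩⟩⟩
  have hR : IsPGroup p R := fun w => by
    obtain ⟨j, hj⟩ := w.2.2
    exact ⟨j, Subtype.ext hj⟩
  have huP : u ∈ P := hPmax R inferInstance hR ⟨huC, k, hk ▸ pow_orderOf_eq_one u⟩
  rw [← huy]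
  exact mul_mem (Subgroup.mem_sup_left huP) (Subgroup.mem_sup_right hz)

include hfaith hnl hroot hP hPne in
theorem elementary : ∀ x ∈ P, x ^ p = 1 := by
  classical
  obtain ⟨-, -, -, hfull⟩ := restrict_eq hfaith hnl hroot hP hPne
  letI := Chars.irrFintype P
  have hcomm := abelian hfaith hroot hP hPne
  have hcard : Nat.card (P →* ℂˣ) = Nat.card P := by
    rw [Chars.card_monoidHom_units, show commutator P = ⊥ by
      rw [_root_.commutator_def, eq_bot_iff, Subgroup.commutator_le]
      exact fun a _ b _ => Subgroup.mem_bot.2 (commutatorElement_eq_one_iff_mul_comm.2 (hcomm a b)),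
      Subgroup.index_bot]
  haveI : Finite (P →* ℂˣ) := Chars.finite_monoidHom_units
  obtain ⟨k, hk⟩ := hP.exists_card_eq
  have hk0 : k ≠ 0 := fun h => hPne (Subgroup.card_eq_one.1 (by rw [hk, h, pow_zero]))
  obtain ⟨l, hl⟩ := exists_prime_orderOf_dvd_card' (G := P →* ℂˣ) p
    (by rw [hcard, hk]; exact dvd_pow_self p hk0)
  intro x hx
  refine congrArg Subtype.val (Chars.eq_one_of_forall_irr (g := (⟨x, hx⟩ : P) ^ p) fun η => ?_)
  by_cases hη : η = Chars.principal P
  · rw [hη, Chars.principal_apply, Chars.principal_apply]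
  have hl1 : (⟨_, Chars.isIrrCharacter_linear l⟩ : IrrCharacter P) ≠ Chars.principal P := by
    intro h
    have hl0 : l = 1 := MonoidHom.ext fun y => Units.ext (by
      have := congrFun (congrArg Subtype.val h) y
      simpa [Chars.principal_apply] using this)
    rw [hl0, orderOf_one] at hl
    exact hp.out.one_lt.ne hl
  obtain ⟨g, hg⟩ := (hfull _ hl1).2 η hη
  rw [← hg]
  show ((l (conjBy P g ((⟨x, hx⟩ : P) ^ p)) : ℂˣ) : ℂ) = ((l (conjBy P g 1) : ℂˣ) : ℂ)
  rw [map_pow, map_one, map_one, map_pow, ← MonoidHom.pow_apply, ← hl, pow_orderOf_eq_one,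
    MonoidHom.one_apply]

include hfaith hnl hroot hP hPne in
set_option maxHeartbeats 800000 in
/-- Either the Sylow subgroup is `P`, or `P` is a four-group inside a larger Sylow 2-subgroup. -/
theorem sylow_cases (Q : Sylow p G) (hPQ : P ≤ (Q : Subgroup G)) :
    (Q : Subgroup G) = P ∨ (p = 2 ∧ Nat.card P = 4 ∧ Nat.card Q = 8) := by
  classical
  letI := Fintype.ofFinite (Q : Subgroup G)
  obtain ⟨ha, hn3, -, hfull⟩ := restrict_eq hfaith hnl hroot hP hPne
  have hcomm := abelian hfaith hroot hP hPne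
  have hexp := elementary hfaith hnl hroot hP hPne
  obtain ⟨m, hm, hmq⟩ := exists_sq_eq hroot Q.2
  obtain ⟨k, hk⟩ := hP.exists_card_eq
  obtain ⟨j, hj⟩ := Q.2.exists_card_eq
  have hkj : k ≤ j := (Nat.pow_dvd_pow_iff_le_right hp.out.one_lt).1
    (hk ▸ hj ▸ Subgroup.card_dvd_of_le hPQ)
  by_cases hEq : j = k
  · exact Or.inl (Subgroup.eq_of_le_of_card_ge hPQ (le_of_eq (by rw [hk, hj, hEq]))).symm
  right
  have hk0 : 1 ≤ k := Nat.one_le_iff_ne_zero.2 fun h => hPne (Subgroup.card_eq_one.1 (by rw [hk, h, pow_zero]))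
  obtain ⟨c, hc⟩ : ∃ c, Nat.card P = c + 2 := ⟨Nat.card P - 2, by omega⟩
  have hdiv : Nat.card Q ∣ c * Nat.card P := by
    refine ⟨m - 1, ?_⟩
    have h1 : charDegree (χ : G → ℂ) = c + 1 := by omega
    rw [h1] at hmq
    rcases Nat.eq_zero_or_pos m with rfl | hm0
    · nlinarith [Nat.card_pos (α := (Q : Subgroup G))]
    obtain ⟨m', rfl⟩ : ∃ m', m = m' + 1 := ⟨m - 1, by omega⟩
    rw [Nat.add_sub_cancel, hc]
    nlinarith
  have hp2 : p = 2 := by
    by_contra hp2
    have hc' : ¬ p ∣ c := fun h => hp2 ((Nat.prime_dvd_prime_iff_eq hp.out Nat.prime_two).1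
      ((Nat.dvd_add_right h).1 (hc ▸ hk ▸ dvd_pow_self p (by omega) : p ∣ c + 2)))
    rw [hj, hk] at hdiv
    have := (Nat.pow_dvd_pow_iff_le_right hp.out.one_lt).1
      (((hp.out.coprime_iff_not_dvd.2 hc').pow_left j).dvd_of_dvd_mul_left hdiv)
    omega
  subst hp2
  have hk2 : 2 ≤ k := by
    by_contra h
    obtain rfl : k = 1 := by omega
    omega
  have hj1 : j = k + 1 := by
    have h4 : ¬ 4 ∣ c := fun h => by
      have h5 : (4 : ℕ) ∣ c + 2 := hc ▸ hk ▸ (pow_dvd_pow 2 hk2)
      omega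
    by_contra hne
    have hj2 : k + 2 ≤ j := by omega
    rw [hj, hk] at hdiv
    have h6 : 2 ^ (k + 2) ∣ c * 2 ^ k := (pow_dvd_pow 2 hj2).trans hdiv
    rw [pow_add, mul_comm c] at h6
    exact h4 (Nat.dvd_of_mul_dvd_mul_left (pow_pos two_pos k) h6)
  subst hj1
  -- constituents of the restriction to the Sylow subgroup
  letI := Chars.irrFintype (Q : Subgroup G)
  letI := Chars.irrFintype P
  have hresQ := Chars.isCharacter_restrict (Q : Subgroup G) (Chars.isCharacter_of_irr χ.2)
  set mQ : IrrCharacter (Q : Subgroup G) → ℕ := fun φ =>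
    multNat (fun x : (Q : Subgroup G) => (χ : G → ℂ) x) (φ : ↥(Q : Subgroup G) → ℂ) with hmQ
  have hexpQ : (fun x : (Q : Subgroup G) => (χ : G → ℂ) x) =
      ∑ φ, (mQ φ : ℂ) • (φ : ↥(Q : Subgroup G) → ℂ) := char_eq_sum_multNat hresQ
  have hsumsq : ∑ φ, mQ φ * mQ φ = m := by
    have h1 := Chars.inner_eq_sum (Chars.isClassFunction_of_isCharacter hresQ)
      (fun x : (Q : Subgroup G) => (χ : G → ℂ) x)
    rw [hm] at h1
    simp only [inner_eq_multNat hresQ (Chars.isCharacter_of_irr (Subtype.prop _)), map_natCast] at h1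
    exact_mod_cast h1.symm
  have hdegs : ∑ φ, mQ φ * charDegree (φ : ↥(Q : Subgroup G) → ℂ) = charDegree (χ : G → ℂ) := by
    have h1 := congrFun hexpQ 1
    simp only [Finset.sum_apply, Pi.smul_apply, smul_eq_mul, OneMemClass.coe_one,
      CharApps.deg_eq] at h1
    exact_mod_cast h1.symm
  haveI hPQn : (P.subgroupOf (Q : Subgroup G)).Normal := inferInstance
  have hidx : (P.subgroupOf (Q : Subgroup G)).index = 2 := by
    have h1 := (P.subgroupOf (Q : Subgroup G)).index_mul_card
    rw [Base.card_subgroupOf hPQ, hk, hj, pow_succ, mul_comm] at h1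
    exact mul_left_cancel₀ (pow_ne_zero k two_ne_zero) h1
  have hφ2 : ∀ φ : IrrCharacter (Q : Subgroup G),
      charDegree (φ : ↥(Q : Subgroup G) → ℂ) = 1 ∨ charDegree (φ : ↥(Q : Subgroup G) → ℂ) = 2 := by
    intro φ
    letI := Fintype.ofFinite (P.subgroupOf (Q : Subgroup G))
    obtain ⟨d, hd, hdd⟩ := ito_degree_dvd (N := P.subgroupOf (Q : Subgroup G))
      (fun a ha b hb => Subtype.ext (congrArg (fun z : P => (z : G))
        (hcomm ⟨(a : G), ha⟩ ⟨(b : G), hb⟩))) φ.2
    rw [CharApps.deg_eq] at hd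
    have hd' : charDegree (φ : ↥(Q : Subgroup G) → ℂ) = d := by exact_mod_cast hd
    rw [hidx] at hdd
    exact hd' ▸ (Nat.dvd_prime Nat.prime_two).1 hdd
  set L₁ := Finset.univ.filter (fun φ : IrrCharacter (Q : Subgroup G) =>
    mQ φ ≠ 0 ∧ charDegree (φ : ↥(Q : Subgroup G) → ℂ) = 1) with hL₁
  have hL : L₁.card ≤ 1 := by
    have hkey : ∀ φ, (if φ ∈ L₁ then 1 else 0) + mQ φ * charDegree (φ : ↥(Q : Subgroup G) → ℂ) ≤
        2 * (mQ φ * mQ φ) := by
      intro φ
      rcases Nat.eq_zero_or_pos (mQ φ) with h | h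
      · simp [hL₁, h]
      · rcases hφ2 φ with hd | hd
        · rw [if_pos (by simp [hL₁, hd]; omega), hd]
          nlinarith
        · rw [if_neg (by simp [hL₁, hd]), hd]
          nlinarith
    have h1 := Finset.sum_le_sum (s := Finset.univ) fun φ _ => hkey φ
    rw [Finset.sum_add_distrib, Finset.sum_boole, Finset.filter_univ_mem, ← Finset.mul_sum,
      hsumsq, hdegs, Nat.cast_id] at h1
    have h2 : charDegree (χ : G → ℂ) + 1 = 2 ^ k := hk ▸ ha
    rw [hj, pow_succ] at hmq
    have h3 : 2 * m * 2 ^ k = 2 ^ k * 2 ^ k := by rw [← h2] at hmq ⊢; nlinarith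
    have h4 := Nat.eq_of_mul_eq_mul_right (pow_pos two_pos k) h3
    omega
  obtain ⟨t, htQ, htP⟩ : ∃ t, t ∈ (Q : Subgroup G) ∧ t ∉ P := SetLike.not_le_iff_exists.1 fun h => by
    have h1 := Subgroup.card_dvd_of_le h
    rw [hj, hk] at h1
    have := (Nat.pow_dvd_pow_iff_le_right (le_refl 2)).1 h1
    omega
  have ht2 : t * t ∈ P := by
    have h1 := Subgroup.sq_mem_of_index_two hidx (⟨t, htQ⟩ : (Q : Subgroup G))
    rw [Subgroup.mem_subgroupOf, SubmonoidClass.coe_pow, pow_two] at h1
    exact h1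
  let L := P →* ℂˣ
  haveI : Finite L := Chars.finite_monoidHom_units
  let σ : L →* L :=
    { toFun := fun l => l.comp (conjBy P t)
      map_one' := rfl
      map_mul' := fun _ _ => rfl }
  have hσσ : ∀ l : L, σ (σ l) = l := fun l => MonoidHom.ext fun x => congrArg l (Subtype.ext (by
    show t * (t * (x : G) * t⁻¹) * t⁻¹ = x
    have h1 : t * t * (x : G) = (x : G) * (t * t) := congrArg Subtype.val (hcomm ⟨_, ht2⟩ x)
    calc t * (t * (x : G) * t⁻¹) * t⁻¹ = t * t * (x : G) * (t * t)⁻¹ := by group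
      _ = x := by rw [h1, mul_inv_cancel_right]))
  let F : Set L := {l | σ l = l}
  -- a nonprincipal fixed character is the restriction of a linear constituent
  have hfix : ∀ l : L, σ l = l → l ≠ 1 → ∃ φ ∈ L₁, ∀ x : P,
      (φ : ↥(Q : Subgroup G) → ℂ) ⟨x, hPQ x.2⟩ = (l x : ℂ) := by
    intro l hl hl1
    set η : IrrCharacter P := ⟨_, Chars.isIrrCharacter_linear l⟩ with hη
    have hη1 : η ≠ Chars.principal P := fun h => hl1 (MonoidHom.ext fun y => Units.ext (by
      have := congrFun (congrArg Subtype.val h) y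
      simpa [hη, Chars.principal_apply] using this))
    have hT : (Q : Subgroup G) ≤ inertia P (η : P → ℂ) := by
      intro q hq
      refine (mem_inertia P).2 fun x => ?_
      by_cases hqP : q ∈ P
      · refine congrArg (fun y => ((l y : ℂˣ) : ℂ)) (Subtype.ext ?_)
        show q * (x : G) * q⁻¹ = x
        rw [show q * (x : G) = (x : G) * q from congrArg Subtype.val (hcomm ⟨q, hqP⟩ x),
          mul_inv_cancel_right]
      · obtain ⟨u, hu, rfl⟩ : ∃ u ∈ P, q = t * u := ⟨t⁻¹ * q, by
          have h1 := Subgroup.mul_mem_iff_of_index_two hidx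
            (a := (⟨t, htQ⟩ : (Q : Subgroup G))⁻¹) (b := ⟨q, hq⟩)
          rw [inv_mem_iff, Subgroup.mem_subgroupOf, Subgroup.mem_subgroupOf,
            Subgroup.mem_subgroupOf] at h1
          exact h1.2 (iff_of_false htP hqP), by group⟩
        have h2 : conjBy P (t * u) x = conjBy P t x := Subtype.ext (by
          show t * u * (x : G) * (t * u)⁻¹ = t * (x : G) * t⁻¹
          have h3 : u * (x : G) = (x : G) * u := congrArg Subtype.val (hcomm ⟨u, hu⟩ x)
          rw [mul_assoc t u, h3]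
          group)
        rw [h2]
        exact congrArg Units.val (DFunLike.congr_fun hl x)
    have hone := (hfull η hη1).1
    have hcomp : (fun x : P => (χ : G → ℂ) x) =
        ∑ φ, (mQ φ : ℂ) • (fun x : P => (φ : ↥(Q : Subgroup G) → ℂ) ⟨x, hPQ x.2⟩) := by
      funext x
      have := congrFun hexpQ ⟨x, hPQ x.2⟩
      simpa [Finset.sum_apply] using this
    set f : IrrCharacter (Q : Subgroup G) → ℕ := fun φ =>
      multNat (fun x : P => (φ : ↥(Q : Subgroup G) → ℂ) ⟨x, hPQ x.2⟩) (η : P → ℂ) with hf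
    have hff : ∀ φ : IrrCharacter (Q : Subgroup G),
        classInner (fun x : P => (φ : ↥(Q : Subgroup G) → ℂ) ⟨x, hPQ x.2⟩) (η : P → ℂ) = f φ :=
      fun φ => inner_eq_multNat (Chars.isCharacter_comp (Subgroup.inclusion hPQ)
        (Chars.isCharacter_of_irr φ.2)) (Chars.isCharacter_of_irr η.2)
    have h1 : ∑ φ, mQ φ * f φ = 1 := by
      rw [hcomp, Chars.inner_sum_left] at hone
      simp only [Chars.inner_smul_left, hff] at hone
      exact_mod_cast hone
    obtain ⟨φ, -, hφ⟩ := Finset.exists_ne_zero_of_sum_ne_zero (h1.symm ▸ one_ne_zero)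
    have hle : mQ φ * f φ ≤ 1 := h1 ▸
      Finset.single_le_sum (f := fun φ => mQ φ * f φ) (fun _ _ => Nat.zero_le _) (Finset.mem_univ φ)
    have hm1 : mQ φ * f φ = 1 := by omega
    have hf1 : f φ = 1 := Nat.eq_one_of_mul_eq_one_left hm1
    have hval := restrict_of_le_inertia P hPQ η.2 hT φ.2 (by rw [hff, hf1]; simp)
    rw [hff, hf1] at hval
    refine ⟨φ, Finset.mem_filter.2 ⟨Finset.mem_univ _, fun h0 => ?_, ?_⟩, fun x => ?_⟩
    · rw [h0, zero_mul] at hm1; exact zero_ne_one hm1
    · rw [← CharApps.deg_eq_one_iff]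
      have := hval 1
      simp [hη] at this
      exact this
    · rw [hval x]; simp [hη]
  have hF : Nat.card F ≤ 2 := by
    rw [Nat.card_coe_set_eq]
    have hsub : F ⊆ insert 1 {l | l ≠ 1 ∧ σ l = l} := fun l hl => by
      by_cases h : l = 1
      · exact Or.inl h
      · exact Or.inr ⟨h, hl⟩
    refine (Set.ncard_le_ncard hsub (Set.toFinite _)).trans ((Set.ncard_insert_le _ _).trans ?_)
    have : ({l | l ≠ 1 ∧ σ l = l} : Set L).Subsingleton := by
      rintro l ⟨hl1, hl⟩ l' ⟨hl1', hl'⟩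
      obtain ⟨φ, hφ, hφv⟩ := hfix l hl hl1
      obtain ⟨φ', hφ', hφv'⟩ := hfix l' hl' hl1'
      have := Finset.card_le_one.1 hL φ hφ φ' hφ'
      exact MonoidHom.ext fun x => Units.ext (by rw [← hφv, ← hφv', this])
    have h2 := (Set.ncard_le_one_iff_subsingleton).2 this
    omega
  let δ : L →* L :=
    { toFun := fun l => l * σ l
      map_one' := by simp
      map_mul' := fun a b => by rw [map_mul]; exact mul_mul_mul_comm a b (σ a) (σ b) }
  have hsq : ∀ l : L, l * l = 1 := fun l => MonoidHom.ext fun x => by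
    rw [MonoidHom.mul_apply, ← map_mul, show x * x = 1 from Subtype.ext (by
      rw [Subgroup.coe_mul, ← pow_two]; exact hexp x x.2), map_one, MonoidHom.one_apply]
  have hker : Nat.card δ.ker ≤ 2 := by
    refine le_trans (Nat.card_le_card_of_injective (fun l : δ.ker => (⟨l.1, ?_⟩ : F))
      fun a b h => Subtype.ext (congrArg (fun z : F => (z : L)) h)) hF
    have h1 : (l : L) * σ l = 1 := l.2
    show σ (l : L) = l
    exact mul_left_cancel (h1.trans (hsq l).symm)
  have hran : Nat.card δ.range ≤ 2 := by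
    refine le_trans (Nat.card_le_card_of_injective (fun l : δ.range => (⟨l.1, ?_⟩ : F))
      fun a b h => Subtype.ext (congrArg (fun z : F => (z : L)) h)) hF
    obtain ⟨a, ha⟩ := l.2
    show σ (l : L) = l
    rw [← ha]
    show σ (a * σ a) = a * σ a
    rw [map_mul, hσσ]
    exact mul_comm (σ a) a
  have hcardL : Nat.card L = Nat.card P := by
    rw [Chars.card_monoidHom_units, show commutator P = ⊥ by
      rw [_root_.commutator_def, eq_bot_iff, Subgroup.commutator_le]
      exact fun a _ b _ => Subgroup.mem_bot.2 (commutatorElement_eq_one_iff_mul_comm.2 (hcomm a b)),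
      Subgroup.index_bot]
  have h4 : Nat.card P ≤ 4 := by
    rw [← hcardL, ← δ.ker.index_mul_card, Subgroup.index_ker]
    exact Nat.mul_le_mul hran hker
  rw [hk] at h4
  have hk4 : k = 2 := by
    have := (Nat.pow_le_pow_iff_right (le_refl 2)).1 (show 2 ^ k ≤ 2 ^ 2 from h4)
    omega
  subst hk4
  exact ⟨rfl, hk, hj⟩

end Main

section Four

open scoped Pointwise

variable {P : Subgroup G} [P.Normal]

/-- An element of a sup with a normal subgroup is a product. -/
theorem mem_sup_iff_mul (H N : Subgroup G) [N.Normal] {x : G} :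
    x ∈ H ⊔ N ↔ ∃ a ∈ H, ∃ b ∈ N, a * b = x := by
  rw [← SetLike.mem_coe, Subgroup.mul_normal, Set.mem_mul]
  rfl

/-- A maximal normal four-group which is not a Sylow 2-subgroup and is centralised by `P × Z(G)`
only gives `S₄ × Z(G)`. -/
theorem symmetric_four_case (hP : IsPGroup 2 P)
    (hPmax : ∀ N : Subgroup G, N.Normal → IsPGroup 2 N → N ≤ P) (hexp : ∀ x ∈ P, x ^ 2 = 1)
    (hP4 : Nat.card P = 4) (hC : Subgroup.centralizer (P : Set G) = P ⊔ Subgroup.center G)
    (hinf : P ⊓ Subgroup.center G = ⊥) (Q : Sylow 2 G) (hPQ : P ≤ (Q : Subgroup G))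
    (hQ : Nat.card (Q : Subgroup G) = 8) :
    Odd (Nat.card ↥(Subgroup.center G)) ∧ ∃ H : Subgroup G,
      Nonempty (↥H ≃* Equiv.Perm (Fin 4)) ∧ H ⊓ Subgroup.center G = ⊥ ∧
        H ⊔ Subgroup.center G = ⊤ := by
  classical
  set Z := Subgroup.center G with hZ
  have hodd : Odd (Nat.card Z) := by
    by_contra h
    obtain ⟨⟨z, hz⟩, hz2⟩ := exists_prime_orderOf_dvd_card' (G := Z) 2
      (even_iff_two_dvd.1 (Nat.not_odd_iff_even.1 h))
    rw [Subgroup.orderOf_mk] at hz2
    haveI : (Subgroup.zpowers z).Normal := ⟨fun n hn g => by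
      rw [Subgroup.mem_center_iff.1 (Subgroup.zpowers_le.2 hz hn) g, mul_inv_cancel_right]
      exact hn⟩
    have h1 := hPmax (Subgroup.zpowers z) inferInstance
      (IsPGroup.of_card (n := 1) (by rw [Nat.card_zpowers, hz2, pow_one]))
      (Subgroup.mem_zpowers z)
    have h2 : z ∈ P ⊓ Z := Subgroup.mem_inf.2 ⟨h1, hz⟩
    rw [hinf, Subgroup.mem_bot] at h2
    rw [h2, orderOf_one] at hz2
    exact absurd hz2 (by norm_num)
  refine ⟨hodd, ?_⟩
  have hcomm : ∀ a ∈ P, ∀ b ∈ P, a * b = b * a := fun a ha b hb => by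
    have h1 : b ∈ Subgroup.centralizer (P : Set G) := hC ▸ Subgroup.mem_sup_left hb
    exact Subgroup.mem_centralizer_iff.1 h1 a ha
  set C := Subgroup.centralizer (P : Set G) with hC'
  have hcardC : Nat.card C = 4 * Nat.card Z := by
    rw [hC, Base.card_sup_of_disjoint P Z hinf, hP4]
  -- the action on the three involutions
  let X := {x : P // x ≠ 1}
  have hX : Nat.card X = 3 := by
    rw [Nat.card_eq_fintype_card, Fintype.card_subtype_compl, Fintype.card_subtype_eq,
      ← Nat.card_eq_fintype_card, hP4]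
  let φ : G →* Equiv.Perm X :=
    { toFun := fun g => (MulAut.conjNormal (H := P) g).toEquiv.subtypeEquiv fun a => by
        simp
      map_one' := Equiv.ext fun a => Subtype.ext (Subtype.ext (by simp))
      map_mul' := fun g h => Equiv.ext fun a => Subtype.ext (Subtype.ext (by simp [mul_assoc])) }
  have hφ : φ.ker = C := by
    ext g
    rw [MonoidHom.mem_ker, Subgroup.mem_centralizer_iff]
    constructor
    · intro h x hx
      by_cases hx1 : x = 1
      · rw [hx1, one_mul, mul_one]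
      have h1 := congrArg (fun e : Equiv.Perm X =>
        (((e ⟨⟨x, hx⟩, fun h => hx1 (congrArg Subtype.val h)⟩ : X) : P) : G)) h
      simp [φ] at h1
      exact (mul_inv_eq_iff_eq_mul.1 h1).symm
    · intro h
      refine Equiv.ext fun a => Subtype.ext (Subtype.ext ?_)
      show g * ((a : P) : G) * g⁻¹ = ((a : P) : G)
      rw [← h _ (a : P).2, mul_inv_cancel_right]
  have hperm : Nat.card (Equiv.Perm X) = 6 := by rw [Nat.card_perm, hX]; rfl
  have hidxQ : (P.subgroupOf (Q : Subgroup G)).index = 2 := by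
    have h1 := (P.subgroupOf (Q : Subgroup G)).index_mul_card
    rw [Base.card_subgroupOf hPQ, hP4, hQ] at h1
    omega
  obtain ⟨t, htQ, htP⟩ : ∃ t, t ∈ (Q : Subgroup G) ∧ t ∉ P :=
    SetLike.not_le_iff_exists.1 fun h => by
      have h1 := Subgroup.card_dvd_of_le h
      rw [hQ, hP4] at h1
      norm_num at h1
  have ht2 : t * t ∈ P := by
    have h1 := Subgroup.sq_mem_of_index_two hidxQ (⟨t, htQ⟩ : (Q : Subgroup G))
    rw [Subgroup.mem_subgroupOf, SubmonoidClass.coe_pow, pow_two] at h1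
    exact h1
  have hcoset : ∀ q ∈ (Q : Subgroup G), q ∈ P ∨ t⁻¹ * q ∈ P := by
    intro q hq
    by_cases hqP : q ∈ P
    · exact Or.inl hqP
    right
    have h1 := Subgroup.mul_mem_iff_of_index_two hidxQ
      (a := (⟨t, htQ⟩ : (Q : Subgroup G))⁻¹) (b := ⟨q, hq⟩)
    rw [inv_mem_iff, Subgroup.mem_subgroupOf, Subgroup.mem_subgroupOf,
      Subgroup.mem_subgroupOf] at h1
    exact h1.2 (iff_of_false htP hqP)
  -- `Q ∩ C = P`
  have htC : t ∉ C := by
    intro h
    rw [hC, mem_sup_iff_mul] at h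
    obtain ⟨u, hu, z, hz, rfl⟩ := h
    have hzQ : z ∈ (Q : Subgroup G) := by
      have := mul_mem (inv_mem (hPQ hu)) htQ
      rwa [inv_mul_cancel_left] at this
    have h1 : orderOf z ∣ 8 := by
      have := orderOf_dvd_natCard (⟨z, hzQ⟩ : (Q : Subgroup G))
      rwa [Subgroup.orderOf_mk, hQ] at this
    have h2 : orderOf z ∣ Nat.card Z := by
      have := orderOf_dvd_natCard (⟨z, hz⟩ : Z)
      rwa [Subgroup.orderOf_mk] at this
    have h3 : Nat.Coprime (2 ^ 3) (Nat.card Z) := (Nat.coprime_two_left.2 hodd).pow_left 3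
    have h4 := Nat.dvd_gcd h1 h2
    rw [show (8 : ℕ) = 2 ^ 3 from rfl, h3] at h4
    rw [orderOf_eq_one_iff.1 (Nat.dvd_one.1 h4), mul_one] at htP
    exact htP hu
  have hφt : φ t ≠ 1 := fun h => htC (hφ ▸ MonoidHom.mem_ker.2 h)
  have hφt2 : φ t ^ 2 = 1 := by
    rw [← map_pow, ← MonoidHom.mem_ker, hφ, pow_two, hC]
    exact Subgroup.mem_sup_left ht2
  have hidx : C.index = Nat.card φ.range := by rw [← hφ, Subgroup.index_ker]
  have hidx6 : C.index = 6 := by
    have h1 : C.index ∣ 6 := hidx ▸ hperm ▸ φ.range.card_subgroup_dvd_card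
    have h2 : 2 ∣ C.index := by
      have := φ.range.orderOf_dvd_natCard (⟨t, rfl⟩ : φ t ∈ φ.range)
      rwa [orderOf_eq_prime hφt2 hφt, ← hidx] at this
    have h3 : C.index ≠ 2 := by
      intro h
      -- then `G = Q × Z` and `Q` is normal
      have hQZ : (Q : Subgroup G) ⊓ Z = ⊥ := Base.inf_eq_bot_of_coprime
        (by rw [hQ]; exact (Nat.coprime_two_left.2 hodd).pow_left 3)
      have hcard : Nat.card ↥((Q : Subgroup G) ⊔ Z) = Nat.card G := by
        rw [Base.card_sup_of_disjoint _ _ hQZ, hQ, ← C.index_mul_card, h, hcardC]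
        ring
      have hnorm : (Q : Subgroup G).Normal := by
        refine Subgroup.normalizer_eq_top_iff.1 (top_le_iff.1 ?_)
        rw [← Subgroup.eq_top_of_card_eq _ hcard]
        refine sup_le Subgroup.le_normalizer ?_
        exact Subgroup.center_le_normalizer _
      exact htP (hPmax _ hnorm Q.2 htQ)
    have h5 := Nat.le_of_dvd (by norm_num) h1
    have h6 : C.index ≠ 0 := Subgroup.index_ne_zero_of_finite
    interval_cases C.index <;> omega
  obtain ⟨⟨_, c, rfl⟩, hc3⟩ := exists_prime_orderOf_dvd_card' (G := φ.range) 3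
    (by rw [← hidx, hidx6]; norm_num)
  rw [← Subgroup.orderOf_coe] at hc3
  change orderOf (φ c) = 3 at hc3
  have hc31 : φ c ^ 3 = 1 := hc3 ▸ pow_orderOf_eq_one _
  have hc1 : φ c ≠ 1 := fun h => by rw [h, orderOf_one] at hc3; norm_num at hc3
  have hinv := perm_three hX hc31 hc1 hφt2 hφt
  set d := c * t * c⁻¹ * t⁻¹ with hd
  have hφd : φ d = φ c ^ 2 := by
    have h1 : φ t * (φ c)⁻¹ * (φ t)⁻¹ = φ c := by rw [← conj_inv, hinv, inv_inv]
    rw [hd, map_mul, map_mul, map_mul, map_inv, map_inv, mul_assoc (φ c), mul_assoc (φ c), h1,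
      pow_two]
  have hφd1 : φ d ≠ 1 := by
    rw [hφd]
    intro h
    exact hc1 (by rw [pow_succ, h, one_mul] at hc31; exact hc31)
  have hφd3 : φ d ^ 3 = 1 := by rw [hφd, ← pow_mul, mul_comm, pow_mul, hc31, one_pow]
  -- modulo `P` the element `d` is inverted by `t`
  set π := QuotientGroup.mk' P with hπ
  have hπP : ∀ {g : G}, π g = 1 ↔ g ∈ P := fun {g} => QuotientGroup.eq_one_iff g
  have hπt : (π t)⁻¹ = π t := inv_eq_of_mul_eq_one_right (by rw [← map_mul]; exact hπP.2 ht2)
  have hπd : π (t * d * t⁻¹) = (π d)⁻¹ := by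
    have hT : π t * π t = 1 := by rw [← map_mul]; exact hπP.2 ht2
    simp only [hd, map_mul, map_inv, mul_inv_rev, inv_inv, hπt]
    simp only [mul_assoc, hT, mul_one]
  -- so its cube lies in `P`
  have hd3 : d ^ 3 ∈ P := by
    have h1 : d ^ 3 ∈ P ⊔ Z := by rw [← hC, ← hφ, MonoidHom.mem_ker, map_pow, hφd3]
    obtain ⟨u, hu, z, hz, huz⟩ := (mem_sup_iff_mul P Z).1 h1
    have h2 : π (d ^ 3) = π z := by rw [← huz, map_mul, hπP.2 hu, one_mul]
    have h3 : π (t * d ^ 3 * t⁻¹) = π z := by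
      rw [map_mul, map_mul, h2, ← map_mul, ← map_mul, Subgroup.mem_center_iff.1 hz t,
        mul_inv_cancel_right]
    rw [← conj_pow, map_pow, hπd, inv_pow, ← map_pow, h2] at h3
    have h4 : z * z ∈ P := by
      rw [← hπP, map_mul]
      nth_rewrite 1 [← h3]
      exact inv_mul_cancel _
    have h5 : z * z = 1 := by
      have : z * z ∈ P ⊓ Z := Subgroup.mem_inf.2 ⟨h4, mul_mem hz hz⟩
      rwa [hinf, Subgroup.mem_bot] at this
    have h6 : orderOf z ∣ 2 := orderOf_dvd_of_pow_eq_one (by rw [pow_two, h5])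
    have h7 : orderOf z ∣ Nat.card Z := by
      have := orderOf_dvd_natCard (⟨z, hz⟩ : Z)
      rwa [Subgroup.orderOf_mk] at this
    have h8 := Nat.dvd_gcd h6 h7
    rw [Nat.coprime_two_left.2 hodd] at h8
    rw [orderOf_eq_one_iff.1 (Nat.dvd_one.1 h8), mul_one] at huz
    exact huz ▸ hu
  set c₀ := d ^ 4 with hc₀
  have hc03 : c₀ ^ 3 = 1 := by
    rw [hc₀, ← pow_mul, show 4 * 3 = 3 * 2 * 2 from rfl, pow_mul, pow_mul, hexp _ hd3, one_pow]
  have hφc0 : φ c₀ = φ d := by rw [hc₀, map_pow, pow_succ, hφd3, one_mul]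
  have hc0C : c₀ ∉ C := fun h => hφd1 (by rw [← hφc0, ← MonoidHom.mem_ker, hφ]; exact h)
  have hc01 : c₀ ≠ 1 := fun h => hc0C (h ▸ one_mem C)
  have hord : orderOf c₀ = 3 := by
    haveI : Fact (Nat.Prime 3) := ⟨by norm_num⟩
    exact orderOf_eq_prime hc03 hc01
  set K := Subgroup.zpowers c₀ ⊔ P with hK
  have hK12 : Nat.card K = 12 := by
    rw [hK, Base.card_sup_of_disjoint _ _ (Base.inf_eq_bot_of_coprime (by
      rw [Nat.card_zpowers, hord, hP4]; norm_num)), Nat.card_zpowers, hord, hP4]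
  have htK : ∀ v ∈ K, t * v * t⁻¹ ∈ K := by
    intro v hv
    obtain ⟨a, ha, b, hb, rfl⟩ := (mem_sup_iff_mul _ P).1 hv
    obtain ⟨i, rfl⟩ := Subgroup.mem_zpowers_iff.1 ha
    have h1 : t * c₀ * t⁻¹ * c₀ ∈ P := by
      rw [← hπP, map_mul, hc₀, ← conj_pow, map_pow, map_pow, hπd, inv_pow]
      exact inv_mul_cancel _
    have h2 : t * c₀ * t⁻¹ ∈ K := by
      have := mul_mem (Subgroup.mem_sup_right h1 : _ ∈ K)
        (inv_mem (Subgroup.mem_sup_left (Subgroup.mem_zpowers c₀) : c₀ ∈ K))
      rwa [mul_inv_cancel_right] at this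
    rw [show t * (c₀ ^ i * b) * t⁻¹ = (t * c₀ ^ i * t⁻¹) * (t * b * t⁻¹) by group, ← conj_zpow]
    exact mul_mem (zpow_mem h2 i)
      (Subgroup.mem_sup_right ((inferInstance : P.Normal).conj_mem b hb t))
  have hQK : (Q : Subgroup G) ≤ Subgroup.normalizer (K : Set G) := by
    intro q hq
    rcases hcoset q hq with h | h
    · exact Subgroup.le_normalizer (Subgroup.mem_sup_right h)
    · have := mul_mem (PSL2.mem_normalizer_of_conj_mem htK)
        (Subgroup.le_normalizer (Subgroup.mem_sup_right h : t⁻¹ * q ∈ K))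
      rwa [mul_inv_cancel_left] at this
  set H := (Q : Subgroup G) ⊔ K with hH
  have hHsub : (H : Set G) ⊆ (K : Set G) ∪ (fun k => t * k) '' (K : Set G) := by
    rw [hH, Subgroup.coe_mul_of_left_le_normalizer_right _ _ hQK]
    rintro _ ⟨q, hq, k, hk, rfl⟩
    rcases hcoset q hq with h | h
    · exact Or.inl (mul_mem (Subgroup.mem_sup_right h) hk)
    · exact Or.inr ⟨t⁻¹ * q * k, mul_mem (Subgroup.mem_sup_right h) hk, by simp [mul_assoc]⟩
  have hH24 : Nat.card H = 24 := by
    refine le_antisymm ?_ (Nat.le_of_dvd Nat.card_pos ?_)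
    · rw [← SetLike.coe_sort_coe, Nat.card_coe_set_eq]
      refine (Set.ncard_le_ncard hHsub (Set.toFinite _)).trans ((Set.ncard_union_le _ _).trans ?_)
      have h1 : (K : Set G).ncard = 12 := by rw [← Nat.card_coe_set_eq]; exact hK12
      have h2 := Set.ncard_image_le (s := (K : Set G)) (f := fun k => t * k) (Set.toFinite _)
      omega
    · have h1 : 8 ∣ Nat.card H := hQ ▸ Subgroup.card_dvd_of_le le_sup_left
      have h2 : 12 ∣ Nat.card H := hK12 ▸ Subgroup.card_dvd_of_le le_sup_right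
      exact (by norm_num : Nat.lcm 8 12 = 24) ▸ Nat.lcm_dvd h1 h2
  have hHZ : H ⊓ Z = ⊥ := by
    rw [Subgroup.eq_bot_iff_forall]
    intro z hz
    obtain ⟨hzH, hzZ⟩ := Subgroup.mem_inf.1 hz
    have h1 : orderOf z ∣ 24 := by
      have := orderOf_dvd_natCard (⟨z, hzH⟩ : H)
      rwa [Subgroup.orderOf_mk, hH24] at this
    have h2 : orderOf z ∣ Nat.card Z := by
      have := orderOf_dvd_natCard (⟨z, hzZ⟩ : Z)
      rwa [Subgroup.orderOf_mk] at this
    have h3 : z ^ 3 = 1 := by
      refine orderOf_dvd_iff_pow_eq_one.1 ?_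
      have hco : Nat.Coprime (orderOf z) 8 :=
        ((Nat.coprime_two_left.2 hodd).coprime_dvd_right h2).symm.pow_right 3
      exact hco.dvd_of_dvd_mul_left (show orderOf z ∣ 8 * 3 from h1)
    have hzK : z ∈ K := by
      rcases hHsub (show z ∈ (H : Set G) from hzH) with h | ⟨k, hk, hkz⟩
      · exact h
      · have hkz' : z = t * k := hkz.symm
        have h4 : z * z ∈ K := by
          rw [hkz', show t * k * (t * k) = (t * k * t⁻¹) * ((t * t) * k) by group]
          exact mul_mem (htK k hk) (mul_mem (Subgroup.mem_sup_right ht2) hk)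
        have h5 : z = z * z * (z * z) := by
          calc z = z ^ 3 * z := by rw [h3, one_mul]
            _ = z * z * (z * z) := by simp [pow_succ, mul_assoc]
        rw [h5]
        exact mul_mem h4 h4
    obtain ⟨a, ha, b, hb, hab⟩ := (mem_sup_iff_mul _ P).1 hzK
    have haC : a ∈ C := by
      rw [show a = z * b⁻¹ by rw [← hab, mul_inv_cancel_right], hC]
      exact mul_mem (Subgroup.mem_sup_right hzZ) (Subgroup.mem_sup_left (inv_mem hb))
    have ha1 : a = 1 := by
      by_contra hne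
      have h4 : orderOf a = 3 := by
        have h5 := orderOf_dvd_natCard (⟨a, ha⟩ : Subgroup.zpowers c₀)
        rw [Subgroup.orderOf_mk, Nat.card_zpowers, hord] at h5
        exact ((Nat.dvd_prime (by norm_num)).1 h5).resolve_left (by rwa [orderOf_eq_one_iff])
      have h6 : Subgroup.zpowers a = Subgroup.zpowers c₀ :=
        Subgroup.eq_of_le_of_card_ge (Subgroup.zpowers_le.2 ha)
          (by rw [Nat.card_zpowers, Nat.card_zpowers, h4, hord])
      exact hc0C (Subgroup.zpowers_le.2 haC (h6 ▸ Subgroup.mem_zpowers c₀))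
    rw [ha1, one_mul] at hab
    have h7 : z ∈ P ⊓ Z := Subgroup.mem_inf.2 ⟨hab ▸ hb, hzZ⟩
    rwa [hinf, Subgroup.mem_bot] at h7
  refine ⟨H, ?_, hHZ, ?_⟩
  swap
  · refine Subgroup.eq_top_of_card_eq _ ?_
    rw [Base.card_sup_of_disjoint _ _ hHZ, hH24, ← C.index_mul_card, hidx6, hcardC]
    ring
  -- recognise the symmetric group
  obtain ⟨x, hx, hx1⟩ : ∃ x ∈ P, x ≠ 1 := P.bot_or_exists_ne_one.resolve_left fun h => by
    rw [h, Subgroup.card_bot] at hP4
    omega
  obtain ⟨y, hy, hy1, hyx⟩ : ∃ y ∈ P, y ≠ 1 ∧ y ≠ x := by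
    by_contra hcon
    push Not at hcon
    have h1 : (P : Set G) ⊆ {1, x} := fun y hy => by
      by_cases h : y = 1
      · exact Or.inl h
      · exact Or.inr (hcon y hy h)
    have h2 := (Set.ncard_le_ncard h1).trans (Set.ncard_insert_le _ _)
    rw [← Nat.card_coe_set_eq, SetLike.coe_sort_coe, hP4, Set.ncard_singleton] at h2
    omega
  have hxx : x * x = 1 := by rw [← pow_two]; exact hexp x hx
  have hyy : y * y = 1 := by rw [← pow_two]; exact hexp y hy
  have hxy1 : x * y ≠ 1 := fun h => hyx (mul_left_cancel (h.trans hxx.symm))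
  have hxyx : x * y ≠ x := fun h => hy1 (mul_eq_left.1 h)
  have hxyy : x * y ≠ y := fun h => hx1 (mul_eq_right.1 h)
  have hPeq : (P : Set G) = {1, x, y, x * y} := by
    refine (Set.eq_of_subset_of_ncard_le ?_ ?_ (Set.toFinite _)).symm
    · rintro _ (rfl | rfl | rfl | rfl)
      · exact one_mem P
      · exact hx
      · exact hy
      · exact mul_mem hx hy
    · rw [← Nat.card_coe_set_eq, SetLike.coe_sort_coe, hP4,
        Set.ncard_insert_of_notMem (by simp [hx1.symm, hy1.symm, hxy1.symm]),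
        Set.ncard_insert_of_notMem (by simp [hyx.symm, hxyx.symm]),
        Set.ncard_insert_of_notMem (by simp [hxyy.symm]), Set.ncard_singleton]
  have hPH : P ≤ H := hPQ.trans le_sup_left
  refine PSL2.perm_four_of_klein hH24 (x := ⟨x, hPH hx⟩) (y := ⟨y, hPH hy⟩) (Subtype.ext hxx)
    (Subtype.ext hyy) (fun h => hx1 (congrArg Subtype.val h))
    (fun h => hy1 (congrArg Subtype.val h)) (fun h => hyx (congrArg Subtype.val h).symm)
    (Subtype.ext (hcomm x hx y hy)) (fun g => ?_) (fun g hgx hgy => ?_)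
  · have key : ∀ v ∈ P, v ≠ 1 → (g : G) * v * (g : G)⁻¹ ∈ ({x, y, x * y} : Set G) := by
      intro v hv hv1
      have h1 : (g : G) * v * (g : G)⁻¹ ∈ (P : Set G) :=
        (inferInstance : P.Normal).conj_mem v hv g
      rw [hPeq] at h1
      exact h1.resolve_left fun h => hv1 (conj_eq_one_iff.1 h)
    constructor
    · rcases key x hx hx1 with h | h | h
      · exact Or.inl (Subtype.ext h)
      · exact Or.inr (Or.inl (Subtype.ext h))
      · exact Or.inr (Or.inr (Subtype.ext h))
    · rcases key y hy hy1 with h | h | h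
      · exact Or.inl (Subtype.ext h)
      · exact Or.inr (Or.inl (Subtype.ext h))
      · exact Or.inr (Or.inr (Subtype.ext h))
  · have h1 : (g : G) ∈ C := by
      refine Subgroup.mem_centralizer_iff.2 fun v hv => ?_
      rw [hPeq] at hv
      have ex : Commute x (g : G) := (congrArg Subtype.val hgx.eq).symm
      have ey : Commute y (g : G) := (congrArg Subtype.val hgy.eq).symm
      rcases hv with rfl | rfl | rfl | rfl
      · exact Commute.one_left _
      · exact ex
      · exact ey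
      · exact ex.mul_left ey
    rw [hC, mem_sup_iff_mul] at h1
    obtain ⟨u, hu, z, hz, huz⟩ := h1
    have h2 : z ∈ H ⊓ Z := Subgroup.mem_inf.2 ⟨by
      have := mul_mem (inv_mem (hPH hu)) g.2
      rwa [← huz, inv_mul_cancel_left] at this, hz⟩
    rw [hHZ, Subgroup.mem_bot] at h2
    rw [h2, mul_one] at huz
    have h3 : u ∈ (P : Set G) := hu
    rw [hPeq, huz] at h3
    rcases h3 with h | h | h | h
    · exact Or.inl (Subtype.ext h)
    · exact Or.inr (Or.inl (Subtype.ext h))
    · exact Or.inr (Or.inr (Or.inl (Subtype.ext h)))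
    · exact Or.inr (Or.inr (Or.inr (Subtype.ext h)))

end Four

end CfsgLib.RootValues
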