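import Cfsg.Agent.Lib.CharsMore.TwoByTwo.SLOdd
import Cfsg.Agent.Lib.Chars.Quotient
import Cfsg.Agent.Lib.CharApps.Basic
import Cfsg.Prelude.Def_DegreeGraph

/-!
The character degrees of `SL₂(q)` and `PSL₂(q)` and the degree graph.
-/

set_option autoImplicit false
set_option linter.style.haveILetI false
set_option linter.unusedSectionVars false

namespace CfsgLib.SLTwoDegrees

open Cfsg CfsgLib CfsgLib.CharsMore CfsgLib.CharsMore.TwoByTwo
open scoped ComplexConjugate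

theorem charDegree_congr {G H : Type*} [Group G] [Group H] {χ : IrrCharacter G}
    {ψ : IrrCharacter H} (h : (χ : G → ℂ) 1 = (ψ : H → ℂ) 1) :
    charDegree (χ : G → ℂ) = charDegree (ψ : H → ℂ) := by
  rw [CharApps.deg_eq, CharApps.deg_eq] at h
  exact_mod_cast h

theorem charDegrees_mulEquiv {G H : Type*} [Group G] [Group H] (e : G ≃* H) :
    charDegrees G = charDegrees H := by
  ext d
  constructor
  · rintro ⟨χ, rfl⟩
    exact ⟨⟨_, Chars.isIrrCharacter_comp e.symm.toMonoidHom e.symm.surjective χ.2⟩,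
      charDegree_congr (by show (χ : G → ℂ) (e.symm 1) = _; rw [map_one])⟩
  · rintro ⟨χ, rfl⟩
    exact ⟨⟨_, Chars.isIrrCharacter_comp e.toMonoidHom e.surjective χ.2⟩,
      charDegree_congr (by show (χ : H → ℂ) (e 1) = _; rw [map_one])⟩

theorem mem_charDegrees_quotient {G : Type*} [Group G] [Finite G] (N : Subgroup G) [N.Normal]
    {d : ℕ} : d ∈ charDegrees (G ⧸ N) ↔ ∃ χ : IrrCharacter G,
      (∀ x ∈ N, (χ : G → ℂ) x = (χ : G → ℂ) 1) ∧ charDegree (χ : G → ℂ) = d := by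
  constructor
  · rintro ⟨ψ, rfl⟩
    exact ⟨_, (Chars.quotientIrrEquiv N ψ).2, charDegree_congr rfl⟩
  · rintro ⟨χ, hχ, rfl⟩
    obtain ⟨ψ, hψ, h⟩ := Chars.exists_deflate_irr N χ.2 hχ
    exact ⟨⟨ψ, hψ⟩, charDegree_congr (congrFun h 1).symm⟩

/-- A central involution acts by a sign. -/
theorem exists_sign {G : Type*} [Group G] [Finite G] {z : G} (hz : z ∈ Subgroup.center G)
    (hz2 : z * z = 1) (χ : IrrCharacter G) :
    ∃ s : ℂ, (s = 1 ∨ s = -1) ∧ ∀ g : G, (χ : G → ℂ) (g * z) = s * (χ : G → ℂ) g := by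
  obtain ⟨k, ρ, hρ, hρχ⟩ := id χ.2
  haveI := hρ
  obtain ⟨c, hc⟩ := Chars.exists_scalar_of_mem_center ρ z hz
  have key : ∀ g : G, (χ : G → ℂ) (g * z) = c * (χ : G → ℂ) g := by
    intro g
    rw [← hρχ]
    show LinearMap.trace ℂ (Fin k → ℂ) (ρ (g * z)) = c * LinearMap.trace ℂ (Fin k → ℂ) (ρ g)
    rw [map_mul, hc, Module.End.mul_eq_comp, LinearMap.comp_smul, LinearMap.comp_id, map_smul,
      smul_eq_mul]
  refine ⟨c, ?_, key⟩
  have h1 := key z
  have h2 := key 1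
  rw [one_mul] at h2
  rw [hz2, h2] at h1
  rcases sq_eq_one_iff.1 (mul_right_cancel₀ (CharApps.deg_ne_zero χ)
      (show c ^ 2 * (χ : G → ℂ) 1 = 1 * (χ : G → ℂ) 1 by rw [one_mul, pow_two, mul_assoc, ← h1]))
    with h | h
  · exact Or.inl h
  · exact Or.inr h

variable {F : Type*} [Field F] [Fintype F] [DecidableEq F]

local notation "SL₂" => Matrix.SpecialLinearGroup (Fin 2) F

/-- The negative of the identity. -/
def negOne : SL₂ := ⟨-1, by simp [Matrix.det_fin_two]⟩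

theorem coe_negOne : ((negOne : SL₂) : Matrix (Fin 2) (Fin 2) F) = -1 := rfl

theorem negOne_mul_self : (negOne : SL₂) * negOne = 1 := Subtype.ext (by
  rw [Matrix.SpecialLinearGroup.coe_mul, coe_negOne, Matrix.SpecialLinearGroup.coe_one]
  simp)

theorem negOne_mem_center : (negOne : SL₂) ∈ Subgroup.center SL₂ :=
  Subgroup.mem_center_iff.2 fun g => Subtype.ext (by
    rw [Matrix.SpecialLinearGroup.coe_mul, Matrix.SpecialLinearGroup.coe_mul, coe_negOne]
    simp)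

theorem eq_of_mem_center {g : SL₂} (hg : g ∈ Subgroup.center SL₂) : g = 1 ∨ g = negOne := by
  obtain ⟨r, hr, hA⟩ := Matrix.SpecialLinearGroup.mem_center_iff.1 hg
  rw [Fintype.card_fin] at hr
  rcases sq_eq_one_iff.1 hr with rfl | rfl
  · exact Or.inl (Subtype.ext (by rw [← hA, map_one, Matrix.SpecialLinearGroup.coe_one]))
  · exact Or.inr (Subtype.ext (by rw [← hA, map_neg, map_one, coe_negOne]))

theorem trivial_center_iff (χ : IrrCharacter SL₂) :
    (∀ x ∈ Subgroup.center SL₂, (χ : SL₂ → ℂ) x = (χ : SL₂ → ℂ) 1) ↔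
      (χ : SL₂ → ℂ) negOne = (χ : SL₂ → ℂ) 1 := by
  refine ⟨fun h => h _ negOne_mem_center, fun h x hx => ?_⟩
  rcases eq_of_mem_center hx with rfl | rfl
  · rfl
  · exact h

section Odd

variable (hodd : Odd (Fintype.card F))

include hodd in
theorem uSL_mul_negOne_ne (x : F) : (uSL x : SL₂) * negOne ≠ 1 := by
  intro h
  have h1 := congrArg (fun g : SL₂ => (g : Matrix (Fin 2) (Fin 2) F) 0 0) h
  simp [coe_uSL, coe_negOne] at h1
  have h2 : (2 : F) = 0 := by linear_combination -h1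
  exact Ring.two_ne_zero (ringChar_ne_two hodd) h2

include hodd in
theorem stIrrSL_negOne :
    ((stIrrSL : IrrCharacter SL₂) : SL₂ → ℂ) negOne = ((stIrrSL : IrrCharacter SL₂) : SL₂ → ℂ) 1 := by
  classical
  show stSL negOne = stSL 1
  simp only [stSL, Pi.sub_apply]
  congr 1
  rw [piSL, Chars.indFun_apply, Chars.indFun_apply]
  refine congrArg _ (Finset.sum_congr rfl fun x _ => ?_)
  have hz : (negOne : SL₂) ∈ borelSL F := mem_borelSL.2 (by simp [coe_negOne])
  rw [show x⁻¹ * negOne * x = negOne by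
      rw [mul_assoc, ← Subgroup.mem_center_iff.1 negOne_mem_center x, inv_mul_cancel_left],
    show x⁻¹ * 1 * x = 1 by simp, Chars.extendByZero_of_mem _ _ hz,
    Chars.extendByZero_of_mem _ _ (one_mem _)]
  rw [MulChar.one_apply (by simp [coe_negOne]), MulChar.one_apply (by simp)]

open _root_.Classical in
include hodd in
/-- The existence of the three big degrees among the characters of `PSL₂(q)`. -/
theorem exists_projective (h5 : 5 < Fintype.card F) :
    (∃ χ : IrrCharacter SL₂, (χ : SL₂ → ℂ) negOne = (χ : SL₂ → ℂ) 1 ∧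
      charDegree (χ : SL₂ → ℂ) = Fintype.card F) ∧
    (∃ χ : IrrCharacter SL₂, (χ : SL₂ → ℂ) negOne = (χ : SL₂ → ℂ) 1 ∧
      charDegree (χ : SL₂ → ℂ) = Fintype.card F + 1) ∧
    (∃ χ : IrrCharacter SL₂, (χ : SL₂ → ℂ) negOne = (χ : SL₂ → ℂ) 1 ∧
      charDegree (χ : SL₂ → ℂ) = Fintype.card F - 1) := by
  letI := Chars.irrFintype SL₂
  set P : IrrCharacter SL₂ → Prop := fun χ => (χ : SL₂ → ℂ) negOne = (χ : SL₂ → ℂ) 1 with hP
  have hone : ∀ g : SL₂, g * negOne ≠ 1 →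
      2 * ∑ χ : IrrCharacter SL₂, (if P χ then (χ : SL₂ → ℂ) 1 * (χ : SL₂ → ℂ) g else 0) =
        if g = 1 then (Nat.card SL₂ : ℂ) else 0 := by
    intro g hg
    have h0 := Chars.sum_degree_mul (g * negOne)
    rw [if_neg hg] at h0
    rw [Finset.mul_sum, Finset.sum_congr rfl (g := fun χ : IrrCharacter SL₂ =>
      (χ : SL₂ → ℂ) 1 * (χ : SL₂ → ℂ) g + (χ : SL₂ → ℂ) 1 * (χ : SL₂ → ℂ) (g * negOne))
      (fun χ _ => ?_), Finset.sum_add_distrib, h0, add_zero, Chars.sum_degree_mul g]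
    obtain ⟨s, hs, hs'⟩ := exists_sign negOne_mem_center negOne_mul_self χ
    have h1 := hs' 1
    rw [one_mul] at h1
    rw [hs']
    rcases hs with rfl | rfl
    · rw [if_pos (by rw [hP]; simpa using h1)]
      ring
    · rw [if_neg]
      · ring
      · rw [hP]
        intro h
        exact CharApps.deg_ne_zero χ (by
          have h' : (χ : SL₂ → ℂ) negOne = (χ : SL₂ → ℂ) 1 := h
          linear_combination (h1 - h') / 2)
  have hne1 : (1 : SL₂) * negOne ≠ 1 := by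
    rw [← uSL_zero]; simpa [uSL_zero] using uSL_mul_negOne_ne hodd 0
  have hsq := hone 1 hne1
  rw [if_pos rfl] at hsq
  have hu : 2 * ∑ χ : IrrCharacter SL₂,
      (if P χ then (χ : SL₂ → ℂ) 1 * uSumSL (χ : SL₂ → ℂ) else 0) = (Nat.card SL₂ : ℂ) := by
    rw [Finset.sum_congr rfl (g := fun χ : IrrCharacter SL₂ =>
      ∑ x : F, if P χ then (χ : SL₂ → ℂ) 1 * (χ : SL₂ → ℂ) (uSL x) else 0) (fun χ _ => by
        rw [uSumSL, Finset.mul_sum]; split_ifs <;> simp),
      Finset.sum_comm, Finset.mul_sum,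
      Finset.sum_congr rfl (fun x _ => hone (uSL x) (uSL_mul_negOne_ne hodd x)),
      Finset.sum_eq_single (0 : F)]
    · rw [if_pos uSL_zero]
    · intro x _ hx
      rw [if_neg]
      intro h
      exact hx (by simpa [coe_uSL] using congrArg (fun g : SL₂ => (g : Matrix (Fin 2) (Fin 2) F) 0 1) h)
    · simp
  set q := Fintype.card F with hq
  -- the four counts
  set Pp := ((pSetSL (F := F)).filter P).card with hPp
  set Hp := ((hSetSL (F := F)).filter P).card with hHp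
  set s : ℕ := if P stIrrSL then 1 else 0 with hs
  have hHp2 : Hp ≤ 2 := (Finset.card_filter_le _ _).trans (card_hSetSL hodd).le
  have hPone : P (Chars.principal SL₂) := by simp [hP, Chars.principal_apply]
  have hcount : ∀ (f : IrrCharacter SL₂ → ℂ) (a b : ℂ), (∀ χ ∈ pSetSL (F := F), f χ = a) →
      (∀ χ ∈ hSetSL (F := F), f χ = b) →
      ∑ χ : IrrCharacter SL₂, (if P χ then f χ else 0) =
        f (Chars.principal _) + s * f stIrrSL + Pp * a + Hp * b +
          ∑ χ ∈ cSetSL, (if P χ then f χ else 0) := by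
    intro f a b ha hb
    rw [sl_partition_odd hodd, if_pos hPone, ← Finset.sum_filter (s := pSetSL),
      ← Finset.sum_filter (s := hSetSL),
      Finset.sum_congr rfl (fun χ h => ha χ (Finset.mem_filter.1 h).1),
      Finset.sum_congr rfl (fun χ h => hb χ (Finset.mem_filter.1 h).1),
      Finset.sum_const, Finset.sum_const, nsmul_eq_mul, nsmul_eq_mul, hs]
    split_ifs <;> simp [hPp, hHp]
  have hh : ∀ χ ∈ hSetSL (F := F), (χ : SL₂ → ℂ) 1 = ((q : ℂ) + 1) / 2 := by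
    intro χ hχ
    have h1 : (2 : ℂ) * (charDegree (χ : SL₂ → ℂ) : ℂ) = (q : ℂ) + 1 := by
      exact_mod_cast (of_mem_hSetSL hodd hχ).2
    rw [CharApps.deg_eq, ← h1]
    ring
  have hp : ∀ χ ∈ pSetSL (F := F), (χ : SL₂ → ℂ) 1 = (q : ℂ) + 1 := fun χ hχ => by
    rw [CharApps.deg_eq, deg_pSetSL hχ, ← hq]; push_cast; rfl
  rw [hcount _ (((q : ℂ) + 1) * (2 * q)) (((q : ℂ) + 1) / 2 * q)
    (fun χ hχ => by
      obtain ⟨α, -, e⟩ := mem_pSetSL.1 hχ
      rw [hp χ hχ, e, uSumSL_piSL])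
    (fun χ hχ => by rw [hh χ hχ, uSumSL_half hodd χ.2 (of_mem_hSetSL hodd hχ).1]),
    Finset.sum_eq_zero (fun χ hχ => by
      rw [(mem_cSetSL.1 hχ).uSum (Chars.isClassFunction_irr χ), mul_zero, ite_self]),
    show uSumSL ((Chars.principal SL₂ : IrrCharacter SL₂) : SL₂ → ℂ) = (q : ℂ) from uSumSL_one,
    show uSumSL ((stIrrSL : IrrCharacter SL₂) : SL₂ → ℂ) = (q : ℂ) from uSumSL_stSL,
    Chars.principal_apply,
    show ((stIrrSL : IrrCharacter SL₂) : SL₂ → ℂ) 1 = (q : ℂ) from stSL_one, card_sl] at hu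
  obtain ⟨k, hk⟩ : ∃ k, q = 2 * k + 7 := by
    obtain ⟨j, hj⟩ := hodd
    exact ⟨j - 3, by omega⟩
  have e2 : q ^ 2 - 1 = (2 * k + 6) * (2 * k + 8) := by rw [hk]; ring_nf; omega
  rw [e2] at hu
  have hu' : 2 * q + 2 * s * (q * q) + 4 * Pp * ((q + 1) * q) + Hp * ((q + 1) * q) =
      q * ((2 * k + 6) * (2 * k + 8)) := by
    have h0 : ((2 * q + 2 * s * (q * q) + 4 * Pp * ((q + 1) * q) + Hp * ((q + 1) * q) : ℕ) : ℂ) =
        ((q * ((2 * k + 6) * (2 * k + 8)) : ℕ) : ℂ) := by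
      rw [← hu]; push_cast; ring
    exact_mod_cast h0
  rw [hk] at hu'
  have hu2 : 2 + 2 * s * (2 * k + 7) + (4 * Pp + Hp) * (2 * k + 8) =
      (2 * k + 6) * (2 * k + 8) := by
    refine Nat.eq_of_mul_eq_mul_left (show 0 < 2 * k + 7 by omega) ?_
    linear_combination hu'
  have hs1 : s = 1 := by
    rw [hs] at hu2 ⊢
    split_ifs at hu2 ⊢ with h
    · rfl
    · exfalso
      have h1 : (2 * k + 8) ∣ 2 := by
        rw [mul_zero, zero_mul, add_zero] at hu2
        exact (Nat.dvd_add_left (dvd_mul_left _ _)).1 (hu2 ▸ dvd_mul_left _ _)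
      have := Nat.le_of_dvd two_pos h1
      omega
  rw [hs1] at hu2
  have hcnt : 4 * Pp + Hp = 2 * k + 4 := by
    refine Nat.eq_of_mul_eq_mul_right (show 0 < 2 * k + 8 by omega) ?_
    linear_combination hu2
  have hst : P stIrrSL := by
    by_contra h
    rw [hs, if_neg h] at hs1
    exact zero_ne_one hs1
  refine ⟨⟨stIrrSL, hst, deg_stIrrSL⟩, ?_, ?_⟩
  · obtain ⟨χ, hχ⟩ := Finset.card_pos.1 (show 0 < ((pSetSL (F := F)).filter P).card by omega)
    exact ⟨χ, (Finset.mem_filter.1 hχ).2, deg_pSetSL (Finset.mem_filter.1 hχ).1⟩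
  by_contra hno
  push Not at hno
  rw [hcount _ (((q : ℂ) + 1) * ((q : ℂ) + 1)) (((q : ℂ) + 1) / 2 * (((q : ℂ) + 1) / 2))
    (fun χ hχ => by rw [hp χ hχ]) (fun χ hχ => by rw [hh χ hχ]),
    ← Finset.sum_filter (s := cSetSL),
    Finset.sum_congr rfl (g := fun _ => ((q : ℂ) - 1) / 2 * (((q : ℂ) - 1) / 2)) (fun χ hχ => by
      obtain ⟨hc, hPχ⟩ := Finset.mem_filter.1 hχ
      have h1 : 2 * charDegree (χ : SL₂ → ℂ) + 1 = q := by
        have := (deg_cSetSL_odd hodd hc).resolve_left (hno χ hPχ)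
        omega
      have h2 : (2 : ℂ) * (charDegree (χ : SL₂ → ℂ) : ℂ) + 1 = (q : ℂ) := by exact_mod_cast h1
      rw [CharApps.deg_eq, ← h2]
      ring),
    Finset.sum_const, nsmul_eq_mul, Chars.principal_apply,
    show ((stIrrSL : IrrCharacter SL₂) : SL₂ → ℂ) 1 = (q : ℂ) from stSL_one, card_sl, e2, hs1]
    at hsq
  set Cp := ((cSetSL (F := F)).filter P).card with hCp
  have hCle : Cp ≤ 2 := by
    refine (Finset.card_le_card fun χ hχ => ?_).trans (card_cuspSL hodd).1.le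
    obtain ⟨hc, hPχ⟩ := Finset.mem_filter.1 hχ
    simp only [cHalfSL, Finset.mem_filter]
    exact ⟨hc, hno χ hPχ⟩
  have hsq' : 4 + 4 * (q * q) + (4 * Pp + Hp) * ((q + 1) * (q + 1)) + Cp * ((2 * k + 6) * (2 * k + 6)) =
      2 * (q * ((2 * k + 6) * (2 * k + 8))) := by
    have h0 : ((4 + 4 * (q * q) + (4 * Pp + Hp) * ((q + 1) * (q + 1)) +
        Cp * ((2 * k + 6) * (2 * k + 6)) : ℕ) : ℂ) = ((2 * (q * ((2 * k + 6) * (2 * k + 8))) : ℕ) : ℂ) := by
      have hkc : (q : ℂ) = 2 * k + 7 := by exact_mod_cast hk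
      push_cast at hsq ⊢
      rw [hkc] at hsq ⊢
      linear_combination 2 * hsq
    exact_mod_cast h0
  rw [hk, hcnt] at hsq'
  have h3 : Cp * ((2 * k + 6) * (2 * k + 6)) = (2 * k + 6) * ((2 * k + 6) * (2 * k + 6)) := by
    linear_combination hsq'
  have := Nat.eq_of_mul_eq_mul_right (show 0 < (2 * k + 6) * (2 * k + 6) by positivity) h3
  omega

include hodd in
theorem degree_cases (χ : IrrCharacter SL₂) :
    charDegree (χ : SL₂ → ℂ) = 1 ∨ charDegree (χ : SL₂ → ℂ) = Fintype.card F ∨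
      charDegree (χ : SL₂ → ℂ) ∣ Fintype.card F + 1 ∨ charDegree (χ : SL₂ → ℂ) ∣ Fintype.card F - 1 := by
  rcases sl_cases_odd hodd χ with rfl | rfl | h | h | h
  · exact Or.inl deg_principal
  · exact Or.inr (Or.inl deg_stIrrSL)
  · exact Or.inr (Or.inr (Or.inl (dvd_of_eq (deg_pSetSL h))))
  · exact Or.inr (Or.inr (Or.inl ⟨2, by rw [mul_comm]; exact (of_mem_hSetSL hodd h).2.symm⟩))
  · rcases deg_cSetSL_odd hodd h with h' | h'
    · exact Or.inr (Or.inr (Or.inr (dvd_of_eq h')))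
    · exact Or.inr (Or.inr (Or.inr ⟨2, by rw [mul_comm]; exact h'.symm⟩))

end Odd

section Even

variable [CharP F 2]

theorem negOne_eq_one : (negOne : SL₂) = 1 :=
  Subtype.ext (by rw [coe_negOne, Matrix.SpecialLinearGroup.coe_one]; ext i j; simp [CharTwo.neg_eq])

theorem degree_cases_even (χ : IrrCharacter SL₂) :
    charDegree (χ : SL₂ → ℂ) = 1 ∨ charDegree (χ : SL₂ → ℂ) = Fintype.card F ∨
      charDegree (χ : SL₂ → ℂ) = Fintype.card F + 1 ∨ charDegree (χ : SL₂ → ℂ) = Fintype.card F - 1 := by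
  rcases sl_cases_even χ with rfl | rfl | h | h
  · exact Or.inl deg_principal
  · exact Or.inr (Or.inl deg_stIrrSL)
  · exact Or.inr (Or.inr (Or.inl (deg_pSetSL h)))
  · exact Or.inr (Or.inr (Or.inr (deg_cSetSL_even h)))

theorem exists_degrees_even (h4 : 4 ≤ Fintype.card F) :
    (∃ χ : IrrCharacter SL₂, charDegree (χ : SL₂ → ℂ) = Fintype.card F + 1) ∧
      ∃ χ : IrrCharacter SL₂, charDegree (χ : SL₂ → ℂ) = Fintype.card F - 1 := by
  have h1 := two_mul_card_pSetSL_even (F := F)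
  have h2 := two_mul_card_cSetSL_even (F := F)
  obtain ⟨χ, hχ⟩ := Finset.card_pos.1 (show 0 < (pSetSL (F := F)).card by omega)
  obtain ⟨ψ, hψ⟩ := Finset.card_pos.1 (show 0 < (cSetSL (F := F)).card by omega)
  exact ⟨⟨χ, deg_pSetSL hχ⟩, ⟨ψ, deg_cSetSL_even hψ⟩⟩

end Even

end CfsgLib.SLTwoDegrees
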