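import Cfsg.Agent.Lib.CharApps.SLTwoDegrees

/-!
The degree graph of `SL₂(q)` and `PSL₂(q)`.
-/

set_option autoImplicit false
set_option linter.style.haveILetI false

namespace CfsgLib.SLTwoDegrees

open Cfsg

/-- The degrees are `1`, `q`, divisors of `q ± 1`, and include `q`, `q + 1`, `q - 1`. -/
def DegreeShape (S : Type*) [Group S] (q : ℕ) : Prop :=
  (∀ d ∈ charDegrees S, d = 1 ∨ d = q ∨ d ∣ q + 1 ∨ d ∣ q - 1) ∧
    q ∈ charDegrees S ∧ q + 1 ∈ charDegrees S ∧ q - 1 ∈ charDegrees S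

theorem shape_of_cases {S : Type*} [Group S] [Finite S] {F : Type*} [Field F] [Fintype F]
    (h5 : 5 < Fintype.card F ∧ Odd (Fintype.card F) ∨ 4 ≤ Fintype.card F ∧ CharP F 2)
    (hS : Nonempty (S ≃* Matrix.ProjectiveSpecialLinearGroup (Fin 2) F) ∨
      Nonempty (S ≃* Matrix.SpecialLinearGroup (Fin 2) F)) :
    DegreeShape S (Fintype.card F) := by
  classical
  have hD : charDegrees S =
        charDegrees (Matrix.SpecialLinearGroup (Fin 2) F ⧸ Subgroup.center _) ∨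
      charDegrees S = charDegrees (Matrix.SpecialLinearGroup (Fin 2) F) :=
    hS.imp (fun ⟨e⟩ => charDegrees_mulEquiv e) (fun ⟨e⟩ => charDegrees_mulEquiv e)
  have hmem : ∀ χ : IrrCharacter (Matrix.SpecialLinearGroup (Fin 2) F),
      (χ : Matrix.SpecialLinearGroup (Fin 2) F → ℂ) negOne =
        (χ : Matrix.SpecialLinearGroup (Fin 2) F → ℂ) 1 →
      charDegree (χ : Matrix.SpecialLinearGroup (Fin 2) F → ℂ) ∈ charDegrees S := by
    intro χ h
    rcases hD with e | e <;> rw [e]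
    · exact (mem_charDegrees_quotient _).2 ⟨χ, (trivial_center_iff χ).2 h, rfl⟩
    · exact ⟨χ, rfl⟩
  have hall : ∀ d ∈ charDegrees S, ∃ χ : IrrCharacter (Matrix.SpecialLinearGroup (Fin 2) F),
      charDegree (χ : Matrix.SpecialLinearGroup (Fin 2) F → ℂ) = d := by
    intro d hd
    rcases hD with e | e <;> rw [e] at hd
    · obtain ⟨χ, -, h⟩ := (mem_charDegrees_quotient _).1 hd
      exact ⟨χ, h⟩
    · exact hd
  rcases h5 with ⟨h5, hodd⟩ | ⟨h4, hc⟩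
  · obtain ⟨⟨a, ha, ha'⟩, ⟨b, hb, hb'⟩, ⟨c, hc, hc'⟩⟩ := exists_projective hodd h5
    refine ⟨fun d hd => ?_, ha' ▸ hmem a ha, hb' ▸ hmem b hb, hc' ▸ hmem c hc⟩
    obtain ⟨χ, rfl⟩ := hall d hd
    exact degree_cases hodd χ
  · haveI := hc
    obtain ⟨⟨b, hb⟩, ⟨c, hc'⟩⟩ := exists_degrees_even (F := F) h4
    have h1 : ∀ χ : IrrCharacter (Matrix.SpecialLinearGroup (Fin 2) F),
        charDegree (χ : Matrix.SpecialLinearGroup (Fin 2) F → ℂ) ∈ charDegrees S :=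
      fun χ => hmem χ (by rw [negOne_eq_one])
    refine ⟨fun d hd => ?_, CharsMore.TwoByTwo.deg_stIrrSL (F := F) ▸ h1 _, hb ▸ h1 b, hc' ▸ h1 c⟩
    obtain ⟨χ, rfl⟩ := hall d hd
    rcases degree_cases_even χ with h | h | h | h
    · exact Or.inl h
    · exact Or.inr (Or.inl h)
    · exact Or.inr (Or.inr (Or.inl (dvd_of_eq h)))
    · exact Or.inr (Or.inr (Or.inr (dvd_of_eq h)))

variable {S : Type*} [Group S] {q t n : ℕ}

theorem sq_sub_one (q : ℕ) : q ^ 2 - 1 = (q + 1) * (q - 1) := by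
  simpa using Nat.sq_sub_sq q 1

theorem DegreeShape.primes (h : DegreeShape S q) :
    degreePrimes S = {r : ℕ | r.Prime ∧ r ∣ q * (q ^ 2 - 1)} := by
  ext r
  simp only [degreePrimes, Set.mem_setOf_eq]
  refine and_congr_right fun hr => ⟨?_, fun hd => ?_⟩
  · rintro ⟨d, hd, hrd⟩
    rcases h.1 d hd with rfl | rfl | h' | h'
    · exact absurd (Nat.dvd_one.1 hrd) hr.one_lt.ne'
    · exact hrd.mul_right _
    · rw [sq_sub_one]; exact (((hrd.trans h').mul_right _)).mul_left _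
    · rw [sq_sub_one]; exact (((hrd.trans h').mul_left _)).mul_left _
  · rw [sq_sub_one] at hd
    rcases hr.dvd_mul.1 hd with h' | h'
    · exact ⟨q, h.2.1, h'⟩
    rcases hr.dvd_mul.1 h' with h'' | h''
    · exact ⟨_, h.2.2.1, h''⟩
    · exact ⟨_, h.2.2.2, h''⟩

theorem DegreeShape.adj (h : DegreeShape S q) (ht : t.Prime) (hq : q = t ^ n) (r s : ℕ) :
    (degreeGraph S).Adj r s ↔
      r ≠ s ∧ r.Prime ∧ s.Prime ∧ (r * s ∣ q + 1 ∨ r * s ∣ q - 1) := by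
  constructor
  · rintro ⟨hne, hr, hs, d, hd, hrs⟩
    refine ⟨hne, hr, hs, ?_⟩
    rcases h.1 d hd with rfl | rfl | h' | h'
    · exact absurd (Nat.dvd_one.1 ((dvd_mul_right r s).trans hrs)) hr.one_lt.ne'
    · rw [hq] at hrs
      refine absurd ?_ hne
      rw [(Nat.prime_dvd_prime_iff_eq hr ht).1 (hr.dvd_of_dvd_pow ((dvd_mul_right r s).trans hrs)),
        (Nat.prime_dvd_prime_iff_eq hs ht).1 (hs.dvd_of_dvd_pow ((dvd_mul_left s r).trans hrs))]
    · exact Or.inl (hrs.trans h')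
    · exact Or.inr (hrs.trans h')
  · rintro ⟨hne, hr, hs, h' | h'⟩
    · exact ⟨hne, hr, hs, _, h.2.2.1, h'⟩
    · exact ⟨hne, hr, hs, _, h.2.2.2, h'⟩

theorem mul_dvd_iff {r s m : ℕ} (hr : r.Prime) (hs : s.Prime) (hne : r ≠ s) :
    r * s ∣ m ↔ r ∣ m ∧ s ∣ m :=
  ⟨fun h => ⟨(dvd_mul_right r s).trans h, (dvd_mul_left s r).trans h⟩,
    fun ⟨h1, h2⟩ => ((Nat.coprime_primes hr hs).2 hne).mul_dvd_of_dvd_of_dvd h1 h2⟩

end CfsgLib.SLTwoDegrees
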