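import Mathlib

/-!
# Splitting a self-dual module into a symplectic and an orthogonal part

Only existence of forms matters, so one splits off a small invariant subspace on which the given
(possibly non-reflexive) form is nondegenerate, together with its right orthogonal.
-/

set_option autoImplicit false
set_option linter.style.haveILetI false
set_option linter.unusedSectionVars false

namespace CfsgLib.CharApps.SelfDualSplit

open Module
open LinearMap (BilinForm)

variable {F : Type*} [Field F] {G : Type*} [Group G] {V : Type*} [AddCommGroup V] [Module F V]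
  [FiniteDimensional F V] (ρ : Representation F G V)

/-- Invariance of a subspace. -/
def Stable (X : Submodule F V) : Prop := ∀ g : G, ∀ x ∈ X, ρ g x ∈ X

/-- Invariance of a form on a subspace. -/
def InvOn (X : Submodule F V) (A : BilinForm F V) : Prop :=
  ∀ g : G, ∀ x ∈ X, ∀ y ∈ X, A (ρ g x) (ρ g y) = A x y

/-- Left nondegeneracy on a subspace. -/
def NondegOn (X : Submodule F V) (A : BilinForm F V) : Prop :=
  ∀ x ∈ X, (∀ y ∈ X, A x y = 0) → x = 0

/-- An invariant alternating nondegenerate form exists on the subspace. -/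
def Symp (X : Submodule F V) : Prop :=
  Stable ρ X ∧ ∃ A : BilinForm F V, (∀ x, A x x = 0) ∧ InvOn ρ X A ∧ NondegOn X A

/-- An invariant symmetric nondegenerate form exists on the subspace, with trivial action in
characteristic two. -/
def Orth (X : Submodule F V) : Prop :=
  Stable ρ X ∧ (∃ S : BilinForm F V, (∀ x y, S x y = S y x) ∧ InvOn ρ X S ∧ NondegOn X S) ∧
    ((2 : F) = 0 → ∀ g : G, ∀ x ∈ X, ρ g x = x)

variable {ρ}

theorem Stable.sup {X Y : Submodule F V} (hX : Stable ρ X) (hY : Stable ρ Y) :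
    Stable ρ (X ⊔ Y) := fun g z hz => by
  obtain ⟨x, hx, y, hy, rfl⟩ := Submodule.mem_sup.1 hz
  rw [map_add]
  exact Submodule.add_mem_sup (hX g x hx) (hY g y hy)

theorem stable_bot : Stable ρ (⊥ : Submodule F V) := fun g x hx => by
  rw [Submodule.mem_bot] at hx ⊢
  rw [hx, map_zero]

theorem symp_bot : Symp ρ (⊥ : Submodule F V) :=
  ⟨stable_bot, 0, fun _ => rfl, fun _ _ _ _ _ => rfl, fun x hx _ => hx⟩

theorem orth_bot : Orth ρ (⊥ : Submodule F V) :=
  ⟨stable_bot, ⟨0, fun _ _ => rfl, fun _ _ _ _ _ => rfl, fun x hx _ => hx⟩,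
    fun _ g x hx => by rw [(Submodule.mem_bot F).1 hx, map_zero]⟩

/-- Projections attached to two disjoint subspaces. -/
theorem exists_proj {X Y : Submodule F V} (h : Disjoint X Y) :
    ∃ π : V →ₗ[F] V, (∀ x ∈ X, π x = x) ∧ (∀ y ∈ Y, π y = 0) := by
  obtain ⟨Z, hZ⟩ := Submodule.exists_isCompl (X ⊔ Y)
  have hc : IsCompl X (Y ⊔ Z) := by
    refine ⟨(h.disjoint_sup_right_of_disjoint_sup_left hZ.disjoint), ?_⟩
    rw [codisjoint_iff, ← sup_assoc]
    exact hZ.sup_eq_top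
  refine ⟨X.subtype ∘ₗ (Submodule.projectionOnto X (Y ⊔ Z) hc), fun x hx => ?_, fun y hy => ?_⟩
  · exact congrArg Subtype.val (Submodule.projectionOnto_apply_left hc ⟨x, hx⟩)
  · show ((Submodule.projectionOnto X (Y ⊔ Z) hc y : X) : V) = 0
    rw [Submodule.projectionOnto_apply_of_mem_right hc (Submodule.mem_sup_left hy)]
    rfl

/-- The orthogonal sum of two forms. -/
theorem exists_sum_form {X Y : Submodule F V} (h : Disjoint X Y) (hX : Stable ρ X)
    (hY : Stable ρ Y) {A B : BilinForm F V} (hA : InvOn ρ X A) (hB : InvOn ρ Y B)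
    (hAn : NondegOn X A) (hBn : NondegOn Y B) :
    ∃ C : BilinForm F V, InvOn ρ (X ⊔ Y) C ∧ NondegOn (X ⊔ Y) C ∧
      ((∀ x, A x x = 0) → (∀ x, B x x = 0) → ∀ x, C x x = 0) ∧
      ((∀ x y, A x y = A y x) → (∀ x y, B x y = B y x) → ∀ x y, C x y = C y x) := by
  obtain ⟨π, hπX, hπY⟩ := exists_proj h
  obtain ⟨σ, hσY, hσX⟩ := exists_proj h.symm
  refine ⟨A.compl₁₂ π π + B.compl₁₂ σ σ, ?_, ?_, fun hA0 hB0 x => ?_, fun hA0 hB0 x y => ?_⟩
  · intro g a ha b hb
    obtain ⟨x, hx, y, hy, rfl⟩ := Submodule.mem_sup.1 ha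
    obtain ⟨x', hx', y', hy', rfl⟩ := Submodule.mem_sup.1 hb
    simp [hπX x hx, hπY y hy, hπX x' hx', hπY y' hy', hσY y hy, hσX x hx, hσY y' hy', hσX x' hx',
      hπX _ (hX g x hx), hπY _ (hY g y hy), hπX _ (hX g x' hx'), hπY _ (hY g y' hy'),
      hσY _ (hY g y hy), hσX _ (hX g x hx), hσY _ (hY g y' hy'), hσX _ (hX g x' hx'),
      hA g x hx x' hx', hB g y hy y' hy']
  · intro a ha h0
    obtain ⟨x, hx, y, hy, rfl⟩ := Submodule.mem_sup.1 ha
    have h1 : x = 0 := hAn x hx fun x' hx' => by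
      simpa [hπX x hx, hπY y hy, hπX x' hx', hσX x' hx'] using h0 x' (Submodule.mem_sup_left hx')
    have h2 : y = 0 := hBn y hy fun y' hy' => by
      simpa [hσY y hy, hσX x hx, hσY y' hy', hπY y' hy'] using h0 y' (Submodule.mem_sup_right hy')
    rw [h1, h2, add_zero]
  · simp [hA0, hB0]
  · simp [hA0 (π x), hB0 (σ x)]

theorem Symp.sup {X Y : Submodule F V} (h : Disjoint X Y) (hX : Symp ρ X) (hY : Symp ρ Y) :
    Symp ρ (X ⊔ Y) := by
  obtain ⟨hXs, A, hA0, hA, hAn⟩ := hX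
  obtain ⟨hYs, B, hB0, hB, hBn⟩ := hY
  obtain ⟨C, hC, hCn, hC0, -⟩ := exists_sum_form h hXs hYs hA hB hAn hBn
  exact ⟨hXs.sup hYs, C, hC0 hA0 hB0, hC, hCn⟩

theorem Orth.sup {X Y : Submodule F V} (h : Disjoint X Y) (hX : Orth ρ X) (hY : Orth ρ Y) :
    Orth ρ (X ⊔ Y) := by
  obtain ⟨hXs, ⟨A, hA0, hA, hAn⟩, hX2⟩ := hX
  obtain ⟨hYs, ⟨B, hB0, hB, hBn⟩, hY2⟩ := hY
  obtain ⟨C, hC, hCn, -, hC0⟩ := exists_sum_form h hXs hYs hA hB hAn hBn
  refine ⟨hXs.sup hYs, ⟨C, hC0 hA0 hB0, hC, hCn⟩, fun h2 g a ha => ?_⟩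
  obtain ⟨x, hx, y, hy, rfl⟩ := Submodule.mem_sup.1 ha
  rw [map_add, hX2 h2 g x hx, hY2 h2 g y hy]

/-- A minimal nonzero invariant subspace. -/
def Minimal' (ρ : Representation F G V) (S : Submodule F V) : Prop :=
  Stable ρ S ∧ S ≠ ⊥ ∧ ∀ T : Submodule F V, T ≤ S → Stable ρ T → T = ⊥ ∨ T = S

theorem exists_minimal {X : Submodule F V} (hX : Stable ρ X) (hne : X ≠ ⊥) :
    ∃ S ≤ X, Minimal' ρ S := by
  induction hd : finrank F X using Nat.strong_induction_on generalizing X with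
  | _ n ih =>
    by_cases h : ∀ T : Submodule F V, T ≤ X → Stable ρ T → T = ⊥ ∨ T = X
    · exact ⟨X, le_rfl, hX, hne, h⟩
    · push Not at h
      obtain ⟨T, hTX, hT, hT0, hTne⟩ := h
      obtain ⟨S, hST, hS⟩ := ih (finrank F T)
        (hd ▸ Submodule.finrank_lt_finrank_of_lt (lt_of_le_of_ne hTX hTne)) hT hT0 rfl
      exact ⟨S, hST.trans hTX, hS⟩

/-- An invariant projection onto an invariant subspace, in coprime characteristic. -/
theorem exists_inv_proj (hcop : (Nat.card G : F) ≠ 0) [Finite G] {S : Submodule F V}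
    (hS : Stable ρ S) :
    ∃ τ : V →ₗ[F] V, (∀ v, τ v ∈ S) ∧ (∀ r ∈ S, τ r = r) ∧ ∀ h v, τ (ρ h v) = ρ h (τ v) := by
  classical
  haveI := Fintype.ofFinite G
  obtain ⟨Z, hZ⟩ := Submodule.exists_isCompl S
  let τ₀ : V →ₗ[F] V := S.subtype ∘ₗ Submodule.projectionOnto S Z hZ
  refine ⟨(Nat.card G : F)⁻¹ • ∑ g : G, (ρ g) ∘ₗ τ₀ ∘ₗ (ρ g⁻¹), fun v => ?_, fun r hr => ?_,
    fun h v => ?_⟩
  · simp only [LinearMap.smul_apply, LinearMap.sum_apply]
    exact S.smul_mem _ (S.sum_mem fun g _ => hS g _ (Submodule.coe_mem _))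
  · simp only [LinearMap.smul_apply, LinearMap.sum_apply, LinearMap.comp_apply]
    rw [Finset.sum_eq_card_nsmul (b := r) (fun g _ => ?_), Finset.card_univ,
      ← Nat.cast_smul_eq_nsmul F, smul_smul, ← Nat.card_eq_fintype_card,
      inv_mul_cancel₀ hcop, one_smul]
    show ρ g ((Submodule.projectionOnto S Z hZ (ρ g⁻¹ r) : S) : V) = r
    rw [Submodule.projectionOnto_apply_left hZ ⟨_, hS g⁻¹ r hr⟩]
    simp
  · simp only [LinearMap.smul_apply, LinearMap.sum_apply, LinearMap.comp_apply, map_smul, map_sum]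
    congr 1
    refine Fintype.sum_equiv (Equiv.mulLeft h⁻¹) _ _ fun g => ?_
    simp [← Module.End.mul_apply, ← map_mul, mul_assoc]
    rw [← mul_assoc (ρ h), ← map_mul, mul_inv_cancel_left]

/-- In a semisimple space some minimal subspace escapes any proper invariant subspace. -/
theorem exists_minimal_not_le (hcop : (Nat.card G : F) ≠ 0) [Finite G] {X R : Submodule F V}
    (hX : Stable ρ X) (h : ¬ X ≤ R) : ∃ T ≤ X, Minimal' ρ T ∧ ¬ T ≤ R := by
  induction hd : finrank F X using Nat.strong_induction_on generalizing X with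
  | _ n ih =>
    obtain ⟨S, hSX, hS⟩ := exists_minimal hX fun e => h (e ▸ bot_le)
    by_cases hSR : S ≤ R
    · obtain ⟨τ, hτS, hτid, hτcomm⟩ := exists_inv_proj hcop hS.1
      have hX' : Stable ρ (X ⊓ LinearMap.ker τ) := fun g v hv => ⟨hX g v hv.1, by
        rw [SetLike.mem_coe, LinearMap.mem_ker, hτcomm, LinearMap.mem_ker.1 hv.2, map_zero]⟩
      have hlt : X ⊓ LinearMap.ker τ < X := by
        refine lt_of_le_of_ne inf_le_left fun e => hS.2.1 ((Submodule.eq_bot_iff _).2 fun s hs => ?_)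
        rw [← hτid s hs]
        exact LinearMap.mem_ker.1 (e.symm ▸ hSX hs : s ∈ X ⊓ LinearMap.ker τ).2
      have hX'R : ¬ X ⊓ LinearMap.ker τ ≤ R := fun hle => h fun x hx => by
        have h1 : x - τ x ∈ X ⊓ LinearMap.ker τ := ⟨sub_mem hx (hSX (hτS x)), by
          rw [SetLike.mem_coe, LinearMap.mem_ker, map_sub, hτid _ (hτS x), sub_self]⟩
        simpa using add_mem (hle h1) (hSR (hτS x))
      obtain ⟨T, hT, hTm, hTR⟩ :=
        ih _ (hd ▸ Submodule.finrank_lt_finrank_of_lt hlt) hX' hX'R rfl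
      exact ⟨T, hT.trans inf_le_left, hTm, hTR⟩
    · exact ⟨S, hSX, hS, hSR⟩

variable {B : BilinForm F V}

/-- On a minimal subspace a nonzero invariant form is nondegenerate. -/
theorem nondegOn_of_ne_zero {S : Submodule F V} (hS : Minimal' ρ S) {A : BilinForm F V}
    (hA : InvOn ρ S A) {a b : V} (ha : a ∈ S) (hb : b ∈ S) (hab : A a b ≠ 0) : NondegOn S A := by
  let K : Submodule F V :=
    { carrier := {x | x ∈ S ∧ ∀ y ∈ S, A x y = 0}
      zero_mem' := ⟨S.zero_mem, fun y _ => by simp⟩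
      add_mem' := fun {x y} hx hy => ⟨S.add_mem hx.1 hy.1, fun z hz => by
        simp [hx.2 z hz, hy.2 z hz]⟩
      smul_mem' := fun c {x} hx => ⟨S.smul_mem c hx.1, fun z hz => by simp [hx.2 z hz]⟩ }
  have hK : Stable ρ K := fun g x hx => ⟨hS.1 g x hx.1, fun y hy => by
    have h := hA g x hx.1 (ρ g⁻¹ y) (hS.1 g⁻¹ y hy)
    rw [show ρ g (ρ g⁻¹ y) = y by simp] at h
    rw [h]
    exact hx.2 _ (hS.1 g⁻¹ y hy)⟩
  intro x hx h0
  rcases hS.2.2 K (fun z hz => hz.1) hK with h | h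
  · exact (Submodule.mem_bot F).1 (h ▸ (⟨hx, h0⟩ : x ∈ K))
  · exact absurd ((h ▸ ha : a ∈ K).2 b hb) hab

/-- A minimal subspace with a nondegenerate invariant form is symplectic or orthogonal. -/
theorem symp_or_orth_of_minimal {S : Submodule F V} (hS : Minimal' ρ S) (hB : InvOn ρ S B)
    (hBn : NondegOn S B) : Symp ρ S ∨ Orth ρ S := by
  classical
  obtain ⟨T, hT⟩ := Submodule.exists_isCompl S
  let π : V →ₗ[F] V := S.subtype ∘ₗ Submodule.projectionOnto S T hT
  have hπ : ∀ x ∈ S, π x = x := fun x hx =>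
    congrArg Subtype.val (Submodule.projectionOnto_apply_left hT ⟨x, hx⟩)
  have hπmem : ∀ v, π v ∈ S := fun v => Submodule.coe_mem _
  have hsym : InvOn ρ S (B + B.flip) := fun g u hu v hv => by
    simp [hB g u hu v hv, hB g v hv u hu]
  have htrans : ∀ A : BilinForm F V, InvOn ρ S A → InvOn ρ S (A.compl₁₂ π π) :=
    fun A hA g x hx y hy => by
      simp [hπ _ (hS.1 g x hx), hπ _ (hS.1 g y hy), hπ x hx, hπ y hy, hA g x hx y hy]
  have htransn : ∀ A : BilinForm F V, NondegOn S A → NondegOn S (A.compl₁₂ π π) :=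
    fun A hA x hx h0 => hA x hx fun y hy => by simpa [hπ x hx, hπ y hy] using h0 y hy
  by_cases h1 : ∀ x ∈ S, B x x = 0
  · exact Or.inl ⟨hS.1, B.compl₁₂ π π, fun x => h1 _ (hπmem x), htrans B hB, htransn B hBn⟩
  push Not at h1
  obtain ⟨a, ha, ha0⟩ := h1
  by_cases h2 : (2 : F) = 0
  · by_cases h3 : ∀ x ∈ S, ∀ y ∈ S, (B + B.flip) x y = 0
    · -- the diagonal is additive with trivial kernel
      right
      have hq : ∀ x ∈ S, ∀ y ∈ S, B (x - y) (x - y) = B x x - B y y := fun x hx y hy => by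
        have h4 := h3 x hx y hy
        simp only [LinearMap.add_apply, LinearMap.BilinForm.flip_apply, LinearMap.flip_apply] at h4
        simp only [map_sub, LinearMap.sub_apply]
        linear_combination -h4 + B y y * h2
      have hsym' : ∀ x ∈ S, ∀ y ∈ S, B x y = B y x := fun x hx y hy => by
        have h4 := h3 x hx y hy
        simp only [LinearMap.add_apply, LinearMap.BilinForm.flip_apply, LinearMap.flip_apply] at h4
        linear_combination h4 - B y x * h2
      let K : Submodule F V :=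
        { carrier := {x | x ∈ S ∧ B x x = 0}
          zero_mem' := ⟨S.zero_mem, by simp⟩
          add_mem' := fun {x y} hx hy => ⟨S.add_mem hx.1 hy.1, by
            have h4 := h3 x hx.1 y hy.1
            simp only [LinearMap.add_apply, LinearMap.BilinForm.flip_apply, LinearMap.flip_apply] at h4
            simp [hx.2, hy.2]
            linear_combination h4⟩
          smul_mem' := fun c {x} hx => ⟨S.smul_mem c hx.1, by simp [hx.2]⟩ }
      have hK : Stable ρ K := fun g x hx => ⟨hS.1 g x hx.1, by rw [hB g x hx.1 x hx.1, hx.2]⟩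
      have hK0 : K = ⊥ := (hS.2.2 K (fun z hz => hz.1) hK).resolve_right fun e =>
        ha0 (e.symm ▸ ha : a ∈ K).2
      have htriv : ∀ g : G, ∀ x ∈ S, ρ g x = x := fun g x hx => sub_eq_zero.1
        ((Submodule.mem_bot F).1 (hK0 ▸ (⟨S.sub_mem (hS.1 g x hx) hx, by
          rw [hq _ (hS.1 g x hx) x hx, hB g x hx x hx, sub_self]⟩ : ρ g x - x ∈ K)))
      exact ⟨hS.1, ⟨B.compl₁₂ π π, fun x y => hsym' _ (hπmem x) _ (hπmem y), htrans B hB,
        htransn B hBn⟩, fun _ g x hx => htriv g x hx⟩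
    · left
      push Not at h3
      obtain ⟨x, hx, y, hy, hxy⟩ := h3
      refine ⟨hS.1, (B + B.flip).compl₁₂ π π, fun v => ?_, htrans _ hsym,
        htransn _ (nondegOn_of_ne_zero hS hsym hx hy hxy)⟩
      simp only [LinearMap.compl₁₂_apply, LinearMap.add_apply, LinearMap.BilinForm.flip_apply, LinearMap.flip_apply]
      linear_combination B (π v) (π v) * h2
  · right
    refine ⟨hS.1, ⟨(B + B.flip).compl₁₂ π π, fun x y => ?_, htrans _ hsym,
      htransn _ (nondegOn_of_ne_zero hS hsym ha ha ?_)⟩, fun e => absurd e h2⟩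
    · simp [add_comm]
    · simp only [LinearMap.add_apply, LinearMap.BilinForm.flip_apply, LinearMap.flip_apply, ← two_mul]
      exact mul_ne_zero h2 ha0

/-- A minimal subspace escaping both orthogonals of a given one. -/
theorem exists_pairing (hcop : (Nat.card G : F) ≠ 0) [Finite G] {X S : Submodule F V}
    (hX : Stable ρ X) (hB : InvOn ρ X B) (hBn : NondegOn X B) (hBn' : NondegOn X B.flip)
    (hS : Minimal' ρ S) (hSX : S ≤ X) :
    ∃ T ≤ X, Minimal' ρ T ∧ (∃ s ∈ S, ∃ t ∈ T, B s t ≠ 0) ∧ ∃ s ∈ S, ∃ t ∈ T, B t s ≠ 0 := by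
  classical
  let R : BilinForm F V → Submodule F V := fun A =>
    { carrier := {v | v ∈ X ∧ ∀ s ∈ S, A s v = 0}
      zero_mem' := ⟨X.zero_mem, fun s _ => by simp⟩
      add_mem' := fun {u v} hu hv => ⟨X.add_mem hu.1 hv.1, fun s hs => by
        simp [hu.2 s hs, hv.2 s hs]⟩
      smul_mem' := fun c {u} hu => ⟨X.smul_mem c hu.1, fun s hs => by simp [hu.2 s hs]⟩ }
  have key : ∀ A : BilinForm F V, NondegOn X A →
      ∃ T ≤ X, Minimal' ρ T ∧ ∃ s ∈ S, ∃ t ∈ T, A s t ≠ 0 := by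
    intro A hA
    have hne : ¬ X ≤ R A := fun hle => hS.2.1 ((Submodule.eq_bot_iff _).2 fun s hs =>
      hA s (hSX hs) fun v hv => (hle hv).2 s hs)
    obtain ⟨T, hT, hTm, hTR⟩ := exists_minimal_not_le hcop hX hne
    obtain ⟨t, ht, htR⟩ := SetLike.not_le_iff_exists.1 hTR
    refine ⟨T, hT, hTm, ?_⟩
    by_contra hh
    push Not at hh
    exact htR ⟨hT ht, fun s hs => hh s hs t ht⟩
  obtain ⟨T₁, hT₁, hT₁m, s₁, hs₁, t₁, ht₁, e₁⟩ := key B hBn
  obtain ⟨T₂, hT₂, hT₂m, s₂, hs₂, t₂, ht₂, e₂⟩ := key B.flip hBn'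
  by_cases h1 : ∃ s ∈ S, ∃ t ∈ T₁, B t s ≠ 0
  · exact ⟨T₁, hT₁, hT₁m, ⟨s₁, hs₁, t₁, ht₁, e₁⟩, h1⟩
  by_cases h2 : ∃ s ∈ S, ∃ t ∈ T₂, B s t ≠ 0
  · exact ⟨T₂, hT₂, hT₂m, h2, ⟨s₂, hs₂, t₂, ht₂, e₂⟩⟩
  push Not at h1 h2
  -- both minimal subspaces are dual to `S`, hence isomorphic: take a diagonal
  let α : T₁ →ₗ[F] Module.Dual F S := (B.flip.compl₁₂ T₁.subtype S.subtype)
  let β : T₂ →ₗ[F] Module.Dual F S := (B.compl₁₂ T₂.subtype S.subtype)
  have hker : ∀ (T : Submodule F V) (A : BilinForm F V) (hT : Minimal' ρ T), T ≤ X →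
      InvOn ρ X A → (∃ t ∈ T, ∃ s ∈ S, A t s ≠ 0) → ∀ t ∈ T, (∀ s ∈ S, A t s = 0) → t = 0 := by
    intro T A hTm' hTX hA ⟨t₀, ht₀, s₀, hs₀, e₀⟩ t ht ht0
    let K : Submodule F V :=
      { carrier := {v | v ∈ T ∧ ∀ s ∈ S, A v s = 0}
        zero_mem' := ⟨T.zero_mem, fun s _ => by simp⟩
        add_mem' := fun {u v} hu hv => ⟨T.add_mem hu.1 hv.1, fun s hs => by
          simp [hu.2 s hs, hv.2 s hs]⟩
        smul_mem' := fun c {u} hu => ⟨T.smul_mem c hu.1, fun s hs => by simp [hu.2 s hs]⟩ }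
    have hK : Stable ρ K := fun g v hv => ⟨hTm'.1 g v hv.1, fun s hs => by
      have h := hA g v (hTX hv.1) (ρ g⁻¹ s) (hSX (hS.1 g⁻¹ s hs))
      rw [show ρ g (ρ g⁻¹ s) = s by simp] at h
      rw [h]
      exact hv.2 _ (hS.1 g⁻¹ s hs)⟩
    rcases hTm'.2.2 K (fun z hz => hz.1) hK with h | h
    · exact (Submodule.mem_bot F).1 (h ▸ (⟨ht, ht0⟩ : t ∈ K))
    · exact absurd ((h ▸ ht₀ : t₀ ∈ K).2 s₀ hs₀) e₀
  have hflip : InvOn ρ X B.flip := fun g u hu v hv => hB g v hv u hu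
  have hαinj : Function.Injective α := (injective_iff_map_eq_zero α).2 fun t ht =>
    Subtype.ext (hker T₁ B.flip hT₁m hT₁ hflip ⟨t₁, ht₁, s₁, hs₁, e₁⟩ t t.2
      fun s hs => LinearMap.congr_fun ht ⟨s, hs⟩)
  have hβinj : Function.Injective β := (injective_iff_map_eq_zero β).2 fun t ht =>
    Subtype.ext (hker T₂ B hT₂m hT₂ hB ⟨t₂, ht₂, s₂, hs₂, e₂⟩ t t.2
      fun s hs => LinearMap.congr_fun ht ⟨s, hs⟩)
  -- surjectivity by a dimension count
  have hdim : ∀ (T : Submodule F V) (A : BilinForm F V), T ≤ X → Minimal' ρ T → InvOn ρ X A →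
      (∃ s ∈ S, ∃ t ∈ T, A s t ≠ 0) → finrank F S ≤ finrank F T := by
    intro T A hTX hTm' hA ⟨s₀, hs₀, t₀, ht₀, e₀⟩
    let γ : S →ₗ[F] Module.Dual F T := A.compl₁₂ S.subtype T.subtype
    have hγ : Function.Injective γ := (injective_iff_map_eq_zero γ).2 fun s hs' => by
      let K : Submodule F V :=
        { carrier := {v | v ∈ S ∧ ∀ t ∈ T, A v t = 0}
          zero_mem' := ⟨S.zero_mem, fun t _ => by simp⟩
          add_mem' := fun {u v} hu hv => ⟨S.add_mem hu.1 hv.1, fun t ht => by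
            simp [hu.2 t ht, hv.2 t ht]⟩
          smul_mem' := fun c {u} hu => ⟨S.smul_mem c hu.1, fun t ht => by simp [hu.2 t ht]⟩ }
      have hK : Stable ρ K := fun g v hv => ⟨hS.1 g v hv.1, fun t ht => by
        have h := hA g v (hSX hv.1) (ρ g⁻¹ t) (hTX (hTm'.1 g⁻¹ t ht))
        rw [show ρ g (ρ g⁻¹ t) = t by simp] at h
        rw [h]
        exact hv.2 _ (hTm'.1 g⁻¹ t ht)⟩
      rcases hS.2.2 K (fun z hz => hz.1) hK with h | h
      · exact Subtype.ext ((Submodule.mem_bot F).1 (h ▸ (⟨s.2, fun t ht =>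
          LinearMap.congr_fun hs' ⟨t, ht⟩⟩ : (s : V) ∈ K)))
      · exact absurd ((h ▸ hs₀ : s₀ ∈ K).2 t₀ ht₀) e₀
    calc finrank F S ≤ finrank F (Module.Dual F T) := LinearMap.finrank_le_finrank_of_injective hγ
      _ = finrank F T := Subspace.dual_finrank_eq
  have hαsur : Function.Surjective α :=
    (LinearMap.injective_iff_surjective_of_finrank_eq_finrank (by
      refine le_antisymm (LinearMap.finrank_le_finrank_of_injective hαinj) ?_
      rw [Subspace.dual_finrank_eq]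
      exact hdim T₁ B hT₁ hT₁m hB ⟨s₁, hs₁, t₁, ht₁, e₁⟩)).1 hαinj
  have hβsur : Function.Surjective β :=
    (LinearMap.injective_iff_surjective_of_finrank_eq_finrank (by
      refine le_antisymm (LinearMap.finrank_le_finrank_of_injective hβinj) ?_
      rw [Subspace.dual_finrank_eq]
      exact hdim T₂ B.flip hT₂ hT₂m hflip ⟨s₂, hs₂, t₂, ht₂, e₂⟩)).1 hβinj
  let θ : T₁ →ₗ[F] T₂ :=
    (LinearEquiv.ofBijective β ⟨hβinj, hβsur⟩).symm.toLinearMap ∘ₗ α
  have hθ : ∀ (t : T₁) (s : S), B (θ t : V) (s : V) = B (s : V) (t : V) := fun t s => by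
    have h := LinearMap.congr_fun ((LinearEquiv.ofBijective β ⟨hβinj, hβsur⟩).apply_symm_apply (α t)) s
    exact h
  have hθg : ∀ g : G, ∀ t : T₁, (θ ⟨ρ g t, hT₁m.1 g t t.2⟩ : V) = ρ g (θ t : V) := by
    intro g t
    have h : θ ⟨ρ g t, hT₁m.1 g t t.2⟩ = ⟨ρ g (θ t : V), hT₂m.1 g _ (θ t).2⟩ := by
      apply hβinj
      refine LinearMap.ext fun s => ?_
      show B (θ ⟨ρ g t, hT₁m.1 g t t.2⟩ : V) (s : V) = B (ρ g (θ t : V)) (s : V)
      have h3 := hB g (θ t : V) (hT₂ (θ t).2) (ρ g⁻¹ s) (hSX (hS.1 g⁻¹ s s.2))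
      have h4 := hB g (ρ g⁻¹ s) (hSX (hS.1 g⁻¹ s s.2)) (t : V) (hT₁ t.2)
      rw [show ρ g (ρ g⁻¹ (s : V)) = s by simp] at h3 h4
      rw [hθ, h3, h4]
      exact (hθ t ⟨_, hS.1 g⁻¹ s s.2⟩).symm
    exact congrArg Subtype.val h
  let δ : T₁ →ₗ[F] V := T₁.subtype + T₂.subtype ∘ₗ θ
  refine ⟨LinearMap.range δ, ?_, ⟨?_, ?_, ?_⟩, ⟨s₁, hs₁, δ ⟨t₁, ht₁⟩, ⟨_, rfl⟩, ?_⟩,
    ⟨s₁, hs₁, δ ⟨t₁, ht₁⟩, ⟨_, rfl⟩, ?_⟩⟩
  · rintro _ ⟨t, rfl⟩
    exact X.add_mem (hT₁ t.2) (hT₂ (θ t).2)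
  · rintro g _ ⟨t, rfl⟩
    exact ⟨⟨ρ g t, hT₁m.1 g t t.2⟩, by simp [δ, hθg]⟩
  · intro hbot
    have h : δ ⟨t₁, ht₁⟩ = 0 := by
      rw [← Submodule.mem_bot F, ← hbot]
      exact ⟨_, rfl⟩
    have h5 := congrArg (fun v => B s₁ v) h
    simp only [δ, LinearMap.add_apply, Submodule.subtype_apply, LinearMap.comp_apply, map_add,
      map_zero, h2 s₁ hs₁ _ (θ ⟨t₁, ht₁⟩).2, add_zero] at h5
    exact e₁ h5
  · intro U hU hUs
    have hU' : Stable ρ ((U.comap δ).map T₁.subtype) := by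
      rintro g _ ⟨t, ht, rfl⟩
      refine ⟨⟨ρ g t, hT₁m.1 g t t.2⟩, ?_, rfl⟩
      show δ _ ∈ U
      have e : δ ⟨ρ g t, hT₁m.1 g t t.2⟩ = ρ g (δ t) := by simp [δ, hθg]
      rw [e]
      exact hUs g _ ht
    rcases hT₁m.2.2 _ (Submodule.map_subtype_le _ _) hU' with h | h
    · left
      rw [eq_bot_iff]
      intro u hu
      obtain ⟨t, rfl⟩ := hU hu
      have ht : (t : V) ∈ (U.comap δ).map T₁.subtype := ⟨t, hu, rfl⟩
      rw [h, Submodule.mem_bot] at ht
      rw [show t = 0 from Subtype.ext ht, map_zero]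
      exact zero_mem _
    · right
      refine le_antisymm hU ?_
      rintro _ ⟨t, rfl⟩
      obtain ⟨t', ht', e⟩ : (t : V) ∈ (U.comap δ).map T₁.subtype := h.symm ▸ t.2
      rw [show t = t' from Subtype.ext e.symm]
      exact ht'
  · simp only [δ, LinearMap.add_apply, Submodule.subtype_apply, LinearMap.comp_apply, map_add,
      h2 s₁ hs₁ _ (θ ⟨t₁, ht₁⟩).2, add_zero]
    exact e₁
  · have h := hθ ⟨t₁, ht₁⟩ ⟨s₁, hs₁⟩
    simp only [δ, LinearMap.add_apply, Submodule.subtype_apply, LinearMap.comp_apply, map_add,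
      h1 s₁ hs₁ t₁ ht₁, zero_add, h]
    exact e₁

theorem nondegOn_flip {X : Submodule F V} (hB : NondegOn X B) : NondegOn X B.flip := by
  intro x hx h0
  let γ : X →ₗ[F] Module.Dual F X := B.compl₁₂ X.subtype X.subtype
  have hγ : Function.Injective γ := (injective_iff_map_eq_zero γ).2 fun u hu =>
    Subtype.ext (hB u u.2 fun v hv => LinearMap.congr_fun hu ⟨v, hv⟩)
  have hsur := (LinearMap.injective_iff_surjective_of_finrank_eq_finrank
    Subspace.dual_finrank_eq.symm).1 hγ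
  by_contra hne
  obtain ⟨f, hf⟩ : ∃ f : Module.Dual F X, f ⟨x, hx⟩ ≠ 0 := by
    by_contra hh
    push Not at hh
    exact hne (congrArg Subtype.val ((Module.forall_dual_apply_eq_zero_iff F (⟨x, hx⟩ : X)).1 hh))
  obtain ⟨u, rfl⟩ := hsur f
  exact hf (h0 u u.2)

/-- The decomposition of any invariant subspace with a nondegenerate invariant form. -/
theorem exists_split (hcop : (Nat.card G : F) ≠ 0) [Finite G] {X : Submodule F V}
    (hX : Stable ρ X) (hB : InvOn ρ X B) (hBn : NondegOn X B) :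
    ∃ U W : Submodule F V, U ≤ X ∧ W ≤ X ∧ U ⊔ W = X ∧ Disjoint U W ∧ Symp ρ U ∧ Orth ρ W := by
  classical
  induction hd : finrank F X using Nat.strong_induction_on generalizing X with
  | _ n ih =>
    by_cases hX0 : X = ⊥
    · exact ⟨⊥, ⊥, bot_le, bot_le, by simp [hX0], disjoint_bot_left, symp_bot, orth_bot⟩
    -- a nondegenerate piece
    obtain ⟨Y, hYX, hY0, hYn, hpiece⟩ : ∃ Y ≤ X, Y ≠ ⊥ ∧ NondegOn Y B ∧
        (Symp ρ Y ∨ Orth ρ Y) := by
      obtain ⟨S, hSX, hS⟩ := exists_minimal hX hX0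
      by_cases hSB : ∃ a ∈ S, ∃ b ∈ S, B a b ≠ 0
      · obtain ⟨a, ha, b, hb, hab⟩ := hSB
        have hinv : InvOn ρ S B := fun g u hu v hv => hB g u (hSX hu) v (hSX hv)
        have hn := nondegOn_of_ne_zero hS hinv ha hb hab
        exact ⟨S, hSX, hS.2.1, hn, symp_or_orth_of_minimal hS hinv hn⟩
      obtain ⟨T, hTX, hT, ⟨s₁, hs₁, t₁, ht₁, e₁⟩, ⟨s₂, hs₂, t₂, ht₂, e₂⟩⟩ :=
        exists_pairing hcop hX hB hBn (nondegOn_flip hBn) hS hSX
      by_cases hTB : ∃ a ∈ T, ∃ b ∈ T, B a b ≠ 0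
      · obtain ⟨a, ha, b, hb, hab⟩ := hTB
        have hinv : InvOn ρ T B := fun g u hu v hv => hB g u (hTX hu) v (hTX hv)
        have hn := nondegOn_of_ne_zero hT hinv ha hb hab
        exact ⟨T, hTX, hT.2.1, hn, symp_or_orth_of_minimal hT hinv hn⟩
      push Not at hSB hTB
      have hdisj : Disjoint S T := by
        rw [disjoint_iff]
        rcases hS.2.2 (S ⊓ T) inf_le_left (fun g x hx => ⟨hS.1 g x hx.1, hT.1 g x hx.2⟩) with h | h
        · exact h
        · exfalso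
          have hle : S ≤ T := inf_eq_left.1 h
          rcases hT.2.2 S hle hS.1 with h' | h'
          · exact hS.2.1 h'
          · exact e₁ (hSB s₁ hs₁ t₁ (h'.symm ▸ ht₁))
      have hST : Stable ρ (S ⊔ T) := hS.1.sup hT.1
      have hsub : S ⊔ T ≤ X := sup_le hSX hTX
      have hn : NondegOn (S ⊔ T) B := by
        intro a ha h0
        obtain ⟨x, hx, y, hy, rfl⟩ := Submodule.mem_sup.1 ha
        have hy0 : y = 0 := by
          let K : Submodule F V :=
            { carrier := {v | v ∈ T ∧ ∀ s ∈ S, B v s = 0}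
              zero_mem' := ⟨T.zero_mem, fun s _ => by simp⟩
              add_mem' := fun {u v} hu hv => ⟨T.add_mem hu.1 hv.1, fun s hs => by
                simp [hu.2 s hs, hv.2 s hs]⟩
              smul_mem' := fun c {u} hu => ⟨T.smul_mem c hu.1, fun s hs => by simp [hu.2 s hs]⟩ }
          have hK : Stable ρ K := fun g v hv => ⟨hT.1 g v hv.1, fun s hs => by
            have h := hB g v (hTX hv.1) (ρ g⁻¹ s) (hSX (hS.1 g⁻¹ s hs))
            rw [show ρ g (ρ g⁻¹ s) = s by simp] at h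
            rw [h]
            exact hv.2 _ (hS.1 g⁻¹ s hs)⟩
          rcases hT.2.2 K (fun z hz => hz.1) hK with h | h
          · refine (Submodule.mem_bot F).1 (h ▸ (⟨hy, fun s hs => ?_⟩ : y ∈ K))
            simpa [hSB x hx s hs] using h0 s (Submodule.mem_sup_left hs)
          · exact absurd ((h ▸ ht₂ : t₂ ∈ K).2 s₂ hs₂) e₂
        have hx0 : x = 0 := by
          let K : Submodule F V :=
            { carrier := {v | v ∈ S ∧ ∀ t ∈ T, B v t = 0}
              zero_mem' := ⟨S.zero_mem, fun t _ => by simp⟩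
              add_mem' := fun {u v} hu hv => ⟨S.add_mem hu.1 hv.1, fun t ht => by
                simp [hu.2 t ht, hv.2 t ht]⟩
              smul_mem' := fun c {u} hu => ⟨S.smul_mem c hu.1, fun t ht => by simp [hu.2 t ht]⟩ }
          have hK : Stable ρ K := fun g v hv => ⟨hS.1 g v hv.1, fun t ht => by
            have h := hB g v (hSX hv.1) (ρ g⁻¹ t) (hTX (hT.1 g⁻¹ t ht))
            rw [show ρ g (ρ g⁻¹ t) = t by simp] at h
            rw [h]
            exact hv.2 _ (hT.1 g⁻¹ t ht)⟩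
          rcases hS.2.2 K (fun z hz => hz.1) hK with h | h
          · refine (Submodule.mem_bot F).1 (h ▸ (⟨hx, fun t ht => ?_⟩ : x ∈ K))
            simpa [hTB y hy t ht] using h0 t (Submodule.mem_sup_right ht)
          · exact absurd ((h ▸ hs₁ : s₁ ∈ K).2 t₁ ht₁) e₁
        rw [hx0, hy0, add_zero]
      refine ⟨S ⊔ T, hsub, fun h => hS.2.1 (eq_bot_iff.2 (le_sup_left.trans h.le)), hn, Or.inl ?_⟩
      obtain ⟨π, hπS, hπT⟩ := exists_proj hdisj
      obtain ⟨σ, hσT, hσS⟩ := exists_proj hdisj.symm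
      let H : BilinForm F V := B.compl₁₂ π σ
      refine ⟨hST, H - H.flip, fun v => by simp, fun g a ha b hb => ?_, fun a ha h0 => ?_⟩
      · obtain ⟨x, hx, y, hy, rfl⟩ := Submodule.mem_sup.1 ha
        obtain ⟨x', hx', y', hy', rfl⟩ := Submodule.mem_sup.1 hb
        simp [H, hπS x hx, hπT y hy, hπS x' hx', hπT y' hy', hσT y hy, hσS x hx, hσT y' hy',
          hσS x' hx', hπS _ (hS.1 g x hx), hπT _ (hT.1 g y hy), hπS _ (hS.1 g x' hx'),
          hπT _ (hT.1 g y' hy'), hσT _ (hT.1 g y hy), hσS _ (hS.1 g x hx), hσT _ (hT.1 g y' hy'),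
          hσS _ (hS.1 g x' hx'), hB g x (hSX hx) y' (hTX hy'), hB g x' (hSX hx') y (hTX hy)]
      · obtain ⟨x, hx, y, hy, rfl⟩ := Submodule.mem_sup.1 ha
        have hx0 : x = 0 := by
          let K : Submodule F V :=
            { carrier := {v | v ∈ S ∧ ∀ t ∈ T, B v t = 0}
              zero_mem' := ⟨S.zero_mem, fun t _ => by simp⟩
              add_mem' := fun {u v} hu hv => ⟨S.add_mem hu.1 hv.1, fun t ht => by
                simp [hu.2 t ht, hv.2 t ht]⟩
              smul_mem' := fun c {u} hu => ⟨S.smul_mem c hu.1, fun t ht => by simp [hu.2 t ht]⟩ }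
          have hK : Stable ρ K := fun g v hv => ⟨hS.1 g v hv.1, fun t ht => by
            have h := hB g v (hSX hv.1) (ρ g⁻¹ t) (hTX (hT.1 g⁻¹ t ht))
            rw [show ρ g (ρ g⁻¹ t) = t by simp] at h
            rw [h]
            exact hv.2 _ (hT.1 g⁻¹ t ht)⟩
          rcases hS.2.2 K (fun z hz => hz.1) hK with h | h
          · refine (Submodule.mem_bot F).1 (h ▸ (⟨hx, fun t ht => ?_⟩ : x ∈ K))
            simpa [H, hπS x hx, hπT y hy, hσT y hy, hσS x hx, hπT t ht, hσT t ht] using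
              h0 t (Submodule.mem_sup_right ht)
          · exact absurd ((h ▸ hs₁ : s₁ ∈ K).2 t₁ ht₁) e₁
        subst hx0
        rw [zero_add]
        refine nondegOn_flip hn y (Submodule.mem_sup_right hy) fun z hz => ?_
        obtain ⟨x', hx', y', hy', rfl⟩ := Submodule.mem_sup.1 hz
        have := h0 x' (Submodule.mem_sup_left hx')
        simpa [H, hπT y hy, hσT y hy, hπS x' hx', hσS x' hx', hTB y' hy' y hy] using this
    -- the right orthogonal of the piece
    let Z : Submodule F V :=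
      { carrier := {v | v ∈ X ∧ ∀ y ∈ Y, B y v = 0}
        zero_mem' := ⟨X.zero_mem, fun y _ => by simp⟩
        add_mem' := fun {u v} hu hv => ⟨X.add_mem hu.1 hv.1, fun y hy => by
          simp [hu.2 y hy, hv.2 y hy]⟩
        smul_mem' := fun c {u} hu => ⟨X.smul_mem c hu.1, fun y hy => by simp [hu.2 y hy]⟩ }
    have hYs : Stable ρ Y := hpiece.elim (fun h => h.1) fun h => h.1
    have hZs : Stable ρ Z := fun g v hv => ⟨hX g v hv.1, fun y hy => by
      have h := hB g (ρ g⁻¹ y) (hYX (hYs g⁻¹ y hy)) v hv.1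
      rw [show ρ g (ρ g⁻¹ y) = y by simp] at h
      rw [h]
      exact hv.2 _ (hYs g⁻¹ y hy)⟩
    have hdisj : Disjoint Y Z := by
      rw [Submodule.disjoint_def]
      exact fun v hvY hvZ => nondegOn_flip hYn v hvY fun y hy => hvZ.2 y hy
    have hsum : Y ⊔ Z = X := by
      refine le_antisymm (sup_le hYX fun v hv => hv.1) fun v hv => ?_
      let γ : Y →ₗ[F] Module.Dual F Y := B.flip.compl₁₂ Y.subtype Y.subtype
      have hγ : Function.Injective γ := (injective_iff_map_eq_zero γ).2 fun u hu =>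
        Subtype.ext (nondegOn_flip hYn u u.2 fun w hw => LinearMap.congr_fun hu ⟨w, hw⟩)
      have hsur := (LinearMap.injective_iff_surjective_of_finrank_eq_finrank
        Subspace.dual_finrank_eq.symm).1 hγ
      obtain ⟨y, hy⟩ := hsur ((B.flip v).comp Y.subtype)
      have hvy : v - (y : V) ∈ Z := ⟨X.sub_mem hv (hYX y.2), fun w hw => by
        have h := LinearMap.congr_fun hy ⟨w, hw⟩
        simp only [γ, LinearMap.compl₁₂_apply, Submodule.subtype_apply, LinearMap.BilinForm.flip_apply, LinearMap.flip_apply,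
          LinearMap.comp_apply] at h
        rw [map_sub, h, sub_self]⟩
      have : v = (y : V) + (v - (y : V)) := by simp
      rw [this]
      exact Submodule.add_mem_sup y.2 hvy
    have hZn : NondegOn Z B := by
      intro z hz h0
      -- correct `z` by an element of `Y` pairing trivially
      let γ : Y →ₗ[F] Module.Dual F Y := B.compl₁₂ Y.subtype Y.subtype
      have hγ : Function.Injective γ := (injective_iff_map_eq_zero γ).2 fun u hu =>
        Subtype.ext (hYn u u.2 fun w hw => LinearMap.congr_fun hu ⟨w, hw⟩)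
      obtain ⟨y, hy⟩ := (LinearMap.injective_iff_surjective_of_finrank_eq_finrank
        Subspace.dual_finrank_eq.symm).1 hγ ((B z).comp Y.subtype)
      have h1 : z - (y : V) = 0 := hBn _ (X.sub_mem hz.1 (hYX y.2)) fun v hv => by
        rw [← hsum] at hv
        obtain ⟨a, ha, b, hb, rfl⟩ := Submodule.mem_sup.1 hv
        have h2 := LinearMap.congr_fun hy ⟨a, ha⟩
        simp only [γ, LinearMap.compl₁₂_apply, Submodule.subtype_apply, LinearMap.comp_apply] at h2
        simp only [map_sub, LinearMap.sub_apply, map_add, h2, h0 b hb, hb.2 (y : V) y.2]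
        ring
      rw [sub_eq_zero] at h1
      exact Submodule.disjoint_def.1 hdisj z (h1 ▸ y.2) hz
    have hlt : finrank F Z < n := by
      rw [← hd]
      refine Submodule.finrank_lt_finrank_of_lt (lt_of_le_of_ne (fun v hv => hv.1) fun e => hY0 ?_)
      rw [eq_bot_iff]
      intro v hv
      exact Submodule.disjoint_def.1 hdisj v hv (e.symm ▸ hYX hv)
    obtain ⟨U, W, hU, hW, hUW, hUWd, hUs, hWo⟩ :=
      ih _ hlt hZs (fun g u hu v hv => hB g u hu.1 v hv.1) hZn rfl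
    have hYU : Disjoint Y U := hdisj.mono_right hU
    have hYW : Disjoint Y W := hdisj.mono_right hW
    have hUWY : Disjoint Y (U ⊔ W) := hUW.symm ▸ hdisj
    rcases hpiece with hp | hp
    · refine ⟨Y ⊔ U, W, sup_le hYX (hU.trans fun v hv => hv.1), hW.trans fun v hv => hv.1,
        by rw [sup_assoc, hUW, hsum], ?_, hp.sup hYU hUs, hWo⟩
      exact (hUWd.symm.disjoint_sup_right_of_disjoint_sup_left (by
        rw [sup_comm] at hUWY
        exact hUWY.symm)).symm.mono_left (sup_comm Y U).le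
    · refine ⟨U, Y ⊔ W, hU.trans fun v hv => hv.1, sup_le hYX (hW.trans fun v hv => hv.1),
        by rw [sup_left_comm, hUW, hsum], ?_, hUs, hp.sup hYW hWo⟩
      rw [sup_comm Y W]
      exact hUWd.disjoint_sup_right_of_disjoint_sup_left hUWY.symm

end CfsgLib.CharApps.SelfDualSplit
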