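import Cfsg.Agent.Lib.Chars.Induction
import Cfsg.Agent.Lib.Chars.Quotient
import Cfsg.Agent.Lib.Chars.Degree
import Cfsg.Agent.Lib.CharsMore.Extend

/-!
# Groups whose character degrees are all less than `p`
-/

set_option autoImplicit false
set_option linter.unusedSectionVars false
set_option linter.style.haveILetI false

namespace CfsgLib.CharApps.SmallDegrees

open Cfsg
open scoped ComplexConjugate

universe u

variable {G : Type u} [Group G] [Fintype G] {p : ℕ} [hp : Fact p.Prime]

/-- The Sylow subgroup is normal. -/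
theorem sylow_normal (hb : ∀ χ : IrrCharacter G, ∀ d : ℕ, (χ : G → ℂ) 1 = d → d < p)
    (P : Sylow p G) : (P : Subgroup G).Normal := by
  classical
  set N := Subgroup.normalizer ((P : Subgroup G) : Set G) with hN
  haveI := Fintype.ofFinite N
  haveI := Fintype.ofFinite (IrrCharacter G)
  set one : N → ℂ := fun _ => 1 with hone
  set L := indFun N one with hL
  have hLc : IsCharacter G L := Chars.isCharacter_indFun N Chars.isCharacter_one
  have hLcl := Chars.isClassFunction_of_isCharacter hLc
  choose m hm using fun χ : IrrCharacter G => Chars.inner_char_nat hLc (Chars.isCharacter_of_irr χ.2)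
  choose d hd using fun χ : IrrCharacter G =>
    Chars.character_degree_nat (Chars.isCharacter_of_irr χ.2)
  set h := N.index with hh
  have hdeg : h = ∑ χ : IrrCharacter G, m χ * d χ := by
    have h1 := congrFun (Chars.classFun_eq_sum hLcl) 1
    rw [hL, Chars.indFun_one_apply, ← hL, Finset.sum_apply] at h1
    have h2 : (h : ℂ) = ((∑ χ : IrrCharacter G, m χ * d χ : ℕ) : ℂ) := by
      rw [hh, ← mul_one (N.index : ℂ)]
      push_cast
      refine h1.trans (Finset.sum_congr rfl fun χ _ => ?_)
      rw [Pi.smul_apply, smul_eq_mul, hm, hd]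
    exact_mod_cast h2
  set q := ∑ χ : IrrCharacter G, m χ * m χ with hq
  have hqinner : classInner L L = (q : ℂ) := by
    conv_lhs => arg 2; rw [Chars.classFun_eq_sum hLcl]
    rw [Chars.inner_sum_right, hq]
    push_cast
    refine Finset.sum_congr rfl fun χ _ => ?_
    rw [Chars.inner_smul_right, hm, map_natCast]
  have hprin : m (Chars.principal G) = 1 := by
    have h1 := hm (Chars.principal G)
    rw [hL, Chars.inner_indFun N one (Chars.isClassFunction_of_isCharacter
      (Chars.isCharacter_of_irr (Chars.principal G).2))] at h1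
    have h2 : classInner one (fun x : N => (Chars.principal G : G → ℂ) x) = 1 := by
      rw [show (fun x : N => (Chars.principal G : G → ℂ) x) = fun _ : N => (1 : ℂ) from rfl]
      exact Chars.inner_one_one
    rw [h2] at h1
    exact_mod_cast h1.symm
  have hdprin : d (Chars.principal G) = 1 := by
    have h1 := hd (Chars.principal G)
    rw [Chars.principal_apply] at h1
    exact_mod_cast h1.symm
  have hup : h + (p - 1) ≤ 1 + (p - 1) * q := by
    rw [hdeg, hq, ← Finset.add_sum_erase _ _ (Finset.mem_univ (Chars.principal G)),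
      ← Finset.add_sum_erase (f := fun χ => m χ * m χ) _ (Finset.mem_univ (Chars.principal G)),
      hprin, hdprin, mul_one, Nat.mul_add, mul_one]
    have : ∑ χ ∈ Finset.univ.erase (Chars.principal G), m χ * d χ ≤
        (p - 1) * ∑ χ ∈ Finset.univ.erase (Chars.principal G), m χ * m χ := by
      rw [Finset.mul_sum]
      refine Finset.sum_le_sum fun χ _ => ?_
      have h1 := hb χ (d χ) (hd χ)
      calc m χ * d χ ≤ (m χ * m χ) * (p - 1) :=
            Nat.mul_le_mul (Nat.le_mul_self _) (by omega)
        _ = _ := mul_comm _ _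
    omega
  -- the double coset count
  set S := ∑ x : G, (Finset.univ.filter fun y : N => x⁻¹ * (y : G) * x ∈ N).card with hS
  have hcN : (Nat.card N : ℂ) ≠ 0 := Nat.cast_ne_zero.2 Nat.card_pos.ne'
  have hSq : q * (Nat.card N * Nat.card N) = S := by
    have h1 : classInner L L = (Nat.card N : ℂ)⁻¹ * ((Nat.card N : ℂ)⁻¹ * (S : ℂ)) := by
      rw [hL, Chars.inner_indFun N one hLcl, Chars.inner_def]
      congr 1
      rw [hS, Finset.sum_congr rfl fun y _ => (show one y * conj (L (y : G)) =
        (Nat.card N : ℂ)⁻¹ * ∑ x : G, (if x⁻¹ * (y : G) * x ∈ N then (1 : ℂ) else 0) by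
        rw [hL, Chars.indFun_apply, hone, one_mul, map_mul, map_inv₀, map_natCast, map_sum]
        congr 1
        refine Finset.sum_congr rfl fun x _ => ?_
        split_ifs with hx
        · rw [Chars.extendByZero_of_mem N _ hx, map_one]
        · rw [Chars.extendByZero_of_not_mem N _ hx, map_zero])]
      rw [← Finset.mul_sum, Finset.sum_comm]
      congr 1
      push_cast
      exact Finset.sum_congr rfl fun x _ => Finset.sum_boole _ _
    rw [hqinner, eq_inv_mul_iff_mul_eq₀ hcN, eq_inv_mul_iff_mul_eq₀ hcN] at h1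
    have h2 : ((q * (Nat.card N * Nat.card N) : ℕ) : ℂ) = (S : ℂ) := by
      push_cast; rw [← h1]; ring
    exact_mod_cast h2
  have hlow : p * S + Nat.card N * Nat.card N ≤
      p * (Nat.card N * Nat.card N) + Nat.card G * Nat.card N := by
    have hx : ∀ x : G, x ∉ N →
        p * (Finset.univ.filter fun y : N => x⁻¹ * (y : G) * x ∈ N).card ≤ Nat.card N := by
      intro x hxN
      set D := N.comap ((MulAut.conj x⁻¹).toMonoidHom.comp N.subtype) with hD
      have hc : (Finset.univ.filter fun y : N => x⁻¹ * (y : G) * x ∈ N).card = Nat.card D := by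
        rw [Nat.card_eq_fintype_card, Fintype.card_subtype]
        congr 1
        ext y
        simp [hD]
      rw [hc]
      have hmove : ¬ ∀ y ∈ (P : Subgroup G), x⁻¹ * y * x ∈ N := by
        intro hle
        apply hxN
        set P' := (P : Subgroup G).map (MulAut.conj x⁻¹).toMonoidHom with hP'
        have hP'p : IsPGroup p P' := P.2.map _
        have hP'N : P' ≤ N := by
          rintro _ ⟨y, hy, rfl⟩
          simpa using hle y hy
        have hsup : IsPGroup p ((P' ⊔ (P : Subgroup G) : Subgroup G)) :=
          hP'p.to_sup_of_normal_right' P.2 hP'N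
        have heq : P' ≤ (P : Subgroup G) := by
          rw [← P.3 hsup le_sup_right]
          exact le_sup_left
        have hPP : P' = (P : Subgroup G) := by
          refine Subgroup.eq_of_le_of_card_ge heq ?_
          rw [hP', Subgroup.card_map_of_injective (MulEquiv.injective _)]
        have hxinv : x⁻¹ ∈ N := by
          rw [hN, Subgroup.mem_normalizer_iff]
          intro y
          constructor
          · intro hy
            exact heq ⟨y, hy, by simp⟩
          · intro hy
            rw [← hPP] at hy
            obtain ⟨z, hz, hze⟩ := hy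
            have : z = y := by simpa using hze
            exact this ▸ hz
        simpa using inv_mem hxinv
      have hp' : p ≤ D.index := by
        set P₀ := (P : Subgroup G).subgroupOf N
        have hP₀ : IsPGroup p P₀ :=
          P.2.of_equiv (Subgroup.subgroupOfEquivOfLe Subgroup.le_normalizer).symm
        obtain ⟨e, he⟩ := IsPGroup.iff_card.1 hP₀
        have hd : D.relIndex P₀ ∣ p ^ e := he ▸ Subgroup.index_dvd_card _
        obtain ⟨e', -, he'⟩ := (Nat.dvd_prime_pow hp.out).1 hd
        have hle : D.relIndex P₀ ≤ D.index := Subgroup.relIndex_top_right D ▸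
          Subgroup.relIndex_le_of_le_right le_top (by
            rw [Subgroup.relIndex_top_right]; exact Subgroup.index_ne_zero_of_finite)
        rcases Nat.eq_zero_or_pos e' with h0 | h0
        · exfalso
          rw [h0, pow_zero, Subgroup.relIndex_eq_one] at he'
          refine hmove fun y hy => ?_
          have h2 : (⟨y, Subgroup.le_normalizer hy⟩ : N) ∈ D := he' (Subgroup.mem_subgroupOf.2 hy)
          simpa [hD] using h2
        · exact le_trans (Nat.le_self_pow h0.ne' p) (he' ▸ hle)
      calc p * Nat.card D ≤ D.index * Nat.card D := Nat.mul_le_mul_right _ hp'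
        _ = Nat.card N := by rw [mul_comm, D.card_mul_index]
    rw [hS, Finset.mul_sum, ← Finset.sum_filter_add_sum_filter_not Finset.univ (fun x : G => x ∈ N)]
    have h1 : (Finset.univ.filter fun x : G => x ∈ N).card = Nat.card N := by
      rw [Nat.card_eq_fintype_card, Fintype.card_subtype]
    have h2 := Finset.card_filter_add_card_filter_not (s := (Finset.univ : Finset G)) (· ∈ N)
    rw [Finset.card_univ, ← Nat.card_eq_fintype_card, h1] at h2
    have hA : ∑ x ∈ Finset.univ.filter (fun x : G => x ∈ N),
        p * (Finset.univ.filter fun y : N => x⁻¹ * (y : G) * x ∈ N).card ≤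
        Nat.card N * (p * Nat.card N) := by
      refine (Finset.sum_le_card_nsmul _ _ (p * Nat.card N) fun x _ => ?_).trans_eq (by
        rw [smul_eq_mul, h1])
      refine Nat.mul_le_mul_left _ ((Finset.card_filter_le _ _).trans_eq ?_)
      rw [Finset.card_univ, Nat.card_eq_fintype_card]
    have hB : ∑ x ∈ Finset.univ.filter (fun x : G => ¬ x ∈ N),
        p * (Finset.univ.filter fun y : N => x⁻¹ * (y : G) * x ∈ N).card ≤
        (Finset.univ.filter fun x : G => ¬ x ∈ N).card * Nat.card N :=
      (Finset.sum_le_card_nsmul _ _ (Nat.card N) fun x hx' => hx x (Finset.mem_filter.1 hx').2).trans_eq (smul_eq_mul _ _)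
    rw [← h2, Nat.add_mul, mul_left_comm p (Nat.card N) (Nat.card N)]
    omega
  rw [← hSq, ← N.card_mul_index, ← hh] at hlow
  have h3 : p * q + 1 ≤ p + h := by
    refine Nat.le_of_mul_le_mul_right
      (?_ : (p * q + 1) * (Nat.card N * Nat.card N) ≤ (p + h) * (Nat.card N * Nat.card N))
      (Nat.mul_pos Nat.card_pos Nat.card_pos)
    calc (p * q + 1) * (Nat.card N * Nat.card N)
        = p * (q * (Nat.card N * Nat.card N)) + Nat.card N * Nat.card N := by ring
      _ ≤ p * (Nat.card N * Nat.card N) + Nat.card N * h * Nat.card N := hlow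
      _ = (p + h) * (Nat.card N * Nat.card N) := by ring
  have hq1 : 1 ≤ q := by
    rw [hq]
    refine le_trans ?_ (Finset.single_le_sum (f := fun χ => m χ * m χ) (fun _ _ => Nat.zero_le _)
      (Finset.mem_univ (Chars.principal G)))
    rw [hprin]
  have hh1 : h = 1 := by
    have hh0 : h ≠ 0 := Subgroup.index_ne_zero_of_finite
    have hp1 := hp.out.one_lt
    obtain ⟨q', rfl⟩ : ∃ q', p = q' + 1 := ⟨p - 1, by omega⟩
    simp only [Nat.add_sub_cancel] at hup
    rw [add_mul, one_mul] at h3
    have : q' * q = q' * 1 ∨ q' * 1 < q' * q := by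
      rcases Nat.lt_or_ge 1 q with h4 | h4
      · exact Or.inr (Nat.mul_lt_mul_of_pos_left h4 (by omega))
      · exact Or.inl (by rw [show q = 1 by omega])
    rcases Nat.lt_or_ge 1 q with h4 | h4
    · omega
    · have h5 : q = 1 := by omega
      rw [h5] at hup h3
      omega
  rw [hh, Subgroup.index_eq_one, hN, Subgroup.normalizer_eq_top_iff] at hh1
  exact hh1

/-- The Sylow subgroup is abelian. -/
theorem sylow_abelian (hb : ∀ χ : IrrCharacter G, ∀ d : ℕ, (χ : G → ℂ) 1 = d → d < p)
    (P : Sylow p G) : ∀ x ∈ (P : Subgroup G), ∀ y ∈ (P : Subgroup G), x * y = y * x := by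
  classical
  intro x hx y hy
  haveI := Fintype.ofFinite (P : Subgroup G)
  haveI := Fintype.ofFinite (IrrCharacter (P : Subgroup G))
  refine mul_inv_eq_iff_eq_mul.1 (mul_inv_eq_one.1 (Chars.eq_one_of_forall_irr
    (g := x * y * x⁻¹ * y⁻¹) fun χ => ?_))
  have hres := Chars.isCharacter_restrict (P : Subgroup G) (Chars.isCharacter_of_irr χ.2)
  have hcl := Chars.isClassFunction_of_isCharacter hres
  set a : (P : Subgroup G) := ⟨x, hx⟩
  set b : (P : Subgroup G) := ⟨y, hy⟩
  show (fun n : (P : Subgroup G) => (χ : G → ℂ) n) (a * b * a⁻¹ * b⁻¹) =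
    (fun n : (P : Subgroup G) => (χ : G → ℂ) n) 1
  refine (congrFun (Chars.classFun_eq_sum hcl) _).trans
    (Eq.trans ?_ (congrFun (Chars.classFun_eq_sum hcl) 1).symm)
  rw [Finset.sum_apply, Finset.sum_apply]
  refine Finset.sum_congr rfl fun φ _ => ?_
  rw [Pi.smul_apply, Pi.smul_apply]
  by_cases h0 : classInner (fun n : (P : Subgroup G) => (χ : G → ℂ) n) (φ : _ → ℂ) = 0
  · simp [h0]
  congr 1
  -- the constituent is linear
  obtain ⟨k, ρ, hρi, hρ⟩ := φ.2
  have hk : (φ : ↥(P : Subgroup G) → ℂ) 1 = (k : ℂ) := by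
    rw [← hρ, Representation.char_one, Module.finrank_fin_fun]
  obtain ⟨d, hd⟩ := Chars.character_degree_nat (Chars.isCharacter_of_irr χ.2)
  have hkd : k ≤ d := by
    have h1 := Chars.re_le_of_inner_ne_zero φ.2 hres h0
    simp only [hk, OneMemClass.coe_one, hd, Complex.natCast_re] at h1
    exact_mod_cast h1
  have hdp := hb χ d hd
  have hdvd := (Chars.finrank_dvd_index_center ρ).trans (Subgroup.index_dvd_card _)
  rw [Module.finrank_fin_fun] at hdvd
  obtain ⟨e, he⟩ := IsPGroup.iff_card.1 P.2
  rw [he] at hdvd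
  obtain ⟨e', -, he'⟩ := (Nat.dvd_prime_pow hp.out).1 hdvd
  have hk1 : k = 1 := by
    rcases Nat.eq_zero_or_pos e' with h | h
    · rw [he', h, pow_zero]
    · have := Nat.le_self_pow h.ne' p
      omega
  obtain ⟨μ, hμ⟩ := CharsMore.exists_hom_of_linear
    (χ := (φ : ↥(P : Subgroup G) → ℂ)) ⟨Chars.isCharacter_of_irr φ.2, by rw [hk, hk1, Nat.cast_one]⟩
  rw [← hμ]
  show ((μ (a * b * a⁻¹ * b⁻¹) : ℂˣ) : ℂ) = ((μ 1 : ℂˣ) : ℂ)
  rw [map_mul, map_mul, map_mul, map_inv, map_inv, mul_comm (μ a), mul_inv_cancel_right,
    mul_inv_cancel, map_one]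

end CfsgLib.CharApps.SmallDegrees
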