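import Cfsg.Agent.Lib.Chars.Monomial
import Cfsg.Agent.Lib.Chars.Product
import Cfsg.Agent.Lib.CharsMore.Gallagher
import Cfsg.Agent.Lib.CharsMore.CliffordDegree
import Cfsg.Agent.Lib.CharsMore.CharAlg
import Cfsg.Agent.Lib.CharsMore.Extend
import Cfsg.Agent.Lib.Blocks.NormalPPrime
import Cfsg.Agent.Lib.KnownB.Mult.Reduce
import Mathlib.GroupTheory.RegularWreathProduct

/-!
# Solvable groups embed in monomial groups
-/

set_option autoImplicit false
set_option linter.unusedSectionVars false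
set_option linter.style.haveILetI false

namespace CfsgLib.CharApps.MGrp

open Cfsg CfsgLib.Chars
open scoped ComplexConjugate

universe u

/-- All irreducible characters are monomial. -/
def AllMonomial (G : Type u) [Group G] [Fintype G] : Prop :=
  ∀ χ : G → ℂ, IsIrrCharacter G χ → IsMonomial χ

section Pi

variable {ι : Type u} [Fintype ι] [DecidableEq ι] {D : Type u} [Group D] [Fintype D]

/-- The outer product of a family of functions. -/
def prodFun (f : ι → D → ℂ) : (ι → D) → ℂ := fun b => ∏ i, f i (b i)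

theorem inner_prodFun (f g : ι → D → ℂ) :
    classInner (prodFun f) (prodFun g) = ∏ i, classInner (f i) (g i) := by
  simp only [inner_def, prodFun, map_prod, ← Finset.prod_mul_distrib]
  rw [Finset.prod_mul_distrib, Fintype.prod_sum, Finset.prod_const, Finset.card_univ,
    Nat.card_fun, Nat.card_eq_fintype_card (α := ι), Nat.cast_pow, inv_pow]

theorem isCharacter_prodFun {f : ι → D → ℂ} (hf : ∀ i, IsCharacter D (f i)) :
    IsCharacter (ι → D) (prodFun f) := by
  suffices ∀ s : Finset ι, IsCharacter (ι → D) (fun b => ∏ i ∈ s, f i (b i)) from this _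
  intro s
  induction s using Finset.induction with
  | empty => simpa using isCharacter_one
  | insert a s ha ih =>
    simp only [Finset.prod_insert ha]
    exact isCharacter_mul (isCharacter_comp (Pi.evalMonoidHom (fun _ : ι => D) a) (hf a)) ih

theorem isIrr_prodFun (f : ι → IrrCharacter D) :
    IsIrrCharacter (ι → D) (prodFun fun i => (f i : D → ℂ)) :=
  isIrrCharacter_iff_inner_self.mpr ⟨isCharacter_prodFun fun i => isCharacter_of_irr (f i).2, by
    rw [inner_prodFun]; exact Finset.prod_eq_one fun i _ => inner_irr_self _⟩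

theorem prodFun_injective :
    Function.Injective fun f : ι → IrrCharacter D =>
      (⟨_, isIrr_prodFun f⟩ : IrrCharacter (ι → D)) := by
  intro f g h
  funext i
  by_contra hne
  have h1 := inner_irr_self (⟨_, isIrr_prodFun g⟩ : IrrCharacter (ι → D))
  nth_rw 1 [show (⟨_, isIrr_prodFun g⟩ : IrrCharacter (ι → D)) = ⟨_, isIrr_prodFun f⟩ from h.symm] at h1
  rw [inner_prodFun, Finset.prod_eq_zero (Finset.mem_univ i) (inner_irr_ne hne)] at h1
  exact zero_ne_one h1

/-- The irreducible characters of a finite power are the outer products. -/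
theorem exists_prodFun (θ : IrrCharacter (ι → D)) :
    ∃ f : ι → IrrCharacter D, (θ : (ι → D) → ℂ) = prodFun fun i => (f i : D → ℂ) := by
  classical
  haveI := irrFintype D
  haveI := irrFintype (ι → D)
  let F : (ι → IrrCharacter D) → IrrCharacter (ι → D) := fun f => ⟨_, isIrr_prodFun f⟩
  by_contra hno
  push Not at hno
  have hnm : θ ∉ Finset.univ.image F := by
    rintro hm
    obtain ⟨f, -, rfl⟩ := Finset.mem_image.1 hm
    exact hno f rfl
  have hd : ∀ f, charDegree (F f : (ι → D) → ℂ) = ∏ i, charDegree (f i : D → ℂ) := fun f => by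
    have : ((charDegree (F f : (ι → D) → ℂ) : ℕ) : ℂ) =
        ((∏ i, charDegree (f i : D → ℂ) : ℕ) : ℂ) := by
      rw [← CharApps.deg_eq, Nat.cast_prod]
      exact Finset.prod_congr rfl fun i _ => CharApps.deg_eq (f i)
    exact_mod_cast this
  have hsq : ∀ (A : Type u) [Group A] [Fintype A] [Fintype (IrrCharacter A)],
      ∑ χ : IrrCharacter A, charDegree (χ : A → ℂ) ^ 2 = Nat.card A := by
    intro A _ _ _
    have h := sum_degree_sq (G := A)
    simp only [CharApps.deg_eq, ← Nat.cast_pow, ← Nat.cast_sum] at h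
    exact_mod_cast h
  have h1 : ∑ χ ∈ Finset.univ.image F, charDegree (χ : (ι → D) → ℂ) ^ 2 = Nat.card (ι → D) := by
    rw [Finset.sum_image fun a _ b _ h => prodFun_injective h,
      Finset.sum_congr rfl fun f _ => by rw [hd f, ← Finset.prod_pow]]
    rw [← Fintype.prod_sum (fun (_ : ι) (χ : IrrCharacter D) => charDegree (χ : D → ℂ) ^ 2),
      Finset.prod_congr rfl (fun _ _ => hsq D), Finset.prod_const, Finset.card_univ, Nat.card_fun,
      Nat.card_eq_fintype_card (α := ι)]
  have h2 := hsq (ι → D)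
  rw [← Finset.sum_compl_add_sum (Finset.univ.image F), h1, add_eq_right,
    Finset.sum_eq_zero_iff] at h2
  have := h2 θ (Finset.mem_compl.2 hnm)
  exact (CharApps.deg_pos θ).ne' (pow_eq_zero_iff two_ne_zero |>.1 this)

theorem extendByZero_pi (K : ι → Subgroup D) (lam : ∀ i, K i →* ℂˣ)
    (μ : Subgroup.pi Set.univ K →* ℂˣ)
    (hμ : ∀ b : Subgroup.pi Set.univ K, (μ b : ℂ) =
      ∏ i, (lam i ⟨(b : ι → D) i, b.2 i (Set.mem_univ i)⟩ : ℂ)) (c : ι → D) :
    extendByZero (Subgroup.pi Set.univ K) (fun b => (μ b : ℂ)) c =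
      ∏ i, extendByZero (K i) (fun h => (lam i h : ℂ)) (c i) := by
  by_cases hc : c ∈ Subgroup.pi Set.univ K
  · rw [extendByZero_of_mem _ _ hc, hμ]
    exact Finset.prod_congr rfl fun i _ =>
      (extendByZero_of_mem (K i) (fun h => (lam i h : ℂ)) (hc i (Set.mem_univ i))).symm
  · rw [extendByZero_of_not_mem _ _ hc]
    obtain ⟨i, hi⟩ : ∃ i, c i ∉ K i := by
      by_contra h
      push Not at h
      exact hc fun i _ => h i
    exact (Finset.prod_eq_zero (Finset.mem_univ i) (extendByZero_of_not_mem (K i) (fun h => (lam i h : ℂ)) hi)).symm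

/-- The linear character of a product of subgroups. -/
def prodHom (K : ι → Subgroup D) (lam : ∀ i, K i →* ℂˣ) : Subgroup.pi Set.univ K →* ℂˣ where
  toFun b := ∏ i, lam i ⟨(b : ι → D) i, b.2 i (Set.mem_univ i)⟩
  map_one' := Finset.prod_eq_one fun i _ => map_one (lam i)
  map_mul' a b := by
    rw [← Finset.prod_mul_distrib]
    exact Finset.prod_congr rfl fun i _ =>
      map_mul (lam i) ⟨(a : ι → D) i, a.2 i (Set.mem_univ i)⟩ ⟨(b : ι → D) i, b.2 i (Set.mem_univ i)⟩

theorem indFun_pi (K : ι → Subgroup D) (lam : ∀ i, K i →* ℂˣ) (b : ι → D) :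
    indFun (Subgroup.pi Set.univ K) (fun h => (prodHom K lam h : ℂ)) b =
      ∏ i, indFun (K i) (fun h => (lam i h : ℂ)) (b i) := by
  classical
  simp only [indFun_apply]
  rw [Finset.prod_mul_distrib, Fintype.prod_sum]
  refine congrArg₂ _ ?_ (Finset.sum_congr rfl fun a _ => ?_)
  · rw [Finset.prod_inv_distrib, ← Nat.cast_prod, ← Nat.card_pi]
    exact congrArg (fun n : ℕ => (n : ℂ)⁻¹) (Nat.card_congr
      ⟨fun h i => ⟨(h : ι → D) i, h.2 i (Set.mem_univ i)⟩,
        fun h => ⟨fun i => h i, fun i _ => (h i).2⟩, fun _ => rfl, fun _ => rfl⟩)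
  · refine (extendByZero_pi K lam _ (fun h => ?_) _).trans rfl
    simp [prodHom, Units.coe_prod]

theorem allMonomial_pi (hD : AllMonomial D) : AllMonomial (ι → D) := by
  intro θ hθ
  obtain ⟨f, hf⟩ := exists_prodFun ⟨θ, hθ⟩
  choose K lam hK using fun i => hD (f i : D → ℂ) (f i).2
  exact ⟨Subgroup.pi Set.univ K, prodHom K lam, funext fun b => by
    rw [show θ = _ from hf, indFun_pi, prodFun]
    exact Finset.prod_congr rfl fun i _ => congrFun (hK i) (b i)⟩

end Pi

section Wreath

variable {D Q : Type u} [Group D] [Fintype D] [Group Q] [Fintype Q] [Fintype (D ≀ᵣ Q)]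

/-- The base group. -/
def base : Subgroup (D ≀ᵣ Q) := RegularWreathProduct.rightHom.ker

theorem mem_base {w : D ≀ᵣ Q} : w ∈ (base : Subgroup (D ≀ᵣ Q)) ↔ w.right = 1 := Iff.rfl

/-- The base group is the finite power. -/
def baseEquiv : ↥(base : Subgroup (D ≀ᵣ Q)) ≃* (Q → D) where
  toFun w := (w : D ≀ᵣ Q).left
  invFun b := ⟨⟨b, 1⟩, rfl⟩
  left_inv w := Subtype.ext (RegularWreathProduct.ext rfl w.2.symm)
  right_inv _ := rfl
  map_mul' a b := by
    funext x
    have ha : (a : D ≀ᵣ Q).right = 1 := a.2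
    simp [ha]

theorem mk_mul_mk (a : Q → D) (s : Q) (b : Q → D) (k : Q) :
    ((⟨a, s⟩ : D ≀ᵣ Q)⁻¹ * ⟨b, 1⟩ * ⟨a, s⟩).left k = (a (s * k))⁻¹ * b (s * k) * a (s * k) := by
  simp [RegularWreathProduct.inv_left]

theorem allMonomial_equiv {A B : Type u} [Group A] [Fintype A] [Group B] [Fintype B] (e : A ≃* B)
    (hB : AllMonomial B) : AllMonomial A := by
  intro χ hχ
  obtain ⟨H, lam, h⟩ := hB (fun b => χ (e.symm b))
    (isIrrCharacter_comp e.symm.toMonoidHom e.symm.surjective hχ)
  refine ⟨H.comap e.toMonoidHom, lam.comp (e.toMonoidHom.subgroupComap H), ?_⟩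
  refine Eq.trans ?_ (indFun_comap e.toMonoidHom e.surjective H (fun h => (lam h : ℂ))).symm
  funext a
  rw [← congrFun h (e.toMonoidHom a)]
  simp

/-- An invariant character of the base group extends to a monomial character. -/
theorem exists_monomial_ext (hD : AllMonomial D) (θ : IrrCharacter (Q → D))
    (hinv : ∀ (s : Q) (b : Q → D), (θ : (Q → D) → ℂ) (fun x => b (s * x)) = (θ : (Q → D) → ℂ) b) :
    ∃ (T : Subgroup (D ≀ᵣ Q)) (μ : T →* ℂˣ),
      ∀ b : Q → D, indFun T (fun h => (μ h : ℂ)) (⟨b, 1⟩ : D ≀ᵣ Q) = (θ : (Q → D) → ℂ) b := by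
  classical
  obtain ⟨f, hf⟩ := exists_prodFun θ
  have hshift : ∀ s : Q, (fun i => f (s * i)) = f := fun s => by
    refine prodFun_injective (Subtype.ext (funext fun b => ?_))
    show prodFun (fun i => (f (s * i) : D → ℂ)) b = prodFun (fun i => (f i : D → ℂ)) b
    rw [← hf, ← hinv s⁻¹ b, hf]
    exact Fintype.prod_equiv (Equiv.mulLeft s) _ _ fun i => by simp
  have hconst : ∀ i, f i = f 1 := fun i => by simpa using congrFun (hshift i) 1
  obtain ⟨H, lam, hlam⟩ := hD (f 1 : D → ℂ) (f 1).2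
  let T : Subgroup (D ≀ᵣ Q) :=
    { carrier := {w | ∀ x, w.left x ∈ H}
      one_mem' := fun _ => H.one_mem
      mul_mem' := fun {a b} ha hb x => H.mul_mem (ha x) (hb _)
      inv_mem' := fun {a} ha x => H.inv_mem (ha _) }
  let μ : T →* ℂˣ :=
    { toFun := fun w => ∏ x, lam ⟨(w : D ≀ᵣ Q).left x, w.2 x⟩
      map_one' := Finset.prod_eq_one fun i _ => map_one lam
      map_mul' := fun a b => by
        conv_rhs => rw [← Equiv.prod_comp (Equiv.mulLeft (a : D ≀ᵣ Q).right⁻¹)
          (fun x => lam ⟨(b : D ≀ᵣ Q).left x, b.2 x⟩)]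
        rw [← Finset.prod_mul_distrib]
        exact Finset.prod_congr rfl fun i _ =>
          map_mul lam ⟨_, a.2 i⟩ ⟨_, b.2 ((a : D ≀ᵣ Q).right⁻¹ * i)⟩ }
  refine ⟨T, μ, fun b => ?_⟩
  set g : D → D → ℂ := fun c d => extendByZero H (fun h => (lam h : ℂ)) (d⁻¹ * c * d) with hg
  have hterm : ∀ (a : Q → D) (s : Q),
      extendByZero T (fun h => (μ h : ℂ)) ((⟨a, s⟩ : D ≀ᵣ Q)⁻¹ * ⟨b, 1⟩ * ⟨a, s⟩) =
        ∏ k, g (b k) (a k) := by
    intro a s
    rw [← Equiv.prod_comp (Equiv.mulLeft s) (fun k => g (b k) (a k))]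
    set w := (⟨a, s⟩ : D ≀ᵣ Q)⁻¹ * ⟨b, 1⟩ * ⟨a, s⟩ with hw
    have e : ∀ k, w.left k = (a (s * k))⁻¹ * b (s * k) * a (s * k) := mk_mul_mk a s b
    by_cases hc : w ∈ T
    · rw [extendByZero_of_mem _ _ hc]
      show ((∏ x, lam ⟨w.left x, hc x⟩ : ℂˣ) : ℂ) = _
      rw [Units.coe_prod]
      refine Finset.prod_congr rfl fun k _ => ?_
      show _ = extendByZero H _ _
      rw [Equiv.coe_mulLeft, ← e k, extendByZero_of_mem _ _ (hc k)]
    · rw [extendByZero_of_not_mem _ _ hc]
      obtain ⟨k, hk⟩ : ∃ k, w.left k ∉ H := by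
        by_contra h
        push Not at h
        exact hc h
      refine (Finset.prod_eq_zero (Finset.mem_univ k) ?_).symm
      show extendByZero H _ _ = 0
      rw [Equiv.coe_mulLeft, ← e k, extendByZero_of_not_mem _ _ hk]
  have hT : Nat.card T = Nat.card H ^ Nat.card Q * Nat.card Q := by
    rw [← Nat.card_fun, ← Nat.card_prod]
    exact Nat.card_congr
      ⟨fun w => (fun x => ⟨(w : D ≀ᵣ Q).left x, w.2 x⟩, (w : D ≀ᵣ Q).right),
        fun z => ⟨⟨fun x => z.1 x, z.2⟩, fun x => (z.1 x).2⟩, fun _ => rfl, fun _ => rfl⟩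
  rw [indFun_apply, ← (RegularWreathProduct.equivProd D Q).symm.sum_comp, Fintype.sum_prod_type,
    hf, prodFun]
  show (Nat.card T : ℂ)⁻¹ * ∑ a : Q → D, ∑ s : Q,
    extendByZero T (fun h => (μ h : ℂ)) ((⟨a, s⟩ : D ≀ᵣ Q)⁻¹ * ⟨b, 1⟩ * ⟨a, s⟩) = _
  rw [Finset.sum_congr rfl fun a _ => Finset.sum_congr rfl fun s _ => hterm a s]
  simp only [Finset.sum_const, Finset.card_univ, nsmul_eq_mul, ← Finset.mul_sum]
  rw [← Fintype.prod_sum (fun k => g (b k))]
  conv_rhs =>
    rw [Finset.prod_congr rfl fun i _ => by rw [hconst i, congrFun hlam (b i), indFun_apply]]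
  rw [Finset.prod_mul_distrib, Finset.prod_const, Finset.card_univ, hT,
    Nat.card_eq_fintype_card (α := Q), Nat.cast_mul, Nat.cast_pow, inv_pow]
  field_simp
  rfl

/-- Wreathing an M-group by a group of prime order gives an M-group. -/
theorem allMonomial_wreath (hD : AllMonomial D) (hQ : (Nat.card Q).Prime) :
    AllMonomial (D ≀ᵣ Q) := by
  classical
  intro χ hχ
  set B : Subgroup (D ≀ᵣ Q) := base
  haveI : B.Normal := MonoidHom.normal_ker _
  haveI := Fintype.ofFinite B
  have hBi : B.index = Nat.card Q := by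
    rw [show B = RegularWreathProduct.rightHom.ker from rfl, Subgroup.index_ker,
      MonoidHom.range_eq_top.2 fun q => ⟨RegularWreathProduct.inl q, rfl⟩, Subgroup.card_top]
  have hB : AllMonomial B := allMonomial_equiv baseEquiv (allMonomial_pi hD)
  obtain ⟨θ, hθ⟩ := Blocks.exists_constituent_restrict B ⟨χ, hχ⟩
  have hdeg := CharsMore.clifford_degree B hχ θ.2 hθ
  have hidx : (CharsMore.inertia B (θ : B → ℂ)).index ∣ Nat.card Q := hBi ▸
    Subgroup.index_dvd_of_le (CharsMore.le_inertia B (isClassFunction_irr θ))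
  rcases (Nat.dvd_prime hQ).1 hidx with h1 | hp
  · -- invariant: a monomial extension
    have htop := Subgroup.index_eq_one.1 h1
    obtain ⟨T, μ, hext⟩ := exists_monomial_ext hD
      ⟨_, isIrrCharacter_comp (baseEquiv (D := D) (Q := Q)).symm.toMonoidHom
        (baseEquiv (D := D) (Q := Q)).symm.surjective θ.2⟩ fun s b => by
        have h := (CharsMore.mem_inertia B).1
          (show RegularWreathProduct.inl s⁻¹ ∈ CharsMore.inertia B (θ : B → ℂ) by
            rw [htop]; exact Subgroup.mem_top _) (baseEquiv.symm b)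
        refine Eq.trans (congrArg (θ : B → ℂ) (Subtype.ext ?_)) h
        show (⟨fun x => b (s * x), 1⟩ : D ≀ᵣ Q) =
          RegularWreathProduct.inl s⁻¹ * ⟨b, 1⟩ * (RegularWreathProduct.inl s⁻¹)⁻¹
        refine RegularWreathProduct.ext ?_ ?_
        · funext x; simp
        · simp
    set ψ := indFun T fun h => (μ h : ℂ)
    have hψc : IsCharacter (D ≀ᵣ Q) ψ := isCharacter_indFun T (isCharacter_of_irr (isIrrCharacter_linear μ))
    have hres : (fun n : B => ψ n) = (θ : B → ℂ) := by
      funext n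
      have h := hext (baseEquiv n)
      rw [show (⟨baseEquiv n, 1⟩ : D ≀ᵣ Q) = (n : D ≀ᵣ Q) from
        RegularWreathProduct.ext rfl n.2.symm] at h
      rw [h]
      exact congrArg (θ : B → ℂ) (baseEquiv.symm_apply_apply n)
    have hψ : IsIrrCharacter (D ≀ᵣ Q) ψ := by
      obtain ⟨d, ρ, hρ, e⟩ := θ.2
      obtain ⟨R, -, hR, hRc⟩ := CharsMore.exists_repExt_of_character B.subtype ρ hψc
        (fun n => (congrFun hres n).trans (congrFun e n).symm)
      exact hRc ▸ ⟨d, R, hR, rfl⟩
    haveI := irrFintype (D ≀ᵣ Q)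
    obtain ⟨β, hβ, hβe⟩ := CharsMore.gallagher_exists B hψ (hres ▸ θ.2) hχ (by rw [hres]; exact hθ)
    have hker := (CharsMore.mem_quotIrr B).1 hβ
    obtain ⟨f, hf, hfe⟩ := exists_deflate_irr B β.2 fun n hn => CharApps.mem_charKer.1 (hker hn)
    haveI : Fact (Nat.Prime (Nat.card Q)) := ⟨hQ⟩
    haveI : IsCyclic ((D ≀ᵣ Q) ⧸ B) := isCyclic_of_prime_card (p := Nat.card Q)
      (by rw [← Subgroup.index_eq_card, hBi])
    have hcomm : ∀ a b : (D ≀ᵣ Q) ⧸ B, a * b = b * a := fun a b => by
      haveI : IsMulCommutative ((D ≀ᵣ Q) ⧸ B) := IsCyclic.isMulCommutative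
      exact mul_comm' a b
    obtain ⟨l, hl⟩ := exists_hom_of_degree_one (isCharacter_of_irr β.2)
      (by rw [hfe]; exact irr_abelian_degree hcomm hf)
    refine ⟨T, l.comp T.subtype * μ, ?_⟩
    rw [hβe, show (fun h : T => ((l.comp T.subtype * μ) h : ℂ)) =
        fun h : T => (β : (D ≀ᵣ Q) → ℂ) h * (μ h : ℂ) from funext fun h => by
      rw [MonoidHom.mul_apply, Units.val_mul, hl]; rfl,
      indFun_mul_restrict T (fun h => (μ h : ℂ)) (isClassFunction_irr β)]
    rfl
  · -- moved: induced from the base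
    have h2 : indFun B (θ : B → ℂ) = χ := by
      obtain ⟨e, he⟩ : ∃ e : ℕ, classInner (fun n : B => χ n) (θ : B → ℂ) = (e : ℂ) :=
        inner_char_nat (isCharacter_restrict B (isCharacter_of_irr hχ)) (isCharacter_of_irr θ.2)
      refine CharsMore.eq_of_constituent_degree (isCharacter_indFun B (isCharacter_of_irr θ.2)) hχ ?_
        (d := Nat.card Q * charDegree (θ : B → ℂ))
        (e := e * (Nat.card Q * charDegree (θ : B → ℂ))) ?_ ?_ ?_
      · rw [Chars.inner_indFun _ _ (isClassFunction_of_isCharacter (isCharacter_of_irr hχ)),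
          CharsMore.conj_inner (isCharacter_restrict B (isCharacter_of_irr hχ))
            (isCharacter_of_irr θ.2)]
        exact hθ
      · rw [indFun_one_apply, hBi, CharApps.deg_eq, Nat.cast_mul]
      · rw [hdeg, he, hp, CharApps.deg_eq]; push_cast; ring
      · refine Nat.le_mul_of_pos_left _ (Nat.pos_of_ne_zero fun h0 => hθ ?_)
        rw [he, h0, Nat.cast_zero]
    rw [← h2]
    exact isMonomial_indFun_of_isMonomial (hB _ θ.2)

end Wreath

section Embed

variable {G : Type u} [Group G] [Finite G]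

/-- Embedding into the wreath product of a normal subgroup by the quotient. -/
theorem exists_embedding_wreath (N : Subgroup G) [N.Normal] :
    ∃ f : G →* ↥N ≀ᵣ (G ⧸ N), Function.Injective f := by
  classical
  have ht : ∀ q : G ⧸ N, ((Quotient.out q : G) : G ⧸ N) = q := fun q => QuotientGroup.out_eq' q
  set t : G ⧸ N → G := Quotient.out
  have hmem : ∀ (g : G) (x : G ⧸ N), (t x)⁻¹ * g * t ((g : G ⧸ N)⁻¹ * x) ∈ N := fun g x => by
    rw [← QuotientGroup.eq_one_iff, QuotientGroup.mk_mul, QuotientGroup.mk_mul,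
      QuotientGroup.mk_inv, ht, ht, mul_assoc, mul_inv_cancel_left, inv_mul_cancel]
  refine ⟨{ toFun := fun g => ⟨fun x => ⟨_, hmem g x⟩, (g : G ⧸ N)⟩
            map_one' := ?_
            map_mul' := fun g h => ?_ }, fun g h e => ?_⟩
  · refine RegularWreathProduct.ext ?_ rfl
    funext x
    apply Subtype.ext
    simp
  · refine RegularWreathProduct.ext ?_ rfl
    funext x
    apply Subtype.ext
    show (t x)⁻¹ * (g * h) * t (((g * h : G) : G ⧸ N)⁻¹ * x) =
      (t x)⁻¹ * g * t ((g : G ⧸ N)⁻¹ * x) *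
        ((t ((g : G ⧸ N)⁻¹ * x))⁻¹ * h * t ((h : G ⧸ N)⁻¹ * ((g : G ⧸ N)⁻¹ * x)))
    rw [QuotientGroup.mk_mul, mul_inv_rev, mul_assoc (h : G ⧸ N)⁻¹]
    group
  · have hr : (g : G ⧸ N) = (h : G ⧸ N) := congrArg RegularWreathProduct.right e
    have hl : (t 1)⁻¹ * g * t ((g : G ⧸ N)⁻¹ * 1) = (t 1)⁻¹ * h * t ((h : G ⧸ N)⁻¹ * 1) :=
      congrArg Subtype.val (congrFun (congrArg RegularWreathProduct.left e) 1)
    rw [hr] at hl
    exact mul_left_cancel (mul_right_cancel hl)

/-- A homomorphism of the left factor. -/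
def mapLeft {D D' Q : Type u} [Group D] [Group D'] [Group Q] (f : D →* D') :
    D ≀ᵣ Q →* D' ≀ᵣ Q where
  toFun w := ⟨fun x => f (w.left x), w.right⟩
  map_one' := RegularWreathProduct.ext (funext fun _ => map_one f) rfl
  map_mul' a b := RegularWreathProduct.ext (funext fun _ => map_mul f _ _) rfl

theorem exists_normal_prime_index (hs : Group.IsSolvable G) [Nontrivial G] :
    ∃ N : Subgroup G, N.Normal ∧ N.index.Prime := by
  have hc : commutator G ≠ ⊤ := (Group.IsSolvable.commutator_lt_top_of_nontrivial G).ne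
  have h1 : (commutator G).index ≠ 1 := fun h => hc (Subgroup.index_eq_one.1 h)
  obtain ⟨q, hq, hqd⟩ := Nat.exists_prime_and_dvd h1
  haveI : Finite (Abelianization G) := inferInstance
  rw [Subgroup.index_eq_card] at hqd
  haveI : Fact q.Prime := ⟨hq⟩
  obtain ⟨H, hH⟩ := KnownB.Mult.exists_index_prime (A := Abelianization G)
    (fun a b => mul_comm a b) (p := q) hqd
  refine ⟨H.comap Abelianization.of, inferInstance, ?_⟩
  rw [Subgroup.index_comap_of_surjective _ (f := (Abelianization.of : G →* Abelianization G))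
    (QuotientGroup.mk'_surjective _), hH]
  exact hq

end Embed

/-- Every solvable group embeds in an M-group. -/
theorem exists_embedding : ∀ (n : ℕ) (G : Type u) [Group G] [Finite G], Nat.card G = n →
    Group.IsSolvable G → ∃ (M : Type u) (_ : Group M) (_ : Fintype M),
      AllMonomial M ∧ ∃ f : G →* M, Function.Injective f := by
  intro n
  induction n using Nat.strong_induction_on with
  | _ n ih =>
    intro G _ _ hn hs
    classical
    rcases subsingleton_or_nontrivial G with hG | hG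
    · haveI := Fintype.ofFinite G
      refine ⟨G, inferInstance, inferInstance, fun χ hχ => isMonomial_of_degree_one
        (isCharacter_of_irr hχ) (irr_abelian_degree (fun a b => Subsingleton.elim _ _) hχ),
        MonoidHom.id G, fun a b h => h⟩
    obtain ⟨N, hN, hprime⟩ := exists_normal_prime_index hs
    have hlt : Nat.card N < n := by
      rw [← hn, ← N.index_mul_card]
      exact lt_mul_left Nat.card_pos hprime.one_lt
    obtain ⟨M₀, _, _, hM₀, f, hf⟩ := ih _ hlt N rfl inferInstance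
    haveI := Fintype.ofFinite (G ⧸ N)
    haveI := Fintype.ofFinite (M₀ ≀ᵣ (G ⧸ N))
    obtain ⟨g, hg⟩ := exists_embedding_wreath N
    refine ⟨M₀ ≀ᵣ (G ⧸ N), inferInstance, inferInstance,
      allMonomial_wreath hM₀ (by rwa [← Subgroup.index_eq_card]), (mapLeft f).comp g, ?_⟩
    intro a b h
    rw [MonoidHom.comp_apply, MonoidHom.comp_apply] at h
    apply hg
    have hr : (g a).right = (g b).right :=
      show (mapLeft f (g a)).right = (mapLeft f (g b)).right by rw [h]
    refine RegularWreathProduct.ext (funext fun x => hf ?_) hr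
    exact congrFun (congrArg RegularWreathProduct.left h) x

end CfsgLib.CharApps.MGrp
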