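import Cfsg.Agent.Lib.Blocks.LocalRing
import Cfsg.Agent.Lib.BlockOrth.Height
import Cfsg.Agent.Lib.Chars.Burnside
import Cfsg.Agent.Lib.CharsMore.Extend
import Cfsg.Agent.Lib.Chars.Quotient
import Cfsg.Agent.Lib.CharApps.Basic

/-!
# Central elements of a Sylow subgroup and characters of the principal block or of prime power degree
-/

set_option autoImplicit false
set_option linter.style.haveILetI false
set_option linter.unusedSectionVars false

namespace CfsgLib.CharApps

open Cfsg CfsgLib.Chars CfsgLib.Blocks CfsgLib.BlockOrth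

universe u

variable {G : Type u} [Group G] [Finite G] {p : ℕ} [hp : Fact p.Prime] {M : Ideal AlgInt}

theorem not_dvd_index_centralizer (P : Sylow p G) {z : G}
    (hz : ∀ y ∈ (P : Subgroup G), y * z = z * y) :
    ¬ p ∣ (Subgroup.centralizer ({z} : Set G)).index := fun h =>
  P.not_dvd_index (h.trans (Subgroup.index_dvd_of_le fun y hy =>
    Subgroup.mem_centralizer_singleton_iff.mpr (hz y hy)))

theorem factorization_card (P : Sylow p G) {a : ℕ} (ha : Nat.card P = p ^ a) :
    (Nat.card G).factorization p = a :=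
  (Nat.pow_right_injective hp.out.two_le ((P.card_eq_multiplicity).symm.trans ha))

/-- A faithful character of prime power degree vanishes on the centre of a Sylow subgroup. -/
theorem eq_zero_on_sylow_center (hZ : Subgroup.center G = ⊥) (P : Sylow p G) (χ : IrrCharacter G)
    (hfaith : ∀ g : G, (χ : G → ℂ) g = (χ : G → ℂ) 1 → g = 1) {n : ℕ}
    (hdeg : charDegree (χ : G → ℂ) = p ^ n) {z : G} (hz : z ≠ 1)
    (hzc : ∀ y ∈ (P : Subgroup G), y * z = z * y) : (χ : G → ℂ) z = 0 := by
  obtain ⟨d, ρ, hρ, hρχ⟩ := χ.2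
  haveI := hρ
  have hd : d = p ^ n := by rw [← hdeg]; simp [charDegree, ← hρχ]
  rw [← hρχ]
  rcases character_eq_zero_or_norm_eq ρ z (by
    rw [Module.finrank_fin_fun, hd]
    exact Nat.Coprime.pow_left n ((hp.out.coprime_iff_not_dvd).mpr (not_dvd_index_centralizer P hzc)))
    with h | h
  · exact h
  · obtain ⟨ω, hω⟩ := (norm_character_eq_iff ρ z).mp h
    refine absurd ?_ hz
    rw [← Subgroup.mem_bot, ← hZ, Subgroup.mem_center_iff]
    intro y
    have h1 : ρ (y * z) = ρ (z * y) := by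
      rw [map_mul, map_mul, hω]
      ext v
      simp
    refine (eq_of_mul_inv_eq_one (hfaith (y * z * (z * y)⁻¹) ?_))
    rw [← hρχ]
    refine (ker_iff ρ rfl _).mpr ?_
    rw [map_mul, h1, ← map_mul, mul_inv_cancel, map_one]

theorem defect_le_of_power_degree (hM : IsPModular p M) (hZ : Subgroup.center G = ⊥)
    (P : Sylow p G) {a b : ℕ} (ha : Nat.card P = p ^ a)
    (hb : Nat.card (Subgroup.center ↥(P : Subgroup G)) = p ^ b) (χ : IrrCharacter G)
    (hfaith : ∀ g : G, (χ : G → ℂ) g = (χ : G → ℂ) 1 → g = 1) {n : ℕ}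
    (hdeg : charDegree (χ : G → ℂ) = p ^ n) :
    blockDefect p (blockOf M (χ : G → ℂ)) ≤ a - b := by
  classical
  haveI := Fintype.ofFinite G
  haveI : M.IsPrime := isPrime_of_isPModular hM
  have hpM := hM.2.2
  set B := blockOf M (χ : G → ℂ) with hB
  have hne : B.Nonempty := ⟨χ, fun g => by rw [sub_self]; exact MemLocalIdeal.zero'⟩
  obtain ⟨ψ, hψ, hmin⟩ := exists_degVal_eq_blockMin (p := p) hne
  rw [blockDefect_eq, factorization_card P ha, ← hmin]
  suffices hbv : b ≤ degVal p ψ by omega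
  by_contra hlt
  push Not at hlt
  let Z : Subgroup G := (Subgroup.center ↥(P : Subgroup G)).map (P : Subgroup G).subtype
  haveI := Fintype.ofFinite Z
  have hZcard : Nat.card Z = p ^ b := by
    rw [← hb]
    exact (Nat.card_congr ((Subgroup.center ↥(P : Subgroup G)).equivMapOfInjective _
      (P : Subgroup G).subtype_injective).toEquiv).symm
  have hZc : ∀ z ∈ Z, ∀ y ∈ (P : Subgroup G), y * z = z * y := by
    rintro _ ⟨z, hz, rfl⟩ y hy
    exact congrArg Subtype.val (Subgroup.mem_center_iff.mp hz ⟨y, hy⟩)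
  have hterm : ∀ z ∈ Z, z ≠ 1 → MemLocalIdeal M ((ψ : G → ℂ) z / (ψ : G → ℂ) 1) := by
    intro z hz h1
    have h2 := hψ z
    rw [show centralChar (χ : G → ℂ) z = 0 by
      simp [centralChar, eq_zero_on_sylow_center hZ P χ hfaith hdeg h1 (hZc z hz)], zero_sub] at h2
    have hi := not_dvd_index_centralizer P (hZc z hz)
    have h3 := MemLocalIdeal.mul_left' (inv_natCast_mem_loc (M := M) hp.out hpM hi) (MemLocalIdeal.neg' h2)
    rw [neg_neg, centralChar, mul_div_assoc, ← mul_assoc, inv_mul_cancel₀ (Nat.cast_ne_zero.mpr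
      Subgroup.index_ne_zero_of_finite), one_mul] at h3
    exact h3
  obtain ⟨m, hm⟩ := inner_char_nat (isCharacter_restrict Z (isCharacter_of_irr ψ.2))
    (isCharacter_of_irr (principal Z).2)
  have hsum : ∑ z : Z, (ψ : G → ℂ) z = (p : ℂ) ^ b * m := by
    rw [← hm, inner_def, hZcard, Nat.cast_pow, ← mul_assoc,
      mul_inv_cancel₀ (pow_ne_zero _ (Nat.cast_ne_zero.mpr hp.out.ne_zero)), one_mul]
    simp [principal_apply]
  -- `1 + (sum of ideal elements) = p ^ b * m / ψ 1`
  have hdegψ := deg_eq ψ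
  set d := charDegree (ψ : G → ℂ) with hd
  have hd0 : d ≠ 0 := (deg_pos ψ).ne'
  set v := degVal p ψ with hv
  obtain ⟨w, hw⟩ : p ^ v ∣ d := Nat.ordProj_dvd d p
  have hwn : ¬ p ∣ w := fun h => Nat.pow_succ_factorization_not_dvd hd0 hp.out (by
    obtain ⟨w', rfl⟩ := h
    exact ⟨w', by rw [pow_succ, mul_assoc]; exact hw⟩)
  have hone : MemLocalIdeal M (∑ z : Z, (ψ : G → ℂ) z / (ψ : G → ℂ) 1) := by
    rw [← Finset.sum_div, hsum, hdegψ, hw, Nat.cast_mul, Nat.cast_pow]
    have hb' : (p : ℂ) ^ b = (p : ℂ) ^ v * ((p : ℂ) ^ (b - v - 1) * p) := by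
      rw [← pow_succ, ← pow_add]; congr 1; omega
    rw [hb', show (p : ℂ) ^ v * ((p : ℂ) ^ (b - v - 1) * p) * m / ((p : ℂ) ^ v * w) =
      (p : ℂ) ^ (b - v - 1) * m * (w : ℂ)⁻¹ * p by
      field_simp [hp.out.ne_zero]]
    exact MemLocalIdeal.mul_left' (mul_mem (mul_mem (pow_mem (natCast_mem_loc p) _) (natCast_mem_loc m))
      (inv_natCast_mem_loc hp.out hpM hwn)) (memLocalIdeal_prime hpM)
  rw [← Finset.add_sum_erase _ _ (Finset.mem_univ (1 : Z)), OneMemClass.coe_one,
    div_self (irr_degree_ne_zero ψ.2)] at hone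
  have hrest : MemLocalIdeal M (∑ z ∈ Finset.univ.erase (1 : Z), (ψ : G → ℂ) z / (ψ : G → ℂ) 1) :=
    MemLocalIdeal.sum' fun z hz => hterm z z.2 fun e => Finset.ne_of_mem_erase hz (Subtype.ext e)
  refine not_memLocalIdeal_one (M := M) ?_
  simpa using MemLocalIdeal.sub' hone hrest

/-- Centralisers of Sylow subgroups with a small faithful character in the principal block. -/
theorem isPGroup_centralizer_of_small_degree (hM : IsPModular p M) (hperf : commutator G = ⊤)
    (P : Sylow p G) (χ : IrrCharacter G) (hχ : χ ∈ principalBlock M G)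
    (hfaith : ∀ g : G, (χ : G → ℂ) g = (χ : G → ℂ) 1 → g = 1)
    (hdeg : charDegree (χ : G → ℂ) < 2 * p) :
    IsPGroup p ↥(Subgroup.centralizer ((P : Subgroup G) : Set G)) := by
  classical
  haveI : M.IsPrime := isPrime_of_isPModular hM
  have hpM := hM.2.2
  rw [IsPGroup.iff_card]
  refine ⟨(Nat.card (Subgroup.centralizer ((P : Subgroup G) : Set G))).primeFactorsList.length,
    Nat.eq_prime_pow_of_unique_prime_dvd Nat.card_pos.ne' fun {r} hr hrd => ?_⟩
  by_contra hrp
  haveI : Fact r.Prime := ⟨hr⟩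
  obtain ⟨⟨x, hx⟩, hxr⟩ := exists_prime_orderOf_dvd_card' r hrd
  rw [Subgroup.orderOf_mk] at hxr
  have hc : ∀ (j : ℕ), ∀ y ∈ (P : Subgroup G), y * x ^ j = x ^ j * y := fun j y hy =>
    ((show Commute y x from Subgroup.mem_centralizer_iff.mp hx y hy).pow_right j).eq
  obtain ⟨d, ρ, hρ, hρχ⟩ := χ.2
  haveI := hρ
  haveI := Fintype.ofFinite G
  obtain ⟨b, μ, hμ, -, hb, -, -, -⟩ := exists_eigenbasis_rep ρ x
  rw [hxr] at hμ
  have hval : ∀ j : ℕ, (χ : G → ℂ) (x ^ j) = ∑ i, μ i ^ j := fun j => by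
    rw [← hρχ]
    refine trace_eq_sum_of_eigenbasis _ b _ fun i => ?_
    induction j with
    | zero => simp
    | succ j ih => rw [pow_succ', map_mul, Module.End.mul_apply, ih, map_smul, hb, smul_smul,
        pow_succ]
  have hχ1 : (χ : G → ℂ) 1 = (Fintype.card (Fin (Module.finrank ℂ (Fin d → ℂ))) : ℂ) := by
    have := hval 0
    simpa using this
  have hcong : ∀ j : ℕ, MemLocalIdeal M ((χ : G → ℂ) (x ^ j) - (χ : G → ℂ) 1) := by
    intro j
    have hi := not_dvd_index_centralizer P (hc j)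
    have h2 := MemLocalIdeal.mul_left' (mul_mem (isIntegral_mem_loc (char_isIntegral (isCharacter_of_irr χ.2) (1 : G)))
      (inv_natCast_mem_loc (M := M) hp.out hpM hi)) (MemLocalIdeal.neg' (hχ (x ^ j)))
    convert h2 using 1
    rw [centralChar, centralChar]
    have h3 := irr_degree_ne_zero χ.2
    have h4 : ((Subgroup.centralizer ({x ^ j} : Set G)).index : ℂ) ≠ 0 :=
      Nat.cast_ne_zero.mpr Subgroup.index_ne_zero_of_finite
    field_simp
    ring
  -- multiplicities of nontrivial eigenvalues are divisible by `p`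
  have hmult : ∀ i₀, μ i₀ ≠ 1 → p ∣ (Finset.univ.filter fun i => μ i = μ i₀).card := by
    intro i₀ hne
    have hgeo : ∀ z : ℂ, z ^ r = 1 → ∑ j ∈ Finset.range r, z ^ j = if z = 1 then (r : ℂ) else 0 :=
      fun z hz => by
        split_ifs with h
        · simp [h]
        · rw [geom_sum_eq h, hz, sub_self, zero_div]
    have hinv : IsIntegral ℤ (μ i₀)⁻¹ := IsIntegral.of_pow hr.pos (by
      rw [inv_pow, hμ, inv_one]; exact isIntegral_one)
    have hz0 : μ i₀ ≠ 0 := fun h => by simpa [h, hr.ne_zero] using hμ i₀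
    have h1 : MemLocalIdeal M (∑ j ∈ Finset.range r,
        ((χ : G → ℂ) (x ^ j) - (χ : G → ℂ) 1) * (μ i₀)⁻¹ ^ j) :=
      MemLocalIdeal.sum' fun j _ => MemLocalIdeal.mul_right' (hcong j) (pow_mem (isIntegral_mem_loc hinv) j)
    have h2 : ∑ j ∈ Finset.range r, ((χ : G → ℂ) (x ^ j) - (χ : G → ℂ) 1) * (μ i₀)⁻¹ ^ j =
        (((Finset.univ.filter fun i => μ i = μ i₀).card * r : ℕ) : ℂ) := by
      simp only [sub_mul, Finset.sum_sub_distrib, ← Finset.mul_sum, hval, Finset.sum_mul,
        ← mul_pow]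
      rw [hgeo _ (by rw [inv_pow, hμ, inv_one]), if_neg (by simpa using hne), mul_zero, sub_zero,
        Finset.sum_comm, Finset.sum_congr rfl fun i _ => hgeo (μ i * (μ i₀)⁻¹) (by
          rw [mul_pow, inv_pow, hμ, hμ, inv_one, mul_one]), Finset.sum_ite, Finset.sum_const,
        Finset.sum_const_zero, add_zero, nsmul_eq_mul, Nat.cast_mul]
      congr 3
      ext i
      simp [mul_inv_eq_one₀ hz0]
    rw [h2, memLocalIdeal_natCast_iff hp.out hpM] at h1
    exact (hp.out.dvd_mul.mp h1).resolve_right fun h =>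
      hrp ((Nat.prime_dvd_prime_iff_eq hp.out hr).mp h).symm
  have hdim : Fintype.card (Fin (Module.finrank ℂ (Fin d → ℂ))) < 2 * p := by
    have h1 := deg_eq χ
    rw [hχ1] at h1
    exact (Nat.cast_injective h1 : _ = charDegree (χ : G → ℂ)) ▸ hdeg
  obtain ⟨i₀, hi₀⟩ : ∃ i, μ i ≠ 1 := by
    by_contra hall
    push Not at hall
    have : (χ : G → ℂ) x = (χ : G → ℂ) 1 := by
      rw [← pow_one x, hval, hχ1]; simp [hall]
    have h1 := hfaith x this
    rw [h1, orderOf_one] at hxr
    exact hr.one_lt.ne hxr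
  set S := Finset.univ.filter fun i => μ i = μ i₀ with hS
  have hSp : p ≤ S.card :=
    Nat.le_of_dvd (Finset.card_pos.mpr ⟨i₀, by simp [hS]⟩) (hmult i₀ hi₀)
  have hothers : ∀ i, i ∉ S → μ i = 1 := by
    intro i hi
    by_contra hne
    set T := Finset.univ.filter fun j => μ j = μ i with hT
    have hTp : p ≤ T.card := Nat.le_of_dvd (Finset.card_pos.mpr ⟨i, by simp [hT]⟩) (hmult i hne)
    have hdisj : Disjoint S T := Finset.disjoint_left.mpr fun j hj hj' => hi (by
      simp only [hS, hT, Finset.mem_filter, Finset.mem_univ, true_and] at hj hj' ⊢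
      exact hj'.symm.trans hj)
    have h2 : (S ∪ T).card ≤ Fintype.card (Fin (Module.finrank ℂ (Fin d → ℂ))) :=
      Finset.card_le_univ _
    rw [Finset.card_union_of_disjoint hdisj] at h2
    omega
  have hdet : LinearMap.det (ρ x) = ∏ i, μ i := by
    rw [← LinearMap.det_toMatrix b, show LinearMap.toMatrix b b (ρ x) = Matrix.diagonal μ from
      Matrix.ext fun i j => by
        rw [LinearMap.toMatrix_apply, hb, map_smul, Module.Basis.repr_self]
        by_cases h : i = j
        · subst h; simp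
        · simp [Matrix.diagonal_apply_ne _ h, Ne.symm h], Matrix.det_diagonal]
  have hdet1 : LinearMap.det (ρ x) = 1 := by
    have h1 : (CharsMore.detHom ρ).ker = ⊤ := top_le_iff.mp
      (hperf ▸ Abelianization.commutator_subset_ker _)
    have h2 := MonoidHom.mem_ker.mp (h1.ge (Subgroup.mem_top x))
    have h3 := CharsMore.coe_detHom ρ x
    rw [h2, Units.val_one] at h3
    exact h3.symm
  rw [hdet, ← Finset.prod_subset (Finset.subset_univ S) (fun i _ hi => hothers i hi),
    Finset.prod_congr rfl (fun i hi => (Finset.mem_filter.mp hi).2), Finset.prod_const] at hdet1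
  have hScard : S.card = p := by
    have h3 : S.card < 2 * p := lt_of_le_of_lt (Finset.card_le_univ _) hdim
    obtain ⟨k, hk⟩ := hmult i₀ hi₀
    rw [hk] at hSp h3
    rcases k with _ | _ | k
    · simp at hSp; exact absurd hSp hp.out.ne_zero
    · rw [hk]; simp
    · exfalso; nlinarith
  rw [hScard] at hdet1
  have h4 := orderOf_dvd_of_pow_eq_one hdet1
  have h5 := orderOf_dvd_of_pow_eq_one (hμ i₀)
  exact hi₀ (orderOf_eq_one_iff.mp (Nat.eq_one_of_dvd_coprimes
    ((Nat.coprime_primes hp.out hr).mpr fun h => hrp h.symm) h4 h5))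

end CfsgLib.CharApps
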