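import Mathlib
import Cfsg.Agent.Lib.Transfer.Tate
import Cfsg.Agent.Lib.Transfer.Fusion
import Cfsg.Agent.Lib.Transfer.Control
import Cfsg.Agent.Lib.PGroups.Basic
import Cfsg.Agent.Lib.Chars.Quotient
import Cfsg.Agent.Lib.CharsMore.ItoDegree
import Cfsg.Agent.Lib.CharApps.Basic

/-!
# Extendibility from the Sylow normalizer
-/

set_option autoImplicit false
set_option linter.style.haveILetI false

namespace CfsgLib.CharApps

open Cfsg CfsgLib
open scoped Pointwise commutatorElement

variable {G : Type*} [Group G] [Finite G] {p : ℕ} [Fact p.Prime]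

/-- If every character of `p'`-degree of the normalizer of a Sylow `p`-subgroup extends, then this
normalizer has a normal complement. -/
theorem exists_normal_complement_of_extendible (P : Sylow p G) (N : Subgroup G)
    (hN : N = Subgroup.normalizer ((P : Subgroup G) : Set G))
    (hext : ∀ θ : IrrCharacter N, ¬ p ∣ charDegree (θ : N → ℂ) →
      ∃ χ : IrrCharacter G, ∀ x : N, (χ : G → ℂ) x = (θ : N → ℂ) x) :
    ∃ K : Subgroup G, K.Normal ∧ K ⊔ N = ⊤ ∧ K ⊓ N = ⊥ := by
  classical
  haveI := Fintype.ofFinite G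
  haveI := Fintype.ofFinite N
  have hPN : (P : Subgroup G) ≤ N := hN ▸ Subgroup.le_normalizer
  set PN : Subgroup N := (P : Subgroup G).subgroupOf N with hPNdef
  haveI : PN.Normal :=
    (Subgroup.normal_subgroupOf_iff_le_normalizer hPN).mpr (le_of_eq hN)
  have hPidx : ¬ p ∣ PN.index := fun h =>
    P.not_dvd_index (h.trans (Subgroup.relIndex_dvd_index_of_le hPN))
  set DN : Subgroup N := ⁅PN, PN⁆ with hDN
  -- the characters trivial on `P'` have degree prime to `p`
  have hdeg : ∀ θ : IrrCharacter N, DN ≤ charKer θ → ¬ p ∣ charDegree (θ : N → ℂ) := by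
    intro θ hθ hdvd
    obtain ⟨ψ, hψ, he⟩ := Chars.exists_deflate_irr DN θ.2 (fun x hx => hθ hx)
    haveI := Fintype.ofFinite (N ⧸ DN)
    haveI : (PN.map (QuotientGroup.mk' DN)).Normal :=
      Subgroup.Normal.map inferInstance _ (QuotientGroup.mk'_surjective DN)
    haveI := Fintype.ofFinite (PN.map (QuotientGroup.mk' DN))
    obtain ⟨k, hk, hkd⟩ := CharsMore.ito_degree_dvd (PN.map (QuotientGroup.mk' DN)) (by
      rintro _ ⟨a, ha, rfl⟩ _ ⟨b, hb, rfl⟩
      rw [← commutatorElement_eq_one_iff_mul_comm, ← map_commutatorElement, QuotientGroup.mk'_apply,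
        QuotientGroup.eq_one_iff]
      exact Subgroup.commutator_mem_commutator ha hb) hψ
    have h1 : (θ : N → ℂ) 1 = (k : ℂ) := by rw [he]; exact hk
    rw [deg_eq, Nat.cast_inj] at h1
    refine hPidx (hdvd.trans (h1 ▸ hkd.trans ?_))
    exact PN.index_map_dvd (QuotientGroup.mk'_surjective DN)
  choose ext hextv using fun θ : {θ : IrrCharacter N // DN ≤ charKer θ} => hext θ.1 (hdeg θ.1 θ.2)
  let K1 : Subgroup G := ⨅ θ, charKer (ext θ)
  let L : Subgroup G := ⨅ θ : {θ : {θ : IrrCharacter N // DN ≤ charKer θ} // PN ≤ charKer θ.1},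
    charKer (ext θ.1)
  have hK1n : K1.Normal := Subgroup.normal_iInf_normal fun θ => charKer_normal _
  have hLn : L.Normal := Subgroup.normal_iInf_normal fun θ => charKer_normal _
  have hsub : ∀ (M : Subgroup N) [M.Normal], DN ≤ M → ∀ x : N,
      (∀ θ : {θ : IrrCharacter N // DN ≤ charKer θ}, M ≤ charKer θ.1 →
        (ext θ : G → ℂ) x = (ext θ : G → ℂ) 1) → x ∈ M := by
    intro M _ hM x hx
    rw [← QuotientGroup.eq_one_iff]
    refine Chars.eq_one_of_forall_irr fun ψ => ?_
    let θ : IrrCharacter N := ⟨fun n => (ψ : N ⧸ M → ℂ) n, Chars.isIrrCharacter_inflate M ψ.2⟩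
    have hθ : M ≤ charKer θ := fun m hm => by
      show (ψ : N ⧸ M → ℂ) (m : N ⧸ M) = (ψ : N ⧸ M → ℂ) ((1 : N) : N ⧸ M)
      rw [(QuotientGroup.eq_one_iff m).mpr hm, QuotientGroup.mk_one]
    have h := hx ⟨θ, hM.trans hθ⟩ hθ
    rw [hextv, ← OneMemClass.coe_one N, hextv] at h
    exact h
  have hPL : (P : Subgroup G) ≤ L := by
    refine le_iInf fun θ x hx => ?_
    show (ext θ.1 : G → ℂ) x = (ext θ.1 : G → ℂ) 1
    have h1 := hextv θ.1 ⟨x, hPN hx⟩
    rw [h1, ← OneMemClass.coe_one N, hextv]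
    exact θ.2 (show (⟨x, hPN hx⟩ : N) ∈ PN from hx)
  have hLN : ∀ x ∈ L, x ∈ N → x ∈ (P : Subgroup G) := by
    intro x hx hxN
    exact hsub PN (Subgroup.commutator_le_self PN) ⟨x, hxN⟩
      fun θ hθ => (Subgroup.mem_iInf.mp hx ⟨θ, hθ⟩)
  have hK1N : ∀ x ∈ K1, ∀ hxN : x ∈ N, (⟨x, hxN⟩ : N) ∈ DN := fun x hx hxN =>
    hsub DN le_rfl ⟨x, hxN⟩ fun θ _ => Subgroup.mem_iInf.mp hx θ
  have hDK1 : ∀ d ∈ DN, (d : G) ∈ K1 := by
    intro d hd
    refine Subgroup.mem_iInf.mpr fun θ => ?_
    show (ext θ : G → ℂ) d = (ext θ : G → ℂ) 1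
    rw [hextv, ← OneMemClass.coe_one N, hextv]
    exact θ.2 hd
  -- fusion in `L` is trivial modulo `K1`
  let π := QuotientGroup.mk' K1
  have hcommP : ∀ a ∈ (P : Subgroup G), ∀ b ∈ (P : Subgroup G), π a * π b = π b * π a := by
    intro a ha b hb
    rw [← commutatorElement_eq_one_iff_mul_comm, ← map_commutatorElement, QuotientGroup.mk'_apply,
      QuotientGroup.eq_one_iff]
    exact hDK1 ⁅⟨a, hPN ha⟩, ⟨b, hPN hb⟩⁆ (Subgroup.commutator_mem_commutator ha hb)
  have hfus : ∀ x ∈ (P : Subgroup G), ∀ g ∈ L, g * x * g⁻¹ ∈ (P : Subgroup G) →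
      π (g * x * g⁻¹) = π x := by
    intro x hx g hg hy
    let C : Subgroup G := L ⊓ (Subgroup.centralizer ({π x} : Set (G ⧸ K1))).comap π
    have h1 : (P : Subgroup G) ≤ C := fun a ha => ⟨hPL ha, by
      show π a ∈ Subgroup.centralizer ({π x} : Set (G ⧸ K1))
      rw [Subgroup.mem_centralizer_singleton_iff]
      exact hcommP a ha x hx⟩
    have h2 : (↑(g⁻¹ • P) : Subgroup G) ≤ C := by
      intro a ha
      rw [Sylow.coe_subgroup_smul, Subgroup.mem_pointwise_smul_iff_inv_smul_mem] at ha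
      have ha' : g * a * g⁻¹ ∈ (P : Subgroup G) := by simpa [MulAut.smul_def, mul_assoc] using ha
      refine ⟨?_, ?_⟩
      · have := hLn.conj_mem _ (hPL ha') g⁻¹
        simpa [mul_assoc] using this
      · show π a ∈ Subgroup.centralizer ({π x} : Set (G ⧸ K1))
        rw [Subgroup.mem_centralizer_singleton_iff]
        have h3 := hcommP _ ha' _ hy
        simp only [map_mul, map_inv] at h3
        calc π a * π x = (π g)⁻¹ * (π g * π a * (π g)⁻¹ * (π g * π x * (π g)⁻¹)) * π g := by group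
          _ = (π g)⁻¹ * (π g * π x * (π g)⁻¹ * (π g * π a * (π g)⁻¹)) * π g := by rw [h3]
          _ = π x * π a := by group
    obtain ⟨c, hc⟩ := MulAction.exists_smul_eq C ((g⁻¹ • P).subtype h2) (P.subtype h1)
    simp_rw [Sylow.smul_subtype, Subgroup.smul_def, smul_smul] at hc
    have hn : (c : G) * g⁻¹ ∈ N := hN ▸ Sylow.smul_eq_iff_mem_normalizer.mp (Sylow.subtype_injective hc)
    have hnP : (c : G) * g⁻¹ ∈ (P : Subgroup G) :=
      hLN _ (L.mul_mem c.2.1 (L.inv_mem hg)) hn
    have hcx := Subgroup.mem_centralizer_singleton_iff.mp (Subgroup.mem_comap.mp c.2.2)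
    have hcom := hcommP _ hnP _ hy
    simp only [map_mul, map_inv] at hcx hcom ⊢
    calc π g * π x * (π g)⁻¹
        = (π c * (π g)⁻¹) * (π g * π x * (π g)⁻¹) * (π c * (π g)⁻¹)⁻¹ := by
          rw [hcom, mul_inv_cancel_right]
      _ = π c * π x * (π c)⁻¹ := by group
      _ = π x := by rw [hcx, mul_inv_cancel_right]
  let SL : Sylow p L := P.subtype hPL
  let M : Subgroup G := (Cfsg.pResidual p L).map L.subtype
  haveI hLi : L.Normal := hLn
  haveI := Transfer.pResidual_characteristic (G := L) (p := p)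
  have hMn : M.Normal := inferInstance
  have hML : M ≤ L := Subgroup.map_subtype_le _
  have hle : (P : Subgroup G) ⊓ M ≤ (frattini (P : Subgroup G)).map (P : Subgroup G).subtype := by
    rintro x ⟨hxP, y, hy, rfl⟩
    have hyS : y ∈ (SL : Subgroup L) := hxP
    have hfoc := Transfer.inf_pResidual_le_focalSubgroup SL ⟨hyS, hy⟩
    have hD : (y : G) ∈ (P : Subgroup G) ⊓ K1 := by
      refine (Subgroup.map_mono (f := L.subtype) ?_) (Subgroup.mem_map_of_mem L.subtype hfoc) |>
        fun h => (show _ ≤ (P : Subgroup G) ⊓ K1 from Subgroup.map_le_iff_le_comap.mpr le_rfl) h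
      rw [Subgroup.focalSubgroup_def, Subgroup.closure_le]
      rintro _ ⟨hzS, a, ha, u, rfl⟩
      have ha' : (a : G) ∈ (P : Subgroup G) := ha
      have hz' : ⁅(a : G), (u : G)⁆ ∈ (P : Subgroup G) := hzS
      refine ⟨hz', ?_⟩
      show ⁅(a : G), (u : G)⁆ ∈ K1
      have hmem : (u : G) * (a : G)⁻¹ * (u : G)⁻¹ ∈ (P : Subgroup G) := by
        have := mul_mem (inv_mem ha') hz'
        rw [commutatorElement_def] at this
        simpa [mul_assoc] using this
      rw [← QuotientGroup.eq_one_iff]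
      show π ⁅(a : G), (u : G)⁆ = 1
      rw [commutatorElement_def, show (a : G) * u * (a : G)⁻¹ * (u : G)⁻¹ =
          a * (u * (a : G)⁻¹ * (u : G)⁻¹) by group, map_mul,
        hfus _ (inv_mem ha') u u.2 hmem, ← map_mul, mul_inv_cancel, map_one]
    have hd := hK1N _ hD.2 (hPN hD.1)
    have h4 : DN.map N.subtype ≤ (frattini (P : Subgroup G)).map (P : Subgroup G).subtype := by
      rw [hDN, Subgroup.map_commutator, hPNdef, Subgroup.map_subgroupOf_eq_of_le hPN,
        ← Subgroup.map_subtype_commutator]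
      exact Subgroup.map_mono (PGroups.commutator_le_frattini P.2)
    exact h4 ⟨_, hd, rfl⟩
  have hres : Cfsg.pResidual p M = ⊤ := by
    apply Subgroup.map_injective M.subtype_injective
    rw [← MonoidHom.range_eq_map, Subgroup.range_subtype]
    refine le_antisymm (Subgroup.map_subtype_le _) ?_
    change (Cfsg.pResidual p L).map L.subtype ≤ _
    rw [Subgroup.map_le_iff_le_comap]
    refine (Subgroup.closure_le _).mpr fun g hg =>
      ⟨⟨g, ⟨g, Transfer.mem_pResidual_of_coprime hg, rfl⟩⟩, ?_, rfl⟩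
    refine Transfer.mem_pResidual_of_coprime ?_
    rw [← orderOf_injective M.subtype M.subtype_injective]
    change Nat.Coprime (orderOf (L.subtype g)) p
    rwa [orderOf_injective L.subtype L.subtype_injective]
  have hbot := Transfer.inf_eq_bot_of_le_frattini P M hres hle
  refine ⟨M, hMn, ?_, ?_⟩
  · have hfr : N ⊔ L = ⊤ := by
      have h := Sylow.normalizer_sup_eq_top SL
      rw [show (SL : Subgroup L).map L.subtype = (P : Subgroup G) from
        Subgroup.map_subgroupOf_eq_of_le hPL, ← hN] at h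
      exact h
    have hLle : L ≤ M ⊔ N := by
      have hq := Transfer.isPGroup_quotient_pResidual (G := L) (p := p)
      intro x hx
      have hsup : (SL : Subgroup L) ⊔ Cfsg.pResidual p L = ⊤ := by
        refine Subgroup.index_eq_one.mp ?_
        obtain ⟨k, hk⟩ := Transfer.exists_index_pResidual (G := L) (p := p)
        have h1 := Subgroup.index_dvd_of_le (le_sup_left : (SL : Subgroup L) ≤ _ ⊔ Cfsg.pResidual p L)
        have h2 := Subgroup.index_dvd_of_le (le_sup_right : Cfsg.pResidual p L ≤ (SL : Subgroup L) ⊔ _)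
        rw [hk] at h2
        obtain ⟨i, -, hi⟩ := (Nat.dvd_prime_pow (Fact.out : p.Prime)).mp h2
        rcases Nat.eq_zero_or_pos i with rfl | hi0
        · simpa using hi
        · exact absurd ((hi ▸ dvd_pow_self p hi0.ne').trans h1) SL.not_dvd_index
      have hxm : (⟨x, hx⟩ : L) ∈ (SL : Subgroup L) ⊔ Cfsg.pResidual p L := hsup ▸ Subgroup.mem_top _
      have := Subgroup.mem_map_of_mem L.subtype hxm
      rw [Subgroup.map_sup, show (SL : Subgroup L).map L.subtype = (P : Subgroup G) from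
        Subgroup.map_subgroupOf_eq_of_le hPL] at this
      exact (sup_le (hPN.trans le_sup_right) le_sup_left) this
    rw [eq_top_iff, ← hfr]
    exact sup_le le_sup_right hLle
  · rw [eq_bot_iff, ← hbot]
    exact fun x ⟨hxM, hxN⟩ => ⟨hLN x (hML hxM) hxN, hxM⟩

end CfsgLib.CharApps
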