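import Mathlib

/-!
# Trivial intersection Sylow subgroups and integral representations of small degree

A complex representation is put in integral form over a valuation ring of `ℂ` above `p`. If
`P` is a Sylow subgroup with trivial intersections and the square of the degree is at most `|P|`,
then every matrix commuting with the image of `N(P)` commutes with the whole image: traces from
`P` of integral matrices vanish in the residue field.
-/

set_option autoImplicit false
set_option linter.style.haveILetI false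
set_option linter.unusedSectionVars false

namespace CfsgLib.CharApps.TILattice

open Module

/-- A valuation ring of `ℂ` in which `p` is not a unit. -/
theorem exists_valuationSubring (p : ℕ) [hp : Fact p.Prime] :
    ∃ V : ValuationSubring ℂ, V.valuation (p : ℂ) < 1 := by
  let A : Subring ℂ := ⊥
  let pA : A := ⟨(p : ℂ), natCast_mem A p⟩
  have hne : Ideal.span ({pA} : Set A) ≠ ⊤ := by
    rw [Ne, Ideal.span_singleton_eq_top, isUnit_iff_exists_inv]
    rintro ⟨⟨b, hb⟩, e⟩
    obtain ⟨z, rfl⟩ := Subring.mem_bot.1 hb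
    have e' : ((p : ℤ) : ℂ) * (z : ℂ) = 1 := by simpa [pA] using congrArg Subtype.val e
    have e2 : (p : ℤ) * z = 1 := by exact_mod_cast e'
    have e3 : (p : ℤ) = 1 := by
      rcases Int.eq_one_or_neg_one_of_mul_eq_one e2 with h | h
      · exact h
      · omega
    exact hp.out.one_lt.ne' (by exact_mod_cast e3)
  obtain ⟨V, -, hV⟩ := Ideal.image_subset_nonunits_valuationSubring _ hne
  exact ⟨V, V.mem_nonunits_iff.1 (hV ⟨pA, Ideal.subset_span rfl, rfl⟩)⟩

/-- Integral form of a representation over a valuation subring. -/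
theorem exists_integral_form {G : Type*} [Group G] [Finite G] {n : ℕ}
    (ρ : Representation ℂ G (Fin n → ℂ)) (V : ValuationSubring ℂ) :
    ∃ (ι : Type) (_ : Fintype ι) (_ : DecidableEq ι) (B : Basis ι ℂ (Fin n → ℂ)),
      ∀ g i j, LinearMap.toMatrix B B (ρ g) i j ∈ V := by
  classical
  let v : G × Fin n → (Fin n → ℂ) := fun x => ρ x.1 (Pi.single x.2 1)
  let L : Submodule V (Fin n → ℂ) := Submodule.span V (Set.range v)
  haveI : Module.Finite V L := Module.Finite.iff_fg.2 (Submodule.fg_span (Set.finite_range v))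
  haveI : Module.Flat V L :=
    Module.Flat.flat_iff_torsion_eq_bot_of_isBezout.2
      (Submodule.isTorsionFree_iff_torsion_eq_bot.1 inferInstance)
  haveI : Module.Free V L := Module.free_of_flat_of_isLocalRing
  let bL := Module.Free.chooseBasis V L
  haveI : Fintype (Module.Free.ChooseBasisIndex V L) := inferInstance
  let w : Module.Free.ChooseBasisIndex V L → (Fin n → ℂ) := fun i => (bL i : Fin n → ℂ)
  have hli : LinearIndependent ℂ w :=
    (LinearIndependent.iff_fractionRing V ℂ).1
      (bL.linearIndependent.map' L.subtype (Submodule.ker_subtype L))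
  have hrepr : ∀ (x : Fin n → ℂ) (hx : x ∈ L),
      x = ∑ i, ((bL.repr ⟨x, hx⟩ i : V) : ℂ) • w i := by
    intro x hx
    have h := congrArg Subtype.val (bL.sum_repr ⟨x, hx⟩).symm
    rw [Submodule.coe_sum] at h
    exact h
  have hspan : ⊤ ≤ Submodule.span ℂ (Set.range w) := by
    rw [← (Pi.basisFun ℂ (Fin n)).span_eq, Submodule.span_le]
    rintro _ ⟨i, rfl⟩
    have hx : Pi.single i (1 : ℂ) ∈ L :=
      Submodule.subset_span ⟨(1, i), by simp [v]⟩
    rw [Pi.basisFun_apply, hrepr _ hx]
    exact Submodule.sum_mem _ fun j _ =>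
      Submodule.smul_mem _ _ (Submodule.subset_span ⟨j, rfl⟩)
  let B := Basis.mk hli hspan
  let e := Fintype.equivFin (Module.Free.ChooseBasisIndex V L)
  refine ⟨Fin (Fintype.card (Module.Free.ChooseBasisIndex V L)), inferInstance, inferInstance,
    B.reindex e, fun g i j => ?_⟩
  have hst : ∀ x ∈ L, ρ g x ∈ L := by
    intro x hx
    induction hx using Submodule.span_induction with
    | mem x hx =>
      obtain ⟨⟨h, k⟩, rfl⟩ := hx
      exact Submodule.subset_span ⟨(g * h, k), by simp [v]⟩
    | zero => rw [map_zero]; exact zero_mem _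
    | add x y _ _ hx hy => rw [map_add]; exact add_mem hx hy
    | smul c x _ hx =>
      rw [show (c • x : Fin n → ℂ) = (c : ℂ) • x from rfl, map_smul]
      exact L.smul_mem c hx
  have hx : ρ g (w (e.symm j)) ∈ L := hst _ (bL (e.symm j)).2
  rw [LinearMap.toMatrix_apply, Basis.reindex_apply, Basis.repr_reindex,
    Finsupp.mapDomain_equiv_apply, Basis.coe_mk, hrepr _ hx]
  have e1 : (∑ l, ((bL.repr ⟨_, hx⟩ l : V) : ℂ) • w l) =
      ∑ l, ((bL.repr ⟨_, hx⟩ l : V) : ℂ) • B l := by
    simp only [B, Basis.coe_mk]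
  rw [e1, Basis.repr_sum_self]
  exact (bL.repr ⟨_, hx⟩ (e.symm i)).2

variable {G : Type*} [Group G] {ι : Type*} [Fintype ι] [DecidableEq ι]
  (R : G →* Matrix ι ι ℂ)

/-- Conjugation by the image of `g`. -/
def act (g : G) (A : Matrix ι ι ℂ) : Matrix ι ι ℂ := R g * A * R g⁻¹

theorem act_one (A : Matrix ι ι ℂ) : act R 1 A = A := by simp [act]

theorem act_mul (g h : G) (A : Matrix ι ι ℂ) : act R (g * h) A = act R g (act R h A) := by
  simp [act, Matrix.mul_assoc]

theorem act_sum {κ : Type*} (s : Finset κ) (g : G) (f : κ → Matrix ι ι ℂ) :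
    act R g (∑ k ∈ s, f k) = ∑ k ∈ s, act R g (f k) := by
  simp only [act, Matrix.mul_sum, Matrix.sum_mul]

theorem act_smul (g : G) (c : ℂ) (A : Matrix ι ι ℂ) : act R g (c • A) = c • act R g A := by
  simp only [act, Matrix.mul_smul, Matrix.smul_mul]

variable {p : ℕ} [Fact p.Prime] {V : ValuationSubring ℂ}

/-- The trace from a nontrivial `p`-group of an integral matrix vanishes in the residue field when
the square of the degree is at most the order of the group. -/
theorem trace_small (hp : V.valuation (p : ℂ) < 1) (hR : ∀ g i j, R g i j ∈ V)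
    (P : Subgroup G) [Fintype P] (hP : IsPGroup p P) (hP1 : P ≠ ⊥)
    (hn : Fintype.card ι ^ 2 ≤ Nat.card P) {A : Matrix ι ι ℂ} (hA : ∀ i j, A i j ∈ V) (i j : ι) :
    V.valuation ((∑ x : P, act R x A) i j) < 1 := by
  classical
  let π := IsLocalRing.residue V
  have hpi : π (p : V) = 0 := by
    rw [IsLocalRing.residue_eq_zero_iff]
    exact (V.valuation_lt_one_iff (p : V)).2 (by simpa using hp)
  haveI : CharP (IsLocalRing.ResidueField V) p :=
    (CharP.charP_iff_prime_eq_zero (Fact.out : p.Prime)).2 (by rw [← map_natCast π p]; exact hpi)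
  have hmem : ∀ (x : P) a b, act R x A a b ∈ V := fun x a b => by
    rw [act, Matrix.mul_apply]
    refine sum_mem fun k _ => mul_mem ?_ (hR _ _ _)
    rw [Matrix.mul_apply]
    exact sum_mem fun l _ => mul_mem (hR _ _ _) (hA _ _)
  by_contra hbig
  -- independence in the residue field
  let red : ι → ι → P → IsLocalRing.ResidueField V := fun a b x => π ⟨act R x A a b, hmem x a b⟩
  have hres : ∀ c : P → IsLocalRing.ResidueField V, (∀ a b, ∑ x, c x * red a b x = 0) → c = 0 := by
    intro c hc
    by_contra hne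
    -- invariance of the relations
    have hshift : ∀ (d : P → IsLocalRing.ResidueField V) (y : P),
        (∀ a b, ∑ x, d x * red a b x = 0) → ∀ a b, ∑ x, d (y⁻¹ * x) * red a b x = 0 := by
      intro d y hd a b
      rw [← Equiv.sum_comp (Equiv.mulLeft y)]
      simp only [Equiv.coe_mulLeft, inv_mul_cancel_left]
      have e : ∀ x : P, red a b (y * x) = ∑ k, ∑ l, π ⟨R (y : G) a l, hR _ _ _⟩ *
          red l k x * π ⟨R (y : G)⁻¹ k b, hR _ _ _⟩ := by
        intro x
        have e0 : (⟨act R (y * x : P) A a b, hmem _ a b⟩ : V) = ∑ k, ∑ l,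
            (⟨R (y : G) a l, hR _ _ _⟩ : V) * ⟨act R x A l k, hmem x l k⟩ *
              ⟨R (y : G)⁻¹ k b, hR _ _ _⟩ := Subtype.ext (by
          push_cast
          rw [act_mul, act, Matrix.mul_apply]
          simp only [Matrix.mul_apply, Finset.sum_mul])
        show π _ = _
        rw [e0]
        simp only [map_sum, map_mul]
        rfl
      simp only [e, Finset.mul_sum]
      rw [Finset.sum_comm]
      refine Finset.sum_eq_zero fun k _ => ?_
      rw [Finset.sum_comm]
      refine Finset.sum_eq_zero fun l _ => ?_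
      calc _ = π ⟨R (y : G) a l, hR _ _ _⟩ * π ⟨R (y : G)⁻¹ k b, hR _ _ _⟩ *
          ∑ x, d x * red l k x := by
            rw [Finset.mul_sum]
            exact Finset.sum_congr rfl fun x _ => by ring
        _ = 0 := by rw [hd, mul_zero]
    -- a finite set of relations, stable under translation
    let T : (P → ZMod p) →+ (P → IsLocalRing.ResidueField V) :=
      { toFun := fun e x => ∑ y, (ZMod.castHom dvd_rfl (IsLocalRing.ResidueField V) (e y)) *
          c (y⁻¹ * x)
        map_zero' := funext fun x => by simp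
        map_add' := fun e e' => funext fun x => by simp [add_mul, Finset.sum_add_distrib] }
    let S := T.range
    haveI : Finite S := Finite.of_surjective _ T.rangeRestrict_surjective
    have hTrel : ∀ e a b, ∑ x, T e x * red a b x = 0 := by
      intro e a b
      show ∑ x, (∑ y, _) * _ = 0
      simp only [Finset.sum_mul]
      rw [Finset.sum_comm]
      refine Finset.sum_eq_zero fun y _ => ?_
      simp only [mul_assoc]
      rw [← Finset.mul_sum, hshift c y hc a b, mul_zero]
    have hSst : ∀ (y : P) (s : P → IsLocalRing.ResidueField V), s ∈ S →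
        (fun x => s (y⁻¹ * x)) ∈ S := by
      rintro y _ ⟨e, rfl⟩
      refine ⟨fun z => e (y⁻¹ * z), funext fun x => ?_⟩
      show ∑ z, _ = ∑ z, _
      rw [← Equiv.sum_comp (Equiv.mulLeft y)]
      refine Finset.sum_congr rfl fun z _ => ?_
      simp [mul_assoc]
    letI : MulAction P S :=
      { smul := fun y s => ⟨fun x => s.1 (y⁻¹ * x), hSst y _ s.2⟩
        one_smul := fun s => Subtype.ext (funext fun x => by
          show s.1 (1⁻¹ * x) = s.1 x
          simp)
        mul_smul := fun y z s => Subtype.ext (funext fun x => by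
          show s.1 ((y * z)⁻¹ * x) = s.1 (z⁻¹ * (y⁻¹ * x))
          rw [mul_inv_rev, mul_assoc]) }
    have hcS : c ∈ S := ⟨Pi.single 1 1, funext fun x => by
      show ∑ y, _ = _
      rw [Finset.sum_eq_single 1]
      · simp
      · intro y _ hy
        simp [Pi.single_eq_of_ne hy]
      · simp⟩
    have hpS : p ∣ Nat.card S := by
      have h1 : p • (⟨c, hcS⟩ : S) = 0 := Subtype.ext (funext fun x => by simp [CharP.cast_eq_zero])
      have h2 : addOrderOf (⟨c, hcS⟩ : S) = p :=
        addOrderOf_eq_prime h1 fun h => hne (congrArg Subtype.val h)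
      rw [← h2]
      exact addOrderOf_dvd_natCard _
    obtain ⟨s, hs, hs0⟩ := hP.exists_fixed_point_of_prime_dvd_card_of_fixed_point S hpS
      (a := (0 : S)) fun y => Subtype.ext (funext fun x => rfl)
    have hconst : ∀ x, s.1 x = s.1 1 := fun x => by
      have h1 := congrFun (congrArg Subtype.val (hs x)) x
      show s.1 x = s.1 1
      rw [← h1]
      show s.1 (x⁻¹ * x) = _
      rw [inv_mul_cancel]
    have hs1 : s.1 1 ≠ 0 := fun h0 => hs0 (Subtype.ext (funext fun x => by
      show (0 : IsLocalRing.ResidueField V) = s.1 x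
      rw [hconst x, h0]))
    obtain ⟨e, he⟩ := s.2
    have h2 := hTrel e i j
    rw [he, Finset.sum_congr rfl fun x _ => by rw [hconst x], ← Finset.mul_sum] at h2
    refine hbig ?_
    have h3 : π ⟨(∑ x : P, act R x A) i j, by
        rw [Matrix.sum_apply]; exact sum_mem fun x _ => hmem x i j⟩ = 0 := by
      rw [← (mul_eq_zero.1 h2).resolve_left hs1, ← map_sum]
      congr 1
      exact Subtype.ext (by push_cast; rw [Matrix.sum_apply])
    exact (V.valuation_lt_one_iff _).1 ((IsLocalRing.residue_eq_zero_iff _).1 h3)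
  -- independence over ℂ
  have hli : LinearIndependent ℂ fun x : P => act R x A := by
    rw [Fintype.linearIndependent_iff]
    intro c hc
    by_contra hne
    push Not at hne
    obtain ⟨x₁, hx₁⟩ := hne
    obtain ⟨x₀, -, hmax⟩ := Finset.exists_max_image Finset.univ (fun x => V.valuation (c x))
      ⟨x₁, Finset.mem_univ _⟩
    have hx₀ : c x₀ ≠ 0 := fun h => hx₁ (by
      simpa [h] using hmax x₁ (Finset.mem_univ _))
    have hd : ∀ x, c x / c x₀ ∈ V := fun x => by
      rw [← V.valuation_le_one_iff, map_div₀]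
      exact div_le_one_of_le₀ (hmax x (Finset.mem_univ _)) zero_le
    have h0 := hres (fun x => π ⟨c x / c x₀, hd x⟩) fun a b => by
      show ∑ x, π _ * π _ = 0
      rw [show (0 : IsLocalRing.ResidueField V) = π 0 from (map_zero π).symm]
      simp only [← map_mul]
      rw [← map_sum]
      congr 1
      refine Subtype.ext ?_
      push_cast
      have e := congrFun (congrFun hc a) b
      simp only [Matrix.sum_apply, Matrix.smul_apply, smul_eq_mul, Matrix.zero_apply] at e
      simp only [div_mul_eq_mul_div, ← Finset.sum_div, e, zero_div]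
    have h1 := congrFun h0 x₀
    rw [show (⟨c x₀ / c x₀, hd x₀⟩ : V) = 1 from Subtype.ext (div_self hx₀), map_one] at h1
    exact one_ne_zero h1
  -- the bound is attained, so the commutant of `P` is one-dimensional
  have hcard : Fintype.card P = Module.finrank ℂ (Matrix ι ι ℂ) := by
    refine le_antisymm hli.fintype_card_le_finrank ?_
    rw [Module.finrank_matrix, Module.finrank_self, mul_one, ← sq, ← Nat.card_eq_fintype_card]
    simpa [Nat.card_eq_fintype_card] using hn
  have hne : Nonempty P := ⟨1⟩
  let b := basisOfLinearIndependentOfCardEqFinrank hli hcard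
  have hb : ∀ x, b x = act R x A := fun x => by
    rw [coe_basisOfLinearIndependentOfCardEqFinrank]
  have hfix : ∀ B : Matrix ι ι ℂ, (∀ y : P, act R y B = B) → ∃ c : ℂ, B = c • ∑ x : P, act R x A := by
    intro B hB
    refine ⟨b.repr B 1, ?_⟩
    have hB' : B = ∑ x, b.repr B x • act R (x : P) A := by
      conv_lhs => rw [← b.sum_repr B]
      simp only [hb]
    have key : ∀ y, b.repr B y = b.repr B 1 := by
      intro y
      have h1 := hB y
      conv_lhs at h1 => rw [hB', act_sum]
      simp only [act_smul, ← act_mul, ← Subgroup.coe_mul] at h1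
      have h3 := Equiv.sum_comp (Equiv.mulLeft y) fun x : P => b.repr B (y⁻¹ * x) • act R (x : G) A
      simp only [Equiv.coe_mulLeft, inv_mul_cancel_left] at h3
      rw [h3] at h1
      have h2 := congrArg (fun z => b.repr z y) h1
      simp only [← hb] at h2
      rw [Basis.repr_sum_self] at h2
      simpa using h2.symm
    conv_lhs => rw [hB']
    rw [Finset.smul_sum]
    exact Finset.sum_congr rfl fun x _ => by rw [key x]
  haveI : Nontrivial P := (Subgroup.nontrivial_iff_ne_bot P).2 hP1
  haveI := hP.center_nontrivial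
  obtain ⟨z, hz1⟩ := exists_ne (1 : Subgroup.center P)
  obtain ⟨c₀, hc₀⟩ := hfix 1 fun y => by simp [act, ← map_mul]
  obtain ⟨c₁, hc₁⟩ := hfix (R ((z : P) : G)) fun y => by
    have h := Subgroup.mem_center_iff.1 z.2 y
    rw [act, ← map_mul, ← map_mul, ← Subgroup.coe_inv, ← Subgroup.coe_mul, ← Subgroup.coe_mul, h,
      mul_inv_cancel_right]
  have hne0 : c₀ ≠ 0 := fun h => by
    rw [h, zero_smul] at hc₀
    have := congrFun (congrFun hc₀ i) i
    simp at this
  have hscal : R ((z : P) : G) = (c₁ / c₀) • (1 : Matrix ι ι ℂ) := by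
    rw [hc₁]
    conv_rhs => rw [hc₀, smul_smul, div_mul_cancel₀ _ hne0]
  have heq : act R ((z : P) : G) A = act R ((1 : P) : G) A := by
    rw [Subgroup.coe_one, act_one, act, hscal, Matrix.smul_mul, one_mul, Matrix.smul_mul,
      ← Matrix.mul_smul]
    have h1 : (c₁ / c₀) • R ((z : P) : G)⁻¹ = 1 := by
      have h2 : R ((z : P) : G) * R ((z : P) : G)⁻¹ = 1 := by rw [← map_mul, mul_inv_cancel, map_one]
      rwa [hscal, Matrix.smul_mul, one_mul] at h2
    rw [h1, mul_one]
  exact hz1 (Subtype.ext (hli.injective heq))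

/-- Matrices commuting with the normalizer of a Sylow subgroup with trivial intersections commute
with everything. -/
theorem fixed_of_fixed_normalizer [Finite G] (hp : V.valuation (p : ℂ) < 1)
    (hR : ∀ g i j, R g i j ∈ V) (P : Sylow p G)
    (hTI : ∀ g : G, g ∉ Subgroup.normalizer ((P : Subgroup G) : Set G) → ∀ x ∈ (P : Subgroup G),
      g⁻¹ * x * g ∈ (P : Subgroup G) → x = 1)
    (hn : Fintype.card ι ^ 2 ≤ Nat.card (P : Subgroup G)) {m : Matrix ι ι ℂ}
    (hm : ∀ g ∈ Subgroup.normalizer ((P : Subgroup G) : Set G), act R g m = m) (g : G) :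
    act R g m = m := by
  classical
  set N := Subgroup.normalizer ((P : Subgroup G) : Set G) with hN
  haveI := Fintype.ofFinite G
  haveI := Fintype.ofFinite (G ⧸ N)
  haveI := Fintype.ofFinite (P : Subgroup G)
  -- the translates of an `N`-fixed matrix
  let f : ∀ B : Matrix ι ι ℂ, (∀ g ∈ N, act R g B = B) → G ⧸ N → Matrix ι ι ℂ := fun B hB =>
    Quotient.lift (fun g => act R g B) fun a b hab' => by
      have hab : a⁻¹ * b ∈ N := QuotientGroup.leftRel_apply.1 hab'
      show act R a B = act R b B
      conv_rhs => rw [show b = a * (a⁻¹ * b) by group, act_mul, hB _ hab]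
  have hf : ∀ B hB (a : G), f B hB (a : G ⧸ N) = act R a B := fun B hB a => rfl
  have hfsmul : ∀ B hB (a : G) (q : G ⧸ N), f B hB (a • q) = act R a (f B hB q) := by
    intro B hB a q
    induction q using QuotientGroup.induction_on with
    | H x => rw [MulAction.Quotient.smul_coe, hf B hB, hf B hB, smul_eq_mul, act_mul]
  set S := ∑ q, f m hm q with hS
  have hSfix : ∀ a, act R a S = S := fun a => by
    rw [hS, act_sum]
    simp only [← hfsmul]
    exact Equiv.sum_comp (MulAction.toPerm a) (f m hm)
  set c : ℂ := (Fintype.card (G ⧸ N) : ℂ)⁻¹ with hc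
  set m' := m - c • S with hm'
  have hm'fix : ∀ g ∈ N, act R g m' = m' := fun a ha => by
    have e : act R a m' = act R a m - act R a (c • S) := by
      simp only [hm', act, Matrix.mul_sub, Matrix.sub_mul]
    rw [e, hm a ha, act_smul, hSfix]
  suffices h0 : m' = 0 by
    rw [hm', sub_eq_zero] at h0
    rw [h0, act_smul, hSfix]
  by_contra hne
  obtain ⟨⟨i₁, j₁⟩, h₁⟩ : ∃ x : ι × ι, m' x.1 x.2 ≠ 0 := by
    by_contra h
    push Not at h
    exact hne (Matrix.ext fun i j => h (i, j))
  obtain ⟨⟨i₀, j₀⟩, -, hmax⟩ := Finset.exists_max_image (Finset.univ : Finset (ι × ι))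
    (fun x => V.valuation (m' x.1 x.2)) ⟨(i₁, j₁), Finset.mem_univ _⟩
  have h₀ : m' i₀ j₀ ≠ 0 := fun h => h₁ (by
    simpa [h] using hmax (i₁, j₁) (Finset.mem_univ _))
  set B := (m' i₀ j₀)⁻¹ • m' with hB
  have hBfix : ∀ g ∈ N, act R g B = B := fun a ha => by rw [hB, act_smul, hm'fix a ha]
  have hBV : ∀ i j, B i j ∈ V := fun i j => by
    rw [← V.valuation_le_one_iff, hB, Matrix.smul_apply, smul_eq_mul, map_mul, map_inv₀,
      inv_mul_eq_div]
    exact div_le_one_of_le₀ (hmax (i, j) (Finset.mem_univ _)) zero_le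
  have hB1 : B i₀ j₀ = 1 := by simp [hB, inv_mul_cancel₀ h₀]
  have hsum0 : ∑ q, f B hBfix q = 0 := by
    have e : ∀ q, f B hBfix q = (m' i₀ j₀)⁻¹ • (f m hm q - c • S) := by
      intro q
      induction q using QuotientGroup.induction_on with
      | H x =>
        rw [hf B hBfix, hf m hm, hB, act_smul, hm']
        congr 1
        simp only [act, Matrix.mul_sub, Matrix.sub_mul]
        congr 1
        exact (act_smul R x c S).trans (by rw [hSfix])
    rw [Finset.sum_congr rfl fun q _ => e q, ← Finset.smul_sum, Finset.sum_sub_distrib, ← hS,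
      Finset.sum_const, Finset.card_univ, ← Nat.cast_smul_eq_nsmul ℂ, smul_smul, hc,
      mul_inv_cancel₀ (Nat.cast_ne_zero.2 Fintype.card_ne_zero), one_smul, sub_self, smul_zero]
  -- the cosets other than `N` fall into regular orbits of `P`
  set q₀ : G ⧸ N := ((1 : G) : G ⧸ N) with hq₀
  let X := {q : G ⧸ N // q ≠ q₀}
  have hPN : (P : Subgroup G) ≤ N := Subgroup.le_normalizer
  have hfix0 : ∀ x : (P : Subgroup G), (x : G) • q₀ = q₀ := fun x => by
    rw [hq₀, MulAction.Quotient.smul_coe, smul_eq_mul, mul_one, QuotientGroup.eq, mul_one]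
    exact inv_mem (hPN x.2)
  have hX : ∀ (x : (P : Subgroup G)) (q : G ⧸ N), q ≠ q₀ → (x : G) • q ≠ q₀ := fun x q hq h =>
    hq (smul_left_cancel (x : G) (h.trans (hfix0 x).symm))
  letI : MulAction (P : Subgroup G) X :=
    { smul := fun x q => ⟨(x : G) • q.1, hX x q.1 q.2⟩
      one_smul := fun q => Subtype.ext (one_smul G q.1)
      mul_smul := fun x y q => Subtype.ext (mul_smul (x : G) (y : G) q.1) }
  have hfree : ∀ (x : (P : Subgroup G)) (q : X), x • q = q → x = 1 := by
    rintro x ⟨q, hq⟩ hx
    induction q using QuotientGroup.induction_on with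
    | H a =>
      have ha : a ∉ N := fun ha => hq (by
        rw [hq₀, QuotientGroup.eq, mul_one]
        exact inv_mem ha)
      have hx' : ((x : G) * a : G ⧸ N) = (a : G ⧸ N) := congrArg Subtype.val hx
      rw [QuotientGroup.eq] at hx'
      have h1 : a⁻¹ * (x : G) * a ∈ N := by
        have := inv_mem hx'
        simpa [mul_assoc] using this
      have hpel : IsPGroup p (Subgroup.zpowers (a⁻¹ * (x : G) * a)) := by
        refine (P.2.map (MulAut.conj a⁻¹).toMonoidHom).to_le ?_
        rw [Subgroup.zpowers_le]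
        exact ⟨x, x.2, by simp⟩
      have h2 : a⁻¹ * (x : G) * a ∈ (P : Subgroup G) := by
        have h3 : Subgroup.zpowers (a⁻¹ * (x : G) * a) ≤ N := (Subgroup.zpowers_le).2 h1
        have h4 := P.3 (hpel.to_sup_of_normal_right' P.2 h3) le_sup_right
        have h5 : a⁻¹ * (x : G) * a ∈ Subgroup.zpowers (a⁻¹ * (x : G) * a) ⊔ (P : Subgroup G) :=
          Subgroup.mem_sup_left (Subgroup.mem_zpowers _)
        rwa [h4] at h5
      exact Subtype.ext (hTI a ha x x.2 h2)
  have hfX : ∀ (x : (P : Subgroup G)) (q : X),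
      f B hBfix (x • q).1 = act R (x : G) (f B hBfix q.1) := fun x q => hfsmul B hBfix x q.1
  have hsplit : f B hBfix q₀ + ∑ q : X, f B hBfix q.1 = 0 := by
    rw [← hsum0, ← Finset.add_sum_erase Finset.univ (f B hBfix) (Finset.mem_univ q₀)]
    congr 1
    exact (Finset.sum_subtype _ (by simp) _).symm
  have hsmall : V.valuation ((∑ q : X, f B hBfix q.1) i₀ j₀) < 1 := by
    rw [← Finset.sum_fiberwise Finset.univ (fun q => Quotient.mk (MulAction.orbitRel (P : Subgroup G) X) q),
      Matrix.sum_apply]
    refine Valuation.map_sum_lt _ one_ne_zero fun o _ => ?_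
    obtain ⟨q, rfl⟩ := Quotient.exists_rep o
    have e : ∑ r ∈ Finset.univ.filter (fun r => Quotient.mk (MulAction.orbitRel (P : Subgroup G) X) r =
        Quotient.mk (MulAction.orbitRel (P : Subgroup G) X) q), f B hBfix r.1 =
        ∑ x : (P : Subgroup G), act R (x : G) (f B hBfix q.1) := by
      symm
      refine Finset.sum_bij (fun x _ => x • q) (fun x _ => ?_) (fun x _ y _ e => ?_)
        (fun r hr => ?_) fun x _ => (hfX x q).symm
      · exact Finset.mem_filter.2 ⟨Finset.mem_univ _, Quotient.sound ⟨x, rfl⟩⟩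
      · have h := hfree (y⁻¹ * x) q (by rw [mul_smul, e, inv_smul_smul])
        rw [inv_mul_eq_one] at h
        exact h.symm
      · obtain ⟨x, hx⟩ := Quotient.exact (Finset.mem_filter.1 hr).2
        exact ⟨x, Finset.mem_univ _, hx⟩
    rw [e]
    refine trace_small R hp hR _ P.2 ?_ hn (fun a b => ?_) i₀ j₀
    · intro hbot
      refine q.2 ?_
      obtain ⟨a, ha⟩ := QuotientGroup.mk_surjective q.1
      rw [← ha, hq₀, QuotientGroup.eq, mul_one]
      refine inv_mem ?_
      rw [hN, Subgroup.mem_normalizer_iff]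
      intro y
      simp [hbot]
    · obtain ⟨a', ha'⟩ := QuotientGroup.mk_surjective q.1
      rw [← ha', hf B hBfix, act, Matrix.mul_apply]
      refine sum_mem fun k _ => mul_mem ?_ (hR _ _ _)
      rw [Matrix.mul_apply]
      exact sum_mem fun l _ => mul_mem (hR _ _ _) (hBV _ _)
  have h5 := congrFun (congrFun hsplit i₀) j₀
  rw [Matrix.add_apply, show f B hBfix q₀ = B from act_one R B, hB1, Matrix.zero_apply,
    add_eq_zero_iff_eq_neg'] at h5
  rw [h5, Valuation.map_neg, map_one] at hsmall
  exact lt_irrefl _ hsmall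

end CfsgLib.CharApps.TILattice
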