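import Mathlib
import Cfsg.Agent.Lib.FgsC.HallHigmanB
import Cfsg.Agent.Lib.Coprime.Action
import Cfsg.Agent.Lib.CharsMore.CoherenceDescent
import Cfsg.Agent.Lib.CharApps.Basic
import Cfsg.Agent.Lib.Chars.Degree
import Cfsg.Agent.Lib.Chars.Quotient

/-!
# Faithful characters of small degree and trivial-intersection Sylow subgroups

A `p`-group acting on a `q`-group `Q = [Q, P]` with `[Q', P] = 1` and all nontrivial elements having
the same fixed points moves or ramifies each nonprincipal character so much that `|P| < d ^ 2` for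
every character `d` of the product not trivial on `Q`.
-/

set_option autoImplicit false
set_option linter.style.haveILetI false
set_option linter.unusedSectionVars false

namespace CfsgLib.CharApps.TISylowDegree

open Cfsg CfsgLib
open scoped ComplexConjugate commutatorElement Pointwise

section Ramify

variable {Q : Type*} [Group Q] [Fintype Q]

/-- If the commutators are central, a character vanishes outside the centre modulo its kernel, so
the square of its degree is the index of that subgroup. -/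
theorem exists_ramified (hc : commutator Q ≤ Subgroup.center Q) (θ : IrrCharacter Q) :
    ∃ R : Subgroup Q, Subgroup.center Q ≤ R ∧ (∀ r, r ∈ R ↔ ∀ c, (θ : Q → ℂ) ⁅r, c⁆ = (θ : Q → ℂ) 1) ∧
      charDegree (θ : Q → ℂ) ^ 2 = R.index := by
  classical
  haveI := charKer_normal θ
  let R : Subgroup Q := (Subgroup.center (Q ⧸ charKer θ)).comap (QuotientGroup.mk' (charKer θ))
  have hR : ∀ r, r ∈ R ↔ ∀ c, (θ : Q → ℂ) ⁅r, c⁆ = (θ : Q → ℂ) 1 := by
    intro r
    show QuotientGroup.mk' (charKer θ) r ∈ Subgroup.center _ ↔ _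
    rw [Subgroup.mem_center_iff]
    constructor
    · intro h c
      have h1 : QuotientGroup.mk' (charKer θ) ⁅r, c⁆ = 1 := by
        rw [map_commutatorElement, commutatorElement_eq_one_iff_mul_comm]
        exact (h _).symm
      exact (QuotientGroup.eq_one_iff _).mp h1
    · intro h q
      obtain ⟨c, rfl⟩ := QuotientGroup.mk'_surjective (charKer θ) q
      refine (commutatorElement_eq_one_iff_mul_comm.mp ?_).symm
      rw [← map_commutatorElement]
      exact (QuotientGroup.eq_one_iff _).mpr (h c)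
  refine ⟨R, fun z hz => (hR z).mpr fun c => ?_, hR, ?_⟩
  · rw [show ⁅z, c⁆ = 1 from
      commutatorElement_eq_one_iff_mul_comm.mpr (Subgroup.mem_center_iff.mp hz c).symm]
  have hθ0 : (θ : Q → ℂ) 1 ≠ 0 := Chars.irr_degree_ne_zero θ.2
  have hvan : ∀ r, r ∉ R → (θ : Q → ℂ) r = 0 := by
    intro r hr
    rw [hR] at hr
    push Not at hr
    obtain ⟨c, hc'⟩ := hr
    obtain ⟨n, ρ, hρ, hρθ⟩ := θ.2
    haveI := hρ
    set k := ⁅r, c⁆ with hk
    obtain ⟨w, hw⟩ := Chars.exists_scalar_of_mem_center ρ k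
      (hc (Subgroup.commutator_mem_commutator (Subgroup.mem_top r) (Subgroup.mem_top c)))
    have hmul : ∀ y, (θ : Q → ℂ) (k * y) = w * (θ : Q → ℂ) y := fun y => by
      rw [← hρθ, Representation.character, Representation.character, map_mul, hw,
        Module.End.mul_eq_comp, LinearMap.smul_comp, LinearMap.id_comp, map_smul, smul_eq_mul]
    have h1 : (θ : Q → ℂ) r = w * (θ : Q → ℂ) r := by
      conv_lhs => rw [show r = k * (c * r * c⁻¹) by rw [hk, commutatorElement_def]; group]
      rw [hmul, Chars.isClassFunction_irr θ r c]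
    have h2 : (w - 1) * (θ : Q → ℂ) r = 0 := by linear_combination -h1
    refine (mul_eq_zero.mp h2).resolve_left fun h0 => hc' ?_
    have h3 := hmul 1
    rw [mul_one, sub_eq_zero.mp h0, one_mul] at h3
    exact h3
  have hnorm := (Chars.isIrrCharacter_iff_inner_self.1 θ.2).2
  rw [Chars.inner_def, inv_mul_eq_iff_eq_mul₀ (Chars.card_ne_zero Q), mul_one] at hnorm
  rw [← Finset.sum_subset (Finset.subset_univ (Finset.univ.filter (· ∈ R)))
    (fun x _ hx => by rw [hvan x (by simpa using hx), zero_mul]),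
    Finset.sum_congr rfl (g := fun _ => (charDegree (θ : Q → ℂ) : ℂ) ^ 2) (fun x hx => by
      rw [Complex.mul_conj', CharsMore.norm_eq_of_commutes_mod_ker θ.2 (d := x) fun c =>
        (hR x).mp (Finset.mem_filter.mp hx).2 c]
      norm_num),
    Finset.sum_const, ← Fintype.card_subtype, ← Nat.card_eq_fintype_card, nsmul_eq_mul] at hnorm
  change (Nat.card R : ℂ) * _ = _ at hnorm
  have h4 : Nat.card R * charDegree (θ : Q → ℂ) ^ 2 = Nat.card R * R.index := by
    rw [R.card_mul_index]
    exact_mod_cast hnorm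
  exact Nat.eq_of_mul_eq_mul_left Nat.card_pos h4

end Ramify

variable {G : Type*} [Group G] [Finite G]

theorem card_lt_degree_sq {p q : ℕ} [Fact p.Prime] {P Q : Subgroup G}
    (hPQ : P ≤ Subgroup.normalizer (Q : Set G)) (hP : IsPGroup p P) (hP1 : P ≠ ⊥)
    (hQ : IsPGroup q Q) (hcop : (Nat.card P).Coprime (Nat.card Q)) [Fact q.Prime]
    (hQP : ⁅Q, P⁆ = Q) (hQQ : ⁅⁅Q, Q⁆, P⁆ = ⊥)
    (hfix : ∀ x ∈ P, x ≠ 1 → ∀ k ∈ Q, x * k = k * x → k ∈ Subgroup.centralizer (P : Set G))
    {χ : G → ℂ} (hχ : IsCharacter G χ) (hne : ∃ k ∈ Q, χ k ≠ χ 1) :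
    Nat.card P < charDegree χ ^ 2 := by
  classical
  haveI := Fintype.ofFinite G
  haveI := Fintype.ofFinite Q
  haveI := Fintype.ofFinite P
  haveI := Chars.irrFintype Q
  haveI : Group.IsNilpotent P := hP.isNilpotent
  have hPs : Group.IsSolvable P := inferInstance
  -- fixed points are central and the derived subgroup is central
  have hQQC : ⁅⁅Q, Q⁆, Q⁆ = ⊥ := by
    have h1 : ⁅⁅P, ⁅Q, Q⁆⁆, Q⁆ = ⊥ := by
      rw [Subgroup.commutator_comm P, hQQ, Subgroup.commutator_bot_left]
    have h2 : ⁅⁅⁅Q, Q⁆, Q⁆, P⁆ = ⊥ := le_bot_iff.mp (hQQ ▸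
      Subgroup.commutator_mono (Subgroup.commutator_mono (Subgroup.commutator_le_self Q) le_rfl) le_rfl)
    have h3 : ⁅⁅Q, P⁆, ⁅Q, Q⁆⁆ = ⊥ := Subgroup.commutator_commutator_eq_bot_of_rotate h1 h2
    rwa [hQP, Subgroup.commutator_comm] at h3
  have hcen : commutator Q ≤ Subgroup.center Q := by
    refine fun z hz => Subgroup.mem_center_iff.mpr fun c => Subtype.ext ?_
    have hz' : (z : G) ∈ ⁅Q, Q⁆ := by
      rw [← Subgroup.map_subtype_commutator]
      exact Subgroup.mem_map_of_mem Q.subtype hz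
    have := Subgroup.commutator_mem_commutator hz' c.2
    rw [hQQC, Subgroup.mem_bot] at this
    exact (commutatorElement_eq_one_iff_mul_comm.mp this).symm
  set C := Q ⊓ Subgroup.centralizer (P : Set G) with hC
  have hCZ : ∀ k : Q, (k : G) ∈ Subgroup.centralizer (P : Set G) → k ∈ Subgroup.center Q := by
    intro k hk
    have h1 : ⁅⁅C, P⁆, Q⁆ = ⊥ := by
      rw [Subgroup.commutator_eq_bot_iff_le_centralizer.mpr inf_le_right,
        Subgroup.commutator_bot_left]
    have h2 : ⁅⁅Q, C⁆, P⁆ = ⊥ :=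
      le_bot_iff.mp (hQQ ▸ Subgroup.commutator_mono (Subgroup.commutator_mono le_rfl inf_le_left) le_rfl)
    have h3 : ⁅⁅P, Q⁆, C⁆ = ⊥ := Subgroup.commutator_commutator_eq_bot_of_rotate h2 h1
    rw [Subgroup.commutator_comm P, hQP] at h3
    refine Subgroup.mem_center_iff.mpr fun c => Subtype.ext ?_
    have := Subgroup.commutator_mem_commutator c.2 (show (k : G) ∈ C from ⟨k.2, hk⟩)
    rw [h3, Subgroup.mem_bot] at this
    exact commutatorElement_eq_one_iff_mul_comm.mp this
  -- a nonprincipal constituent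
  set res : Q → ℂ := fun k => χ k with hres
  have hresc : IsCharacter Q res := Chars.isCharacter_restrict Q hχ
  have hexp := Chars.classFun_eq_sum (Chars.isClassFunction_of_isCharacter hresc)
  obtain ⟨θ, hθ, hθ1⟩ : ∃ θ : IrrCharacter Q, classInner res (θ : Q → ℂ) ≠ 0 ∧
      θ ≠ Chars.principal Q := by
    by_contra hno
    push Not at hno
    obtain ⟨k, hk, hk1⟩ := hne
    apply hk1
    have h : ∀ u : Q, res u = classInner res (Chars.principal Q : Q → ℂ) := by
      intro u
      conv_lhs => rw [hexp]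
      rw [Finset.sum_apply, Finset.sum_eq_single (Chars.principal Q)
        (fun b _ hb => by
          rw [Pi.smul_apply, show classInner res (b : Q → ℂ) = 0 from
            by_contra fun h0 => hb (hno b h0), zero_smul])
        (fun h => absurd (Finset.mem_univ _) h), Pi.smul_apply, Chars.principal_apply, smul_eq_mul,
        mul_one]
    exact (h ⟨k, hk⟩).trans (h 1).symm
  -- conjugation by `P`
  let cj : P → (Q →* Q) := fun z =>
    (Subgroup.normalizerMonoidHom Q ⟨(z : G), hPQ z.2⟩).toMonoidHom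
  have hcj : ∀ (z : P) (k : Q), ((cj z k : Q) : G) = z * k * (z : G)⁻¹ := fun z k => rfl
  have hcjmul : ∀ (a b : P) (k : Q), cj (a * b) k = cj a (cj b k) := fun a b k =>
    Subtype.ext (by rw [hcj, hcj, hcj]; simp [mul_assoc])
  have hcjone : ∀ k : Q, cj 1 k = k := fun k => Subtype.ext (by rw [hcj]; simp)
  have hcjinv : ∀ (a : P) (k : Q), cj a (cj a⁻¹ k) = k := fun a k => by
    rw [← hcjmul, mul_inv_cancel, hcjone]
  let S : Subgroup P :=
    { carrier := {z | ∀ k, (θ : Q → ℂ) (cj z k) = (θ : Q → ℂ) k}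
      one_mem' := fun k => by rw [hcjone]
      mul_mem' := fun {a b} ha hb k => by rw [hcjmul, ha, hb]
      inv_mem' := fun {a} ha k => by rw [← ha (cj a⁻¹ k), hcjinv] }
  have hsurj : ∀ z : P, Function.Surjective (cj z) := fun z k => ⟨cj z⁻¹ k, hcjinv z k⟩
  let orb : P → IrrCharacter Q := fun z =>
    ⟨fun k => (θ : Q → ℂ) (cj z⁻¹ k), Chars.isIrrCharacter_comp (cj z⁻¹) (hsurj _) θ.2⟩
  -- the orbit bounds the degree
  obtain ⟨D, hD⟩ := Chars.character_degree_nat hχ
  have hdeg : charDegree χ = D := by simp [charDegree, hD]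
  have hbound : S.index * charDegree (θ : Q → ℂ) ≤ D := by
    obtain ⟨m, hm⟩ : ∃ m : IrrCharacter Q → ℕ, ∀ η : IrrCharacter Q,
        classInner res (η : Q → ℂ) = (m η : ℂ) :=
      ⟨fun η => (Chars.inner_char_nat hresc (Chars.isCharacter_of_irr η.2)).choose,
        fun η => (Chars.inner_char_nat hresc (Chars.isCharacter_of_irr η.2)).choose_spec⟩
    have hsum : D = ∑ η : IrrCharacter Q, m η * charDegree (η : Q → ℂ) := by
      have h := congrFun hexp 1
      simp only [Finset.sum_apply, Pi.smul_apply, smul_eq_mul, hm, deg_eq] at h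
      have h' : (D : ℂ) = ∑ η : IrrCharacter Q, (m η : ℂ) * (charDegree (η : Q → ℂ) : ℂ) := by
        rw [← hD, ← h]
        rfl
      exact_mod_cast h'
    have horb : ∀ z : P, 1 ≤ m (orb z) ∧ charDegree (orb z : Q → ℂ) = charDegree (θ : Q → ℂ) := by
      intro z
      constructor
      · refine Nat.pos_of_ne_zero fun h0 => hθ ?_
        have h1 := hm (orb z)
        rw [h0, Nat.cast_zero] at h1
        rw [← h1, Chars.inner_def, Chars.inner_def]
        refine congrArg _ (Fintype.sum_bijective (cj z) ⟨fun a b h => ?_, hsurj z⟩ _ _ fun k => ?_)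
        · have h' := congrArg (cj z⁻¹) h
          rwa [← hcjmul, ← hcjmul, inv_mul_cancel, hcjone, hcjone] at h'
        · show _ = res (cj z k) * conj ((θ : Q → ℂ) (cj z⁻¹ (cj z k)))
          rw [← hcjmul, inv_mul_cancel, hcjone]
          congr 1
          exact (Chars.isClassFunction_of_isCharacter hχ (k : G) (z : G)).symm
      · simp [charDegree, orb]
    let f : P ⧸ S → IrrCharacter Q := Quotient.lift orb fun a b hab => Subtype.ext (funext fun k => by
      have h : a⁻¹ * b ∈ S := QuotientGroup.leftRel_apply.mp hab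
      show (θ : Q → ℂ) (cj a⁻¹ k) = (θ : Q → ℂ) (cj b⁻¹ k)
      rw [show a⁻¹ = (a⁻¹ * b) * b⁻¹ by group, hcjmul]
      exact h _)
    have hf : Function.Injective f := by
      intro x y
      induction x using QuotientGroup.induction_on with
      | H a =>
        induction y using QuotientGroup.induction_on with
        | H b =>
          intro h
          refine QuotientGroup.eq.mpr (fun k => ?_)
          have h1 := congrFun (congrArg Subtype.val (h : orb a = orb b)) (cj b k)
          change (θ : Q → ℂ) (cj a⁻¹ (cj b k)) = (θ : Q → ℂ) (cj b⁻¹ (cj b k)) at h1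
          rwa [← hcjmul, ← hcjmul, inv_mul_cancel, hcjone] at h1
    haveI := Fintype.ofFinite (P ⧸ S)
    calc S.index * charDegree (θ : Q → ℂ)
        = ∑ x ∈ Finset.univ.image f, charDegree (θ : Q → ℂ) := by
          rw [Finset.sum_const, Finset.card_image_of_injective _ hf, Finset.card_univ,
            ← Nat.card_eq_fintype_card, Subgroup.index_eq_card, smul_eq_mul]
      _ ≤ ∑ x ∈ Finset.univ.image f, m x * charDegree (x : Q → ℂ) := by
          refine Finset.sum_le_sum fun x hx => ?_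
          obtain ⟨y, -, rfl⟩ := Finset.mem_image.mp hx
          induction y using QuotientGroup.induction_on with
          | H a =>
            show _ ≤ m (orb a) * charDegree (orb a : Q → ℂ)
            rw [(horb a).2]
            exact Nat.le_mul_of_pos_left _ (horb a).1
      _ ≤ D := by
          rw [hsum]
          exact Finset.sum_le_sum_of_subset (Finset.subset_univ _)
  have hidx := S.index_mul_card
  have hS0 : 0 < S.index := Nat.pos_of_ne_zero Subgroup.index_ne_zero_of_finite
  have hθpos : 0 < charDegree (θ : Q → ℂ) := deg_pos θ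
  have hsq : S.index ^ 2 * charDegree (θ : Q → ℂ) ^ 2 ≤ D ^ 2 := by
    rw [← mul_pow]
    exact Nat.pow_le_pow_left hbound 2
  rw [hdeg]
  by_cases hS : S = ⊥
  · have h1 : 1 < Nat.card P := Finite.one_lt_card_iff_nontrivial.mpr
      ((Subgroup.nontrivial_iff_ne_bot P).mpr hP1)
    rw [hS, Subgroup.index_bot] at hsq
    calc Nat.card P < Nat.card P ^ 2 * 1 := by nlinarith
      _ ≤ Nat.card P ^ 2 * charDegree (θ : Q → ℂ) ^ 2 :=
          Nat.mul_le_mul_left _ (Nat.one_le_pow _ _ hθpos)
      _ ≤ _ := hsq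
  -- a nontrivial stabilizer forces ramification
  obtain ⟨R, hZR, hR, hdR⟩ := exists_ramified hcen θ
  have hfixA : ∀ z : P, z ≠ 1 → ∀ k : Q, cj z k = k → k ∈ Subgroup.center Q := by
    intro z hz k hk
    refine hCZ k (hfix z z.2 (fun h => hz (Subtype.ext h)) k k.2 ?_)
    have := congrArg Subtype.val hk
    rw [hcj] at this
    exact mul_inv_eq_iff_eq_mul.mp this
  have hRtop : R ≠ ⊤ := by
    intro htop
    rw [htop, Subgroup.index_top] at hdR
    have hd1 : (θ : Q → ℂ) 1 = 1 := by
      rw [deg_eq, Nat.cast_eq_one]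
      exact (Nat.pow_eq_one.mp hdR).resolve_right (by norm_num)
    obtain ⟨lam, hlam⟩ := Chars.exists_hom_of_degree_one (Chars.isCharacter_of_irr θ.2) hd1
    haveI : Nontrivial S := (Subgroup.nontrivial_iff_ne_bot S).mpr hS
    obtain ⟨⟨z, hz⟩, hz1⟩ := exists_ne (1 : S)
    have hz0 : z ≠ 1 := fun h => hz1 (Subtype.ext h)
    have hlamz : ∀ k, lam (cj z k) = lam k := fun k => Units.ext (by
      have := hz k
      simpa [hlam] using this)
    -- the norm over `P` kills `[Q, P] = Q`
    let N : Q →* ℂˣ := ∏ w : P, lam.comp (cj w)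
    have hN : ∀ k, N k = 1 := by
      intro k
      have hle : ⁅Q, P⁆ ≤ N.ker.map Q.subtype := by
        refine Subgroup.commutator_le.mpr fun a ha b hb => ?_
        refine ⟨⟨a, ha⟩ * (cj ⟨b, hb⟩ ⟨a, ha⟩)⁻¹, ?_, ?_⟩
        · rw [SetLike.mem_coe, MonoidHom.mem_ker, map_mul, map_inv, mul_inv_eq_one]
          simp only [N, MonoidHom.finset_prod_apply, MonoidHom.comp_apply]
          refine (Fintype.prod_equiv (Equiv.mulRight (⟨b, hb⟩ : P)) _ _ fun w => ?_).symm
          rw [Equiv.coe_mulRight, hcjmul]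
        · show a * (b * a * b⁻¹)⁻¹ = ⁅a, b⁆
          rw [commutatorElement_def]
          group
      obtain ⟨k', hk', hkk⟩ := hle (show (k : G) ∈ ⁅Q, P⁆ by rw [hQP]; exact k.2)
      rw [show k = k' from Subtype.ext hkk.symm]
      exact hk'
    have hlamC : ∀ c : Q, (c : G) ∈ Subgroup.centralizer (P : Set G) → lam c = 1 := by
      intro c hc
      have h1 := hN c
      simp only [N, MonoidHom.finset_prod_apply, MonoidHom.comp_apply] at h1
      rw [Finset.prod_congr rfl (g := fun _ => lam c) (fun w _ => by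
        congr 1
        refine Subtype.ext ?_
        rw [hcj, Subgroup.mem_centralizer_iff.mp hc w w.2, mul_inv_cancel_right]),
        Finset.prod_const, Finset.card_univ, ← Nat.card_eq_fintype_card] at h1
      rw [← orderOf_eq_one_iff]
      exact Nat.eq_one_of_dvd_coprimes hcop (orderOf_dvd_of_pow_eq_one h1)
        ((orderOf_map_dvd lam c).trans (orderOf_dvd_natCard c))
    refine hθ1 (Subtype.ext (funext fun k => ?_))
    rw [hlam, Chars.principal_apply]
    show (lam k : ℂ) = 1
    set A : Subgroup G := Subgroup.zpowers (z : G) with hA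
    have hAP : A ≤ P := Subgroup.zpowers_le.mpr z.2
    have hAQ : A ≤ Subgroup.normalizer (Q : Set G) := hAP.trans hPQ
    obtain ⟨c, hc, hkc⟩ := Coprime.exists_commutator_mul_centralizer hAQ
      (hcop.coprime_dvd_left (Subgroup.card_dvd_of_le hAP))
      (Or.inl (Coprime.isSolvable_of_le hAP hPs)) k.2
    have hle : ⁅Q, A⁆ ≤ lam.ker.map Q.subtype := by
      refine Subgroup.commutator_le.mpr fun a ha b hb => ?_
      have hb' : (⟨b, hAP hb⟩ : P) ∈ S := by
        obtain ⟨j, hj⟩ := Subgroup.mem_zpowers_iff.mp hb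
        have : (⟨b, hAP hb⟩ : P) = z ^ j := Subtype.ext (by rw [SubgroupClass.coe_zpow, hj])
        rw [this]
        exact S.zpow_mem hz j
      refine ⟨⟨a, ha⟩ * (cj ⟨b, hAP hb⟩ ⟨a, ha⟩)⁻¹, ?_, ?_⟩
      · rw [SetLike.mem_coe, MonoidHom.mem_ker, map_mul, map_inv, mul_inv_eq_one]
        refine Units.ext ?_
        have := hb' ⟨a, ha⟩
        simpa [hlam] using this.symm
      · show a * (b * a * b⁻¹)⁻¹ = ⁅a, b⁆
        rw [commutatorElement_def]
        group
    obtain ⟨k', hk', hkk⟩ := hle hkc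
    have hc1 : lam ⟨c, hc.1⟩ = 1 := hlamC _ (hfix z z.2 (fun h => hz0 (Subtype.ext h)) c hc.1
      (Subgroup.mem_centralizer_iff.mp hc.2 z (Subgroup.mem_zpowers _)))
    have e : k = k' * ⟨c, hc.1⟩ := Subtype.ext (by
      rw [Subgroup.coe_mul, show (k' : G) = (k : G) * c⁻¹ from hkk, inv_mul_cancel_right])
    rw [e, map_mul, show lam k' = 1 from hk', hc1, one_mul, Units.val_one]
  -- `S` moves every nontrivial coset of `R`
  obtain ⟨r, -, hr⟩ := SetLike.exists_of_lt (lt_top_iff_ne_top.mpr hRtop)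
  have hRcj : ∀ z ∈ S, ∀ k, k ∈ R → cj z k ∈ R := by
    intro z hz k hk
    rw [hR] at hk ⊢
    intro c
    rw [show ⁅cj z k, c⁆ = cj z ⁅k, cj z⁻¹ c⁆ by rw [map_commutatorElement, hcjinv], hz, hk]
  haveI : R.Normal := Subgroup.Normal.of_commutator_le Q (hcen.trans hZR)
  have hfree : ∀ z ∈ S, z ≠ 1 → cj z r * r⁻¹ ∉ R := by
    intro z hz hz0 hmem
    apply hr
    set A : Subgroup G := Subgroup.zpowers (z : G) with hA
    have hAP : A ≤ P := Subgroup.zpowers_le.mpr z.2
    have hAR : A ≤ Subgroup.normalizer ((R.map Q.subtype : Subgroup G) : Set G) := by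
      intro a ha
      have ha' : ∀ b : P, (b : G) ∈ A → b ∈ S := fun b hb => by
        obtain ⟨j, hj⟩ := Subgroup.mem_zpowers_iff.mp hb
        rw [show b = z ^ j from Subtype.ext (by rw [SubgroupClass.coe_zpow, hj])]
        exact S.zpow_mem hz j
      rw [Subgroup.mem_normalizer_iff]
      intro g
      constructor
      · rintro ⟨u, hu, rfl⟩
        exact ⟨cj ⟨a, hAP ha⟩ u, hRcj _ (ha' _ ha) u hu, rfl⟩
      · rintro ⟨u, hu, hue⟩
        refine ⟨cj ⟨a⁻¹, hAP (A.inv_mem ha)⟩ u, hRcj _ (ha' _ (A.inv_mem ha)) u hu, ?_⟩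
        show a⁻¹ * (u : G) * a⁻¹⁻¹ = g
        rw [show ((u : Q) : G) = a * g * a⁻¹ from hue]
        group
    let T : Subgroup P :=
      { carrier := {b | b ∈ S ∧ QuotientGroup.mk' R (cj b r) = QuotientGroup.mk' R r}
        one_mem' := ⟨S.one_mem, by rw [hcjone]⟩
        mul_mem' := fun {a b} ⟨ha, hae⟩ ⟨hb, hbe⟩ => ⟨S.mul_mem ha hb, by
          rw [hcjmul, ← hae]
          refine QuotientGroup.eq.mpr ?_
          rw [← map_inv, ← map_mul]
          exact hRcj _ ha _ (QuotientGroup.eq.mp hbe)⟩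
        inv_mem' := fun {a} ⟨ha, hae⟩ => ⟨S.inv_mem ha, by
          refine (QuotientGroup.eq.mpr ?_).symm
          have h := hRcj _ (S.inv_mem ha) _ (QuotientGroup.eq.mp hae)
          rw [map_mul, map_inv, ← hcjmul, inv_mul_cancel, hcjone] at h
          exact h⟩ }
    have hzT : Subgroup.zpowers z ≤ T := Subgroup.zpowers_le.mpr ⟨hz, by
      rw [← mul_inv_eq_one, ← map_inv, ← map_mul]
      exact (QuotientGroup.eq_one_iff _).mpr hmem⟩
    have hfixr : ∀ a ∈ A, (r : G)⁻¹ * (a * r * a⁻¹) ∈ R.map Q.subtype := by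
      intro a ha
      obtain ⟨j, hj⟩ := Subgroup.mem_zpowers_iff.mp ha
      have hb : (⟨a, hAP ha⟩ : P) ∈ T := hzT (Subgroup.mem_zpowers_iff.mpr
        ⟨j, Subtype.ext (by rw [SubgroupClass.coe_zpow, hj])⟩)
      exact ⟨r⁻¹ * cj ⟨a, hAP ha⟩ r, QuotientGroup.eq.mp hb.2.symm, rfl⟩
    obtain ⟨c, hc, hrc⟩ := Coprime.exists_centralizing_in_coset hAR
      ((hcop.coprime_dvd_left (Subgroup.card_dvd_of_le hAP)).coprime_dvd_right
        (Subgroup.card_dvd_of_le (Subgroup.map_subtype_le R)))
      (Or.inl (Coprime.isSolvable_of_le hAP hPs)) hfixr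
    obtain ⟨u, hu, hue⟩ := hrc
    have hcQ : c = ((r * u : Q) : G) := by
      rw [Subgroup.coe_mul, show (u : G) = (r : G)⁻¹ * c from hue, mul_inv_cancel_left]
    have hru : r * u ∈ R := hZR (hfixA z hz0 _ (Subtype.ext (by
      rw [hcj, ← hcQ, Subgroup.mem_centralizer_iff.mp hc z (Subgroup.mem_zpowers _),
        mul_inv_cancel_right])))
    exact (R.mul_mem_cancel_right hu).mp hru
  -- counting
  have hcount : Nat.card S + 1 ≤ R.index := by
    haveI := Fintype.ofFinite S
    haveI := Fintype.ofFinite (Q ⧸ R)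
    let F : Option S → Q ⧸ R := fun o => o.elim 1 fun z => QuotientGroup.mk' R (cj z.1 r)
    have hne1 : ∀ z : S, QuotientGroup.mk' R (cj z.1 r) ≠ 1 := by
      intro z h
      have h1 := hRcj _ (S.inv_mem z.2) _ ((QuotientGroup.eq_one_iff _).mp h)
      rw [← hcjmul, inv_mul_cancel, hcjone] at h1
      exact hr h1
    have hF : Function.Injective F := by
      rintro (_ | a) (_ | b) h
      · rfl
      · exact absurd h.symm (hne1 b)
      · exact absurd h (hne1 a)
      · refine congrArg some (Subtype.ext (inv_mul_eq_one.mp (by_contra fun hab => ?_)))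
        have h1 := hRcj _ (S.inv_mem a.2) _ (QuotientGroup.eq.mp h)
        rw [map_mul, map_inv, ← hcjmul, ← hcjmul, inv_mul_cancel, hcjone] at h1
        refine hfree _ (S.mul_mem (S.inv_mem a.2) b.2) hab ?_
        have h2 := (inferInstance : R.Normal).conj_mem _ h1 r
        simpa [mul_assoc] using h2
    have := Fintype.card_le_of_injective F hF
    rw [Fintype.card_option, ← Nat.card_eq_fintype_card, ← Nat.card_eq_fintype_card,
      ← Subgroup.index_eq_card] at this
    exact this
  rw [hdR] at hsq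
  calc Nat.card P = S.index * Nat.card S := hidx.symm
    _ < S.index * (Nat.card S + 1) := Nat.mul_lt_mul_of_pos_left (Nat.lt_succ_self _) hS0
    _ ≤ S.index ^ 2 * R.index := Nat.mul_le_mul (Nat.le_self_pow (by norm_num) _) hcount
    _ ≤ D ^ 2 := hsq

/-- Leonard's bound for `p`-solvable groups. -/
theorem normal_of_faithful {p : ℕ} [Fact p.Prime] (hsolv : IsPSolvable p G) (P : Sylow p G)
    (hTI : ∀ g : G, g ∉ Subgroup.normalizer ((P : Subgroup G) : Set G) →
      (P : Subgroup G) ⊓ (MulAut.conj g • (P : Subgroup G)) = ⊥)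
    {χ : G → ℂ} (hχ : IsCharacter G χ) (hfaith : ∀ g : G, χ g = χ 1 → g = 1)
    (hdeg : charDegree χ ^ 2 ≤ Nat.card (P : Subgroup G)) : (P : Subgroup G).Normal := by
  classical
  by_contra hnn
  have hNtop : Subgroup.normalizer ((P : Subgroup G) : Set G) ≠ ⊤ := fun h =>
    hnn (Subgroup.normalizer_eq_top_iff.mp h)
  obtain ⟨g, -, hg⟩ := SetLike.exists_of_lt (lt_top_iff_ne_top.mpr hNtop)
  have hO : pCore p G = ⊥ := by
    rw [eq_bot_iff, ← hTI g hg]
    have h1 : ∀ R : Sylow p G, pCore p G ≤ (R : Subgroup G) := fun R => Base.pCore_le_sylow R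
    refine le_inf (h1 P) ?_
    have h2 := h1 (g • P)
    rwa [Sylow.coe_subgroup_smul] at h2
  have hP1 : (P : Subgroup G) ≠ ⊥ := fun h => hnn (by rw [h]; infer_instance)
  set K := pPrimeCore p G with hK
  haveI : K.Normal := inferInstance
  obtain ⟨a, ha⟩ := P.2.exists_card_eq
  have hcop : (Nat.card (P : Subgroup G)).Coprime (Nat.card K) := by
    rw [ha]
    exact (Base.pPrimeCore_coprime p G).symm.pow_left a
  have hPK : (P : Subgroup G) ≤ Subgroup.normalizer (K : Set G) := by
    rw [Subgroup.normalizer_eq_top K]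
    exact le_top
  haveI : Group.IsNilpotent (P : Subgroup G) := P.2.isNilpotent
  have hfix : ∀ x ∈ (P : Subgroup G), x ≠ 1 → ∀ k ∈ K, x * k = k * x →
      k ∈ Subgroup.centralizer ((P : Subgroup G) : Set G) := by
    intro x hx hx1 k hk hxk
    have hkN : k ∈ Subgroup.normalizer ((P : Subgroup G) : Set G) := by
      by_contra hkn
      refine hx1 ((Subgroup.eq_bot_iff_forall _).mp (hTI k hkn) x ⟨hx, ?_⟩)
      show x ∈ MulAut.conj k • (P : Subgroup G)
      rw [Subgroup.mem_pointwise_smul_iff_inv_smul_mem]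
      rw [← map_inv, MulAut.smul_def, MulAut.conj_apply, inv_inv, mul_assoc, hxk, inv_mul_cancel_left]
      exact hx
    rw [Subgroup.mem_centralizer_iff]
    intro y hy
    have h1 : ⁅k, y⁆ ∈ K ⊓ (P : Subgroup G) := by
      refine ⟨?_, ?_⟩
      · rw [commutatorElement_def, mul_assoc, mul_assoc]
        refine K.mul_mem hk ?_
        rw [← mul_assoc]
        exact ‹K.Normal›.conj_mem _ (K.inv_mem hk) y
      · rw [commutatorElement_def]
        exact (P : Subgroup G).mul_mem ((Subgroup.mem_normalizer_iff.mp hkN y).mp hy)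
          ((P : Subgroup G).inv_mem hy)
    rw [inf_comm, Coprime.inf_eq_bot_of_coprime hcop, Subgroup.mem_bot] at h1
    exact (commutatorElement_eq_one_iff_mul_comm.mp h1).symm
  have hnc : ¬ K ≤ Subgroup.centralizer ((P : Subgroup G) : Set G) := by
    intro h
    have h1 : (P : Subgroup G) ≤ K := (Subgroup.le_centralizer_iff.mp h).trans
      (FgsC.HallHigmanB.centralizer_pPrimeCore_le hsolv hO)
    exact hP1 (eq_bot_iff.mpr fun x hx =>
      (Coprime.inf_eq_bot_of_coprime hcop).le ⟨hx, h1 hx⟩)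
  set C := Subgroup.centralizer ((P : Subgroup G) : Set G)
  obtain ⟨q, hq, hqd⟩ := Nat.exists_prime_and_dvd
    (n := (C.subgroupOf K).index) (fun h => hnc (Subgroup.subgroupOf_eq_top.mp (Subgroup.index_eq_one.mp h)))
  haveI := Fact.mk hq
  obtain ⟨T, hT⟩ := Coprime.exists_invariant_sylow (p := q) hPK hcop (Or.inl inferInstance)
  have hTC : ¬ (T : Subgroup K).map K.subtype ≤ C := fun h =>
    T.not_dvd_index (hqd.trans (Subgroup.index_dvd_of_le (fun x hx => h ⟨x, hx, rfl⟩)))
  let 𝒮 : Set (Subgroup G) := {Q | Q ≤ K ∧ IsPGroup q Q ∧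
    (P : Subgroup G) ≤ Subgroup.normalizer (Q : Set G) ∧ ¬ Q ≤ C}
  obtain ⟨Q, hQ⟩ := Set.Finite.exists_minimal (Set.toFinite 𝒮)
    ⟨_, Subgroup.map_subtype_le _, T.2.map _, hT, hTC⟩
  obtain ⟨⟨hQK, hQq, hPQ, hQC⟩, hmin⟩ := hQ
  have hcopQ := hcop.coprime_dvd_right (Subgroup.card_dvd_of_le hQK)
  have hQP : ⁅Q, (P : Subgroup G)⁆ = Q := by
    have hle := Coprime.commutator_le_of_le_normalizer hPQ
    refine le_antisymm hle (hmin ⟨hle.trans hQK, hQq.to_le hle,
      Subgroup.normalizer_commutator_ge_right Q _, fun h => hQC ?_⟩ hle)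
    have h2 : ⁅⁅Q, (P : Subgroup G)⁆, (P : Subgroup G)⁆ = ⊥ :=
      Subgroup.commutator_eq_bot_iff_le_centralizer.mpr h
    rw [Coprime.commutator_commutator_eq hPQ hcopQ (Or.inl inferInstance)] at h2
    exact Subgroup.commutator_eq_bot_iff_le_centralizer.mp h2
  have hlt : ⁅Q, Q⁆ < Q := by
    refine lt_of_le_of_ne (Subgroup.commutator_le_self Q) fun h => ?_
    haveI : Group.IsNilpotent Q := hQq.isNilpotent
    haveI : Nontrivial Q := (Subgroup.nontrivial_iff_ne_bot Q).mpr fun hb => hQC (hb ▸ bot_le)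
    refine (Group.IsSolvable.commutator_lt_top_of_nontrivial Q).ne
      (Subgroup.map_injective Q.subtype_injective ?_)
    rw [Subgroup.map_subtype_commutator, h, ← MonoidHom.range_eq_map, Subgroup.range_subtype]
  have hQQ : ⁅⁅Q, Q⁆, (P : Subgroup G)⁆ = ⊥ := by
    rw [Subgroup.commutator_eq_bot_iff_le_centralizer]
    by_contra hc
    refine hlt.not_ge (hmin ⟨hlt.le.trans hQK, hQq.to_le hlt.le, ?_, hc⟩ hlt.le)
    intro x hx
    have hxQ := hPQ hx
    have hle : ∀ y : G, y ∈ Subgroup.normalizer (Q : Set G) →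
        (⁅Q, Q⁆).map (MulAut.conj y).toMonoidHom ≤ ⁅Q, Q⁆ := by
      intro y hy
      rw [Subgroup.map_commutator]
      have : Q.map (MulAut.conj y).toMonoidHom ≤ Q := by
        rintro _ ⟨u, hu, rfl⟩
        exact (Subgroup.mem_normalizer_iff.mp hy u).mp hu
      exact Subgroup.commutator_mono this this
    rw [Subgroup.mem_normalizer_iff]
    refine fun u => ⟨fun hu => hle x hxQ ⟨u, hu, rfl⟩, fun hu => ?_⟩
    have := hle x⁻¹ (inv_mem hxQ) ⟨_, hu, rfl⟩
    simpa [mul_assoc] using this
  obtain ⟨k, hk, hk1⟩ := Q.bot_or_exists_ne_one.resolve_left fun hb => hQC (hb ▸ bot_le)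
  exact absurd (card_lt_degree_sq hPQ P.2 hP1 hQq hcopQ hQP hQQ
    (fun x hx hx1 k hk => hfix x hx hx1 k (hQK hk)) hχ ⟨k, hk, fun h => hk1 (hfaith k h)⟩)
    (not_lt.mpr hdeg)

end CfsgLib.CharApps.TISylowDegree
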