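import Cfsg.Agent.Lib.Blocks.FreeCoherence
import Cfsg.Agent.Lib.CharApps.Basic

/-!
# Characters at a self-centralizing trivial intersection subgroup
-/

set_option autoImplicit false
set_option linter.unusedSectionVars false
set_option linter.style.haveILetI false

namespace CfsgLib.CharApps.TorusFamily

open Cfsg Chars Finset Blocks
open scoped ComplexConjugate

universe u

variable {G : Type u} [Group G] [Fintype G]

open scoped Classical in
/-- The shape of the irreducible characters at the non-identity elements of `U`: a coherent family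
`X` of degree `D`, and constants elsewhere. -/
structure Fam [Fintype (IrrCharacter G)] (U : Subgroup G) (e : ℕ) where
  /-- the family -/
  X : Finset (IrrCharacter G)
  /-- the degree of the family -/
  D : ℕ
  /-- the sign -/
  ε : ℤ
  /-- the shift -/
  r : ℤ
  /-- the constants -/
  a : IrrCharacter G → ℤ
  sign : ε = 1 ∨ ε = -1
  deg : ∀ χ ∈ X, charDegree (χ : G → ℂ) = D
  card : X.card * e + 1 = Nat.card U
  const : ∀ χ, χ ∉ X → ∀ u ∈ U, u ≠ 1 → (χ : G → ℂ) u = (a χ : ℂ)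
  dvd : ∀ χ, χ ∉ X → (Nat.card U : ℤ) ∣ (charDegree (χ : G → ℂ) : ℤ) - a χ
  dvdX : (Nat.card U : ℤ) ∣ (D : ℤ) - r - ε * e
  norm : (∑ χ ∈ univ \ X, a χ * a χ) + (X.card : ℤ) * r * r - 2 * ε * r = e
  weight : (∑ χ ∈ univ \ X, a χ * (charDegree (χ : G → ℂ) : ℤ)) + ((X.card : ℤ) * r - ε) * D = 0
  agree : ∀ g : G, (∀ u ∈ U, u ≠ 1 → ¬ IsConj g u) → ∀ χ ∈ X, ∀ χ' ∈ X,
    (χ : G → ℂ) g = (χ' : G → ℂ) g
  inj : ∀ χ ∈ X, ∀ χ' ∈ X, (∀ u ∈ U, u ≠ 1 → (χ : G → ℂ) u = (χ' : G → ℂ) u) → χ = χ'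
  vary : 2 ≤ X.card → ∀ χ ∈ X, ∀ c : ℂ, ∃ u ∈ U, u ≠ 1 ∧ (χ : G → ℂ) u ≠ c

theorem card_range_normalizerMonoidHom (U : Subgroup G) :
    Nat.card U.normalizerMonoidHom.range = (Subgroup.centralizer (U : Set G)).relIndex
      (Subgroup.normalizer (U : Set G)) := by
  rw [← Subgroup.index_ker, Subgroup.normalizerMonoidHom_ker]
  rfl

theorem centralizer_self {U : Subgroup G} (h1 : 1 < Nat.card U)
    (hcent : ∀ u ∈ U, u ≠ 1 → Subgroup.centralizer ({u} : Set G) = U) :
    (∀ x ∈ U, ∀ y ∈ U, x * y = y * x) ∧ Subgroup.centralizer (U : Set G) = U := by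
  have hab : ∀ x ∈ U, ∀ y ∈ U, x * y = y * x := by
    intro x hx y hy
    by_cases hy1 : y = 1
    · simp [hy1]
    exact Subgroup.mem_centralizer_singleton_iff.1 ((hcent y hy hy1).symm ▸ hx)
  refine ⟨hab, le_antisymm (fun g hg => ?_) fun x hx => Subgroup.mem_centralizer_iff.2 fun y hy => hab y hy x hx⟩
  haveI := Finite.one_lt_card_iff_nontrivial.1 h1
  obtain ⟨⟨u, hu⟩, hne⟩ := exists_ne (1 : U)
  rw [← hcent u hu fun h => hne (Subtype.ext h)]
  exact Subgroup.mem_centralizer_singleton_iff.2 (Subgroup.mem_centralizer_iff.1 hg u hu).symm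

variable [Fintype (IrrCharacter G)]

set_option maxHeartbeats 1000000 in
theorem exists_fam (U : Subgroup G) (h1 : 1 < Nat.card U)
    (hcent : ∀ u ∈ U, u ≠ 1 → Subgroup.centralizer ({u} : Set G) = U) (e : ℕ)
    (he : Nat.card (Subgroup.normalizer (U : Set G)) = e * Nat.card U) :
    Nonempty (Fam U e) := by
  classical
  haveI := Fintype.ofFinite U
  haveI := irrFintype U
  obtain ⟨hab, hCU⟩ := centralizer_self h1 hcent
  have hA : ∀ x y : U, x * y = y * x := fun x y => Subtype.ext (hab _ x.2 _ y.2)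
  obtain ⟨E, hE⟩ : ∃ E : Subgroup (MulAut U), E = U.normalizerMonoidHom.range := ⟨_, rfl⟩
  have hN : ∀ (y : G) (u v : U), u ≠ 1 → v ≠ 1 → y * (u : G) * y⁻¹ = v →
      y ∈ Subgroup.normalizer (U : Set G) := by
    intro y u v hu hv hy
    have hu' : (u : G) ≠ 1 := fun h => hu (Subtype.ext h)
    have hv' : (v : G) ≠ 1 := fun h => hv (Subtype.ext h)
    refine Subgroup.mem_normalizer_fintype fun x hx => ?_
    rw [SetLike.mem_coe, ← hcent v v.2 hv', Subgroup.mem_centralizer_singleton_iff, ← hy]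
    calc y * x * y⁻¹ * (y * (u : G) * y⁻¹) = y * (x * u) * y⁻¹ := by group
      _ = y * ((u : G) * x) * y⁻¹ := by rw [hab x hx u u.2]
      _ = _ := by group
  have hfree : ∀ σ ∈ E, ∀ u : U, u ≠ 1 → σ u = u → σ = 1 := by
    rw [hE]
    rintro _ ⟨⟨y, hy⟩, rfl⟩ u hu h
    have h' : y * (u : G) * y⁻¹ = u := congrArg Subtype.val h
    have hyU : y ∈ U := by
      rw [← hcent u u.2 fun h0 => hu (Subtype.ext h0), Subgroup.mem_centralizer_singleton_iff]
      exact mul_inv_eq_iff_eq_mul.1 h'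
    refine MulEquiv.ext fun x => Subtype.ext ?_
    show y * (x : G) * y⁻¹ = x
    rw [hab y hyU x x.2, mul_inv_cancel_right]
  have hEcard : Nat.card E = e := by
    rw [hE, card_range_normalizerMonoidHom, hCU]
    have h2 := Subgroup.relIndex_mul_relIndex ⊥ U (Subgroup.normalizer (U : Set G)) bot_le
      Subgroup.le_normalizer
    rw [Subgroup.relIndex_bot_left, Subgroup.relIndex_bot_left, he, mul_comm e] at h2
    exact Nat.eq_of_mul_eq_mul_left Nat.card_pos h2
  let ι := {χ : IrrCharacter G // ∃ u : U, u ≠ 1 ∧ (χ : G → ℂ) u ≠ 0}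
  let ξ : ι → U → ℂ := fun i u => (i.1 : G → ℂ) u
  have hsum : ∀ f : IrrCharacter G → ℂ,
      (∀ χ : IrrCharacter G, (∀ u : U, u ≠ 1 → (χ : G → ℂ) u = 0) → f χ = 0) →
      ∑ i : ι, f i.1 = ∑ χ : IrrCharacter G, f χ := fun f hf => by
    rw [← Finset.sum_subtype (univ.filter fun χ : IrrCharacter G => ∃ u : U, u ≠ 1 ∧ (χ : G → ℂ) u ≠ 0)
      (fun χ => by simp) f]
    refine Finset.sum_subset (subset_univ _) fun χ _ hχ => hf χ fun u hu => ?_
    by_contra h
    exact hχ (mem_filter.2 ⟨mem_univ _, u, hu, h⟩)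
  have horth : ∀ u v : U, u ≠ 1 → v ≠ 1 → ∑ i, ξ i u * conj (ξ i v) =
      (Nat.card U : ℂ) * ((univ.filter fun σ : E => (σ : MulAut U) u = v).card : ℂ) := by
    intro u v hu hv
    rw [hsum (fun χ => (χ : G → ℂ) u * conj ((χ : G → ℂ) v)) fun χ h => by rw [h u hu, zero_mul],
      second_orthogonality]
    split_ifs with hc
    · obtain ⟨y, hy⟩ := isConj_iff.1 hc.symm
      have hyN := hN y u v hu hv hy
      rw [hcent u u.2 fun h0 => hu (Subtype.ext h0)]
      have hmem : U.normalizerMonoidHom ⟨y, hyN⟩ ∈ E := hE ▸ ⟨⟨y, hyN⟩, rfl⟩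
      have : (univ.filter fun σ : E => (σ : MulAut U) u = v).card = 1 := by
        refine Finset.card_eq_one.2 ⟨⟨_, hmem⟩,
          Finset.eq_singleton_iff_unique_mem.2 ⟨mem_filter.2 ⟨mem_univ _, Subtype.ext hy⟩, fun σ hσ => ?_⟩⟩
        have h2 : (σ : MulAut U) u = v := (mem_filter.1 hσ).2
        refine Subtype.ext ?_
        show (σ : MulAut U) = U.normalizerMonoidHom ⟨y, hyN⟩
        have h3 : ((U.normalizerMonoidHom ⟨y, hyN⟩)⁻¹ * (σ : MulAut U)) u = u := by
          rw [MulAut.mul_apply, h2, show v = U.normalizerMonoidHom ⟨y, hyN⟩ u from (Subtype.ext hy).symm,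
            MulAut.inv_apply_self]
        exact (inv_mul_eq_one.1 (hfree _ (E.mul_mem (E.inv_mem hmem) σ.2) u hu h3)).symm
      rw [this, Nat.cast_one, mul_one]
    · rw [Finset.filter_false_of_mem fun σ _ h => hc ?_, Finset.card_empty, Nat.cast_zero, mul_zero]
      obtain ⟨⟨y, hy⟩, hyσ⟩ : ∃ y, U.normalizerMonoidHom y = (σ : MulAut U) :=
        MonoidHom.mem_range.1 (hE ▸ σ.2)
      rw [← hyσ] at h
      exact (isConj_iff.2 ⟨y, congrArg Subtype.val h⟩).symm
  have hdeg : ∀ u : U, u ≠ 1 → ∑ i : ι, (charDegree (i.1 : G → ℂ) : ℂ) * ξ i u = 0 := by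
    intro u hu
    rw [hsum (fun χ => (charDegree (χ : G → ℂ) : ℂ) * (χ : G → ℂ) u) fun χ h => by rw [h u hu, mul_zero]]
    have h := second_orthogonality (u : G) (1 : G)
    rw [if_neg fun hc => hu (Subtype.ext (isConj_one_right.1 hc))] at h
    rw [← h]
    exact Finset.sum_congr rfl fun χ _ => by rw [CharApps.deg_eq, map_natCast, mul_comm]
  obtain ⟨y, ε, r, a, hε, hy, hval, hoth, hcard, hnorm, hψ⟩ := free_coherence hA h1 E hfree ξ
    (fun i => ⟨_, 0, isCharacter_restrict U (isCharacter_of_irr i.1.2), isCharacter_zero, by simp [ξ]⟩)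
    (fun u v hu hv => by convert horth u v hu hv) (fun i => i.2) (fun i => charDegree (i.1 : G → ℂ)) (fun i => CharApps.deg_pos i.1) hdeg
  let Y : Finset ι := univ.filter fun i => ∃ l : IrrCharacter U, l ≠ principal U ∧ y l = i
  let X : Finset (IrrCharacter G) := Y.map (Function.Embedding.subtype _)
  have hY : Y.card = Nat.card {i // ∃ l : IrrCharacter U, l ≠ principal U ∧ y l = i} := by
    rw [Nat.card_eq_fintype_card, Fintype.card_subtype]
  rw [← hY, hEcard] at hcard hnorm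
  have hXc : X.card = Y.card := Finset.card_map _
  let a' : IrrCharacter G → ℤ := fun χ => if h : ∃ u : U, u ≠ 1 ∧ (χ : G → ℂ) u ≠ 0 then a ⟨χ, h⟩ else 0
  have ha' : ∀ i : ι, a' i.1 = a i := fun i => dif_pos i.2
  have hZ : ∀ i : ι, i.1 ∉ X → ∀ l : IrrCharacter U, l ≠ principal U → y l ≠ i := fun i hi l hl h =>
    hi (mem_map.2 ⟨i, mem_filter.2 ⟨mem_univ _, l, hl, h⟩, rfl⟩)
  have hfil : ∀ inst : DecidablePred fun i : ι => ∀ l : IrrCharacter U, l ≠ principal U → y l ≠ i,
      @Finset.filter ι (fun i => ∀ l : IrrCharacter U, l ≠ principal U → y l ≠ i) inst univ = univ \ Y := by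
    intro inst
    ext i
    simp [Y]
  have hsumX : ∀ (R : Type) [CommRing R] (f : IrrCharacter G → R),
      (∀ χ : IrrCharacter G, (¬ ∃ u : U, u ≠ 1 ∧ (χ : G → ℂ) u ≠ 0) → f χ = 0) →
      ∑ i ∈ univ \ Y, f i.1 = ∑ χ ∈ univ \ X, f χ := by
    intro R _ f hf
    refine (Finset.sum_map (univ \ Y) (Function.Embedding.subtype _) f).symm.trans ?_
    refine Finset.sum_subset (fun χ hχ => ?_) fun χ hχ hχ' => hf χ fun h => hχ' ?_
    · obtain ⟨i, hi, rfl⟩ := mem_map.1 hχ
      refine mem_sdiff.2 ⟨mem_univ _, fun h => (mem_sdiff.1 hi).2 ?_⟩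
      exact (mem_map' _).1 h
    · exact mem_map.2 ⟨⟨χ, h⟩, mem_sdiff.2 ⟨mem_univ _, fun h' =>
        (mem_sdiff.1 hχ).2 (mem_map.2 ⟨_, h', rfl⟩)⟩, rfl⟩
  obtain ⟨l₀, hl₀⟩ : ∃ l : IrrCharacter U, l ≠ principal U := by
    by_contra hall
    push Not at hall
    have h0 : Y.card = 0 := Finset.card_eq_zero.2 (Finset.filter_eq_empty_iff.2 fun i _ ⟨l, hl, _⟩ => hl (hall l))
    rw [h0] at hcard
    omega
  have hdegX : ∀ l : IrrCharacter U, l ≠ principal U →
      charDegree ((y l).1 : G → ℂ) = charDegree ((y l₀).1 : G → ℂ) := fun l hl =>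
    Nat.cast_injective ((hψ (fun i => (charDegree (i.1 : G → ℂ) : ℂ)) hdeg l₀ hl₀).1 l hl)
  -- sums of the values against a character
  have hlsum : ∀ f : U → ℂ, ∀ l : IrrCharacter U, ∑ u ∈ univ.erase (1 : U), f u * conj ((l : U → ℂ) u) =
      (Nat.card U : ℂ) * classInner f (l : U → ℂ) - f 1 := by
    intro f l
    rw [inner_def, mul_inv_cancel_left₀ (card_ne_zero U), ← Finset.sum_erase_add _ _ (mem_univ (1 : U)),
      irr_one_of_comm hA l, map_one, mul_one]
    ring
  have hvalE : ∀ l : IrrCharacter U, l ≠ principal U → ∀ u : U, u ≠ 1 →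
      ξ (y l) u = (r : ℂ) + (ε : ℂ) * ∑ σ : E, (pullIrr (σ : MulAut U) l : U → ℂ) u := by
    intro l hl u hu
    have h7 := hval l hl u hu
    simp only [pullIrr_apply]
    with_reducible convert h7 using 5
  have hpair : ∀ l m : IrrCharacter U, l ≠ principal U → m ≠ principal U →
      ∑ u ∈ univ.erase (1 : U), ξ (y l) u * conj ((m : U → ℂ) u) =
        -(r : ℂ) + (ε : ℂ) * ((Nat.card U : ℂ) *
          ((univ.filter fun σ : E => pullIrr (σ : MulAut U) l = m).card : ℂ) - (e : ℂ)) := by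
    intro l m hl hm
    have h0 : ∀ u ∈ univ.erase (1 : U), ξ (y l) u * conj ((m : U → ℂ) u) =
        (r : ℂ) * ((1 : ℂ) * conj ((m : U → ℂ) u)) +
          (ε : ℂ) * ∑ σ : E, (pullIrr (σ : MulAut U) l : U → ℂ) u * conj ((m : U → ℂ) u) := by
      intro u hu
      rw [hvalE l hl u (mem_erase.1 hu).1, add_mul, one_mul, mul_assoc, Finset.sum_mul]
    rw [Finset.sum_congr rfl h0, Finset.sum_add_distrib, ← Finset.mul_sum (a := (r : ℂ)),
      ← Finset.mul_sum (a := (ε : ℂ)),
      Finset.sum_comm, hlsum (fun _ => (1 : ℂ)) m,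
      show classInner (fun _ : U => (1 : ℂ)) (m : U → ℂ) = 0 from
        inner_irr_ne (χ := principal U) (fun h => hm h.symm)]
    have hEc : (e : ℂ) = ∑ _σ : E, (1 : ℂ) := by
      rw [Finset.sum_const, Finset.card_univ, nsmul_eq_mul, mul_one, ← Nat.card_eq_fintype_card, hEcard]
    rw [hEc, Finset.natCast_card_filter, Finset.mul_sum (s := (univ : Finset E)) (a := (Nat.card U : ℂ)),
      ← Finset.sum_sub_distrib]
    have h3 : ∀ σ : E, ∑ u ∈ univ.erase (1 : U),
        (pullIrr (σ : MulAut U) l : U → ℂ) u * conj ((m : U → ℂ) u) =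
        (Nat.card U : ℂ) * (if pullIrr (σ : MulAut U) l = m then 1 else 0) - 1 := fun σ => by
      rw [hlsum _ m, inner_irr, irr_one_of_comm hA]
    rw [Finset.sum_congr rfl fun σ _ => h3 σ]
    ring
  have hfilt : ∀ l m : IrrCharacter U, l ≠ principal U → m ≠ principal U → y l ≠ y m →
      (univ.filter fun σ : E => pullIrr (σ : MulAut U) l = m) = ∅ := fun l m hl hm hne =>
    Finset.filter_false_of_mem fun σ _ hσ => hne ((hy l m hl hm).2 ⟨σ, hσ⟩)
  have hfself : ∀ l : IrrCharacter U,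
      ((univ.filter fun σ : E => pullIrr (σ : MulAut U) l = l).card : ℂ) ≠ 0 := fun l =>
    Nat.cast_ne_zero.2 (Finset.card_ne_zero.2 ⟨1, mem_filter.2 ⟨mem_univ _, Subtype.ext rfl⟩⟩)
  have hεne : (ε : ℂ) ≠ 0 := by rcases hε with rfl | rfl <;> norm_num
  have hXmem : ∀ χ ∈ X, ∃ l : IrrCharacter U, l ≠ principal U ∧ (y l).1 = χ := by
    intro χ hχ
    obtain ⟨i, hi, rfl⟩ := mem_map.1 hχ
    obtain ⟨l, hl, rfl⟩ := (mem_filter.1 hi).2
    exact ⟨l, hl, rfl⟩
  have hconst : ∀ χ, χ ∉ X → ∀ u ∈ U, u ≠ 1 → (χ : G → ℂ) u = (a' χ : ℂ) := by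
    intro χ hχ u hu hu1
    have hu' : (⟨u, hu⟩ : U) ≠ 1 := fun h => hu1 (congrArg Subtype.val h)
    by_cases h : ∃ u : U, u ≠ 1 ∧ (χ : G → ℂ) u ≠ 0
    · exact ((hoth ⟨χ, h⟩ (hZ ⟨χ, h⟩ hχ)).2 ⟨u, hu⟩ hu').trans (by rw [← ha' ⟨χ, h⟩])
    · rw [show a' χ = 0 from dif_neg h, Int.cast_zero]
      by_contra hne
      exact h ⟨⟨u, hu⟩, hu', hne⟩
  refine ⟨{ X := X, D := charDegree ((y l₀).1 : G → ℂ), ε := ε, r := r, a := a', sign := hε,
            deg := ?_, card := ?_, const := hconst, dvd := ?_, dvdX := ?_, norm := ?_, weight := ?_,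
            agree := ?_, inj := ?_, vary := ?_ }⟩
  · intro χ hχ
    obtain ⟨l, hl, rfl⟩ := hXmem χ hχ
    exact hdegX l hl
  · rw [hXc]; exact hcard
  · intro χ hχ
    obtain ⟨k, hk⟩ := inner_irr_right_nat (isCharacter_restrict U (isCharacter_of_irr χ.2)) (principal U)
    refine ⟨(k : ℤ) - a' χ, ?_⟩
    apply Int.cast_injective (α := ℂ)
    push_cast
    have h2 := hlsum (fun u : U => (χ : G → ℂ) u) (principal U)
    rw [hk, Finset.sum_congr rfl fun u hu => by
      rw [hconst χ hχ u u.2 fun h => (mem_erase.1 hu).1 (Subtype.ext h), principal_apply, map_one, mul_one],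
      Finset.sum_const, Finset.card_erase_of_mem (mem_univ _), Finset.card_univ, nsmul_eq_mul,
      ← Nat.card_eq_fintype_card, Nat.cast_sub (Nat.one_le_iff_ne_zero.2 Nat.card_pos.ne'),
      Nat.cast_one, OneMemClass.coe_one, CharApps.deg_eq] at h2
    linear_combination h2
  · obtain ⟨k, hk⟩ := inner_irr_right_nat
      (isCharacter_restrict U (isCharacter_of_irr (y l₀).1.2)) (principal U)
    refine ⟨(k : ℤ) - r, ?_⟩
    apply Int.cast_injective (α := ℂ)
    push_cast
    have h2 := hlsum (fun u : U => ((y l₀).1 : G → ℂ) u) (principal U)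
    rw [hk, Finset.sum_congr rfl fun u hu => by
      rw [show ((y l₀).1 : G → ℂ) u = ξ (y l₀) u from rfl, hvalE l₀ hl₀ u (mem_erase.1 hu).1,
        principal_apply, map_one, mul_one], Finset.sum_add_distrib, ← Finset.mul_sum,
      Finset.sum_comm, Finset.sum_const, Finset.card_erase_of_mem (mem_univ _), Finset.card_univ,
      nsmul_eq_mul, ← Nat.card_eq_fintype_card,
      Nat.cast_sub (Nat.one_le_iff_ne_zero.2 Nat.card_pos.ne'), Nat.cast_one, OneMemClass.coe_one,
      CharApps.deg_eq] at h2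
    have h3 : ∀ σ : E, ∑ u ∈ univ.erase (1 : U), (pullIrr (σ : MulAut U) l₀ : U → ℂ) u = -1 := by
      intro σ
      have hne : pullIrr (σ : MulAut U) l₀ ≠ principal U := fun h => hl₀ (Subtype.ext (funext fun x => by
        obtain ⟨x, rfl⟩ := (σ : MulAut U).surjective x
        exact congrFun (congrArg Subtype.val h) x))
      have h4 := hlsum (pullIrr (σ : MulAut U) l₀ : U → ℂ) (principal U)
      rw [inner_irr_ne hne, mul_zero, zero_sub, irr_one_of_comm hA] at h4
      rw [← h4]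
      exact Finset.sum_congr rfl fun u _ => by rw [principal_apply, map_one, mul_one]
    rw [Finset.sum_congr rfl fun σ _ => h3 σ, Finset.sum_const, Finset.card_univ,
      ← Nat.card_eq_fintype_card, hEcard, nsmul_eq_mul] at h2
    linear_combination h2
  · rw [hfil] at hnorm
    rw [← hsumX ℤ (fun χ => a' χ * a' χ) fun χ h => by rw [show a' χ = 0 from dif_neg h, mul_zero],
      hXc]
    simp only [ha']
    exact hnorm
  · have h := (hψ (fun i => (charDegree (i.1 : G → ℂ) : ℂ)) hdeg l₀ hl₀).2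
    rw [hfil, ← hY] at h
    rw [← hsumX ℤ (fun χ => a' χ * (charDegree (χ : G → ℂ) : ℤ)) fun χ h => by
      rw [show a' χ = 0 from dif_neg h, zero_mul], hXc]
    simp only [ha']
    apply Int.cast_injective (α := ℂ)
    push_cast
    exact h
  · intro g hg χ hχ χ' hχ'
    obtain ⟨l, hl, rfl⟩ := hXmem χ hχ
    obtain ⟨l', hl', rfl⟩ := hXmem χ' hχ'
    have hc := (hψ (fun i => conj ((i.1 : G → ℂ) g)) (fun u hu => by
      rw [hsum (fun χ => conj ((χ : G → ℂ) g) * (χ : G → ℂ) u) fun χ h => by rw [h u hu, mul_zero]]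
      have h := second_orthogonality (u : G) g
      rw [if_neg fun hc => hg u u.2 (fun h0 => hu (Subtype.ext h0)) hc] at h
      rw [← h]
      exact Finset.sum_congr rfl fun χ _ => mul_comm _ _) l hl).1 l' hl'
    exact ((starRingEnd ℂ).injective hc).symm
  · intro χ hχ χ' hχ' hEq
    obtain ⟨l, hl, rfl⟩ := hXmem χ hχ
    obtain ⟨l', hl', rfl⟩ := hXmem χ' hχ'
    by_contra hne
    have h1 := hpair l l hl hl
    have h2 := hpair l' l hl' hl
    rw [hfilt l' l hl' hl fun h => hne (congrArg Subtype.val h.symm)] at h2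
    have h3 : ∑ u ∈ univ.erase (1 : U), ξ (y l) u * conj ((l : U → ℂ) u) =
        ∑ u ∈ univ.erase (1 : U), ξ (y l') u * conj ((l : U → ℂ) u) :=
      Finset.sum_congr rfl fun u hu => by
        rw [show ξ (y l) u = ξ (y l') u from hEq u u.2 fun h => (mem_erase.1 hu).1 (Subtype.ext h)]
    rw [h1, h2, Finset.card_empty, Nat.cast_zero, mul_zero] at h3
    have h4 : (ε : ℂ) * ((Nat.card U : ℂ) *
        ((univ.filter fun σ : E => pullIrr (σ : MulAut U) l = l).card : ℂ)) = 0 := by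
      linear_combination h3
    exact mul_ne_zero hεne (mul_ne_zero (card_ne_zero U) (hfself l)) h4
  · intro h2 χ hχ c
    obtain ⟨χ', hχ', hne⟩ := Finset.exists_mem_ne (show 1 < X.card by omega) χ
    obtain ⟨l, hl, rfl⟩ := hXmem χ hχ
    obtain ⟨l', hl', rfl⟩ := hXmem χ' hχ'
    by_contra hall
    push Not at hall
    have hc : ∀ m : IrrCharacter U, m ≠ principal U →
        ∑ u ∈ univ.erase (1 : U), ξ (y l) u * conj ((m : U → ℂ) u) = -c := by
      intro m hm
      rw [Finset.sum_congr rfl fun u hu => by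
        rw [show ξ (y l) u = c from hall u u.2 fun h => (mem_erase.1 hu).1 (Subtype.ext h)],
        hlsum (fun _ => c) m]
      have hz : classInner (fun _ : U => c) (m : U → ℂ) = 0 := by
        rw [show (fun _ : U => c) = c • (principal U : U → ℂ) from funext fun u => by simp [principal_apply],
          Chars.inner_smul_left, inner_irr_ne (fun h => hm h.symm), mul_zero]
      rw [hz]; ring
    have h1 := (hpair l l hl hl).symm.trans (hc l hl)
    have h2 := (hpair l l' hl hl').symm.trans (hc l' hl')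
    rw [hfilt l l' hl hl' fun h => hne (congrArg Subtype.val h.symm), Finset.card_empty, Nat.cast_zero,
      mul_zero] at h2
    have h4 : (ε : ℂ) * ((Nat.card U : ℂ) *
        ((univ.filter fun σ : E => pullIrr (σ : MulAut U) l = l).card : ℂ)) = 0 := by
      linear_combination h1 - h2
    exact mul_ne_zero hεne (mul_ne_zero (card_ne_zero U) (hfself l)) h4

end CfsgLib.CharApps.TorusFamily
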