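import Cfsg.Agent.Lib.CharApps.TorusFamily

/-!
# Families of characters that agree on a trivial intersection subgroup
-/

set_option autoImplicit false
set_option linter.unusedSectionVars false

namespace CfsgLib.CharApps.TorusFamily

open Cfsg Chars Finset

universe u

variable {G : Type u} [Group G] [Fintype G] [Fintype (IrrCharacter G)]
variable {U : Subgroup G} {e : ℕ}

theorem Fam.notMem_of_const (Fm : Fam U e) (h2 : 2 ≤ Fm.X.card) {χ : IrrCharacter G} {c : ℂ}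
    (h : ∀ u ∈ U, u ≠ 1 → (χ : G → ℂ) u = c) : χ ∉ Fm.X := fun hm => by
  obtain ⟨u, hu, hu1, hne⟩ := Fm.vary h2 χ hm c
  exact hne (h u hu hu1)

theorem Fam.exists_ne_one (Fm : Fam U e) (h2 : 2 ≤ Fm.X.card) : ∃ u ∈ U, u ≠ 1 := by
  obtain ⟨χ, hχ⟩ := Finset.card_pos.1 (show 0 < Fm.X.card by omega)
  obtain ⟨u, hu, hu1, -⟩ := Fm.vary h2 χ hχ 0
  exact ⟨u, hu, hu1⟩

theorem Fam.a_eq (Fm : Fam U e) (h2 : 2 ≤ Fm.X.card) {χ : IrrCharacter G} {c : ℤ}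
    (h : ∀ u ∈ U, u ≠ 1 → (χ : G → ℂ) u = c) : χ ∉ Fm.X ∧ Fm.a χ = c := by
  have hn := Fm.notMem_of_const h2 h
  obtain ⟨u, hu, hu1⟩ := Fm.exists_ne_one h2
  exact ⟨hn, Int.cast_injective ((Fm.const χ hn u hu hu1).symm.trans (h u hu hu1))⟩

theorem Fam.shift_nonneg (Fm : Fam U e) (h3 : 3 ≤ Fm.X.card) :
    0 ≤ (Fm.X.card : ℤ) * Fm.r * Fm.r - 2 * Fm.ε * Fm.r := by
  have h : (3 : ℤ) ≤ Fm.X.card := by exact_mod_cast h3
  have h1 := mul_le_mul_of_nonneg_right h (mul_self_nonneg Fm.r)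
  have h2 : Fm.r = 0 ∨ 1 ≤ Fm.r ∨ Fm.r ≤ -1 := by omega
  rcases Fm.sign with hs | hs <;> rw [hs] <;> rcases h2 with h2 | h2 | h2 <;> nlinarith only [h1, h2]

theorem Fam.norm_le (Fm : Fam U e) {S : Finset (IrrCharacter G)} (hS : ∀ χ ∈ S, χ ∉ Fm.X) :
    (∑ χ ∈ S, Fm.a χ * Fm.a χ) + ((Fm.X.card : ℤ) * Fm.r * Fm.r - 2 * Fm.ε * Fm.r) ≤ e := by
  classical
  have h := Finset.sum_le_sum_of_subset_of_nonneg
    (s := S) (t := univ \ Fm.X) (f := fun χ => Fm.a χ * Fm.a χ)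
    (fun χ hχ => mem_sdiff.2 ⟨mem_univ _, hS χ hχ⟩) fun χ _ _ => mul_self_nonneg _
  have := Fm.norm
  linarith

/-- At least three characters agreeing on `U` vanish there, if two others take signs there. -/
theorem Fam.vanish (Fm : Fam U e) (he : e ≤ 4) (h3 : 3 ≤ Fm.X.card) {φ ψ : IrrCharacter G}
    {s t : ℤ} (hs : s * s = 1) (ht : t * t = 1) (hne : φ ≠ ψ)
    (hφ : ∀ u ∈ U, u ≠ 1 → (φ : G → ℂ) u = s) (hψ : ∀ u ∈ U, u ≠ 1 → (ψ : G → ℂ) u = t)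
    {Y : Finset (IrrCharacter G)} (hY : 3 ≤ Y.card) (hφY : φ ∉ Y) (hψY : ψ ∉ Y)
    (hagree : ∀ χ ∈ Y, ∀ χ' ∈ Y, ∀ u ∈ U, u ≠ 1 → (χ : G → ℂ) u = (χ' : G → ℂ) u) :
    ∀ χ ∈ Y, χ ∉ Fm.X ∧ Fm.a χ = 0 := by
  classical
  have hdisj : ∀ χ ∈ Y, χ ∉ Fm.X := by
    intro χ hχ hX
    obtain ⟨χ', hχ', hne'⟩ := Finset.exists_mem_ne (show 1 < Y.card by omega) χ
    by_cases hX' : χ' ∈ Fm.X
    · exact hne' (Fm.inj χ' hX' χ hX (hagree χ' hχ' χ hχ))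
    · exact Fm.notMem_of_const (by omega) (c := (Fm.a χ' : ℂ)) (fun u hu hu1 =>
        (hagree χ hχ χ' hχ' u hu hu1).trans (Fm.const χ' hX' u hu hu1)) hX
  obtain ⟨χ₀, hχ₀⟩ := Finset.card_pos.1 (show 0 < Y.card by omega)
  have hall : ∀ χ ∈ Y, Fm.a χ = Fm.a χ₀ := fun χ hχ =>
    (Fm.a_eq (by omega) fun u hu hu1 =>
      (hagree χ hχ χ₀ hχ₀ u hu hu1).trans (Fm.const χ₀ (hdisj χ₀ hχ₀) u hu hu1)).2
  obtain ⟨hφX, hφa⟩ := Fm.a_eq (by omega) hφ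
  obtain ⟨hψX, hψa⟩ := Fm.a_eq (by omega) hψ
  have h := Fm.norm_le (S := insert φ (insert ψ Y)) fun χ hχ => by
    rcases mem_insert.1 hχ with rfl | hχ
    · exact hφX
    rcases mem_insert.1 hχ with rfl | hχ
    exacts [hψX, hdisj χ hχ]
  rw [Finset.sum_insert (by simp [hne, hφY]), Finset.sum_insert hψY, hφa, hψa, hs, ht,
    Finset.sum_congr rfl (fun χ hχ => by rw [hall χ hχ] : ∀ χ ∈ Y, Fm.a χ * Fm.a χ = Fm.a χ₀ * Fm.a χ₀),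
    Finset.sum_const, nsmul_eq_mul] at h
  have hY' : (3 : ℤ) ≤ Y.card := by exact_mod_cast hY
  have he' : (e : ℤ) ≤ 4 := by exact_mod_cast he
  have h0 : Fm.a χ₀ = 0 := by
    by_contra h0
    have := Fm.shift_nonneg h3
    nlinarith only [h, this, hY', he', Int.add_one_le_of_lt (mul_self_pos.2 h0)]
  exact fun χ hχ => ⟨hdisj χ hχ, (hall χ hχ).trans h0⟩

end CfsgLib.CharApps.TorusFamily
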