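import Cfsg.Agent.Lib.CharApps.NormalSum
import Cfsg.Prelude.Def_Transfer

/-!
# Irreducible characters that are nonzero on exactly two conjugacy classes
-/

set_option autoImplicit false
set_option linter.style.haveILetI false

namespace CfsgLib.CharApps

open Cfsg CfsgLib.Chars Module
open scoped ComplexConjugate

universe u

variable {G : Type u} [Group G]

/-- The structure theorem for an irreducible character nonzero on exactly two classes. -/
theorem twoClass_main [Finite G] (hG : 2 < Nat.card G) (χ : IrrCharacter G)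
    (hχ : Nat.card {C : ConjClasses G // ∃ g ∈ C.carrier, (χ : G → ℂ) g ≠ 0} = 2) :
    ∃ N : Subgroup G, N.Normal ∧ N ≠ ⊥ ∧
      (∀ g : G, (χ : G → ℂ) g ≠ 0 ↔ g ∈ N) ∧
      (∀ x ∈ N, ∀ y ∈ N, x ≠ 1 → y ≠ 1 → ∃ g : G, g * x * g⁻¹ = y) ∧
      (∀ g : G, (χ : G → ℂ) g = (χ : G → ℂ) 1 → g = 1) ∧
      (∀ ψ : IrrCharacter G, ψ ≠ χ → ∀ g ∈ N, (ψ : G → ℂ) g = (ψ : G → ℂ) 1) ∧
      (∀ x ∈ N, x ≠ 1 → (χ : G → ℂ) 1 + ((Nat.card N : ℂ) - 1) * (χ : G → ℂ) x = 0) := by
  classical
  haveI := Fintype.ofFinite G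
  haveI := irrFintype G
  have hone : ConjClasses.mk (1 : G) ∈
      {C : ConjClasses G | ∃ g ∈ C.carrier, (χ : G → ℂ) g ≠ 0} :=
    ⟨1, ConjClasses.mem_carrier_iff_mk_eq.mpr rfl, deg_ne_zero χ⟩
  obtain ⟨C0, hC0, hC0ne, hall⟩ : ∃ C0, C0 ∈ {C : ConjClasses G | ∃ g ∈ C.carrier, (χ : G → ℂ) g ≠ 0} ∧
      C0 ≠ ConjClasses.mk 1 ∧ ∀ C ∈ {C : ConjClasses G | ∃ g ∈ C.carrier, (χ : G → ℂ) g ≠ 0},
        C = ConjClasses.mk 1 ∨ C = C0 := by
    have h2 : {C : ConjClasses G | ∃ g ∈ C.carrier, (χ : G → ℂ) g ≠ 0}.ncard = 2 := by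
      rw [← Nat.card_coe_set_eq]; exact hχ
    obtain ⟨a, b, hab, hs⟩ := Set.ncard_eq_two.mp h2
    rw [hs] at hone ⊢
    rcases hone with h | h
    · exact ⟨b, Or.inr rfl, fun hb => hab (h.symm.trans hb.symm), fun C hC => by
        rcases hC with hC | hC
        · exact Or.inl (hC.trans h.symm)
        · exact Or.inr hC⟩
    · exact ⟨a, Or.inl rfl, fun ha => hab (ha.trans h), fun C hC => by
        rcases hC with hC | hC
        · exact Or.inr hC
        · exact Or.inl (hC.trans (Set.mem_singleton_iff.mp h).symm)⟩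
  obtain ⟨x0, hx0C, hx0⟩ := hC0
  rw [ConjClasses.mem_carrier_iff_mk_eq] at hx0C
  have hx01 : x0 ≠ 1 := by rintro rfl; exact hC0ne hx0C.symm
  have hsupp : ∀ g : G, (χ : G → ℂ) g ≠ 0 → g = 1 ∨ IsConj x0 g := by
    intro g hg
    rcases hall (ConjClasses.mk g) ⟨g, ConjClasses.mem_carrier_iff_mk_eq.mpr rfl, hg⟩ with h | h
    · exact Or.inl (isConj_one_right.mp (ConjClasses.mk_eq_mk_iff_isConj.mp h).symm)
    · exact Or.inr (ConjClasses.mk_eq_mk_iff_isConj.mp (hx0C.trans h.symm))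
  have hconst : ∀ (ψ : IrrCharacter G) (g : G), IsConj x0 g → (ψ : G → ℂ) g = (ψ : G → ℂ) x0 :=
    fun ψ g hg => ((isConj_iff_forall_irr x0 g).mp hg ψ).symm
  set k := Nat.card {x : G // IsConj x0 x} with hk
  have hkpos : 0 < k := by
    haveI : Nonempty {x : G // IsConj x0 x} := ⟨⟨x0, IsConj.refl _⟩⟩
    exact Nat.card_pos
  -- inner product against `χ`
  have hinner : ∀ ψ : IrrCharacter G, ∑ g : G, (ψ : G → ℂ) g * conj ((χ : G → ℂ) g) =
      (ψ : G → ℂ) 1 * (χ : G → ℂ) 1 + k * ((ψ : G → ℂ) x0 * conj ((χ : G → ℂ) x0)) := by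
    intro ψ
    rw [← Finset.sum_filter_add_sum_filter_not Finset.univ (fun g => g = 1),
      Finset.filter_eq' Finset.univ (1 : G), if_pos (Finset.mem_univ _), Finset.sum_singleton,
      conj_deg]
    congr 1
    rw [← Finset.sum_subset (s₁ := Finset.univ.filter fun g => IsConj x0 g)]
    · rw [Finset.sum_congr rfl (g := fun _ => (ψ : G → ℂ) x0 * conj ((χ : G → ℂ) x0))
        (fun g hg => by
          have hg' := (Finset.mem_filter.mp hg).2
          rw [hconst ψ g hg', hconst χ g hg']),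
        Finset.sum_const, nsmul_eq_mul, hk, Nat.card_eq_fintype_card, Fintype.card_subtype]
    · intro g hg
      simp only [Finset.mem_filter, Finset.mem_univ, true_and] at hg ⊢
      rintro rfl
      exact hx01 (isConj_one_left.mp hg)
    · intro g hg hg'
      simp only [Finset.mem_filter, Finset.mem_univ, true_and] at hg hg'
      have : (χ : G → ℂ) g = 0 := by
        by_contra h
        rcases hsupp g h with h1 | h1
        · exact hg h1
        · exact hg' h1
      rw [this, map_zero, mul_zero]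
  -- `χ` is not the principal character
  have hχ1 : χ ≠ oneIrr G := by
    intro h
    have hallc : ∀ g : G, g = 1 ∨ IsConj x0 g := fun g =>
      hsupp g (by rw [h, oneIrr_apply]; exact one_ne_zero)
    have hkG : k + 1 = Nat.card G := by
      rw [hk, Nat.card_eq_fintype_card, Fintype.card_subtype, Nat.card_eq_fintype_card,
        ← Finset.card_univ]
      have : (Finset.univ : Finset G) = insert 1 (Finset.univ.filter fun g => IsConj x0 g) := by
        ext g; simpa using hallc g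
      conv_rhs => rw [this]
      rw [Finset.card_insert_of_notMem]
      simp only [Finset.mem_filter, Finset.mem_univ, true_and]
      exact fun hc => hx01 (isConj_one_left.mp hc)
    have hdvd : k ∣ Nat.card G := ⟨_, (card_isConj_mul_card_centralizer x0).symm⟩
    have : k ∣ 1 := (Nat.dvd_add_right (dvd_refl k)).mp (hkG ▸ hdvd)
    rw [Nat.dvd_one] at this
    omega
  have hkx : (χ : G → ℂ) 1 + k * conj ((χ : G → ℂ) x0) = 0 := by
    have h := inner_irr_ne (χ := oneIrr G) (ψ := χ) (Ne.symm hχ1)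
    rw [inner_def, hinner, mul_eq_zero] at h
    simpa [oneIrr_apply] using h.resolve_left (inv_ne_zero (card_ne_zero G))
  have hker : ∀ ψ : IrrCharacter G, ψ ≠ χ → (ψ : G → ℂ) x0 = (ψ : G → ℂ) 1 := by
    intro ψ hψ
    have h := inner_irr_ne hψ
    rw [inner_def, hinner, mul_eq_zero] at h
    have h' := h.resolve_left (inv_ne_zero (card_ne_zero G))
    have h2 : (χ : G → ℂ) 1 * ((ψ : G → ℂ) x0 - (ψ : G → ℂ) 1) = 0 := by
      linear_combination (ψ : G → ℂ) x0 * hkx - h'
    exact sub_eq_zero.mp ((mul_eq_zero.mp h2).resolve_left (deg_ne_zero χ))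
  have hreal : conj ((χ : G → ℂ) x0) = (χ : G → ℂ) x0 := by
    have h1 : conj ((χ : G → ℂ) x0) = -(χ : G → ℂ) 1 / k := by
      rw [eq_div_iff (Nat.cast_ne_zero.mpr hkpos.ne')]
      linear_combination hkx
    have h2 := congrArg (starRingEnd ℂ) h1
    rw [Complex.conj_conj, map_div₀, map_neg, conj_deg, map_natCast] at h2
    rw [h1, h2]
  rw [hreal] at hkx
  let R : Subgroup G := ⨅ ψ : {ψ : IrrCharacter G // ψ ≠ χ}, charKer ψ.1
  have hmemR : ∀ g : G, g ∈ R ↔ ∀ ψ : IrrCharacter G, ψ ≠ χ → (ψ : G → ℂ) g = (ψ : G → ℂ) 1 :=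
    fun g => by simp [R, Subgroup.mem_iInf, mem_charKer]
  have hreg : ∀ g ∈ R, g ≠ 1 → (χ : G → ℂ) g = (χ : G → ℂ) x0 := by
    intro g hg hg1
    have e1 := sum_degree_mul (G := G) g
    have e2 := sum_degree_mul (G := G) x0
    rw [if_neg hg1] at e1
    rw [if_neg hx01] at e2
    rw [← Finset.add_sum_erase _ _ (Finset.mem_univ χ)] at e1 e2
    have e3 : ∑ ψ ∈ Finset.univ.erase χ, (ψ : G → ℂ) 1 * (ψ : G → ℂ) g =
        ∑ ψ ∈ Finset.univ.erase χ, (ψ : G → ℂ) 1 * (ψ : G → ℂ) x0 :=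
      Finset.sum_congr rfl fun ψ hψ => by
        have hne := (Finset.mem_erase.mp hψ).1
        rw [(hmemR g).mp hg ψ hne, hker ψ hne]
    rw [e3] at e1
    exact mul_left_cancel₀ (deg_ne_zero χ) (by linear_combination e1 - e2)
  have hRchar : ∀ g : G, g ∈ R ↔ g = 1 ∨ IsConj x0 g := by
    intro g
    constructor
    · intro hg
      by_cases hg1 : g = 1
      · exact Or.inl hg1
      · exact hsupp g (by rw [hreg g hg hg1]; exact hx0)
    · rintro (rfl | hg)
      · exact R.one_mem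
      · exact (hmemR g).mpr fun ψ hψ => (hconst ψ g hg).trans (hker ψ hψ)
  have hfaith : ∀ g : G, (χ : G → ℂ) g = (χ : G → ℂ) 1 → g = 1 := by
    intro g hg
    by_contra hg1
    have hc : IsConj x0 g := (hsupp g (by rw [hg]; exact deg_ne_zero χ)).resolve_left hg1
    rw [hconst χ g hc] at hg
    rw [hg, ← one_add_mul, mul_eq_zero, deg_eq] at hkx
    rcases hkx with h | h
    · have h' : (1 + k : ℕ) = (0 : ℕ) := by exact_mod_cast h
      omega
    · have := deg_pos χ
      norm_cast at h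
      omega
  have hcardR : Nat.card R = k + 1 := by
    rw [hk, Nat.card_eq_fintype_card, Fintype.card_subtype, Nat.card_eq_fintype_card,
      Fintype.card_subtype]
    have : (Finset.univ.filter fun g => g ∈ R) =
        insert 1 (Finset.univ.filter fun g => IsConj x0 g) := by
      ext g; simpa using hRchar g
    rw [this, Finset.card_insert_of_notMem]
    simp only [Finset.mem_filter, Finset.mem_univ, true_and]
    exact fun hc => hx01 (isConj_one_left.mp hc)
  refine ⟨R, ?_, ?_, ?_, ?_, hfaith, fun ψ hψ g hg => (hmemR g).mp hg ψ hψ, ?_⟩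
  · refine ⟨fun n hn g => (hmemR _).mpr fun ψ hψ => ?_⟩
    rw [isClassFunction_irr ψ n g]
    exact (hmemR n).mp hn ψ hψ
  · intro h
    have : x0 ∈ R := (hRchar x0).mpr (Or.inr (IsConj.refl _))
    rw [h, Subgroup.mem_bot] at this
    exact hx01 this
  · intro g
    rw [hRchar]
    refine ⟨hsupp g, ?_⟩
    rintro (rfl | hg)
    · exact deg_ne_zero χ
    · rw [hconst χ g hg]; exact hx0
  · intro x hx y hy hx1 hy1
    have h1 := ((hRchar x).mp hx).resolve_left hx1
    have h2 := ((hRchar y).mp hy).resolve_left hy1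
    exact isConj_iff.mp (h1.symm.trans h2)
  · intro x hx hx1
    rw [hconst χ x (((hRchar x).mp hx).resolve_left hx1), hcardR]
    push_cast
    linear_combination hkx

/-- The support subgroup is the unique minimal normal subgroup. -/
theorem twoClass_le_normal [Finite G] {χ : IrrCharacter G} {N : Subgroup G}
    (hsupp : ∀ g : G, (χ : G → ℂ) g ≠ 0 ↔ g ∈ N)
    (hconj : ∀ x ∈ N, ∀ y ∈ N, x ≠ 1 → y ≠ 1 → ∃ g : G, g * x * g⁻¹ = y)
    (hfaith : ∀ g : G, (χ : G → ℂ) g = (χ : G → ℂ) 1 → g = 1)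
    (K : Subgroup G) [K.Normal] (hK : K ≠ ⊥) : N ≤ K := by
  classical
  haveI := Fintype.ofFinite K
  obtain ⟨k, hk, hk1⟩ : ∃ k ∈ K, k ≠ 1 := by
    by_contra h
    push Not at h
    exact hK ((Subgroup.eq_bot_iff_forall K).mpr h)
  have hnle : ¬ K ≤ charKer χ := fun h => hk1 (hfaith k (h hk))
  have hsum := sum_coset_eq_zero K χ hnle 1
  obtain ⟨n, hn, hne⟩ : ∃ n : K, (n : G) ≠ 1 ∧ (χ : G → ℂ) n ≠ 0 := by
    by_contra h
    push Not at h
    rw [Finset.sum_eq_single (1 : K)] at hsum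
    · exact deg_ne_zero χ (by simpa using hsum)
    · intro b _ hb
      rw [mul_one]
      exact h b (fun h1 => hb (Subtype.ext h1))
    · simp
  intro g hg
  rcases eq_or_ne g 1 with rfl | hg1
  · exact K.one_mem
  · obtain ⟨c, rfl⟩ := hconj n ((hsupp n).mp hne) g hg hn hg1
    exact (inferInstance : K.Normal).conj_mem _ n.2 c

end CfsgLib.CharApps

namespace CfsgLib.CharApps

universe v

/-- A subgroup whose nonidentity elements are conjugate in the whole group is elementary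
abelian. -/
theorem isElementaryAbelian_of_all_conj {G : Type v} [Group G] [Finite G] (N : Subgroup G)
    [N.Normal] (hN : N ≠ ⊥)
    (hconj : ∀ x ∈ N, ∀ y ∈ N, x ≠ 1 → y ≠ 1 → ∃ g : G, g * x * g⁻¹ = y) :
    ∃ p : ℕ, p.Prime ∧ Cfsg.IsElementaryAbelian p N ∧ IsPGroup p N := by
  have hcard : Nat.card N ≠ 1 := fun h => hN (Subgroup.card_eq_one.mp h)
  obtain ⟨p, hp, hpd⟩ := Nat.exists_prime_and_dvd hcard
  haveI := Fact.mk hp
  obtain ⟨x, hx⟩ := exists_prime_orderOf_dvd_card' p hpd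
  have hx1 : (x : G) ≠ 1 := by
    intro h
    rw [OneMemClass.coe_eq_one] at h
    rw [h, orderOf_one] at hx
    exact hp.one_lt.ne hx
  have hord : ∀ y ∈ N, y ^ p = 1 := by
    intro y hy
    rcases eq_or_ne y 1 with rfl | hy1
    · exact one_pow p
    · obtain ⟨g, rfl⟩ := hconj x x.2 y hy hx1 hy1
      rw [conj_pow, ← Subgroup.coe_pow, ← hx, pow_orderOf_eq_one]
      simp
  have hpg : IsPGroup p N := fun y => ⟨1, Subtype.ext (by simpa using hord y y.2)⟩
  refine ⟨p, hp, ⟨?_, fun a ha => hord a ha⟩, hpg⟩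
  haveI : Nontrivial N := ⟨x, 1, fun h => hx1 (by rw [h]; rfl)⟩
  haveI := hpg.center_nontrivial
  obtain ⟨⟨z, hz⟩, hz1⟩ := exists_ne (1 : Subgroup.center N)
  have hzG : (z : G) ≠ 1 := by
    intro h
    exact hz1 (Subtype.ext (Subtype.ext h))
  refine ⟨⟨fun a b => ?_⟩⟩
  rcases eq_or_ne (a : G) 1 with ha | ha
  · have : a = 1 := Subtype.ext ha
    simp [this]
  · obtain ⟨g, hg⟩ := hconj z z.2 a a.2 hzG ha
    have hb : g⁻¹ * (b : G) * g ∈ N := by
      simpa using (inferInstance : N.Normal).conj_mem b b.2 g⁻¹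
    have h2 : (g⁻¹ * (b : G) * g) * (z : G) = (z : G) * (g⁻¹ * (b : G) * g) :=
      congrArg Subtype.val (Subgroup.mem_center_iff.mp hz ⟨_, hb⟩)
    refine Subtype.ext ?_
    show (a : G) * b = b * a
    rw [← hg]
    calc g * z * g⁻¹ * b = g * ((z : G) * (g⁻¹ * b * g)) * g⁻¹ := by group
      _ = g * ((g⁻¹ * b * g) * (z : G)) * g⁻¹ := by rw [h2]
      _ = b * (g * z * g⁻¹) := by group

end CfsgLib.CharApps
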