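import Cfsg.Agent.Lib.CharApps.TwoClassSylow
import Cfsg.Agent.Lib.Base.Cores
import Cfsg.Agent.Lib.Base.Frobenius
import Cfsg.Agent.Lib.FgsB.OddInverted

/-!
A character nonzero on two classes whose support is the whole `p`-core.
-/

set_option autoImplicit false
set_option linter.style.haveILetI false
set_option linter.unusedSectionVars false

namespace CfsgLib.CharApps

open Cfsg CfsgLib.Chars
open scoped ComplexConjugate

universe u

variable {G : Type u} [Group G] [Finite G]

namespace TwoClassData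

variable {χ : IrrCharacter G} {p : ℕ} [hp : Fact p.Prime] {N : Subgroup G} [N.Normal]

theorem isConj_mul (h : TwoClassData χ p N) {g n : G} (hg : g ∉ N) (hn : n ∈ N) :
    IsConj g (g * n) := by
  rw [isConj_iff_forall_irr]
  intro ψ
  by_cases hψ : ψ = χ
  · subst hψ
    have h1 : (ψ : G → ℂ) g = 0 := by
      by_contra hne
      exact hg ((h.supp g).mp hne)
    have h2 : (ψ : G → ℂ) (g * n) = 0 := by
      by_contra hne
      have := mul_mem ((h.supp _).mp hne) (inv_mem hn)
      rw [mul_inv_cancel_right] at this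
      exact hg this
    rw [h1, h2]
  · exact ((char_mul_of_mem_ker (isCharacter_of_irr ψ.2) (h.triv ψ hψ n hn) g).2).symm

theorem commute_centralizer (h : TwoClassData χ p N) :
    N ≤ Subgroup.centralizer (N : Set G) := fun x hx =>
  Subgroup.mem_centralizer_iff.2 fun y hy => h.comm y hy x hx

theorem centralizer_eq_self (h : TwoClassData χ p N) (hc : N = pCore p G) :
    Subgroup.centralizer (N : Set G) = N := by
  refine le_antisymm ?_ h.commute_centralizer
  obtain ⟨v, hv, hv1⟩ := N.bot_or_exists_ne_one.resolve_left h.ne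
  have h1 : IsPGroup p (Subgroup.centralizer (N : Set G)) :=
    (h.isPGroup_centralizer hv hv1).to_le
      (Subgroup.centralizer_le (Set.singleton_subset_iff.2 hv))
  have h2 := Base.le_pCore (N := Subgroup.centralizer (N : Set G)) h1
  rwa [← hc] at h2

theorem exp_eq (h : TwoClassData χ p N) : ∀ y ∈ N, y ^ p = 1 := by
  obtain ⟨q, hq, ⟨-, hexp⟩, -⟩ := isElementaryAbelian_of_all_conj N h.ne h.allConj
  obtain ⟨v, hv, hv1⟩ := N.bot_or_exists_ne_one.resolve_left h.ne
  obtain ⟨k, hk⟩ := IsPGroup.iff_orderOf.1 h.pg ⟨v, hv⟩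
  rw [Subgroup.orderOf_mk] at hk
  haveI := Fact.mk hq
  have hvq : orderOf v = q := orderOf_eq_prime (hexp v hv) hv1
  rw [hvq] at hk
  have : q = p := (Nat.prime_dvd_prime_iff_eq hq hp.out).1 (hq.dvd_of_dvd_pow (dvd_of_eq hk))
  exact fun y hy => this ▸ hexp y hy

/-- For odd `p` an involution inverts `N`, and its centralizer is a complement. -/
theorem exists_complement_odd (h : TwoClassData χ p N) (hc : N = pCore p G) (hp2 : p ≠ 2) :
    ∃ C : Subgroup G, Subgroup.IsComplement' N C := by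
  obtain ⟨v, hv, hv1⟩ := N.bot_or_exists_ne_one.resolve_left h.ne
  obtain ⟨k, hk⟩ := IsPGroup.iff_card.1 h.pg
  have hodd : Odd (Nat.card N) := hk ▸ (hp.out.odd_of_ne_two hp2).pow
  have h2 : 2 ∣ Nat.card G := by
    rw [← h.card_class hv hv1]
    obtain ⟨m, hm⟩ := hodd
    exact (show 2 ∣ Nat.card N - 1 from ⟨m, by omega⟩).mul_right _
  obtain ⟨t, ht⟩ := exists_prime_orderOf_dvd_card' (G := G) 2 h2
  have ht2 : t * t = 1 := by rw [← pow_two, ← ht, pow_orderOf_eq_one]
  have hfix : ∀ w ∈ N, t * w = w * t → w = 1 := by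
    intro w hw hcomm
    by_contra hw1
    obtain ⟨j, hj⟩ := IsPGroup.iff_orderOf.1 (h.isPGroup_centralizer hw hw1)
      ⟨t, Subgroup.mem_centralizer_singleton_iff.2 hcomm⟩
    rw [Subgroup.orderOf_mk, ht] at hj
    exact hp2 ((Nat.prime_dvd_prime_iff_eq Nat.prime_two hp.out).1
      (Nat.prime_two.dvd_of_dvd_pow (dvd_of_eq hj))).symm
  have hinv : ∀ w ∈ N, t * w * t⁻¹ = w⁻¹ := by
    intro w hw
    have hw' : t * w * t⁻¹ ∈ N := (inferInstance : N.Normal).conj_mem w hw t
    have hti : t⁻¹ = t := inv_eq_of_mul_eq_one_right ht2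
    refine eq_inv_of_mul_eq_one_right (hfix _ (mul_mem hw hw') ?_)
    rw [hti] at hw' ⊢
    calc t * (w * (t * w * t)) = (t * w * t) * w * t := by
          rw [show t * (w * (t * w * t)) = (t * w * t) * w * (t * 1) by
            rw [mul_one]; simp only [mul_assoc]]
          rw [mul_one]
      _ = w * (t * w * t) * t := by rw [h.comm _ hw' w hw]
  refine ⟨Subgroup.centralizer ({t} : Set G), Subgroup.isComplement'_of_disjoint_and_mul_eq_univ
    (disjoint_iff.2 ((Subgroup.eq_bot_iff_forall _).2 fun w hw => ?_)) ?_⟩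
  · obtain ⟨h1, h2⟩ := Subgroup.mem_inf.1 hw
    exact hfix w h1 (Subgroup.mem_centralizer_singleton_iff.1 h2).symm
  refine Set.eq_univ_of_forall fun g => ?_
  set s := g * t * g⁻¹ * t⁻¹ with hs
  have hsN : s ∈ N := by
    rw [← h.centralizer_eq_self hc]
    refine Subgroup.mem_centralizer_iff.2 fun w hw => ?_
    have hw' : g⁻¹ * w * g ∈ N := by
      simpa using (inferInstance : N.Normal).conj_mem w hw g⁻¹
    have hw2 : t⁻¹ * w * t = w⁻¹ := by
      have := congrArg (fun x => t⁻¹ * x * t) (hinv w⁻¹ (inv_mem hw))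
      simp [mul_assoc] at this
      simpa [mul_assoc] using this.symm
    have key : s * w * s⁻¹ = w := by
      calc s * w * s⁻¹ = g * (t * (g⁻¹ * (t⁻¹ * w * t) * g) * t⁻¹) * g⁻¹ := by rw [hs]; group
        _ = g * (g⁻¹ * w⁻¹ * g)⁻¹ * g⁻¹ := by
          rw [hw2, hinv _ (by simpa [mul_assoc] using inv_mem hw')]
        _ = w := by group
    exact (mul_inv_eq_iff_eq_mul.1 key).symm
  set m := s ^ ((Nat.card N + 1) / 2) with hm
  have hmN : m ∈ N := pow_mem hsN _
  have hmm : m * m = s := by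
    have h3 : (Nat.card N + 1) / 2 + (Nat.card N + 1) / 2 = Nat.card N + 1 := by
      obtain ⟨j, hj⟩ := hodd
      omega
    have h4 : s ^ Nat.card N = 1 := congrArg Subtype.val (pow_card_eq_one' (x := (⟨s, hsN⟩ : N)))
    rw [hm, ← pow_add, h3, pow_succ, h4, one_mul]
  refine Set.mem_mul.2 ⟨m, hmN, m⁻¹ * g, ?_, mul_inv_cancel_left m g⟩
  refine Subgroup.mem_centralizer_singleton_iff.2 ?_
  have h5 : g * t = s * t * g := by rw [hs]; group
  have h6 : t * m⁻¹ = m * t := by
    have := hinv m⁻¹ (inv_mem hmN)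
    rwa [inv_inv, mul_inv_eq_iff_eq_mul] at this
  calc m⁻¹ * g * t = m⁻¹ * (m * m) * t * g := by rw [mul_assoc, h5, hmm]; group
    _ = t * (m⁻¹ * g) := by rw [← mul_assoc t, h6]; group

/-- For `p = 2` the index of `N` is odd. -/
theorem not_two_dvd_index (h : TwoClassData χ p N) (hc : N = pCore p G) (hp2 : p = 2) :
    ¬ 2 ∣ N.index := by
  subst hp2
  intro hdvd
  haveI : Fact (Nat.Prime 2) := ⟨Nat.prime_two⟩
  rw [Subgroup.index_eq_card] at hdvd
  obtain ⟨tb, htb⟩ := exists_prime_orderOf_dvd_card' 2 hdvd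
  have hO : ∀ M : Subgroup (G ⧸ N), M.Normal → IsPGroup 2 M → tb ∉ M := by
    intro M hM hMp htM
    haveI := hM
    have h1 := Base.le_pCore (N := M.comap (QuotientGroup.mk' N)) (hMp.comap_of_ker_isPGroup _
      (by rw [QuotientGroup.ker_mk']; exact h.pg))
    rw [← hc] at h1
    obtain ⟨T, rfl⟩ := QuotientGroup.mk'_surjective N tb
    rw [show QuotientGroup.mk' N T = 1 from
      (QuotientGroup.eq_one_iff T).2 (h1 (Subgroup.mem_comap.2 htM)), orderOf_one] at htb
    exact absurd htb (by norm_num)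
  obtain ⟨xb, r, hr, hr2, hxr, hinv⟩ := FgsB.exists_odd_prime_inverted_by
    (t := tb) (by rw [← htb, pow_orderOf_eq_one]) hO
  obtain ⟨T, rfl⟩ := QuotientGroup.mk'_surjective N tb
  obtain ⟨x, rfl⟩ := QuotientGroup.mk'_surjective N xb
  set π := QuotientGroup.mk' N
  have hπN : ∀ {g : G}, π g = 1 ↔ g ∈ N := fun {g} => QuotientGroup.eq_one_iff g
  have hTN : T ∉ N := fun hT => by
    rw [hπN.2 hT, orderOf_one] at htb
    exact absurd htb (by norm_num)
  have hfpf : ∀ v ∈ N, x * v * x⁻¹ = v → v = 1 := by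
    intro v hv hxv
    by_contra hv1
    obtain ⟨j, hj⟩ := IsPGroup.iff_orderOf.1 (h.isPGroup_centralizer hv hv1)
      ⟨x, Subgroup.mem_centralizer_singleton_iff.2 (mul_inv_eq_iff_eq_mul.1 hxv)⟩
    rw [Subgroup.orderOf_mk] at hj
    exact hr2 ((Nat.prime_dvd_prime_iff_eq hr Nat.prime_two).1
      (hr.dvd_of_dvd_pow (n := j) (hxr ▸ hj ▸ orderOf_map_dvd π x)))
  have hsq : ∀ v ∈ N, v⁻¹ = v := fun v hv =>
    inv_eq_of_mul_eq_one_right (by rw [← pow_two]; exact h.exp_eq v hv)
  let φ : N → N := fun y => ⟨(y : G) * (x * y * x⁻¹),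
    mul_mem y.2 ((inferInstance : N.Normal).conj_mem _ y.2 x)⟩
  have hφ : Function.Injective φ := by
    intro a b hab
    have h1 : (a : G) * (x * a * x⁻¹) = (b : G) * (x * b * x⁻¹) := congrArg Subtype.val hab
    have h2 : (b : G)⁻¹ * a = x * ((b : G) * (a : G)⁻¹) * x⁻¹ := by
      calc (b : G)⁻¹ * a = (b : G)⁻¹ * ((a : G) * (x * a * x⁻¹)) * (x * (a : G) * x⁻¹)⁻¹ := by
            group
        _ = x * ((b : G) * (a : G)⁻¹) * x⁻¹ := by rw [h1]; group
    have h3 : (b : G) * (a : G)⁻¹ = (b : G)⁻¹ * a := by rw [hsq a a.2, hsq b b.2]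
    have h4 := hfpf _ (mul_mem b.2 (inv_mem a.2)) (h2.symm.trans h3.symm)
    exact Subtype.ext (mul_inv_eq_one.1 h4).symm
  have hwN : T * T ∈ N := by
    rw [← hπN, map_mul, ← pow_two, ← htb, pow_orderOf_eq_one]
  obtain ⟨y, hy⟩ := (Finite.injective_iff_surjective.1 hφ) ⟨T * T, hwN⟩
  have hw : (y : G) * (x * y * x⁻¹) = T * T := congrArg Subtype.val hy
  set z := T * (y : G) * T⁻¹ with hz
  have hzN : z ∈ N := (inferInstance : N.Normal).conj_mem _ y.2 T
  set s := T * x * T⁻¹ * x with hs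
  have hsN : s ∈ N := by
    rw [← hπN, hs, map_mul, map_mul, map_mul, map_inv, hinv, inv_mul_cancel]
  have hxz : x⁻¹ * z * x ∈ N := by
    simpa using (inferInstance : N.Normal).conj_mem z hzN x⁻¹
  have h1 : T * T = z * (x⁻¹ * z * x) := by
    calc T * T = T * ((y : G) * (x * y * x⁻¹)) * T⁻¹ := by rw [hw]; group
      _ = z * (s * (x⁻¹ * z * x) * s⁻¹) := by rw [hz, hs]; group
      _ = z * (x⁻¹ * z * x) := by rw [h.comm s hsN _ hxz, mul_inv_cancel_right]
  have hxy : x * (y : G) * x⁻¹ ∈ N := (inferInstance : N.Normal).conj_mem _ y.2 x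
  have h2 : φ ⟨x * (y : G) * x⁻¹, hxy⟩ = φ ⟨z, hzN⟩ := Subtype.ext (by
    show x * (y : G) * x⁻¹ * (x * (x * (y : G) * x⁻¹) * x⁻¹) = z * (x * z * x⁻¹)
    calc x * (y : G) * x⁻¹ * (x * (x * (y : G) * x⁻¹) * x⁻¹)
        = x * ((y : G) * (x * y * x⁻¹)) * x⁻¹ := by group
      _ = x * (z * (x⁻¹ * z * x)) * x⁻¹ := by rw [hw, h1]
      _ = (x * z * x⁻¹) * z := by group
      _ = z * (x * z * x⁻¹) := h.comm _ ((inferInstance : N.Normal).conj_mem _ hzN x) _ hzN)
  have h3 : x * (y : G) * x⁻¹ = z := congrArg Subtype.val (hφ h2)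
  rw [h3] at hw
  obtain ⟨g, hg⟩ : ∃ g, g = T * (y : G) := ⟨_, rfl⟩
  have hg2 : g * g = 1 := by
    calc g * g = z * (T * T) * (y : G) := by rw [hg, hz]; group
      _ = z * (z * y) * (y : G) := by rw [← hw, h.comm _ y.2 z hzN]
      _ = (z * z) * ((y : G) * y) := by group
      _ = 1 := by
        rw [← pow_two, ← pow_two, h.exp_eq z hzN, h.exp_eq _ y.2, one_mul]
  have hgN : g ∉ N := fun hgN => hTN (by
    have := mul_mem hgN (inv_mem y.2)
    rwa [hg, mul_inv_cancel_right] at this)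
  refine hgN (h.centralizer_eq_self hc ▸ Subgroup.mem_centralizer_iff.2 fun v hv => ?_)
  obtain ⟨c, hc'⟩ := isConj_iff.1 (h.isConj_mul hgN hv)
  have h4 : (g * v) * (g * v) = 1 := by
    rw [← hc', show c * g * c⁻¹ * (c * g * c⁻¹) = c * (g * g) * c⁻¹ by group, hg2]
    group
  calc v * g = g⁻¹ * ((g * v) * (g * v)) * v⁻¹ := by group
    _ = g * v := by rw [h4, mul_one, hsq v hv, inv_eq_of_mul_eq_one_right hg2]

theorem exists_complement (h : TwoClassData χ p N) (hc : N = pCore p G) :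
    ∃ C : Subgroup G, Subgroup.IsComplement' N C := by
  by_cases hp2 : p = 2
  · obtain ⟨k, hk⟩ := IsPGroup.iff_card.1 h.pg
    refine Subgroup.exists_right_complement'_of_coprime ?_
    rw [hk, hp2]
    exact ((Nat.prime_two.coprime_iff_not_dvd).2 (h.not_two_dvd_index hc hp2)).pow_left k
  · exact h.exists_complement_odd hc hp2

theorem norm_eq (h : TwoClassData χ p N) :
    charDegree (χ : G → ℂ) ^ 2 * Nat.card N = Nat.card G * (Nat.card N - 1) := by
  classical
  haveI := Fintype.ofFinite G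
  have h1 := inner_irr_self χ
  rw [inner_def, inv_mul_eq_iff_eq_mul₀ (card_ne_zero G), mul_one,
    ← Finset.sum_subset (Finset.subset_univ (Finset.univ.filter fun g => g ∈ N)) (fun g _ hg => by
      have : (χ : G → ℂ) g = 0 := by
        by_contra hne
        exact hg (Finset.mem_filter.2 ⟨Finset.mem_univ _, (h.supp g).1 hne⟩)
      rw [this, zero_mul]),
    ← Finset.add_sum_erase _ _
      (Finset.mem_filter.2 ⟨Finset.mem_univ (1 : G), one_mem N⟩)] at h1
  obtain ⟨v, hv, hv1⟩ := N.bot_or_exists_ne_one.resolve_left h.ne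
  set n : ℕ := Nat.card N with hn
  have hnv : ∀ x ∈ N, x ≠ 1 → ((n : ℂ) - 1) * (χ : G → ℂ) x = -(charDegree (χ : G → ℂ) : ℂ) := by
    intro x hx hx1
    rw [← deg_eq]
    linear_combination h.val x hx hx1
  have hn1 : 1 < n := by
    rw [hn, Finite.one_lt_card_iff_nontrivial, Subgroup.nontrivial_iff_ne_bot]
    exact h.ne
  have hn0 : ((n : ℂ) - 1) ≠ 0 := by
    rw [sub_ne_zero]
    exact_mod_cast hn1.ne'
  have h2 := congrArg (fun z => ((n : ℂ) - 1) * ((n : ℂ) - 1) * z) h1
  simp only [mul_add, Finset.mul_sum] at h2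
  rw [Finset.sum_congr rfl (g := fun _ => (charDegree (χ : G → ℂ) : ℂ) ^ 2) (fun x hx => by
    obtain ⟨hx1, hxN⟩ := Finset.mem_erase.1 hx
    have h3 := hnv x (Finset.mem_filter.1 hxN).2 hx1
    have h4 := congrArg conj h3
    rw [map_mul, map_sub, map_natCast, map_one, map_neg, map_natCast] at h4
    linear_combination (((n : ℂ) - 1) * conj ((χ : G → ℂ) x)) * h3
      - (charDegree (χ : G → ℂ) : ℂ) * h4),
    Finset.sum_const, Finset.card_erase_of_mem (by simp), deg_eq, map_natCast, nsmul_eq_mul] at h2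
  have hcard : (Finset.univ.filter fun g => g ∈ N).card = n := by
    rw [hn, Nat.card_eq_fintype_card, Fintype.card_subtype]
  rw [hcard, Nat.cast_sub hn1.le, Nat.cast_one] at h2
  have h5 : ((charDegree (χ : G → ℂ) ^ 2 * n : ℕ) : ℂ) = ((Nat.card G * (n - 1) : ℕ) : ℂ) := by
    push_cast [Nat.cast_sub hn1.le]
    refine mul_left_cancel₀ hn0 ?_
    linear_combination h2
  exact_mod_cast h5

/-- A complement has order `|N| - 1`. -/
theorem card_complement (h : TwoClassData χ p N) {C : Subgroup G}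
    (hC : Subgroup.IsComplement' N C) : Nat.card C + 1 = Nat.card N := by
  classical
  haveI := Fintype.ofFinite C
  haveI := Fintype.ofFinite G
  have hres := isCharacter_restrict C (isCharacter_of_irr χ.2)
  obtain ⟨m, hm⟩ := inner_char_nat hres (isCharacter_of_irr (isIrrCharacter_one (G := C)))
  have h1 : ∀ x : C, x ≠ 1 → (χ : G → ℂ) x = 0 := fun x hx => by
    by_contra hne
    refine hx (Subtype.ext (Subgroup.mem_bot.1 (hC.disjoint.le_bot ⟨(h.supp x).1 hne, x.2⟩)))
  rw [inner_def, Finset.sum_eq_single (1 : C) (fun x _ hx => by rw [h1 x hx, zero_mul]) (by simp),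
    map_one, mul_one, OneMemClass.coe_one, deg_eq,
    inv_mul_eq_iff_eq_mul₀ (card_ne_zero C)] at hm
  have hm' : charDegree (χ : G → ℂ) = Nat.card C * m := by exact_mod_cast hm
  have hcard : Nat.card N * Nat.card C = Nat.card G := hC.card_mul
  have h2 := h.norm_eq
  rw [hm', ← hcard] at h2
  have hn : 0 < Nat.card N := Nat.card_pos
  have hC0 : 0 < Nat.card C := Nat.card_pos
  have h3 : Nat.card C * m ^ 2 = Nat.card N - 1 :=
    Nat.eq_of_mul_eq_mul_left (Nat.mul_pos hn hC0) (by rw [← h2]; ring)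
  obtain ⟨v, hv, hv1⟩ := N.bot_or_exists_ne_one.resolve_left h.ne
  have h4 : (Nat.card N - 1) * Nat.card N ≤ Nat.card C * Nat.card N := by
    rw [mul_comm (Nat.card C), hcard, ← h.card_class hv hv1]
    refine Nat.mul_le_mul_left _ (Subgroup.card_le_of_le fun w hw => ?_)
    exact Subgroup.mem_centralizer_singleton_iff.2 (h.comm w hw v hv)
  have h5 := Nat.le_of_mul_le_mul_right h4 hn
  have h6 : 2 ≤ Nat.card N := by
    rw [Nat.succ_le_iff, Finite.one_lt_card_iff_nontrivial, Subgroup.nontrivial_iff_ne_bot]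
    exact h.ne
  have h7 : m = 1 := by
    rcases Nat.lt_or_ge m 2 with hm2 | hm2
    · interval_cases m
      · rw [pow_two, mul_zero, mul_zero] at h3; omega
      · rfl
    · have : 2 * 2 ≤ m ^ 2 := by rw [pow_two]; exact Nat.mul_le_mul hm2 hm2
      nlinarith
  rw [h7] at h3
  omega

/-- The doubly transitive Frobenius structure. -/
theorem exists_frobenius (hG : 2 < Nat.card G) (h : TwoClassData χ p N) (hc : N = pCore p G) :
    ∃ H : Subgroup G, IsFrobeniusComplement H ∧ frobeniusKernel H = (N : Set G) ∧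
      Nat.card H + 1 = Nat.card N := by
  obtain ⟨C, hC⟩ := h.exists_complement hc
  have hcard := h.card_complement hC
  have hne : C ≠ ⊥ := by
    rintro rfl
    rw [Subgroup.card_bot] at hcard
    have := hC.card_mul
    rw [Subgroup.card_bot, ← hcard] at this
    omega
  have hF : IsFrobeniusComplement C := by
    refine (Base.Frobenius.isFrobeniusComplement_iff N C hC h.ne hne).2 fun x hx hx1 => ?_
    refine (Subgroup.eq_bot_iff_forall _).2 fun v hv => by_contra fun hv1 => ?_
    obtain ⟨hvN, hvx⟩ := Subgroup.mem_inf.1 hv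
    obtain ⟨j, hj⟩ := IsPGroup.iff_orderOf.1 (h.isPGroup_centralizer hvN hv1)
      ⟨x, Subgroup.mem_centralizer_singleton_iff.2
        (Subgroup.mem_centralizer_singleton_iff.1 hvx).symm⟩
    rw [Subgroup.orderOf_mk] at hj
    have h1 : orderOf x ∣ Nat.card C := C.orderOf_dvd_natCard hx
    rcases j with _ | j
    · exact hx1 (orderOf_eq_one_iff.1 (by rw [hj, pow_zero]))
    · refine h.not_dvd_pred ?_
      rw [show Nat.card N - 1 = Nat.card C by omega]
      exact (dvd_pow_self p j.succ_ne_zero).trans (hj ▸ h1)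
  exact ⟨C, hF, Base.Frobenius.frobeniusKernel_eq hF N hC, hcard⟩

theorem eq_pCore_of_frobenius (h : TwoClassData χ p N) {H : Subgroup G}
    (hH : IsFrobeniusComplement H) (hker : frobeniusKernel H = (N : Set G))
    (hcard : Nat.card H + 1 = Nat.card N) : N = pCore p G := by
  have hidx : H.index = Nat.card N := by
    rw [← Base.Frobenius.card_frobeniusKernel hH, hker]
    rfl
  obtain ⟨k, hk⟩ := IsPGroup.iff_card.1 (Base.isPGroup_pCore p G)
  have hd : Nat.card (pCore p G) ∣ Nat.card H * Nat.card N := by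
    rw [← hidx, H.card_mul_index]
    exact Subgroup.card_subgroup_dvd_card _
  have hco : (Nat.card (pCore p G)).Coprime (Nat.card H) := by
    rw [hk, show Nat.card H = Nat.card N - 1 by omega]
    exact (hp.out.coprime_iff_not_dvd.2 h.not_dvd_pred).pow_left k
  exact Subgroup.eq_of_le_of_card_ge (Base.le_pCore h.pg)
    (Nat.le_of_dvd Nat.card_pos (hco.dvd_of_dvd_mul_left hd))

end TwoClassData

end CfsgLib.CharApps
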