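import Cfsg.Agent.Lib.CharApps.TwoClassCore
import Cfsg.Agent.Lib.CharApps.RegularHallLinear

/-!
# Solvable groups with a character nonzero on two classes
-/

set_option autoImplicit false
set_option linter.style.haveILetI false
set_option linter.unusedSectionVars false

namespace CfsgLib.CharApps

open Cfsg Subgroup

variable {G : Type*} [Group G] [Finite G]

theorem twoClass_solvable_structure [Group.IsSolvable G] (hG : 2 < Nat.card G)
    (χ : IrrCharacter G)
    (hχ : Nat.card {C : ConjClasses G // ∃ g ∈ C.carrier, (χ : G → ℂ) g ≠ 0} = 2) :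
    ∃ p : ℕ, p.Prime ∧ (∀ q : ℕ, q.Prime → (pCore q G ≠ ⊥ ↔ q = p)) ∧
      HasNormalPComplement p (G ⧸ pCore p G) ∧
      ∀ Q : Sylow p (G ⧸ pCore p G), IsMulCommutative (Q : Subgroup (G ⧸ pCore p G)) := by
  classical
  obtain ⟨N, hn, hne, hsupp, hconj, -, -, -⟩ := twoClass_main hG χ hχ
  haveI := hn
  obtain ⟨p, hp, he, -⟩ := isElementaryAbelian_of_all_conj N hne hconj
  haveI := Fact.mk hp
  have hNp : IsPGroup p N := fun x => ⟨1, Subtype.ext (by simpa using he.2 x x.2)⟩
  have h := twoClassData hG χ hχ (fun g => (hsupp g).symm) hNp hne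
  obtain ⟨x, hx, hx1⟩ := N.bot_or_exists_ne_one.resolve_left hne
  have hNpc : N ≤ pCore p G := Base.le_pCore hNp
  set C := centralizer (N : Set G) with hC
  haveI : C.Normal := inferInstance
  have hCp : IsPGroup p C := (h.isPGroup_centralizer hx hx1).to_le
    (centralizer_le (Set.singleton_subset_iff.2 hx))
  have hCcore : C ≤ pCore p G := Base.le_pCore hCp
  -- the core centralises `N`
  have hcoreC : pCore p G ≤ C := by
    set R := pCore p G with hR
    haveI hRn : R.Normal := pCore_normal p G
    set F := N ⊓ centralizer (R : Set G) with hF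
    have hFne : F ≠ ⊥ := by
      obtain ⟨P, hP⟩ := (Base.isPGroup_pCore p G).exists_le_sylow
      obtain ⟨Px, hPx⟩ := h.exists_sylow_centralizer hx hx1
      have hR' : R ≤ (Px : Subgroup G) := by
        obtain ⟨g, hg⟩ := MulAction.exists_smul_eq G P Px
        have h1 : R.map (MulAut.conj g).toMonoidHom ≤ (Px : Subgroup G) := by
          rw [← hg, Sylow.coe_subgroup_smul]
          exact Subgroup.map_mono hP
        intro r hr
        exact h1 ⟨g⁻¹ * r * g, by simpa using hRn.conj_mem r hr g⁻¹, by simp [mul_assoc]⟩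
      intro hbot
      have hmem : x ∈ F := ⟨hx, mem_centralizer_iff.2 fun y hy => by
        have := hR' hy
        rw [← hPx, mem_centralizer_singleton_iff] at this
        exact this⟩
      rw [hbot, mem_bot] at hmem
      exact hx1 hmem
    obtain ⟨y, hy, hy1⟩ := F.bot_or_exists_ne_one.resolve_left hFne
    intro r hr
    rw [hC, mem_centralizer_iff]
    intro z hz
    rcases eq_or_ne z 1 with rfl | hz1
    · simp
    obtain ⟨g, hg⟩ := hconj y hy.1 z hz hy1 hz1
    have hrg : g⁻¹ * r * g ∈ R := by simpa using hRn.conj_mem r hr g⁻¹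
    have h1 := mem_centralizer_iff.1 hy.2 _ hrg
    rw [← hg]
    calc g * y * g⁻¹ * r = g * (y * (g⁻¹ * r * g)) * g⁻¹ := by group
      _ = g * (g⁻¹ * r * g * y) * g⁻¹ := by rw [h1]
      _ = r * (g * y * g⁻¹) := by group
  have hCeq : C = pCore p G := le_antisymm hCcore hcoreC
  refine ⟨p, hp, fun q hq => ⟨fun hq1 => ?_, fun e => e ▸ fun hb => hne (le_bot_iff.1 (hb ▸ hNpc))⟩, ?_⟩
  · by_contra hqp
    haveI := Fact.mk hq
    haveI : (pCore q G).Normal := pCore_normal q G
    refine hq1 ?_
    have hd : Disjoint (pCore q G) N :=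
      IsPGroup.disjoint_of_ne q p hqp _ _ (Base.isPGroup_pCore q G) hNp
    have hle : pCore q G ≤ C := fun r hr => mem_centralizer_iff.2 fun z hz =>
      (Subgroup.commute_of_normal_of_disjoint _ _ inferInstance inferInstance hd r z hr hz).eq.symm
    exact disjoint_self.1 ((IsPGroup.disjoint_of_ne q p hqp _ _ (Base.isPGroup_pCore q G)
      (Base.isPGroup_pCore p G)).mono le_rfl (hle.trans hCcore))
  -- the action
  haveI hNc : IsMulCommutative N := ⟨⟨fun a b => Subtype.ext (h.comm a a.2 b b.2)⟩⟩
  letI : CommGroup N :=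
    { (inferInstance : Group N) with mul_comm := fun a b => hNc.is_comm.comm a b }
  haveI : (pCore p G).Normal := pCore_normal p G
  let ψ : G →* MulAut N := MulAut.conjNormal
  have hker : pCore p G ≤ ψ.ker := fun g hg => by
    rw [MonoidHom.mem_ker]
    refine MulEquiv.ext fun z => Subtype.ext ?_
    rw [MulAut.conjNormal_apply, ← mem_centralizer_iff.1 (hcoreC hg) z z.2, mul_inv_cancel_right]
    rfl
  let φ : G ⧸ pCore p G →* MulAut N := QuotientGroup.lift _ ψ hker
  refine RegLin.main (φ := φ) ?_
  refine ⟨?_, inferInstance, Base.pCore_quotient_pCore p G,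
    fun v => Subtype.ext (by simpa using he.2 v v.2), ?_, ?_, ⟨⟨⟨x, hx⟩, 1, fun e => hx1 (congrArg Subtype.val e)⟩⟩⟩
  · rw [injective_iff_map_eq_one]
    intro q hq
    induction q using QuotientGroup.induction_on with
    | H g =>
      rw [QuotientGroup.eq_one_iff]
      apply hCcore
      refine mem_centralizer_iff.2 fun z hz => ?_
      have h1 := congrArg Subtype.val (MulEquiv.congr_fun hq ⟨z, hz⟩)
      have h2 : g * z * g⁻¹ = z := h1
      exact (mul_inv_eq_iff_eq_mul.1 h2).symm
  · intro q v hv hfix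
    induction q using QuotientGroup.induction_on with
    | H g =>
      have h2 : g * (v : G) * g⁻¹ = v := congrArg Subtype.val hfix
      have hg : g ∈ centralizer ({(v : G)} : Set G) :=
        mem_centralizer_singleton_iff.2 (mul_inv_eq_iff_eq_mul.1 h2)
      obtain ⟨k, hk⟩ := IsPGroup.iff_orderOf.1
        (h.isPGroup_centralizer v.2 fun e => hv (Subtype.ext e)) ⟨g, hg⟩
      rw [Subgroup.orderOf_mk] at hk
      obtain ⟨j, -, hj⟩ := (Nat.dvd_prime_pow hp).1
        (hk ▸ orderOf_map_dvd (QuotientGroup.mk' (pCore p G)) g)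
      exact ⟨j, hj⟩
  · have hcl := h.card_class hx hx1
    obtain ⟨Px, hPx⟩ := h.exists_sylow_centralizer hx hx1
    obtain ⟨a, ha⟩ := IsPGroup.iff_card.1 Px.isPGroup'
    obtain ⟨b, hb⟩ := IsPGroup.iff_card.1 (Base.isPGroup_pCore p G)
    rw [hPx, ha] at hcl
    have h1 := Subgroup.card_eq_card_quotient_mul_card_subgroup (pCore p G)
    rw [← hcl, hb] at h1
    have hba : b ≤ a := by
      have := Subgroup.card_dvd_of_le (show pCore p G ≤ (Px : Subgroup G) from
        hPx ▸ hcoreC.trans (centralizer_le (Set.singleton_subset_iff.2 hx)))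
      rw [ha, hb] at this
      exact (Nat.pow_dvd_pow_iff_le_right hp.one_lt).1 this
    rw [show p ^ a = p ^ (a - b) * p ^ b by rw [← pow_add, Nat.sub_add_cancel hba], ← mul_assoc] at h1
    have h2 := Nat.eq_of_mul_eq_mul_right (pow_pos hp.pos b) h1
    have hm : ¬ p ∣ Nat.card N - 1 := h.not_dvd_pred
    have hm0 : Nat.card N - 1 ≠ 0 := fun e => hm (e ▸ dvd_zero p)
    have hfac : (Nat.card (G ⧸ pCore p G)).factorization p = a - b := by
      rw [← h2, Nat.factorization_mul hm0 (pow_pos hp.pos _).ne', Finsupp.add_apply,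
        Nat.factorization_eq_zero_of_not_dvd hm, hp.factorization_pow, Finsupp.single_eq_same,
        zero_add]
    rw [hfac]
    exact h2.symm

end CfsgLib.CharApps
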