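import Cfsg.Agent.Lib.CharApps.TwoClass
import Cfsg.Agent.Lib.Chars.Quotient
import Cfsg.Agent.Lib.Chars.Degree
import Cfsg.Agent.Lib.CharsMore.Clifford
import Cfsg.Agent.Lib.Coprime.Action

/-!
# Sylow subgroups in a group with a character nonzero on two classes
-/

set_option autoImplicit false
set_option linter.style.haveILetI false
set_option linter.unusedSectionVars false

namespace CfsgLib.CharApps

open Cfsg CfsgLib.Chars
open scoped ComplexConjugate

universe u

variable {G : Type u} [Group G] [Finite G]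

/-- The facts about such a character that are used. -/
structure TwoClassData (χ : IrrCharacter G) (p : ℕ) (N : Subgroup G) : Prop where
  supp : ∀ g : G, (χ : G → ℂ) g ≠ 0 ↔ g ∈ N
  allConj : ∀ x ∈ N, ∀ y ∈ N, x ≠ 1 → y ≠ 1 → ∃ g : G, g * x * g⁻¹ = y
  faith : ∀ g : G, (χ : G → ℂ) g = (χ : G → ℂ) 1 → g = 1
  triv : ∀ ψ : IrrCharacter G, ψ ≠ χ → ∀ g ∈ N, (ψ : G → ℂ) g = (ψ : G → ℂ) 1
  val : ∀ x ∈ N, x ≠ 1 → (χ : G → ℂ) 1 + ((Nat.card N : ℂ) - 1) * (χ : G → ℂ) x = 0
  pg : IsPGroup p N
  comm : ∀ x ∈ N, ∀ y ∈ N, x * y = y * x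
  ne : N ≠ ⊥

theorem twoClassData (hG : 2 < Nat.card G) (χ : IrrCharacter G)
    (hχ : Nat.card {C : ConjClasses G // ∃ g ∈ C.carrier, (χ : G → ℂ) g ≠ 0} = 2) {p : ℕ}
    {N : Subgroup G} [N.Normal] (hN : ∀ g : G, g ∈ N ↔ (χ : G → ℂ) g ≠ 0) (hNp : IsPGroup p N)
    (hN1 : N ≠ ⊥) : TwoClassData χ p N := by
  obtain ⟨R, hn, hne, hsupp, hconj, hfaith, htriv, hval⟩ := twoClass_main hG χ hχ
  have hRN : R = N := by
    ext g; rw [hN, hsupp]
  subst hRN
  obtain ⟨_, _, ⟨⟨⟨hcomm⟩⟩, -⟩, -⟩ := isElementaryAbelian_of_all_conj R hne hconj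
  exact ⟨hsupp, hconj, hfaith, htriv, hval, hNp,
    fun x hx y hy => congrArg Subtype.val (hcomm ⟨x, hx⟩ ⟨y, hy⟩), hN1⟩

namespace TwoClassData

variable {χ : IrrCharacter G} {p : ℕ} [hp : Fact p.Prime] {N : Subgroup G} [N.Normal]

theorem not_triv (h : TwoClassData χ p N) : ¬ ∀ x ∈ N, (χ : G → ℂ) x = (χ : G → ℂ) 1 := fun hall =>
  h.ne ((Subgroup.eq_bot_iff_forall N).mpr fun x hx => h.faith x (hall x hx))

theorem card_centralizer_quot (h : TwoClassData χ p N) {x : G} (hx : x ∉ N) :
    Nat.card (Subgroup.centralizer ({x} : Set G)) =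
      Nat.card (Subgroup.centralizer ({(x : G ⧸ N)} : Set (G ⧸ N))) := by
  classical
  haveI := Fintype.ofFinite G
  haveI := irrFintype G
  haveI := irrFintype (G ⧸ N)
  have e1 := second_orthogonality x x
  have e2 := second_orthogonality (x : G ⧸ N) (x : G ⧸ N)
  rw [if_pos (IsConj.refl _)] at e1 e2
  have h0 : (χ : G → ℂ) x = 0 := by
    by_contra hne
    exact hx ((h.supp x).mp hne)
  let P : IrrCharacter G → Prop := fun ψ => ∀ z ∈ N, (ψ : G → ℂ) z = (ψ : G → ℂ) 1
  have h3 : ∑ ψ : IrrCharacter G, (ψ : G → ℂ) x * conj ((ψ : G → ℂ) x) =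
      ∑ ψ : IrrCharacter (G ⧸ N), (ψ : G ⧸ N → ℂ) x * conj ((ψ : G ⧸ N → ℂ) x) := by
    rw [← Finset.sum_subset (Finset.subset_univ (Finset.univ.filter P)) (fun ψ _ hψ => by
      have : ψ = χ := by
        by_contra hne
        exact hψ (Finset.mem_filter.mpr ⟨Finset.mem_univ _, h.triv ψ hne⟩)
      rw [this, h0, zero_mul]), Finset.sum_subtype (Finset.univ.filter P) (p := P) (by simp)]
    exact (Fintype.sum_equiv (quotientIrrEquiv N) _ _ fun ψ => rfl).symm
  exact_mod_cast (e1.symm.trans (h3.trans e2) : _)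

theorem isPGroup_centralizer (h : TwoClassData χ p N) {x : G} (hx : x ∈ N) (hx1 : x ≠ 1) :
    IsPGroup p ↥(Subgroup.centralizer ({x} : Set G)) := by
  rw [IsPGroup.iff_card]
  refine ⟨_, Nat.eq_prime_pow_of_unique_prime_dvd Nat.card_pos.ne' fun {r} hr hrd => ?_⟩
  by_contra hrp
  haveI : Fact r.Prime := ⟨hr⟩
  obtain ⟨⟨y, hy⟩, hyr⟩ := exists_prime_orderOf_dvd_card' r hrd
  rw [Subgroup.orderOf_mk] at hyr
  have hyN : y ∉ N := fun hmem => by
    obtain ⟨k, hk⟩ := h.pg ⟨y, hmem⟩
    have h1 : orderOf y ∣ p ^ k := orderOf_dvd_of_pow_eq_one (congrArg Subtype.val hk)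
    rw [hyr] at h1
    exact hrp ((Nat.prime_dvd_prime_iff_eq hr hp.out).mp (hr.dvd_of_dvd_pow h1))
  have e := h.card_centralizer_quot hyN
  set q := QuotientGroup.mk' N
  set Cy := Subgroup.centralizer ({y} : Set G)
  have hcop : (Nat.card (Subgroup.zpowers y)).Coprime (Nat.card N) := by
    obtain ⟨k, hk⟩ := IsPGroup.iff_card.mp h.pg
    rw [Nat.card_zpowers, hyr, hk]
    exact ((Nat.coprime_primes hr hp.out).mpr hrp).pow_right k
  let π : Cy →* G ⧸ N := q.comp Cy.subtype
  have hsurj : Subgroup.centralizer ({(y : G ⧸ N)} : Set (G ⧸ N)) ≤ π.range := by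
    intro c hc
    obtain ⟨g, rfl⟩ := QuotientGroup.mk'_surjective N c
    have hfix : ∀ a ∈ Subgroup.zpowers y, g⁻¹ * (a * g * a⁻¹) ∈ N := by
      rintro _ ⟨i, rfl⟩
      rw [← QuotientGroup.eq_one_iff]
      have h3 : Commute (g : G ⧸ N) (y : G ⧸ N) := Subgroup.mem_centralizer_singleton_iff.mp hc
      simp only [QuotientGroup.mk_mul, QuotientGroup.mk_inv, QuotientGroup.mk_zpow]
      rw [← (h3.zpow_right i).eq]
      group
    obtain ⟨c, hc', hgc⟩ := Coprime.exists_centralizing_in_coset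
      (fun z _ => Subgroup.normalizer_eq_top (H := N) ▸ Subgroup.mem_top z) hcop
      (Or.inl (Group.isSolvable_of_comm mul_comm')) hfix
    refine ⟨⟨c, Subgroup.mem_centralizer_singleton_iff.mpr
      (Subgroup.mem_centralizer_iff.mp hc' y (Subgroup.mem_zpowers y)).symm⟩, ?_⟩
    exact (QuotientGroup.eq.mpr hgc).symm
  have hle : Nat.card (Subgroup.centralizer ({(y : G ⧸ N)} : Set (G ⧸ N))) ≤ Nat.card π.range :=
    Subgroup.card_le_of_le hsurj
  have hker : 1 < Nat.card π.ker := by
    rw [Finite.one_lt_card_iff_nontrivial]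
    have hxy : (⟨x, Subgroup.mem_centralizer_singleton_iff.mpr
        (Subgroup.mem_centralizer_singleton_iff.mp hy).symm⟩ : Cy) ∈ π.ker :=
      MonoidHom.mem_ker.mpr ((QuotientGroup.eq_one_iff x).mpr hx)
    exact ⟨⟨⟨_, hxy⟩, 1, fun e => hx1 (congrArg (fun z : π.ker => ((z : Cy) : G)) e)⟩⟩
  have h4 := π.ker.card_mul_index
  rw [Subgroup.index_ker] at h4
  have h5 : Nat.card Cy ≤ Nat.card π.range := e ▸ hle
  have h6 : 0 < Nat.card π.range := Nat.card_pos
  nlinarith

theorem card_class (h : TwoClassData χ p N) {x : G} (hx : x ∈ N) (hx1 : x ≠ 1) :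
    (Nat.card N - 1) * Nat.card (Subgroup.centralizer ({x} : Set G)) = Nat.card G := by
  classical
  rw [← card_isConj_mul_card_centralizer x]
  congr 1
  haveI := Fintype.ofFinite G
  rw [Nat.card_eq_fintype_card, Nat.card_eq_fintype_card, Fintype.card_subtype, Fintype.card_subtype,
    show (Finset.univ.filter fun z => IsConj x z) = (Finset.univ.filter fun z => z ∈ N).erase 1 from
      Finset.ext fun z => by
        simp only [Finset.mem_filter, Finset.mem_univ, true_and, Finset.mem_erase]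
        constructor
        · intro hc
          obtain ⟨g, rfl⟩ := isConj_iff.mp hc
          exact ⟨fun e => hx1 (conj_eq_one_iff.mp e), ‹N.Normal›.conj_mem x hx g⟩
        · rintro ⟨hz1, hz⟩
          exact isConj_iff.mpr (h.allConj x hx z hz hx1 hz1),
    Finset.card_erase_of_mem (by simp)]

theorem not_dvd_pred (h : TwoClassData χ p N) : ¬ p ∣ (Nat.card N - 1) := fun hd => by
  obtain ⟨k, hk⟩ := IsPGroup.iff_card.mp h.pg
  have hk0 : k ≠ 0 := fun e => h.ne (Subgroup.card_eq_one.mp (by rw [hk, e, pow_zero]))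
  have h1 : 1 ≤ Nat.card N := Nat.card_pos
  have h2 : p ∣ Nat.card N := hk ▸ dvd_pow_self p hk0
  have h3 : p ∣ 1 := by
    have := Nat.dvd_sub h2 hd
    rwa [Nat.sub_sub_self h1] at this
  exact hp.out.one_lt.ne' (Nat.dvd_one.mp h3)

theorem exists_sylow_centralizer (h : TwoClassData χ p N) {x : G} (hx : x ∈ N) (hx1 : x ≠ 1) :
    ∃ P : Sylow p G, Subgroup.centralizer ({x} : Set G) = P := by
  have hi : ¬ p ∣ (Subgroup.centralizer ({x} : Set G)).index := by
    have h1 := h.card_class hx hx1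
    have h2 := (Subgroup.centralizer ({x} : Set G)).card_mul_index
    rw [← h1, mul_comm (Nat.card N - 1)] at h2
    rw [Nat.eq_of_mul_eq_mul_left Nat.card_pos h2]
    exact h.not_dvd_pred
  exact ⟨(h.isPGroup_centralizer hx hx1).toSylow hi, rfl⟩

theorem exists_sylow_inertia (h : TwoClassData χ p N) (μ : IrrCharacter N)
    (hμ : (μ : N → ℂ) ≠ fun _ => 1) : ∃ P : Sylow p G, ∀ g : G, g ∈ (P : Subgroup G) ↔
      ∀ n n' : N, (n' : G) = g * n * g⁻¹ → (μ : N → ℂ) n' = (μ : N → ℂ) n := by
  classical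
  haveI := Fintype.ofFinite G
  haveI := Fintype.ofFinite N
  haveI := irrFintype N
  have hcomm : ∀ a b : N, a * b = b * a := fun a b => Subtype.ext (h.comm a a.2 b b.2)
  have hN0 : (Nat.card N : ℂ) ≠ 0 := Chars.card_ne_zero N
  -- every nontrivial linear character of `N` is a constituent
  have hmem : ∀ φ : IrrCharacter N, φ ≠ oneIrr N →
      classInner (fun n : N => (χ : G → ℂ) n) (φ : N → ℂ) ≠ 0 := by
    intro φ hφ
    have h1 : (φ : N → ℂ) 1 = 1 := irr_abelian_degree hcomm φ.2
    have hsum : ∑ n : N, conj ((φ : N → ℂ) n) = 0 := by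
      have h2 := inner_irr_ne (χ := oneIrr N) (ψ := φ) (Ne.symm hφ)
      rw [inner_def, mul_eq_zero] at h2
      simpa [oneIrr_apply] using h2.resolve_left (inv_ne_zero hN0)
    rw [inner_def]
    refine mul_ne_zero (inv_ne_zero hN0) ?_
    obtain ⟨a, ha1⟩ : ∃ a : N, a ≠ 1 := by
      obtain ⟨a, ha, ha1⟩ := (Subgroup.bot_or_exists_ne_one N).resolve_left h.ne
      exact ⟨⟨a, ha⟩, fun e => ha1 (congrArg Subtype.val e)⟩
    have hq2 : (Nat.card N : ℂ) - 1 ≠ 0 := by
      intro e
      have h0 := h.val a a.2 fun e' => ha1 (Subtype.ext e')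
      rw [e, zero_mul, add_zero] at h0
      exact deg_ne_zero χ h0
    have hval : ∀ n : N, (χ : G → ℂ) n * conj ((φ : N → ℂ) n) =
        (-(χ : G → ℂ) 1 / ((Nat.card N : ℂ) - 1)) * conj ((φ : N → ℂ) n) +
        if n = 1 then (χ : G → ℂ) 1 + (χ : G → ℂ) 1 / ((Nat.card N : ℂ) - 1) else 0 := by
      intro n
      split_ifs with hn
      · subst hn; rw [h1, map_one, OneMemClass.coe_one]; field_simp; ring
      · have h0 := h.val n n.2 fun e' => hn (Subtype.ext e')
        rw [add_zero]
        congr 1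
        rw [eq_div_iff hq2]
        linear_combination h0
    rw [Finset.sum_congr rfl fun n _ => hval n, Finset.sum_add_distrib, ← Finset.mul_sum, hsum,
      mul_zero, zero_add, Finset.sum_ite_eq', if_pos (Finset.mem_univ _)]
    intro e
    have h2 : (χ : G → ℂ) 1 * (Nat.card N : ℂ) = 0 := by
      field_simp at e
      linear_combination e
    exact mul_ne_zero (deg_ne_zero χ) hN0 h2
  have hμ' : μ ≠ oneIrr N := fun e => hμ (congrArg Subtype.val e)
  have horb : CharsMore.orbitFn N (μ : N → ℂ) =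
      (Finset.univ.erase (oneIrr N)).image (fun φ : IrrCharacter N => (φ : N → ℂ)) := by
    ext f
    simp only [CharsMore.mem_orbitFn, Finset.mem_image, Finset.mem_erase, Finset.mem_univ, and_true]
    constructor
    · rintro ⟨g, rfl⟩
      refine ⟨⟨_, CharsMore.isIrr_conjFn N g μ.2⟩, fun e => hμ ?_, rfl⟩
      have e' : CharsMore.conjFn N g (μ : N → ℂ) = fun _ => 1 := congrArg Subtype.val e
      funext n
      obtain ⟨m, rfl⟩ := CharsMore.conjBy_surjective N g n
      exact congrFun e' m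
    · rintro ⟨φ, hφ, rfl⟩
      exact CharsMore.restrict_constituents_conj N χ.2 μ.2 φ.2 (hmem μ hμ') (hmem φ hφ)
  have hidx : (CharsMore.inertia N (μ : N → ℂ)).index = Nat.card N - 1 := by
    rw [← CharsMore.card_orbitFn, horb, Finset.card_image_of_injective _ Subtype.val_injective,
      Finset.card_erase_of_mem (Finset.mem_univ _), Finset.card_univ]
    congr 1
    have h1 := sum_degree_mul (G := N) 1
    rw [if_pos rfl, Finset.sum_congr rfl (fun φ _ => by rw [irr_abelian_degree hcomm φ.2, one_mul]),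
      Finset.sum_const, Finset.card_univ, nsmul_eq_mul, mul_one] at h1
    exact_mod_cast h1
  obtain ⟨a, ha, ha1⟩ := (Subgroup.bot_or_exists_ne_one N).resolve_left h.ne
  obtain ⟨P₀, hP₀⟩ := h.exists_sylow_centralizer ha ha1
  have hcard : Nat.card (CharsMore.inertia N (μ : N → ℂ)) = Nat.card (P₀ : Subgroup G) := by
    have h1 := h.card_class ha ha1
    have h2 := (CharsMore.inertia N (μ : N → ℂ)).card_mul_index
    rw [hidx, ← h1, hP₀, mul_comm (Nat.card N - 1)] at h2
    exact Nat.eq_of_mul_eq_mul_right (Nat.pos_of_ne_zero fun e => h.not_dvd_pred (by rw [e]; exact dvd_zero p)) h2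
  have hpg : IsPGroup p (CharsMore.inertia N (μ : N → ℂ)) := by
    obtain ⟨k, hk⟩ := IsPGroup.iff_card.mp P₀.2
    exact IsPGroup.of_card (hcard.trans hk)
  refine ⟨hpg.toSylow (hidx ▸ h.not_dvd_pred), fun g => ?_⟩
  show g ∈ CharsMore.inertia N (μ : N → ℂ) ↔ _
  rw [CharsMore.mem_inertia]
  exact ⟨fun hg n n' e => by rw [show n' = CharsMore.conjBy N g n from Subtype.ext e]; exact hg n,
    fun hg n => hg n _ rfl⟩

theorem center_le (h : TwoClassData χ p N) (P : Sylow p G) {z : G}
    (hzc : ∀ y ∈ (P : Subgroup G), y * z = z * y) : z ∈ N := by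
  by_contra hz
  have e := h.card_centralizer_quot hz
  have h1 : Nat.card (P : Subgroup G) ∣ Nat.card (Subgroup.centralizer ({z} : Set G)) :=
    Subgroup.card_dvd_of_le fun y hy => Subgroup.mem_centralizer_singleton_iff.mpr (hzc y hy)
  have h2 : Nat.card (P : Subgroup G) ∣ N.index :=
    (e ▸ h1).trans (Subgroup.card_subgroup_dvd_card _)
  have h3 : Nat.card (P : Subgroup G) * Nat.card N ∣ Nat.card G :=
    N.card_mul_index ▸ mul_comm (Nat.card N) _ ▸ mul_dvd_mul_left _ h2
  obtain ⟨k, hk⟩ := IsPGroup.iff_card.mp h.pg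
  have hk0 : k ≠ 0 := fun e => h.ne (Subgroup.card_eq_one.mp (by rw [hk, e, pow_zero]))
  have h4 : p ^ ((Nat.card G).factorization p + 1) ∣ Nat.card G := by
    refine dvd_trans ?_ h3
    rw [P.card_eq_multiplicity, hk, pow_succ]
    exact mul_dvd_mul_left _ (hk ▸ dvd_pow_self p hk0)
  exact Nat.pow_succ_factorization_not_dvd Nat.card_pos.ne' hp.out h4

theorem le_center_iff (h : TwoClassData χ p N) (P : Sylow p G) :
    (Subgroup.center ↥(P : Subgroup G)).map (P : Subgroup G).subtype = N ↔ (P : Subgroup G).Normal := by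
  constructor
  · intro heq
    obtain ⟨a, ha, ha1⟩ := (Subgroup.bot_or_exists_ne_one N).resolve_left h.ne
    have hPC : ∀ x ∈ N, x ≠ 1 → (P : Subgroup G) = Subgroup.centralizer ({x} : Set G) := by
      intro x hx hx1
      obtain ⟨Q, hQ⟩ := h.exists_sylow_centralizer hx hx1
      rw [hQ]
      refine (P.3 Q.2 fun y hy => hQ ▸ Subgroup.mem_centralizer_singleton_iff.mpr ?_).symm
      rw [← heq] at hx
      obtain ⟨z, hz, rfl⟩ := hx
      exact congrArg Subtype.val (Subgroup.mem_center_iff.mp hz ⟨y, hy⟩)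
    refine ⟨fun y hy g => ?_⟩
    have hb := ‹N.Normal›.conj_mem a ha g
    have hb1 : g * a * g⁻¹ ≠ 1 := fun e => ha1 (conj_eq_one_iff.mp e)
    rw [hPC _ hb hb1]
    rw [hPC a ha ha1] at hy
    have hy' : Commute y a := Subgroup.mem_centralizer_singleton_iff.mp hy
    exact Subgroup.mem_centralizer_singleton_iff.mpr
      (show Commute (g * y * g⁻¹) (g * a * g⁻¹) from (Commute.conj_iff g).mpr hy').eq
  · intro hn
    refine le_antisymm ?_ fun x hx => ?_
    · rintro _ ⟨z, hz, rfl⟩
      exact h.center_le P fun y hy => congrArg Subtype.val (Subgroup.mem_center_iff.mp hz ⟨y, hy⟩)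
    · have hxP : x ∈ (P : Subgroup G) := h.pg.le_sylow_of_normal P hx
      refine ⟨⟨x, hxP⟩, Subgroup.mem_center_iff.mpr fun y => Subtype.ext ?_, rfl⟩
      rcases eq_or_ne x 1 with rfl | hx1
      · simp
      obtain ⟨Q, hQ⟩ := h.exists_sylow_centralizer hx hx1
      haveI := Sylow.unique_of_normal P hn
      have hQP : Q = P := Subsingleton.elim Q P
      have hy : (y : G) ∈ Subgroup.centralizer ({x} : Set G) := by rw [hQ, hQP]; exact y.2
      exact Subgroup.mem_centralizer_singleton_iff.mp hy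

theorem eq_upperCentralSeries (h : TwoClassData χ p N) (P : Sylow p G) :
    ∃ i : ℕ, Subgroup.upperCentralSeries ↥(P : Subgroup G) i = N.subgroupOf (P : Subgroup G) := by
  classical
  have hNP : N ≤ (P : Subgroup G) := h.pg.le_sylow_of_normal P
  haveI : Group.IsNilpotent ↥(P : Subgroup G) := P.2.isNilpotent
  obtain ⟨c, hc⟩ := (‹Group.IsNilpotent ↥(P : Subgroup G)›).nilpotent'
  by_contra hno
  push Not at hno
  have key : ∀ i, Subgroup.upperCentralSeries ↥(P : Subgroup G) i ≤ N.subgroupOf (P : Subgroup G) := by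
    intro i
    induction i with
    | zero => rw [Subgroup.upperCentralSeries_zero]; exact bot_le
    | succ i ih =>
      intro y hy
      by_contra hyN
      rw [Subgroup.mem_upperCentralSeries_succ_iff] at hy
      have hyN' : (y : G) ∉ N := hyN
      have e := h.card_centralizer_quot hyN'
      set Zi := Subgroup.upperCentralSeries ↥(P : Subgroup G) i with hZi
      -- the class of `y` in `P` lies in the coset `y Zi`
      let C := Subgroup.centralizer ({y} : Set ↥(P : Subgroup G))
      have h1 : C.index ≤ Nat.card Zi := by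
        rw [Subgroup.index_eq_card]
        let f : (↥(P : Subgroup G) ⧸ C) → Zi := fun q =>
          ⟨y * q.out * y⁻¹ * q.out⁻¹, hy q.out⟩
        refine Nat.card_le_card_of_injective f fun a b hab => ?_
        have h2 : (a.out : ↥(P : Subgroup G)) * y⁻¹ * a.out⁻¹ = b.out * y⁻¹ * b.out⁻¹ := by
          have h3 := congrArg Subtype.val hab
          simp only [f, mul_assoc] at h3
          simpa [mul_assoc] using mul_left_cancel h3
        rw [← QuotientGroup.out_eq' a, ← QuotientGroup.out_eq' b, QuotientGroup.eq]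
        refine Subgroup.mem_centralizer_singleton_iff.mpr ?_
        have h4 := congrArg (fun z => z⁻¹) h2
        simp only [mul_inv_rev, inv_inv] at h4
        calc a.out⁻¹ * b.out * y = a.out⁻¹ * (b.out * (y * b.out⁻¹)) * b.out := by group
          _ = a.out⁻¹ * (a.out * (y * a.out⁻¹)) * b.out := by rw [← h4]
          _ = y * (a.out⁻¹ * b.out) := by group
      have hlt : Nat.card Zi < Nat.card (N.subgroupOf (P : Subgroup G)) := by
        refine lt_of_le_of_ne (Subgroup.card_le_of_le ih) fun hcard => ?_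
        exact hno i (Subgroup.eq_of_le_of_card_ge ih hcard.ge)
      -- but `C` is small
      have h5 : Nat.card C * Nat.card N ∣ Nat.card G := by
        rw [← N.card_mul_index, mul_comm (Nat.card N)]
        refine mul_dvd_mul_right (dvd_trans ?_ (e ▸ Subgroup.card_subgroup_dvd_card
          (Subgroup.centralizer ({((y : G) : G ⧸ N)} : Set (G ⧸ N))) : Nat.card
          (Subgroup.centralizer ({(y : G)} : Set G)) ∣ N.index)) _
        rw [← Subgroup.card_map_of_injective (P : Subgroup G).subtype_injective]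
        refine Subgroup.card_dvd_of_le ?_
        rintro _ ⟨z, hz, rfl⟩
        exact Subgroup.mem_centralizer_singleton_iff.mpr
          (congrArg Subtype.val (Subgroup.mem_centralizer_singleton_iff.mp hz))
      have hNc : Nat.card (N.subgroupOf (P : Subgroup G)) = Nat.card N :=
        Nat.card_congr (Subgroup.subgroupOfEquivOfLe hNP).toEquiv
      obtain ⟨j, hj⟩ := IsPGroup.iff_card.mp (P.2.to_subgroup C)
      obtain ⟨k, hk⟩ := IsPGroup.iff_card.mp h.pg
      rw [hj, hk, ← pow_add] at h5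
      have h6 := (hp.out.pow_dvd_iff_le_factorization Nat.card_pos.ne').mp h5
      have h7 : Nat.card (P : Subgroup G) = p ^ (Nat.card G).factorization p := P.card_eq_multiplicity
      have h8 := C.card_mul_index
      rw [h7, hj] at h8
      have h9 : p ^ k ≤ C.index := by
        have h10 : p ^ j * p ^ k ≤ p ^ j * C.index := by
          rw [h8, ← pow_add]
          exact Nat.pow_le_pow_right hp.out.pos h6
        exact Nat.le_of_mul_le_mul_left h10 (pow_pos hp.out.pos j)
      omega
  have h1 := key c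
  rw [hc] at h1
  exact hno c (by rw [hc]; exact le_antisymm h1 le_top)

end TwoClassData

end CfsgLib.CharApps
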