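import Cfsg.Agent.Lib.CharsMore.Clifford
import Cfsg.Agent.Lib.CharApps.RelDegreeComponents
import Cfsg.Agent.Lib.Base.FrobeniusSolutions
import Cfsg.Agent.S4566

/-!
Zeros of irreducible characters: outside the centre of a nilpotent group, and at elements all of
whose conjugates move a character of a normal subgroup.
-/

set_option autoImplicit false
set_option linter.style.haveILetI false

namespace CfsgLib.CharApps.VanishPPower

open Cfsg CfsgLib.Chars CfsgLib.CharsMore
open scoped commutatorElement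

universe u

/-- An element with a non-trivial central commutator is a zero of an irreducible character. -/
theorem exists_zero_of_central_commutator {G : Type u} [Group G] [Finite G] {x y : G}
    (hc : x * y * x⁻¹ * y⁻¹ ∈ Subgroup.center G) (hne : x * y * x⁻¹ * y⁻¹ ≠ 1) :
    ∃ χ : IrrCharacter G, (χ : G → ℂ) x = 0 := by
  classical
  set c := x * y * x⁻¹ * y⁻¹ with hc'
  obtain ⟨χ, hχ⟩ : ∃ χ : IrrCharacter G, (χ : G → ℂ) c ≠ (χ : G → ℂ) 1 := by
    by_contra h
    push Not at h
    exact hne (isConj_one_left.1 ((isConj_iff_forall_irr c 1).2 h))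
  obtain ⟨w, hw⟩ := Cfsg.Agent.S4566.central_mul_irr χ c hc
  refine ⟨χ, ?_⟩
  have hw1 : w ≠ 1 := fun h => hχ (by have := hw 1; rwa [mul_one, h, one_mul] at this)
  have e : y * x⁻¹ * y⁻¹ = c * x⁻¹ := by
    rw [← Subgroup.mem_center_iff.1 hc x⁻¹, hc']; group
  have h1 : (χ : G → ℂ) x⁻¹ = w * (χ : G → ℂ) x⁻¹ := by
    rw [← hw x⁻¹, ← e]; exact (isClassFunction_irr χ x⁻¹ y).symm
  have h2 : (χ : G → ℂ) x⁻¹ = 0 := by
    by_contra h
    exact hw1 (mul_right_cancel₀ h (by rw [one_mul]; exact h1.symm))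
  have h3 := irr_inv χ x⁻¹
  rwa [inv_inv, h2, map_zero] at h3

/-- Outside the centre of a nilpotent group some irreducible character vanishes. -/
theorem exists_zero_of_notMem_center {G : Type u} [Group G] [Finite G] [Group.IsNilpotent G] {x : G}
    (hx : x ∉ Subgroup.center G) : ∃ χ : IrrCharacter G, (χ : G → ℂ) x = 0 := by
  classical
  obtain ⟨n, hn⟩ := Group.IsNilpotent.nilpotent (G := G)
  have hex : ∃ i, x ∈ Subgroup.upperCentralSeries G i := ⟨n, hn ▸ Subgroup.mem_top x⟩
  obtain ⟨j, hj⟩ : ∃ j, Nat.find hex = j + 2 := by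
    have h0 : ¬ x ∈ Subgroup.upperCentralSeries G 0 := fun h => hx (by
      rw [Subgroup.upperCentralSeries_zero, Subgroup.mem_bot] at h
      rw [h]; exact one_mem _)
    have h1 : ¬ x ∈ Subgroup.upperCentralSeries G 1 := fun h => hx (by
      rwa [Subgroup.upperCentralSeries_one] at h)
    refine ⟨Nat.find hex - 2, ?_⟩
    have := Nat.find_spec hex
    rcases hf : Nat.find hex with _ | _ | m
    · rw [hf] at this; exact absurd this h0
    · rw [hf] at this; exact absurd this h1
    · omega
  have hspec := Nat.find_spec hex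
  rw [hj] at hspec
  have hmin : x ∉ Subgroup.upperCentralSeries G (j + 1) := Nat.find_min hex (by omega)
  obtain ⟨y, hy⟩ : ∃ y, ⁅x, y⁆ ∉ Subgroup.upperCentralSeries G j := by
    by_contra h
    push Not at h
    exact hmin (Subgroup.mem_upperCentralSeries_succ_iff.2 h)
  have hy1 : ⁅x, y⁆ ∈ Subgroup.upperCentralSeries G (j + 1) :=
    Subgroup.mem_upperCentralSeries_succ_iff.1 hspec y
  set π := QuotientGroup.mk' (Subgroup.upperCentralSeries G j) with hπ
  have hne : π x * π y * (π x)⁻¹ * (π y)⁻¹ ≠ 1 := fun h => hy ((QuotientGroup.eq_one_iff _).1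
    (show π ⁅x, y⁆ = 1 by rw [commutatorElement_def]; simpa using h))
  have hcen : π x * π y * (π x)⁻¹ * (π y)⁻¹ ∈ Subgroup.center (G ⧸ Subgroup.upperCentralSeries G j) := by
    rw [Subgroup.mem_center_iff]
    intro g
    obtain ⟨g, rfl⟩ := QuotientGroup.mk'_surjective _ g
    have h := Subgroup.mem_upperCentralSeries_succ_iff.1 hy1 g
    have h' : π ⁅⁅x, y⁆, g⁆ = 1 := (QuotientGroup.eq_one_iff _).2 h
    rw [map_commutatorElement, commutatorElement_eq_one_iff_mul_comm, map_commutatorElement,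
      commutatorElement_def] at h'
    exact h'.symm
  obtain ⟨χ, hχ⟩ := exists_zero_of_central_commutator hcen hne
  exact ⟨⟨_, isIrrCharacter_comp π (QuotientGroup.mk'_surjective _) χ.2⟩, hχ⟩

/-- An element whose conjugates all avoid an inertia group is a zero of an irreducible character. -/
theorem exists_zero_of_moves {G : Type u} [Group G] [Fintype G] (N : Subgroup G) [N.Normal]
    (θ : IrrCharacter N) (y : G) (hy : ∀ z : G, z⁻¹ * y * z ∉ inertia N (θ : N → ℂ)) :
    ∃ χ : IrrCharacter G, (χ : G → ℂ) y = 0 := by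
  classical
  haveI := Fintype.ofFinite N
  obtain ⟨χ, hχ⟩ := CharApps.RelComp.exists_over N θ
  have hle : N ≤ inertia N (θ : N → ℂ) :=
    le_inertia N (isClassFunction_of_isCharacter (isCharacter_of_irr θ.2))
  haveI := Fintype.ofFinite (inertia N (θ : N → ℂ))
  obtain ⟨ψ, -, hψ, -⟩ := exists_correspondent N hle θ.2 rfl χ.2 hχ
  refine ⟨χ, ?_⟩
  rw [← hψ, indFun_apply, Finset.sum_eq_zero, mul_zero]
  intro z _
  unfold extendByZero
  rw [Function.extend_apply' _ _ _ (by rintro ⟨t, ht⟩; exact hy z (ht ▸ t.2))]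
  rfl

/-- A proper subgroup does not meet every conjugacy class. -/
theorem eq_top_of_meets_classes {K : Type u} [Group K] [Finite K] (C : Subgroup K)
    (h : ∀ k : K, ∃ c : K, c⁻¹ * k * c ∈ C) : C = ⊤ := by
  classical
  haveI := Fintype.ofFinite K
  haveI := Fintype.ofFinite (MulAction.orbitRel.Quotient K (K ⧸ C))
  have hs := MulAction.sum_card_fixedBy_eq_card_orbits_mul_card_group K (K ⧸ C)
  rw [← Nat.card_eq_fintype_card (α := MulAction.orbitRel.Quotient K (K ⧸ C))] at hs
  have hsub : Subsingleton (MulAction.orbitRel.Quotient K (K ⧸ C)) :=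
    (MulAction.pretransitive_iff_subsingleton_quotient K (K ⧸ C)).1 inferInstance
  have : Nonempty (MulAction.orbitRel.Quotient K (K ⧸ C)) := ⟨Quotient.mk'' ((1 : K) : K ⧸ C)⟩
  rw [Nat.card_unique, one_mul] at hs
  have h1 : ∀ k : K, 1 ≤ Fintype.card (MulAction.fixedBy (K ⧸ C) k) := fun k => by
    obtain ⟨c, hc⟩ := h k
    refine Fintype.card_pos_iff.2 ⟨⟨(c : K ⧸ C), ?_⟩⟩
    show ((k * c : K) : K ⧸ C) = _
    rw [eq_comm, QuotientGroup.eq]
    rwa [← mul_assoc]
  rw [← Finset.add_sum_erase _ _ (Finset.mem_univ (1 : K))] at hs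
  have h2 : ((Finset.univ : Finset K).erase 1).card * 1 ≤
      ∑ k ∈ (Finset.univ : Finset K).erase 1, Fintype.card (MulAction.fixedBy (K ⧸ C) k) := by
    rw [← smul_eq_mul, ← Finset.sum_const]
    exact Finset.sum_le_sum fun k _ => h1 k
  have h3 : Fintype.card (MulAction.fixedBy (K ⧸ C) (1 : K)) = C.index := by
    rw [Subgroup.index, Nat.card_eq_fintype_card]
    exact Fintype.card_congr (Equiv.subtypeUnivEquiv fun x => one_smul K x)
  rw [Finset.card_erase_of_mem (Finset.mem_univ _), Finset.card_univ, mul_one] at h2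
  rw [h3] at hs
  have hpos : 0 < C.index := Nat.pos_of_ne_zero Subgroup.index_ne_zero_of_finite
  have hKpos : 0 < Fintype.card K := Fintype.card_pos
  exact Subgroup.index_eq_one.1 (by omega)

/-- A `p`-element fixing every irreducible character of a normal `p'`-subgroup centralises it. -/
theorem centralizes_of_fixes {G : Type u} [Group G] [Fintype G] {p : ℕ} [Fact p.Prime]
    (N : Subgroup G) [N.Normal] (hN : ¬ p ∣ Nat.card N) {x : G} (hx : ∃ m, orderOf x = p ^ m)
    (hfix : ∀ θ : IrrCharacter N, x ∈ inertia N (θ : N → ℂ)) : ∀ k ∈ N, x * k = k * x := by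
  classical
  let C : Subgroup N := (Subgroup.centralizer ({x} : Set G)).subgroupOf N
  suffices hC : C = ⊤ by
    intro k hk
    have : (⟨k, hk⟩ : N) ∈ C := hC ▸ Subgroup.mem_top _
    exact (Subgroup.mem_centralizer_singleton_iff.1 this).symm
  refine eq_top_of_meets_classes C fun k => ?_
  obtain ⟨m, hm⟩ := hx
  have hP : IsPGroup p (Subgroup.zpowers x) :=
    IsPGroup.of_card (n := m) (by rw [Nat.card_zpowers, hm])
  let T : Set N := {l | IsConj k l}
  have hmem : ∀ (u : Subgroup.zpowers x) (l : N), l ∈ T → conjBy N (u : G) l ∈ T := fun u l hl => by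
    have hu : ∀ θ : IrrCharacter N, (u : G) ∈ inertia N (θ : N → ℂ) := fun θ =>
      Subgroup.zpowers_le.2 (hfix θ) u.2
    exact hl.trans ((isConj_iff_forall_irr _ _).2 fun θ => ((mem_inertia N).1 (hu θ) l).symm)
  letI : MulAction (Subgroup.zpowers x) T :=
    { smul := fun u l => ⟨conjBy N (u : G) l.1, hmem u l.1 l.2⟩
      one_smul := fun l => Subtype.ext (Subtype.ext (by
        show ((conjBy N ((1 : Subgroup.zpowers x) : G) l.1 : N) : G) = (l.1 : G)
        simp))
      mul_smul := fun u v l => Subtype.ext (Subtype.ext (by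
        show ((conjBy N ((u * v : Subgroup.zpowers x) : G) l.1 : N) : G)
          = ((conjBy N (u : G) (conjBy N (v : G) l.1) : N) : G)
        simp [mul_assoc])) }
  have hT : ¬ p ∣ Nat.card T := by
    intro hd
    refine hN (hd.trans ?_)
    have e : T = (ConjClasses.mk k).carrier := by
      ext l; rw [ConjClasses.mem_carrier_iff_mk_eq, ConjClasses.mk_eq_mk_iff_isConj]
      exact isConj_comm
    rw [e, CfsgLib.Base.Solutions.card_conjClass]
    exact Subgroup.index_dvd_card _
  obtain ⟨⟨l, hl⟩, hlf⟩ := hP.nonempty_fixed_point_of_prime_not_dvd_card T hT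
  obtain ⟨c, hc⟩ := isConj_iff.1 hl
  refine ⟨c⁻¹, ?_⟩
  rw [inv_inv, hc, Subgroup.mem_subgroupOf, Subgroup.mem_centralizer_singleton_iff]
  have e := congrArg (fun t : T => ((t.1 : N) : G)) (hlf ⟨x, Subgroup.mem_zpowers x⟩)
  change ((conjBy N x l : N) : G) = (l : G) at e
  simp only [conjBy] at e
  have e' : x * (l : G) * x⁻¹ = (l : G) := by simpa using e
  exact (mul_inv_eq_iff_eq_mul.1 e').symm

end CfsgLib.CharApps.VanishPPower
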