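import Cfsg.Agent.Lib.CharApps.PSolvableSmallDegree
import Cfsg.Agent.Lib.CharsMore.GoingDown
import Cfsg.Agent.Lib.CharsMore.CliffordDegree
import Cfsg.Agent.Lib.CharsMore.InducedCore
import Cfsg.Agent.Lib.Base.MinimalNormal
import Cfsg.Agent.Lib.Base.Transport

/-!
# Winter's theorem on the degrees of solvable linear groups
-/

set_option autoImplicit false
set_option linter.unusedSectionVars false
set_option linter.style.haveILetI false

namespace CfsgLib.CharApps.Winter

open Cfsg CfsgLib.CharsMore
open scoped ComplexConjugate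

universe u

/-- The conclusion of Winter's theorem. -/
def Goal (p n : ℕ) : Prop :=
  ∃ q : ℕ, IsPrimePow q ∧ q ∣ n ∧
    ((q : ℤ) ≡ -1 [ZMOD p] ∨ (q : ℤ) ≡ 0 [ZMOD p] ∨ (q : ℤ) ≡ 1 [ZMOD p])

theorem Goal.of_dvd {p m n : ℕ} (h : Goal p m) (hd : m ∣ n) : Goal p n :=
  let ⟨q, h1, h2, h3⟩ := h; ⟨q, h1, h2.trans hd, h3⟩

/-- A subgroup of a normal subgroup of index prime to `p` that is a `p`-group. -/
theorem le_of_index_coprime {G : Type u} [Group G] [Finite G] {p : ℕ} [hp : Fact p.Prime]
    {C : Subgroup G} [C.Normal] (hC : ¬ p ∣ C.index) {S : Subgroup G} (hS : IsPGroup p S) :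
    S ≤ C := by
  obtain ⟨e, he⟩ := IsPGroup.iff_card.1 (hS.map (QuotientGroup.mk' C))
  have hd : Nat.card (S.map (QuotientGroup.mk' C)) ∣ C.index :=
    (Subgroup.card_subgroup_dvd_card _).trans (Subgroup.index_eq_card _).symm.dvd
  have he0 : e = 0 := by
    by_contra h1
    exact hC ((dvd_pow_self p h1).trans (he ▸ hd))
  rw [he0, pow_zero] at he
  have := Subgroup.eq_bot_of_card_eq _ he
  rwa [Subgroup.map_eq_bot_iff, QuotientGroup.ker_mk'] at this

/-- A square congruent to one. -/
theorem modEq_of_sq {p e : ℕ} [hp : Fact p.Prime] (h : e ^ 2 ≡ 1 [MOD p]) :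
    (e : ℤ) ≡ -1 [ZMOD p] ∨ (e : ℤ) ≡ 0 [ZMOD p] ∨ (e : ℤ) ≡ 1 [ZMOD p] := by
  have h1 : ((e : ZMod p)) ^ 2 = 1 := by
    have := (ZMod.natCast_eq_natCast_iff _ _ _).2 h
    simpa using this
  rcases sq_eq_one_iff.1 h1 with h2 | h2
  · exact Or.inr (Or.inr ((ZMod.intCast_eq_intCast_iff _ _ _).1 (by simpa using h2)))
  · exact Or.inl ((ZMod.intCast_eq_intCast_iff _ _ _).1 (by simpa using h2))

theorem winter_aux (p : ℕ) [hp : Fact p.Prime] (k : ℕ) : ∀ {G : Type u} [Group G] [Fintype G],
    Nat.card G ≤ k → Group.IsSolvable G → ∀ (χ : G → ℂ), IsIrrCharacter G χ →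
    (∀ g : G, χ g = χ 1 → g = 1) → ∀ n : ℕ, χ 1 = n → ∀ P : Sylow p G,
    ¬ (P : Subgroup G).Normal → Goal p n := by
  induction k with
  | zero =>
    intro G _ _ hk
    exact absurd hk (by have := Nat.card_pos (α := G); omega)
  | succ k IH =>
    intro G _ _ hk hsolv χ hχ hfaith n hn P hP
    classical
    haveI := hsolv
    have hχc := Chars.isCharacter_of_irr hχ
    have hn0 : n ≠ 0 := fun h => Chars.irr_degree_ne_zero hχ (by rw [hn, h, Nat.cast_zero])
    by_cases hpn : p ∣ n
    · exact ⟨p, hp.out.isPrimePow, hpn, Or.inr (Or.inl (Int.modEq_zero_iff_dvd.2 dvd_rfl))⟩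
    -- descent to a normal subgroup
    by_cases hdesc : ∃ (N : Subgroup G), N.Normal ∧ N ≠ ⊤ ∧ ∃ Q : Sylow p N, ¬ (Q : Subgroup N).Normal
    · obtain ⟨N, hNn, hNt, Q, hQ⟩ := hdesc
      haveI := hNn
      haveI := Fintype.ofFinite N
      have hres : IsCharacter N (fun x : N => χ x) := Chars.isCharacter_restrict N hχc
      obtain ⟨φ, hφ, K, hK, hKmem, Q', hQ'⟩ := SmallDegreePSolvable.exists_constituent_not_normal
        hres (fun g hg => Subtype.ext (hfaith g (by simpa using hg))) Q hQ
      obtain ⟨ψ, hψ, hφψ⟩ := Chars.exists_deflate_irr K φ.2 fun x hx => (hKmem x).1 hx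
      obtain ⟨d, hd⟩ := Chars.character_degree_nat (Chars.isCharacter_of_irr hψ)
      obtain ⟨e, -, he, -⟩ := degree_quotient N hχ φ.2 hφ
      have hφ1 : (φ : N → ℂ) 1 = (d : ℂ) := by rw [hφψ, ← hd]; rfl
      rw [hn, hφ1, ← Nat.cast_mul, Nat.cast_inj] at he
      have hψf : ∀ g : N ⧸ K, ψ g = ψ 1 → g = 1 := by
        intro g
        induction g using QuotientGroup.induction_on with
        | H g =>
          intro hg
          refine (QuotientGroup.eq_one_iff g).2 ((hKmem g).2 ?_)
          rw [hφψ]
          exact hg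
      haveI := Fintype.ofFinite (N ⧸ K)
      refine (IH ?_ inferInstance ψ hψ hψf d hd Q' hQ').of_dvd
        (he ▸ dvd_mul_left d e)
      have h1 : Nat.card (N ⧸ K) ≤ Nat.card N :=
        Nat.card_le_card_of_surjective _ (QuotientGroup.mk'_surjective K)
      have h2 := Coprime.card_lt_of_ne_top hNt
      omega
    push Not at hdesc
    set O := pCore p G with hO
    -- p-subgroups of proper normal subgroups
    have hsub : ∀ N : Subgroup G, N.Normal → N ≠ ⊤ → ∀ S : Subgroup G, S ≤ N → IsPGroup p S →
        S ≤ O := by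
      intro N hNn hNt S hSN hS
      haveI := hNn
      obtain ⟨Q, hQ⟩ := (hS.of_equiv (Subgroup.subgroupOfEquivOfLe hSN).symm).exists_le_sylow
      haveI := hdesc N hNn hNt Q
      haveI : (pCore p N).Characteristic := Base.pCore_characteristic p N
      haveI := Base.normal_map_subtype (N := N) (pCore p N)
      calc S = (S.subgroupOf N).map N.subtype := (Subgroup.map_subgroupOf_eq_of_le hSN).symm
        _ ≤ (pCore p N).map N.subtype := Subgroup.map_mono (hQ.trans (Base.le_pCore Q.2))
        _ ≤ O := Base.le_pCore (Base.isPGroup_map_pCore p N)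
    have hOP : O ≤ (P : Subgroup G) := Base.pCore_le_sylow P
    have hPO : ¬ (P : Subgroup G) ≤ O := fun h => hP (by
      rw [le_antisymm h hOP]; infer_instance)
    have hncl : Subgroup.normalClosure ((P : Subgroup G) : Set G) = ⊤ := by
      by_contra h
      exact hPO (hsub _ inferInstance h _ Subgroup.le_normalClosure P.2)
    have htop : ∀ C : Subgroup G, C.Normal → (P : Subgroup G) ≤ C → C = ⊤ := fun C hC h =>
      top_le_iff.1 (hncl ▸ (haveI := hC; Subgroup.normalClosure_le_normal h))
    -- a normal subgroup of index p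
    haveI : Nontrivial G := by
      by_contra h
      rw [not_nontrivial_iff_subsingleton] at h
      exact hP ⟨fun x hx g => by rwa [Subsingleton.elim (g * x * g⁻¹) x]⟩
    obtain ⟨M, hMn, hMi⟩ : ∃ M : Subgroup G, M.Normal ∧ M.index = p := by
      set D := commutator G with hD
      have hDt : D ≠ ⊤ := (Group.IsSolvable.commutator_lt_top_of_nontrivial G).ne
      set q := QuotientGroup.mk' D with hq
      have hcomm : ∀ a b : G ⧸ D, a * b = b * a := fun a b =>
        (inferInstance : IsMulCommutative (Abelianization G)).is_comm.comm a b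
      have hPD : (P : Subgroup G).map q = ⊤ := by
        haveI : ((P : Subgroup G).map q).Normal :=
          ⟨fun x hx g => by rwa [hcomm g x, mul_inv_cancel_right]⟩
        have := htop (((P : Subgroup G).map q).comap q) inferInstance
          (Subgroup.le_comap_map q _)
        rw [← Subgroup.map_comap_eq_self_of_surjective (QuotientGroup.mk'_surjective D)
          ((P : Subgroup G).map q), this]
        exact Subgroup.map_top_of_surjective q (QuotientGroup.mk'_surjective D)
      obtain ⟨a, ha⟩ := IsPGroup.iff_card.1 (P.2.map q)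
      rw [hPD, Subgroup.card_top] at ha
      have ha0 : a ≠ 0 := by
        rintro rfl
        rw [pow_zero, ← Subgroup.index_eq_card, Subgroup.index_eq_one] at ha
        exact hDt ha
      obtain ⟨A, hA⟩ := Sylow.exists_subgroup_card_pow_prime p
        (show p ^ (a - 1) ∣ Nat.card (G ⧸ D) from ha ▸ Nat.pow_dvd_pow p (Nat.sub_le a 1))
      haveI : A.Normal := ⟨fun x hx g => by rwa [hcomm g x, mul_inv_cancel_right]⟩
      refine ⟨A.comap q, inferInstance, ?_⟩
      rw [Subgroup.index_comap_of_surjective _ (QuotientGroup.mk'_surjective D)]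
      have h := A.card_mul_index
      rw [hA, ha, show a = a - 1 + 1 by omega, Nat.add_sub_cancel, pow_succ] at h
      exact Nat.eq_of_mul_eq_mul_left (pow_pos hp.out.pos _) h
    haveI := hMn
    have hMt : M ≠ ⊤ := fun h => hp.out.one_lt.ne (by rw [← hMi, h, Subgroup.index_top])
    have hPM : (P : Subgroup G) ⊓ M ≤ O := hsub M hMn hMt _ inf_le_right (P.2.to_le inf_le_left)
    have hPnM : ¬ (P : Subgroup G) ≤ M := fun h => hMt (htop M hMn h)
    have hGMP : M ⊔ (P : Subgroup G) = ⊤ := by
      have hd : (M ⊔ (P : Subgroup G)).index ∣ p := (Subgroup.index_dvd_of_le le_sup_left).trans hMi.dvd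
      rcases (Nat.dvd_prime hp.out).1 hd with h | h
      · exact Subgroup.index_eq_one.1 h
      · exfalso
        have heq := Subgroup.relIndex_mul_index (le_sup_left : M ≤ M ⊔ (P : Subgroup G))
        rw [hMi, h] at heq
        exact hPnM (by simpa [hp.out.ne_zero] using heq)
    have hOM : O ≤ M := by
      by_contra h
      apply hPO
      have hd : (M ⊔ O).index ∣ p := (Subgroup.index_dvd_of_le le_sup_left).trans hMi.dvd
      have hMO : M ⊔ O = ⊤ := by
        rcases (Nat.dvd_prime hp.out).1 hd with h1 | h1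
        · exact Subgroup.index_eq_one.1 h1
        · exfalso
          have heq := Subgroup.relIndex_mul_index (le_sup_left : M ≤ M ⊔ O)
          rw [hMi, h1] at heq
          exact h (by simpa [hp.out.ne_zero] using heq)
      intro x hx
      obtain ⟨m, hm, o, ho, rfl⟩ := Subgroup.mem_sup_of_normal_left.1
        (show x ∈ M ⊔ O from hMO ▸ Subgroup.mem_top x)
      refine O.mul_mem (hPM ⟨?_, hm⟩) ho
      have h1 := (P : Subgroup G).mul_mem hx (inv_mem (hOP ho))
      rwa [mul_inv_cancel_right] at h1
    have hrel : ¬ p ∣ O.relIndex M := by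
      obtain ⟨S⟩ : Nonempty (Sylow p M) := inferInstance
      have hS : (S : Subgroup M) ≤ O.subgroupOf M := fun x hx =>
        hsub M hMn hMt _ (Subgroup.map_subtype_le _) (S.2.map M.subtype)
          (Subgroup.mem_map_of_mem _ hx)
      exact fun hd => S.not_dvd_index (hd.trans (Subgroup.index_dvd_of_le hS))
    -- the restriction to M is irreducible
    haveI := Fintype.ofFinite M
    set θ : M → ℂ := fun x => χ x with hθdef
    have hθ : IsIrrCharacter M θ := by
      have hres : IsCharacter M θ := Chars.isCharacter_restrict M hχc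
      obtain ⟨θ', hθ'⟩ := Chars.exists_constituent hres fun h0 =>
        Chars.irr_degree_ne_zero hχ (congrFun h0 1)
      obtain ⟨e, -, he, hed⟩ := degree_quotient M hχ θ'.2 hθ'
      obtain ⟨d, hd⟩ := Chars.character_degree_nat (Chars.isCharacter_of_irr θ'.2)
      have he' := he
      rw [hn, hd, ← Nat.cast_mul, Nat.cast_inj] at he'
      rw [hMi] at hed
      have he1 : e = 1 := ((Nat.dvd_prime hp.out).1 hed).resolve_right fun h =>
        hpn (h ▸ he' ▸ dvd_mul_right e d)
      obtain ⟨c, hc⟩ := Chars.inner_char_nat hres (Chars.isCharacter_of_irr θ'.2)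
      have h1 := clifford_degree M hχ θ'.2 hθ'
      rw [show classInner (fun n : M => χ n) (θ' : M → ℂ) = (c : ℂ) from hc, hn, hd,
        ← Nat.cast_mul, ← Nat.cast_mul, Nat.cast_inj] at h1
      have hd0 : d ≠ 0 := fun h => Chars.irr_degree_ne_zero θ'.2 (by rw [hd, h, Nat.cast_zero])
      have h2 : c * (inertia M (θ' : M → ℂ)).index = 1 :=
        Nat.eq_of_mul_eq_mul_right (Nat.pos_of_ne_zero hd0) (by rw [← h1, he', he1])
      rw [mul_eq_one, Subgroup.index_eq_one] at h2
      have hinv : ∀ g x, (θ' : M → ℂ) (conjBy M g x) = (θ' : M → ℂ) x := fun g x =>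
        (mem_inertia M).1 (h2.2 ▸ Subgroup.mem_top g) x
      rw [show θ = (θ' : M → ℂ) from funext fun x => by
        rw [hθdef]
        show χ x = _
        rw [restrict_eq_mul_of_invariant M hχ θ'.2 hinv hθ' x, hc, h2.1, Nat.cast_one, one_mul]]
      exact θ'.2
    have hMO : M ≠ O := by
      intro h
      have hPG : IsPGroup p G := by
        obtain ⟨a, ha⟩ := IsPGroup.iff_card.1 (Base.isPGroup_pCore p G)
        refine IsPGroup.iff_card.2 ⟨a + 1, ?_⟩
        rw [← M.card_mul_index, hMi, h, pow_succ, ← ha]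
      haveI : (⊤ : Subgroup G).Normal := inferInstance
      exact hP ((P.3 (hPG.to_subgroup ⊤) le_top) ▸ inferInstance)
    -- a chief factor below M
    obtain ⟨N, ⟨hNn, hON, hNM⟩, hNmax⟩ := (Set.toFinite
      {N : Subgroup G | N.Normal ∧ O ≤ N ∧ N < M}).exists_maximal
      ⟨O, inferInstance, le_rfl, lt_of_le_of_ne hOM hMO.symm⟩
    haveI := hNn
    have hchief : ∀ A : Subgroup G, A.Normal → N ≤ A → A ≤ M → A = N ∨ A = M := by
      intro A hA hNA hAM
      rcases eq_or_lt_of_le hAM with h | h
      · exact Or.inr h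
      · exact Or.inl (le_antisymm (hNmax ⟨hA, hON.trans hNA, h⟩ hNA) hNA)
    set q := QuotientGroup.mk' N with hq
    set Mb := M.map q with hMb
    haveI hMbn : Mb.Normal := Subgroup.Normal.map inferInstance _ (QuotientGroup.mk'_surjective N)
    have hMbc : Mb.comap q = M := by
      rw [hMb, hq, Base.comap_map_mk', sup_eq_left.2 hNM.le]
    have hmin : Base.IsMinimalNormal Mb := by
      refine ⟨hMbn, fun h => hNM.not_ge (Base.map_mk'_eq_bot_iff.1 h), fun A hA hAM => ?_⟩
      rcases hchief (A.comap q) inferInstance (PLocal.le_comap_mk' N A)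
        ((Subgroup.comap_mono hAM).trans hMbc.le) with h | h
      · left
        rw [← Subgroup.map_comap_eq_self_of_surjective (QuotientGroup.mk'_surjective N) A, h]
        exact Base.map_mk'_eq_bot_iff.2 le_rfl
      · right
        rw [← Subgroup.map_comap_eq_self_of_surjective (QuotientGroup.mk'_surjective N) A, h]
    haveI : Group.IsSolvable Mb := inferInstance
    obtain ⟨r, hr, hMbcomm, -, hMbr⟩ := hmin.exists_prime inferInstance
    haveI := Fact.mk hr
    obtain ⟨c, hc⟩ := IsPGroup.iff_card.1 hMbr
    have hidx : N.relIndex M = r ^ c := by rw [← PLocal.card_map_mk'_eq_relIndex, ← hMb, hc]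
    have hc0 : c ≠ 0 := by
      rintro rfl
      rw [pow_zero] at hc
      exact hmin.ne_bot (Subgroup.eq_bot_of_card_eq _ hc)
    have hmulb : ∀ a ∈ Mb, ∀ b ∈ Mb, a * b = b * a := fun a ha b hb =>
      congrArg Subtype.val (hMbcomm.is_comm.comm ⟨a, ha⟩ ⟨b, hb⟩)
    -- no nontrivial fixed points of P on the chief factor
    have hcen : Mb ⊓ Subgroup.center (G ⧸ N) = ⊥ := by
      refine (hmin.eq_bot_or_eq inferInstance inf_le_left).resolve_right fun h => ?_
      have hMbZ : Mb ≤ Subgroup.center (G ⧸ N) := inf_eq_left.1 h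
      have hPN : ((P : Subgroup G) ⊔ N).map q = (P : Subgroup G).map q := by
        rw [Subgroup.map_sup, Base.map_mk'_eq_bot_iff.2 le_rfl, sup_bot_eq]
      have hnorm : ((P : Subgroup G).map q).Normal := by
        rw [← Subgroup.normalizer_eq_top_iff, ← top_le_iff,
          ← Subgroup.map_top_of_surjective q (QuotientGroup.mk'_surjective N), ← hGMP,
          Subgroup.map_sup, sup_le_iff]
        refine ⟨fun m hm => Subgroup.mem_normalizer_iff.2 fun x => ?_, Subgroup.le_normalizer⟩
        rw [Subgroup.mem_center_iff.1 (hMbZ hm) x |>.symm, mul_inv_cancel_right]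
      have htop' : ((P : Subgroup G).map q).comap q = ⊤ :=
        htop _ (hnorm.comap q) (Subgroup.le_comap_map q _)
      apply hNM.not_ge
      intro m hm
      have hm2 : m ∈ ((P : Subgroup G).map q).comap q := htop' ▸ Subgroup.mem_top m
      obtain ⟨y, hy, hym⟩ := Subgroup.mem_map.1 (Subgroup.mem_comap.1 hm2)
      have h1 : y⁻¹ * m ∈ N := QuotientGroup.eq.1 hym
      have hyM : y ∈ M := by
        have : y = m * (y⁻¹ * m)⁻¹ := by group
        rw [this]
        exact M.mul_mem hm (inv_mem (hNM.le h1))
      have : m = y * (y⁻¹ * m) := by group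
      rw [this]
      exact N.mul_mem (hON (hPM ⟨hy, hyM⟩)) h1
    have hmod : r ^ c ≡ 1 [MOD p] := by
      let act : (P : Subgroup G) →* MulAut Mb :=
        (MulAut.conjNormal (H := Mb)).comp (q.comp (P : Subgroup G).subtype)
      letI : MulAction (P : Subgroup G) Mb := MulAction.compHom Mb act
      have hfix : ∀ z : Mb, z ∈ MulAction.fixedPoints (P : Subgroup G) Mb ↔ z = 1 := by
        intro z
        constructor
        · intro hz
          have hzc : (z : G ⧸ N) ∈ Mb ⊓ Subgroup.center (G ⧸ N) := by
            refine ⟨z.2, ?_⟩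
            rw [SetLike.mem_coe, Subgroup.mem_toSubmonoid, Subgroup.mem_center_iff]
            have hle : (⊤ : Subgroup (G ⧸ N)) ≤ Subgroup.centralizer {(z : G ⧸ N)} := by
              rw [← Subgroup.map_top_of_surjective q (QuotientGroup.mk'_surjective N), ← hGMP,
                Subgroup.map_sup, sup_le_iff]
              refine ⟨fun m hm => Subgroup.mem_centralizer_singleton_iff.2 (hmulb _ hm _ z.2), ?_⟩
              rintro _ ⟨x, hx, rfl⟩
              rw [Subgroup.mem_centralizer_singleton_iff]
              have h1 := congrArg Subtype.val (hz ⟨x, hx⟩)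
              change q x * (z : G ⧸ N) * (q x)⁻¹ = z at h1
              exact mul_inv_eq_iff_eq_mul.1 h1
            intro g
            exact Subgroup.mem_centralizer_singleton_iff.1 (hle (Subgroup.mem_top g))
          rw [hcen, Subgroup.mem_bot] at hzc
          exact Subtype.ext hzc
        · rintro rfl x
          exact map_one (act x)
      have hcm := P.2.card_modEq_card_fixedPoints Mb
      rw [hc] at hcm
      haveI : Unique (MulAction.fixedPoints (P : Subgroup G) Mb) :=
        { default := ⟨1, (hfix 1).2 rfl⟩, uniq := fun z => Subtype.ext ((hfix z.1).1 z.2) }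
      rwa [Nat.card_unique] at hcm
    -- going down
    haveI := Fintype.ofFinite (N.subgroupOf M)
    have hab : ⁅M, M⁆ ≤ N := by
      rw [Subgroup.commutator_le]
      intro a ha b hb
      apply (QuotientGroup.eq_one_iff _).1
      rw [commutatorElement_def]
      show q (a * b * a⁻¹ * b⁻¹) = 1
      rw [map_mul, map_mul, map_mul, map_inv, map_inv,
        hmulb _ (Subgroup.mem_map_of_mem q ha) _ (Subgroup.mem_map_of_mem q hb)]
      group
    obtain ⟨φ, hφ, hcase⟩ := going_down hNM.le hchief hab hθ fun g x =>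
      Chars.isClassFunction_of_isCharacter hχc (x : G) g
    obtain ⟨d, hd⟩ := Chars.character_degree_nat (Chars.isCharacter_of_irr hφ)
    rcases hcase with hirr | ⟨e, he, he2⟩ | ⟨horb, hsum⟩
    rotate_left
    · -- fully ramified
      have h1 := congrFun he 1
      simp only [Pi.smul_apply, smul_eq_mul, hθdef, OneMemClass.coe_one, hn, hd, ← Nat.cast_mul,
        Nat.cast_inj] at h1
      rw [hidx] at he2
      obtain ⟨b, -, rfl⟩ := (Nat.dvd_prime_pow hr).1 (he2 ▸ dvd_pow_self e two_ne_zero : e ∣ r ^ c)
      have hb : b ≠ 0 := by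
        rintro rfl
        rw [pow_zero, one_pow] at he2
        rcases Nat.pow_eq_one.1 he2.symm with h | h
        · exact hr.one_lt.ne' h
        · exact hc0 h
      exact ⟨r ^ b, hr.isPrimePow.pow hb, ⟨d, h1⟩, modEq_of_sq (he2 ▸ hmod)⟩
    · -- moved constituent
      have h1 := congrFun hsum 1
      rw [Finset.sum_apply, Finset.sum_congr rfl fun ψ hψ => (show ψ 1 = φ 1 by
        obtain ⟨g, rfl⟩ := (mem_orbitFn _).1 hψ
        exact congrArg φ (map_one _)), Finset.sum_const, horb, hidx] at h1
      simp only [hθdef, OneMemClass.coe_one, hn, hd, nsmul_eq_mul, ← Nat.cast_mul,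
        Nat.cast_inj] at h1
      refine ⟨r ^ c, hr.isPrimePow.pow hc0, ⟨d, h1⟩, Or.inr (Or.inr ?_)⟩
      exact_mod_cast Int.natCast_modEq_iff.2 hmod
    · -- the restriction to N stays irreducible
      haveI := Fintype.ofFinite N
      have hNirr : IsIrrCharacter N (fun x : N => χ x) := by
        have := Chars.isIrrCharacter_comp (Subgroup.subgroupOfEquivOfLe hNM.le).symm.toMonoidHom
          (Subgroup.subgroupOfEquivOfLe hNM.le).symm.surjective hφ
        rw [← hirr] at this
        exact this
      set H := N ⊔ (P : Subgroup G) with hH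
      have hNH : N ≤ H := le_sup_left
      have hPH : (P : Subgroup G) ≤ H := le_sup_right
      have hHM : H ⊓ M ≤ N := by
        intro h hh
        obtain ⟨x, hx, y, hy, rfl⟩ := Subgroup.mem_sup_of_normal_left.1
          (show h ∈ N ⊔ (P : Subgroup G) from hh.1)
        refine N.mul_mem hx (hON (hPM ⟨hy, ?_⟩))
        have := M.mul_mem (inv_mem (hNM.le hx)) hh.2
        rwa [inv_mul_cancel_left] at this
      have hHt : H ≠ ⊤ := fun h => hNM.not_ge (fun m hm => hHM ⟨h ▸ Subgroup.mem_top m, hm⟩)
      haveI := Fintype.ofFinite H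
      have hHirr : IsIrrCharacter H (fun x : H => χ x) :=
        isIrr_of_restrict_irr (Subgroup.inclusion hNH) (Chars.isCharacter_restrict H hχc) hNirr
      by_cases hPHn : ((P : Subgroup G).subgroupOf H).Normal
      swap
      · refine IH ?_ inferInstance _ hHirr
          (fun g hg => Subtype.ext (hfaith g (by simpa using hg))) n (by simpa using hn)
          (P.subtype hPH) hPHn
        have := Coprime.card_lt_of_ne_top hHt
        omega
      exfalso
      -- P centralises N modulo O
      set qO := QuotientGroup.mk' O with hqO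
      have hcomP : ∀ x ∈ N, ∀ y ∈ (P : Subgroup G), y * x * y⁻¹ * x⁻¹ ∈ O := by
        intro x hx y hy
        refine hPM ⟨?_, hNM.le (N.mul_mem (hNn.conj_mem x hx y) (inv_mem hx))⟩
        have h1 := hPHn.conj_mem ⟨y⁻¹, hPH (inv_mem hy)⟩ (inv_mem hy : y⁻¹ ∈ (P : Subgroup G))
          ⟨x, hNH hx⟩
        have h2 : x * y⁻¹ * x⁻¹ ∈ (P : Subgroup G) := h1
        rw [mul_assoc, mul_assoc, ← mul_assoc x]
        exact (P : Subgroup G).mul_mem hy h2
      have hcomG : ∀ g : G, ∀ x ∈ N, g * x * g⁻¹ * x⁻¹ ∈ O := by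
        haveI : (N.map qO).Normal :=
          Subgroup.Normal.map inferInstance _ (QuotientGroup.mk'_surjective O)
        have hall : (Subgroup.centralizer ((N.map qO : Subgroup (G ⧸ O)) : Set (G ⧸ O))).comap qO =
            ⊤ := by
          refine htop _ inferInstance fun y hy => ?_
          rw [Subgroup.mem_comap, Subgroup.mem_centralizer_iff]
          rintro _ ⟨x, hx, rfl⟩
          have h1 : qO (y * x * y⁻¹ * x⁻¹) = 1 :=
            (QuotientGroup.eq_one_iff _).2 (hcomP x hx y hy)
          rw [map_mul, map_mul, map_mul, map_inv, map_inv, mul_inv_eq_one,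
            mul_inv_eq_iff_eq_mul] at h1
          exact h1.symm
        intro g x hx
        have hg : qO g ∈ Subgroup.centralizer ((N.map qO : Subgroup (G ⧸ O)) : Set (G ⧸ O)) :=
          Subgroup.mem_comap.1 (hall ▸ Subgroup.mem_top g)
        apply (QuotientGroup.eq_one_iff _).1
        show qO (g * x * g⁻¹ * x⁻¹) = 1
        rw [map_mul, map_mul, map_mul, map_inv, map_inv, mul_inv_eq_one, mul_inv_eq_iff_eq_mul]
        exact (Subgroup.mem_centralizer_iff.1 hg _ (Subgroup.mem_map_of_mem qO hx)).symm
      -- O is central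
      haveI := Fintype.ofFinite O
      obtain ⟨lI, hlI⟩ := Chars.exists_constituent (Chars.isCharacter_restrict O hχc) fun h0 =>
        Chars.irr_degree_ne_zero hχ (congrFun h0 1)
      obtain ⟨dl, hdl⟩ := Chars.character_degree_nat (Chars.isCharacter_of_irr lI.2)
      obtain ⟨el, -, hel, -⟩ := degree_quotient O hχ lI.2 hlI
      rw [hn, hdl, ← Nat.cast_mul, Nat.cast_inj] at hel
      have hdl1 : dl = 1 := by
        obtain ⟨m', ρ, hρi, hρ⟩ := lI.2
        have hm' : m' = dl := by
          have : (m' : ℂ) = dl := by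
            rw [← hdl, ← hρ, Representation.char_one, Module.finrank_fin_fun]
          exact_mod_cast this
        have h1 := (Chars.finrank_dvd_index_center ρ).trans (Subgroup.index_dvd_card _)
        rw [Module.finrank_fin_fun, hm'] at h1
        obtain ⟨a, ha⟩ := IsPGroup.iff_card.1 (Base.isPGroup_pCore p G)
        rw [hO] at h1
        rw [ha] at h1
        obtain ⟨b, -, hb⟩ := (Nat.dvd_prime_pow hp.out).1 h1
        rcases Nat.eq_zero_or_pos b with h0 | h0
        · rw [hb, h0, pow_zero]
        · exact absurd ((dvd_pow_self p h0.ne').trans (hb ▸ (hel ▸ dvd_mul_left dl el))) hpn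
      obtain ⟨μ, hμ⟩ := exists_hom_of_linear (χ := (lI : O → ℂ))
        ⟨Chars.isCharacter_of_irr lI.2, by rw [hdl, hdl1, Nat.cast_one]⟩
      set T := inertia O (lI : O → ℂ) with hT
      have hTi : ¬ p ∣ T.index := by
        intro h
        obtain ⟨c', hc'⟩ := Chars.inner_char_nat (Chars.isCharacter_restrict O hχc)
          (Chars.isCharacter_of_irr lI.2)
        have h1 := clifford_degree O hχ lI.2 hlI
        rw [show classInner (fun n : O => χ n) (lI : O → ℂ) = (c' : ℂ) from hc', hn, hdl, hdl1,
          Nat.cast_one, mul_one, ← Nat.cast_mul, Nat.cast_inj] at h1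
        exact hpn (h.trans (h1 ▸ dvd_mul_left _ c'))
      have hker : ∀ t ∈ T, ∀ o : O, (lI : O → ℂ) (conjBy O t o * o⁻¹) = 1 := by
        intro t ht o
        have h := (mem_inertia O).1 ht o
        rw [← hμ] at h ⊢
        have h' : μ (conjBy O t o) = μ o := Units.ext h
        show ((μ (conjBy O t o * o⁻¹) : ℂˣ) : ℂ) = 1
        rw [map_mul, h', map_inv, mul_inv_cancel, Units.val_one]
      have hTC : T ≤ Subgroup.centralizer (O : Set G) := by
        intro t ht
        rw [Subgroup.mem_centralizer_iff]
        intro o ho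
        set a : O := conjBy O t ⟨o, ho⟩ * ⟨o, ho⟩⁻¹ with ha
        have hO' : O ≤ N := hON
        haveI := Fintype.ofFinite (O.subgroupOf N)
        set l' : O.subgroupOf N → ℂ := pullFn O N (lI : O → ℂ) with hl'
        have hl'i : IsIrrCharacter (O.subgroupOf N) l' := isIrr_pullFn O hO' lI.2
        have hl'c : classInner (fun z : O.subgroupOf N => χ ((z : N) : G)) l' ≠ 0 := by
          have := inner_pullFn O hO' (fun z : O => χ z) (lI : O → ℂ)
          rw [← this] at hlI
          exact hlI
        have hcl := congrFun (clifford (O.subgroupOf N) hNirr hl'i hl'c)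
          ⟨⟨(a : G), hO' a.2⟩, Subgroup.mem_subgroupOf.2 a.2⟩
        have hcl1 := congrFun (clifford (O.subgroupOf N) hNirr hl'i hl'c) 1
        have hval : χ (a : G) = χ 1 := by
          simp only [Pi.smul_apply, Finset.sum_apply] at hcl hcl1
          have e1 : χ (((1 : O.subgroupOf N) : N) : G) = χ 1 := by simp
          rw [← e1, hcl1]
          refine hcl.trans ?_
          congr 1
          refine Finset.sum_congr rfl fun ψ hψ => ?_
          obtain ⟨⟨x, hx⟩, rfl⟩ := (mem_orbitFn _).1 hψ
          show (lI : O → ℂ) ⟨x * (a : G) * x⁻¹, _⟩ = (lI : O → ℂ) ⟨_, _⟩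
          have hrhs : ∀ z : O, (z : G) = 1 → (lI : O → ℂ) z = 1 := by
            intro z hz
            rw [show z = 1 from Subtype.ext hz, hdl, hdl1, Nat.cast_one]
          rw [hrhs ⟨((conjBy (O.subgroupOf N) ⟨x, hx⟩ 1 : O.subgroupOf N) : N), _⟩
            (by rw [map_one]; simp)]
          -- conjugating the commutator by x gives one of t and the conjugate of o
          have h1 := hcomG t x hx
          have hxt : x * t * x⁻¹ ∈ T := by
            have h2 : x * t * x⁻¹ = (t * x * t⁻¹ * x⁻¹)⁻¹ * t := by group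
            rw [h2]
            exact T.mul_mem (inv_mem (le_inertia O (Chars.isClassFunction_of_isCharacter
              (Chars.isCharacter_of_irr lI.2)) h1)) ht
          have h3 := hker _ hxt ⟨x * o * x⁻¹, (inferInstance : O.Normal).conj_mem o ho x⟩
          refine Eq.trans (congrArg _ (Subtype.ext ?_)) h3
          simp [ha, conjBy, mul_assoc]
        have ha1 := hfaith _ hval
        have ha2 : t * o * t⁻¹ * o⁻¹ = 1 := by simpa [ha, conjBy] using ha1
        rw [mul_inv_eq_one, mul_inv_eq_iff_eq_mul] at ha2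
        exact ha2.symm
      have hOZ : ∀ o ∈ O, ∀ g : G, g * o = o * g := by
        have hC : Subgroup.centralizer (O : Set G) = ⊤ :=
          htop _ inferInstance (le_of_index_coprime
            (fun h => hTi (h.trans (Subgroup.index_dvd_of_le hTC))) P.2)
        intro o ho g
        exact (Subgroup.mem_centralizer_iff.1 (hC ▸ Subgroup.mem_top g) o ho).symm
      -- N is central
      have hNZ : ∀ x ∈ N, ∀ g : G, g * x = x * g := by
        intro x hx g
        have ho := hcomG g x hx
        set o := g * x * g⁻¹ * x⁻¹ with hodef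
        set j := (O.subgroupOf N).index with hj
        have hxj : x ^ j ∈ O := by
          have := (O.subgroupOf N).pow_index_mem ⟨x, hx⟩
          rwa [Subgroup.mem_subgroupOf, SubgroupClass.coe_pow] at this
        have hgx : g * x * g⁻¹ = o * x := by rw [hodef, inv_mul_cancel_right]
        have hoj : o ^ j = 1 := by
          have h1 : (g * x * g⁻¹) ^ j = x ^ j := by
            rw [conj_pow, hOZ _ hxj g, mul_inv_cancel_right]
          rw [hgx, Commute.mul_pow (hOZ o ho x).symm] at h1
          exact mul_eq_right.1 h1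
        have hjp : ¬ p ∣ j := fun h => hrel (h.trans
          (Dvd.intro _ (Subgroup.relIndex_mul_relIndex O N M hON hNM.le)))
        obtain ⟨a, ha⟩ := IsPGroup.iff_orderOf.1 (Base.isPGroup_pCore p G) ⟨o, ho⟩
        rw [Subgroup.orderOf_mk] at ha
        have ho1 : o = 1 := orderOf_eq_one_iff.1 (Nat.eq_one_of_dvd_coprimes
          (Nat.Coprime.pow_left a (hp.out.coprime_iff_not_dvd.2 hjp)) ha.dvd
          (orderOf_dvd_of_pow_eq_one hoj))
        rw [ho1, one_mul] at hgx
        exact mul_inv_eq_iff_eq_mul.1 hgx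
      have hn1 : n = 1 := by
        have h := Chars.irr_abelian_degree
          (fun a b : N => Subtype.ext (hNZ b b.2 a)) hNirr
        simp only [OneMemClass.coe_one, hn] at h
        exact_mod_cast h
      obtain ⟨μ', hμ'⟩ := exists_hom_of_linear ⟨hχc, by rw [hn, hn1, Nat.cast_one]⟩
      refine hP ⟨fun x hx g => ?_⟩
      have : g * x * g⁻¹ = x := by
        have h1 : g * x * g⁻¹ * x⁻¹ = 1 := hfaith _ (by
          rw [← hμ']
          show ((μ' (g * x * g⁻¹ * x⁻¹) : ℂˣ) : ℂ) = ((μ' 1 : ℂˣ) : ℂ)
          rw [map_mul, map_mul, map_mul, map_inv, map_inv, mul_comm (μ' g), mul_inv_cancel_right,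
            mul_inv_cancel, map_one])
        exact mul_inv_eq_one.1 h1
      rwa [this]

/-- **Winter's theorem.** -/
theorem winter {G : Type u} [Group G] [Fintype G] (hsolv : Group.IsSolvable G) {p : ℕ}
    [Fact p.Prime] {χ : G → ℂ} (hχ : IsIrrCharacter G χ)
    (hfaith : ∀ g : G, χ g = χ 1 → g = 1) {n : ℕ} (hn : χ 1 = n) (P : Sylow p G)
    (hP : ¬ (P : Subgroup G).Normal) : Goal p n :=
  winter_aux p _ le_rfl hsolv χ hχ hfaith n hn P hP

end CfsgLib.CharApps.Winter
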