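import Cfsg.Agent.Lib.CharApps.Galois
import Cfsg.Agent.Lib.CharsMore.Gallagher

/-!
# Restrictions to subgroups and zeros outside them
-/

set_option autoImplicit false
set_option linter.style.haveILetI false
set_option linter.unusedSectionVars false

namespace CfsgLib.CharApps

open Cfsg CfsgLib.Chars
open scoped ComplexConjugate IntermediateField

universe u

variable {G : Type u} [Group G] [Fintype G]

theorem pow_notMem {H : Subgroup G} {g : G} (hg : g ∉ H) {k : ℕ} (hk : k.Coprime (Nat.card G)) :
    g ^ k ∉ H := fun h => hg (by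
  obtain ⟨j, hj⟩ := (powCoprime (hk.coprime_dvd_right (Subgroup.card_subgroup_dvd_card H)).symm).surjective
    ⟨g ^ k, h⟩
  have h1 : (j : G) ^ k = g ^ k := congrArg Subtype.val hj
  exact (powCoprime hk.symm).injective (show (j : G) ^ k = g ^ k from h1) ▸ j.2)

theorem sum_normSq_irr (χ : IrrCharacter G) : ∑ g : G, ‖(χ : G → ℂ) g‖ ^ 2 = (Nat.card G : ℝ) := by
  have h := inner_irr_self χ
  rw [inner_def, inv_mul_eq_one₀ (Chars.card_ne_zero G)] at h
  simp only [Complex.mul_conj, Complex.normSq_eq_norm_sq] at h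
  exact_mod_cast h.symm

/-- The squared values of an irreducible character on a subgroup. -/
theorem sum_normSq_subgroup_le (H : Subgroup G) [Fintype H] (χ : IrrCharacter G) :
    ∑ h : H, ‖(χ : G → ℂ) h‖ ^ 2 ≤
      (Nat.card H : ℝ) + (Set.ncard ({x : G | (χ : G → ℂ) x = 0} \ (H : Set G)) : ℝ) := by
  classical
  set S := Finset.univ.filter fun g : G => g ∉ H ∧ (χ : G → ℂ) g ≠ 0 with hS
  have h1 := card_le_sum_normSq S (fun _ => (χ : G → ℂ)) id (fun _ _ => isCharacter_of_irr χ.2)
    (fun g hg => (Finset.mem_filter.mp hg).2.2) (fun k σ hk hσ => by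
      refine ⟨fun g => g ^ k, fun g hg => ?_, fun a _ b _ e => (powCoprime hk.symm).injective e,
        fun g _ => galois_apply σ hσ (isCharacter_of_irr χ.2) g pow_card_eq_one'⟩
      obtain ⟨hg1, hg2⟩ := (Finset.mem_filter.mp hg).2
      refine Finset.mem_filter.mpr ⟨Finset.mem_univ _, pow_notMem hg1 hk, ?_⟩
      rw [← galois_apply σ hσ (isCharacter_of_irr χ.2) g pow_card_eq_one']
      exact fun h => hg2 ((map_eq_zero σ).mp h))
  have h2 : ∑ g : G, ‖(χ : G → ℂ) g‖ ^ 2 =
      ∑ h : H, ‖(χ : G → ℂ) h‖ ^ 2 + ∑ g ∈ S, ‖(χ : G → ℂ) g‖ ^ 2 := by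
    rw [← Finset.sum_filter_add_sum_filter_not Finset.univ (fun g : G => g ∈ H),
      Finset.sum_subtype (Finset.univ.filter fun g : G => g ∈ H) (p := fun g => g ∈ H) (by simp)]
    congr 1
    symm
    refine Finset.sum_subset (fun g hg => by
      simp only [hS, Finset.mem_filter, Finset.mem_univ, true_and] at hg ⊢
      exact hg.1) fun g hg hgS => ?_
    simp only [hS, Finset.mem_filter, Finset.mem_univ, true_and, not_and, not_not] at hg hgS
    simp [hgS hg]
  have h3 : Nat.card G = Nat.card H + S.card +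
      Set.ncard ({x : G | (χ : G → ℂ) x = 0} \ (H : Set G)) := by
    rw [show ({x : G | (χ : G → ℂ) x = 0} \ (H : Set G)) =
      ↑(Finset.univ.filter fun g : G => g ∉ H ∧ (χ : G → ℂ) g = 0) by ext; simp [and_comm],
      Set.ncard_coe_finset, Nat.card_eq_fintype_card, Nat.card_eq_fintype_card,
      Fintype.card_subtype, ← Finset.card_univ, hS,
      ← Finset.card_filter_add_card_filter_not (p := fun g : G => g ∈ H) (s := Finset.univ), add_assoc]
    congr 1
    rw [← Finset.card_filter_add_card_filter_not (p := fun g : G => (χ : G → ℂ) g ≠ 0)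
      (s := Finset.univ.filter fun g : G => g ∉ H), Finset.filter_filter, Finset.filter_filter]
    simp
  rw [sum_normSq_irr χ] at h2
  simp only [id] at h1
  have h4 : (Nat.card G : ℝ) = (Nat.card H : ℝ) + S.card +
      Set.ncard ({x : G | (χ : G → ℂ) x = 0} \ (H : Set G)) := by exact_mod_cast h3
  linarith

/-- An irreducible character stays irreducible on `N` iff it vanishes on no coset. -/
theorem exists_zero_coset (N : Subgroup G) [N.Normal] [Fintype N] (χ : IrrCharacter G)
    (hirr : ¬ IsIrrCharacter N (fun n : N => (χ : G → ℂ) n)) :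
    ∃ x : G, ∀ n : N, (χ : G → ℂ) ((n : G) * x) = 0 := by
  classical
  letI := irrFintype G
  have hχc := isCharacter_of_irr χ.2
  set q : G → ℝ := fun g => (Nat.card N : ℝ)⁻¹ * ∑ n : N, ‖(χ : G → ℂ) ((n : G) * g)‖ ^ 2 with hq
  set t : G → ℂ := fun g => (Nat.card N : ℂ)⁻¹ *
    ∑ n : N, (χ : G → ℂ) ((n : G) * g) * conj ((χ : G → ℂ) ((n : G) * g)) with ht
  have htq : ∀ g, t g = (q g : ℂ) := fun g => by
    simp only [ht, hq, Complex.ofReal_mul, Complex.ofReal_inv, Complex.ofReal_natCast,
      Complex.ofReal_sum, Complex.mul_conj, Complex.normSq_eq_norm_sq]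
  by_contra hno
  push Not at hno
  have hpos : ∀ g, 0 < q g := by
    intro g
    obtain ⟨n, hn⟩ := hno g
    exact mul_pos (inv_pos.mpr (Nat.cast_pos.mpr Nat.card_pos))
      (Finset.sum_pos' (fun m _ => by positivity) ⟨n, Finset.mem_univ n, by positivity⟩)
  -- `t` is a character
  have hinvN : ∀ (m : N) (g : G), t ((m : G) * g) = t g := fun m g => by
    simp only [ht]
    congr 1
    exact Fintype.sum_equiv (Equiv.mulRight m) _ _ fun n => by simp [mul_assoc]
  have hcl : IsClassFunction G t := fun g h => by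
    simp only [ht]
    congr 1
    refine (Fintype.sum_bijective (CharsMore.conjBy N h)
      ⟨fun a b e => Subtype.ext (by simpa using congrArg Subtype.val e),
        CharsMore.conjBy_surjective N h⟩ _ _ fun n => ?_).symm
    have e : ((CharsMore.conjBy N h n : N) : G) * (h * g * h⁻¹) = h * ((n : G) * g) * h⁻¹ := by
      simp [mul_assoc]
    rw [e, isClassFunction_irr χ]
  have hshift : ∀ (f : G → ℂ) (n : N), ∑ x : G, f ((n : G) * x) = ∑ x : G, f x := fun f n =>
    Fintype.sum_equiv (Equiv.mulLeft (n : G)) _ _ fun _ => rfl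
  have hint : ∀ g, IsIntegral ℤ (t g) ∧ t g ∈ ℚ⟮rootN (Nat.card G)⟯ := by
    have hcoef : ∀ β : IrrCharacter G, ∃ k : ℕ, classInner t (β : G → ℂ) = k := by
      intro β
      by_cases hβ : β ∈ CharsMore.quotIrr N
      · obtain ⟨k, hk⟩ := inner_char_nat
          (isCharacter_mul hχc (isCharacter_galois hχc (starRingAut : ℂ ≃+* ℂ))) (isCharacter_of_irr β.2)
        refine ⟨k, ?_⟩
        rw [← hk, inner_def, inner_def]
        congr 1
        simp only [ht, Finset.mul_sum, Finset.sum_mul]
        rw [Finset.sum_comm, Finset.sum_congr rfl fun (n : N) _ => show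
          ∑ x : G, (Nat.card N : ℂ)⁻¹ * ((χ : G → ℂ) ((n : G) * x) * conj ((χ : G → ℂ) ((n : G) * x))) *
              conj ((β : G → ℂ) x) =
            (Nat.card N : ℂ)⁻¹ * ∑ x : G, (χ : G → ℂ) x * conj ((χ : G → ℂ) x) * conj ((β : G → ℂ) x) by
            rw [Finset.mul_sum]
            refine Fintype.sum_equiv (Equiv.mulLeft (n : G)) _ _ fun x => ?_
            rw [Equiv.coe_mulLeft, CharsMore.quotIrr_mul N hβ]
            ring,
          Finset.sum_const, Finset.card_univ, ← Nat.card_eq_fintype_card, nsmul_eq_mul,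
          mul_inv_cancel_left₀ (Chars.card_ne_zero N)]
        rfl
      · refine ⟨0, ?_⟩
        have h0 := sum_coset_eq_zero N β (fun h => hβ ((CharsMore.mem_quotIrr N).2 h))
        have h1 : (Nat.card N : ℂ) * ∑ x : G, t x * conj ((β : G → ℂ) x) = 0 := by
          calc (Nat.card N : ℂ) * ∑ x : G, t x * conj ((β : G → ℂ) x)
              = ∑ n : N, ∑ x : G, t ((n : G) * x) * conj ((β : G → ℂ) ((n : G) * x)) := by
                rw [Finset.sum_congr rfl fun n _ => hshift (fun x => t x * conj ((β : G → ℂ) x)) n,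
                  Finset.sum_const, Finset.card_univ, nsmul_eq_mul, Nat.card_eq_fintype_card]
            _ = ∑ x : G, t x * conj (∑ n : N, (β : G → ℂ) ((n : G) * x)) := by
                rw [Finset.sum_comm]
                simp only [hinvN, map_sum, Finset.mul_sum]
            _ = 0 := by simp [h0]
        rw [inner_def, (mul_eq_zero.1 h1).resolve_left (Chars.card_ne_zero N), mul_zero, Nat.cast_zero]
    choose k hk using hcoef
    intro g
    rw [congrFun (classFun_eq_sum hcl) g, Finset.sum_apply]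
    refine ⟨IsIntegral.sum _ fun β _ => ?_, sum_mem fun β _ => ?_⟩
    · rw [Pi.smul_apply, hk, smul_eq_mul]
      exact (isIntegral_natCast _).mul (char_isIntegral (isCharacter_of_irr β.2) g)
    · rw [Pi.smul_apply, hk, smul_eq_mul]
      haveI : NeZero (Nat.card G) := ⟨Nat.card_pos.ne'⟩
      exact mul_mem (natCast_mem _ _) (char_mem_cyclo (isCharacter_of_irr β.2) g pow_card_eq_one')
  set S := Finset.univ.filter fun g : G => g ∉ N with hS
  haveI : NeZero (Nat.card G) := ⟨Nat.card_pos.ne'⟩
  have hgal : ∀ (k : ℕ) (σ : ℂ ≃+* ℂ), k.Coprime (Nat.card G) →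
      (∀ z : ℂ, z ^ Nat.card G = 1 → σ z = z ^ k) → σ (∏ g ∈ S, t g) = ∏ g ∈ S, t g := by
    intro k σ hk hσ
    have hσt : ∀ g, σ (t g) = t (g ^ k) := by
      intro g
      let m : N → N := fun n => ⟨((n : G) * g) ^ k * (g ^ k)⁻¹, by
        have e : ((((n : G) * g : G) : G ⧸ N)) = ((g : G) : G ⧸ N) := by
          rw [QuotientGroup.mk_mul, (QuotientGroup.eq_one_iff (n : G)).mpr n.2, one_mul]
        rw [← QuotientGroup.eq_one_iff, QuotientGroup.mk_mul, QuotientGroup.mk_inv,
          QuotientGroup.mk_pow, QuotientGroup.mk_pow, e, mul_inv_cancel]⟩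
      have hm : Function.Bijective m := Finite.injective_iff_bijective.mp fun a b e => by
        have h1 := mul_right_cancel (congrArg Subtype.val e)
        exact Subtype.ext (mul_right_cancel ((powCoprime hk.symm).injective h1))
      simp only [ht, map_mul, map_inv₀, map_natCast, map_sum, ← irr_inv]
      congr 1
      refine Fintype.sum_bijective m hm _ _ fun n => ?_
      rw [galois_apply σ hσ hχc _ pow_card_eq_one', galois_apply σ hσ hχc _ pow_card_eq_one', inv_pow,
        show ((m n : N) : G) * g ^ k = ((n : G) * g) ^ k from inv_mul_cancel_right _ _]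
    rw [map_prod, Finset.prod_congr rfl fun g _ => hσt g]
    have himg : S.image (fun g => g ^ k) = S :=
      Finset.eq_of_subset_of_card_le (Finset.image_subset_iff.mpr fun g hg =>
          Finset.mem_filter.mpr ⟨Finset.mem_univ _, pow_notMem (Finset.mem_filter.mp hg).2 hk⟩)
        (le_of_eq (Finset.card_image_of_injective _ (powCoprime hk.symm).injective).symm)
    conv_rhs => rw [← himg]
    exact (Finset.prod_image (g := fun g : G => g ^ k) (fun a _ b _ e => (powCoprime hk.symm).injective e)).symm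
  obtain ⟨m, hm⟩ := exists_int_of_rat (IsIntegral.prod _ fun g _ => (hint g).1)
    (exists_rat_of_fixed (prod_mem fun g _ => (hint g).2) hgal)
  have hprod : 1 ≤ ∏ g ∈ S, q g := by
    have h1 : (m : ℂ) = ((∏ g ∈ S, q g : ℝ) : ℂ) := by
      rw [hm, Complex.ofReal_prod]; exact Finset.prod_congr rfl fun g _ => htq g
    have h2 : (m : ℝ) = ∏ g ∈ S, q g := by exact_mod_cast h1
    have h3 : (0 : ℝ) < (m : ℝ) := h2 ▸ Finset.prod_pos fun g _ => hpos g
    have h4 : (1 : ℤ) ≤ m := by exact_mod_cast h3
    rw [← h2]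
    exact_mod_cast h4
  have h5 := card_le_sum_of_one_le_prod S (fun g _ => (hpos g).le) hprod
  have htot : ∑ g : G, q g = (Nat.card G : ℝ) := by
    simp only [hq]
    rw [← Finset.mul_sum, Finset.sum_comm, Finset.sum_congr rfl fun (n : N) _ => show
      ∑ g : G, ‖(χ : G → ℂ) ((n : G) * g)‖ ^ 2 = (Nat.card G : ℝ) from
        (Fintype.sum_equiv (Equiv.mulLeft (n : G)) _ _ fun _ => rfl).trans (sum_normSq_irr χ),
      Finset.sum_const, Finset.card_univ, ← Nat.card_eq_fintype_card, nsmul_eq_mul,
      inv_mul_cancel_left₀ (Nat.cast_ne_zero.mpr Nat.card_pos.ne')]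
  obtain ⟨d, hd⟩ := inner_char_nat (isCharacter_restrict N hχc) (isCharacter_restrict N hχc)
  have ht1 : t 1 = (d : ℂ) := by
    rw [← hd, inner_def]; simp [ht]
  have hd2 : 2 ≤ d := by
    have h0 : d ≠ 0 := fun e => by
      rw [e, Nat.cast_zero, htq, Complex.ofReal_eq_zero] at ht1
      exact (hpos 1).ne' ht1
    have h1 : d ≠ 1 := fun e => hirr (isIrrCharacter_iff_inner_self.mpr
      ⟨isCharacter_restrict N hχc, by rw [hd, e, Nat.cast_one]⟩)
    omega
  have hqN : ∀ n : N, q n = d := fun n => by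
    have h := hinvN n 1
    rw [mul_one, ht1, htq] at h
    exact_mod_cast h
  rw [← Finset.sum_filter_add_sum_filter_not Finset.univ (fun g : G => g ∈ N),
    Finset.sum_subtype (Finset.univ.filter fun g : G => g ∈ N) (p := fun g => g ∈ N) (by simp),
    Finset.sum_congr rfl fun n _ => hqN n, Finset.sum_const, Finset.card_univ, nsmul_eq_mul] at htot
  have hcard : Fintype.card N + S.card = Fintype.card G := by
    rw [Fintype.card_subtype, hS, ← Finset.card_univ (α := G)]
    exact Finset.card_filter_add_card_filter_not (p := fun g : G => g ∈ N)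
  have hcard' : (Fintype.card N : ℝ) + S.card = (Nat.card G : ℝ) := by
    rw [Nat.card_eq_fintype_card]; exact_mod_cast hcard
  have hd' : (2 : ℝ) ≤ d := by exact_mod_cast hd2
  have hN0 : (1 : ℝ) ≤ Fintype.card N := by exact_mod_cast Fintype.card_pos
  nlinarith

theorem not_irr_of_zero_coset (N : Subgroup G) [N.Normal] [Fintype N] (χ : IrrCharacter G) {x : G}
    (hx : ∀ n : N, (χ : G → ℂ) ((n : G) * x) = 0) :
    ¬ IsIrrCharacter N (fun n : N => (χ : G → ℂ) n) := fun h => by
  have h1 := CharsMore.coset_norm_avg N χ.2 h x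
  simp [hx] at h1

end CfsgLib.CharApps
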